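import Groth.Agent.CAlg1.Regular
import Groth.Agent.EGA4Alg4.RegParam
import Mathlib.RingTheory.Smooth.Local
import Mathlib.RingTheory.Smooth.Field
import Mathlib.RingTheory.RegularLocalRing.Polynomial
import Mathlib.RingTheory.Etale.Kaehler
import Mathlib.LinearAlgebra.TensorProduct.Quotient

/-! Regular algebras of finite type with separable residue fields are smooth. -/

set_option linter.style.haveILetI false

universe u

namespace Groth.Agent.FlatMor67

open TensorProduct IsLocalRing KaehlerDifferential

variable {k P S : Type u} [Field k] [CommRing P] [Algebra k P] [CommRing S] [IsLocalRing S]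
  [Algebra k S] [Algebra P S] [IsScalarTower k P S]

/-- A regular local quotient of a formally smooth regular local `k`-algebra is formally smooth if
its residue field is formally smooth. -/
theorem formallySmooth_of_regular [IsRegularLocalRing P] [IsRegularLocalRing S]
    [Algebra.FormallySmooth k P] [Module.Free P Ω[P⁄k]] [Module.Finite P Ω[P⁄k]]
    (h₁ : Function.Surjective (algebraMap P S)) [Algebra.FormallySmooth k (ResidueField S)] :
    Algebra.FormallySmooth k S := by
  set J := RingHom.ker (algebraMap P S) with hJdef
  have hJfg : J.FG := IsNoetherian.noetherian J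
  rw [Algebra.FormallySmooth.iff_injective_cotangentComplexBaseChange_residueField P h₁ hJfg]
  let κ := ResidueField S
  have hsurj : Function.Surjective (algebraMap P κ) := by
    rw [IsScalarTower.algebraMap_eq P S κ]
    exact residue_surjective.comp h₁
  set n := RingHom.ker (algebraMap P κ) with hndef
  have hn : n = maximalIdeal P :=
    IsLocalRing.eq_maximalIdeal (RingHom.ker_isMaximal_of_surjective _ hsurj)
  haveI : Algebra.FormallySmooth k κ := ‹_›
  have hA := (Algebra.FormallySmooth.iff_injective_cotangentComplexBaseChange (R := k) (S := κ)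
    P κ hsurj (IsNoetherian.noetherian n) (IsLocalRing.maximalIdeal_eq_bot.trans_le bot_le)).mp inferInstance
  have hJn : J ≤ n := fun a ha => by
    rw [hndef, RingHom.mem_ker, IsScalarTower.algebraMap_apply P S κ, RingHom.mem_ker.mp ha,
      map_zero]
  have hcomp : ∀ z : κ ⊗[P] J, cotangentComplexBaseChange k S P κ z =
      cotangentComplexBaseChange k κ P κ ((Submodule.inclusion hJn).lTensor κ z) := by
    intro z
    induction z using TensorProduct.induction_on with
    | zero => simp
    | add a b ha hb => simp only [map_add, ha, hb]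
    | tmul c a =>
      rw [LinearMap.lTensor_tmul, cotangentComplexBaseChange_tmul, cotangentComplexBaseChange_tmul,
        kerToTensor_apply, kerToTensor_apply]
      rfl
  refine (injective_iff_map_eq_zero _).mpr fun z hz => ?_
  have hz' : (Submodule.inclusion hJn).lTensor κ z = 0 := hA (by rw [← hcomp, hz, map_zero])
  obtain ⟨a, rfl⟩ := TensorProduct.mk_surjective P J κ hsurj z
  rw [TensorProduct.mk_apply, LinearMap.lTensor_tmul] at hz'
  -- `a` lies in `m²`
  let q : P →ₗ[P] κ := Algebra.linearMap P κ
  let e : (P ⧸ n) ≃ₗ[P] κ :=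
    (Submodule.quotEquivOfEq n (LinearMap.ker q) rfl).trans (q.quotKerEquivOfSurjective hsurj)
  have he : e (Ideal.Quotient.mk n 1) = 1 := map_one (algebraMap P κ)
  have hsq : (Submodule.inclusion hJn a) ∈ n • (⊤ : Submodule P n) := by
    let E := (e.symm.rTensor n).trans (TensorProduct.quotTensorEquivQuotSMul n n)
    have h0 : E ((1 : κ) ⊗ₜ[P] Submodule.inclusion hJn a) = 0 := by rw [hz', map_zero]
    rw [← he] at h0
    simp only [E, LinearEquiv.trans_apply, LinearEquiv.rTensor_tmul, LinearEquiv.symm_apply_apply,
      TensorProduct.quotTensorEquivQuotSMul_mk_tmul, one_smul] at h0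
    exact (Submodule.Quotient.mk_eq_zero _).mp h0
  have hsq' : ((a : P)) ∈ maximalIdeal P ^ 2 := by
    have := Submodule.mem_map_of_mem (f := Submodule.subtype n) hsq
    rw [Submodule.map_smul'', Submodule.map_top, Submodule.range_subtype] at this
    rw [sq, ← hn]
    exact this
  -- a regular system of parameters adapted to `J`
  haveI : IsRegularLocalRing (P ⧸ J) := IsRegularLocalRing.of_ringEquiv
    (RingHom.quotientKerEquivOfSurjective h₁).symm
  obtain ⟨x, c, hc, hx, hJx⟩ := CAlg1.exists_params_quotient P _ rfl J
  have hxm : ∀ i, x i ∈ maximalIdeal P := fun i => hx ▸ Ideal.subset_span ⟨i, rfl⟩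
  let v := fun i => (maximalIdeal P).toCotangent ⟨x i, hxm i⟩
  have hv : LinearIndependent (ResidueField P) v := by
    refine linearIndependent_of_top_le_span_of_card_eq_finrank ?_ ?_
    · have := (EGA4Alg4.span_eq_maximalIdeal_iff (A := P)
        (Set.range fun i => (⟨x i, hxm i⟩ : maximalIdeal P))).mp (by
          rw [← Set.range_comp]; exact hx)
      rw [← Set.range_comp] at this
      exact this.ge
    · rw [Fintype.card_fin]
      have h2 := (IsRegularLocalRing.iff_finrank_cotangentSpace P).mp inferInstance
      have h3 := IsRegularLocalRing.spanFinrank_maximalIdeal (R := P)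
      exact_mod_cast (h3.trans h2.symm)
  have hxJ : ∀ i : Fin c, x (Fin.castLE hc i) ∈ J := fun i => hJx ▸ Ideal.subset_span ⟨i, rfl⟩
  have haJ : (a : P) ∈ Ideal.span (Set.range fun i => x (Fin.castLE hc i)) := by
    rw [← hJx]; exact a.2
  obtain ⟨w, hw⟩ := Ideal.mem_span_range_iff_exists_fun.mp haJ
  have hv' : LinearIndependent (ResidueField P) (v ∘ Fin.castLE hc) :=
    hv.comp _ (Fin.castLE_injective hc)
  have hw0 : ∀ i, w i ∈ n := by
    have ha : (maximalIdeal P).toCotangent ⟨a, hn ▸ hJn a.2⟩ = 0 :=
      ((maximalIdeal P).toCotangent_eq_zero _).mpr hsq'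
    have hsum : ∑ i, residue P (w i) • v (Fin.castLE hc i) = 0 := by
      rw [← ha]
      have : (⟨a, hn ▸ hJn a.2⟩ : maximalIdeal P) = ∑ i, w i • ⟨_, hxm (Fin.castLE hc i)⟩ :=
        Subtype.ext (by simp [hw])
      rw [this, map_sum]
      exact Finset.sum_congr rfl fun i _ => by rw [map_smul]; rfl
    intro i
    rw [hn]
    exact Ideal.Quotient.eq_zero_iff_mem.mp (Fintype.linearIndependent_iff.mp hv' _ hsum i)
  have hsum : a = ∑ i, w i • (⟨_, hxJ i⟩ : J) := Subtype.ext (by simp [hw])
  rw [TensorProduct.mk_apply, hsum, TensorProduct.tmul_sum]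
  refine Finset.sum_eq_zero fun i _ => ?_
  rw [TensorProduct.tmul_smul, TensorProduct.smul_tmul', Algebra.smul_def,
    RingHom.mem_ker.mp (hw0 i), zero_mul, TensorProduct.zero_tmul]

/-- A finite type algebra over a field is smooth at a regular point with separable residue field. -/
theorem isSmoothAt_of_regular {A : Type u} [CommRing A] [Algebra k A] [Algebra.FiniteType k A]
    (q : Ideal A) [q.IsPrime] [IsRegularLocalRing (Localization.AtPrime q)]
    [Algebra.FormallySmooth k q.ResidueField] : Algebra.IsSmoothAt k q := by
  obtain ⟨n, f₀, hf₀⟩ := Algebra.FiniteType.iff_quotient_mvPolynomial''.mp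
    (inferInstance : Algebra.FiniteType k A)
  let Q := q.comap f₀.toRingHom
  let P' := Localization.AtPrime Q
  let fP : P' →+* Localization.AtPrime q := Localization.localRingHom Q q f₀.toRingHom rfl
  letI : Algebra P' (Localization.AtPrime q) := fP.toAlgebra
  haveI : IsScalarTower k P' (Localization.AtPrime q) := IsScalarTower.of_algebraMap_eq fun r => by
    rw [RingHom.algebraMap_toAlgebra, IsScalarTower.algebraMap_apply k (MvPolynomial (Fin n) k) P',
      Localization.localRingHom_to_map]
    simp [← IsScalarTower.algebraMap_apply]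
  haveI : IsRegularLocalRing P' := by
    haveI : IsRegularRing (MvPolynomial (Fin n) k) := inferInstance
    exact IsRegularRing.isRegularLocalRing_localization Q
  haveI : Algebra.FormallyEtale (MvPolynomial (Fin n) k) P' := .of_isLocalization Q.primeCompl
  haveI : Algebra.FormallySmooth k P' := .comp _ (MvPolynomial (Fin n) k) _
  let eΩ := KaehlerDifferential.tensorKaehlerEquivOfFormallyEtale k (MvPolynomial (Fin n) k) P'
  haveI : Module.Free P' Ω[P'⁄k] := .of_equiv eΩ
  haveI : Module.Finite P' Ω[P'⁄k] := .of_surjective eΩ.toLinearMap eΩ.surjective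
  exact formallySmooth_of_regular (P := P')
    (RingHom.surjective_localRingHom_of_surjective f₀.toRingHom hf₀ q)

end Groth.Agent.FlatMor67
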