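import Mathlib.AlgebraicGeometry.Fiber
import Mathlib.AlgebraicGeometry.Morphisms.ClosedImmersion
import Mathlib.AlgebraicGeometry.Morphisms.Flat
import Mathlib.RingTheory.Flat.FaithfullyFlat.Algebra

/-!
Fibres of reduced schemes over generic points of components are reduced.
-/

set_option linter.style.haveILetI false

universe u

namespace Groth.Agent.FlatMor67

open AlgebraicGeometry CategoryTheory Limits

variable {X Y : Scheme.{u}}

lemma isReduced_subscheme_nilradical (X : Scheme.{u}) : IsReduced X.nilradical.subscheme := by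
  have key : ∀ U : X.affineOpens, (X.nilradical.ideal U).IsRadical := fun U => by
    simp [Scheme.nilradical, Scheme.IdealSheafData.radical_ideal, Ideal.radical_isRadical]
  haveI : ∀ x : X.nilradical.subscheme, _root_.IsReduced (X.nilradical.subscheme.presheaf.stalk x) := by
    intro x
    let 𝒰 := X.nilradical.subschemeCover
    obtain ⟨y, hy⟩ := 𝒰.covers x
    generalize 𝒰.idx x = U at y hy
    subst hy
    haveI : _root_.IsReduced (Γ(X, U.1) ⧸ X.nilradical.ideal U) :=
      (Ideal.isRadical_iff_quotient_reduced _).mp (key U)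
    haveI : IsReduced (Spec (𝒰.X U)) :=
      inferInstanceAs (IsReduced (Spec (CommRingCat.of (Γ(X, U.1) ⧸ X.nilradical.ideal U))))
    exact isReduced_of_injective ((𝒰.f U).stalkMap y).hom
      (ConcreteCategory.bijective_of_isIso ((𝒰.f U).stalkMap y)).1
  exact isReduced_of_isReduced_stalk _

lemma isReduced_of_flat_isPreimmersion (g : X ⟶ Y) [Flat g] [IsPreimmersion g] [IsReduced Y] :
    IsReduced X := by
  haveI : ∀ x : X, _root_.IsReduced (X.presheaf.stalk x) := by
    intro x
    letI := (g.stalkMap x).hom.toAlgebra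
    haveI : Module.Flat (Y.presheaf.stalk (g x)) (X.presheaf.stalk x) :=
      AlgebraicGeometry.Flat.stalkMap g x
    haveI : IsLocalHom (algebraMap (Y.presheaf.stalk (g x)) (X.presheaf.stalk x)) :=
      inferInstanceAs (IsLocalHom (g.stalkMap x).hom)
    haveI : Module.FaithfullyFlat (Y.presheaf.stalk (g x)) (X.presheaf.stalk x) :=
      Module.FaithfullyFlat.of_flat_of_isLocalHom
    let e : Y.presheaf.stalk (g x) ≃+* X.presheaf.stalk x :=
      RingEquiv.ofBijective (g.stalkMap x).hom
        ⟨FaithfulSMul.algebraMap_injective (Y.presheaf.stalk (g x)) (X.presheaf.stalk x),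
          g.stalkMap_surjective x⟩
    exact isReduced_of_injective e.symm e.symm.injective
  exact isReduced_of_isReduced_stalk _

instance flat_fromSpecStalk (y : Y) : Flat (Y.fromSpecStalk y) := by
  obtain ⟨_, ⟨V, hV, rfl⟩, hy, -⟩ :=
    Y.isBasis_affineOpens.exists_subset_of_mem_open (Set.mem_univ y) isOpen_univ
  rw [← hV.fromSpecStalk_eq_fromSpecStalk hy]
  delta IsAffineOpen.fromSpecStalk
  haveI : Flat (Spec.map (Y.presheaf.germ V y hy)) := by
    rw [HasRingHomProperty.Spec_iff (P := @Flat)]
    letI : Algebra Γ(Y, V) (Y.presheaf.stalk y) := Y.presheaf.algebra_section_stalk ⟨y, hy⟩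
    haveI := hV.isLocalization_stalk ⟨y, hy⟩
    show Module.Flat Γ(Y, V) (Y.presheaf.stalk y)
    exact IsLocalization.flat _ (hV.primeIdealOf ⟨y, hy⟩).asIdeal.primeCompl
  haveI : IsOpenImmersion hV.fromSpec := IsAffineOpen.isOpenImmersion_fromSpec hV
  exact MorphismProperty.comp_mem @Flat _ hV.fromSpec ‹_› inferInstance

theorem isReduced_fibre_genericPoint [IsReduced X] (g : X ⟶ Y) {η : Y} {W : Set Y}
    (hW : W ∈ irreducibleComponents Y) (hη : IsGenericPoint η W) : IsReduced (g.fiber η) := by
  let P := pullback g (Y.fromSpecStalk η)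
  haveI : IsReduced P := isReduced_of_flat_isPreimmersion (pullback.fst g (Y.fromSpecStalk η))
  let r : Spec (Y.residueField η) ⟶ Spec (Y.presheaf.stalk η) := Spec.map (Y.residue η)
  have hr : r ≫ Y.fromSpecStalk η = Y.fromSpecResidueField η := rfl
  haveI : IsClosedImmersion r :=
    IsClosedImmersion.spec_of_surjective _ Ideal.Quotient.mk_surjective
  haveI : Surjective r := by
    refine ⟨fun p => ⟨IsLocalRing.closedPoint _, (Y.fromSpecStalk η).isEmbedding.injective ?_⟩⟩
    have h1 : Y.fromSpecResidueField η (IsLocalRing.closedPoint _) = η :=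
      Scheme.fromSpecResidueField_apply η _
    have h2 : Y.fromSpecStalk η p ⤳ η := by
      have : Y.fromSpecStalk η p ∈ Set.range (Y.fromSpecStalk η) := ⟨p, rfl⟩
      rwa [Scheme.range_fromSpecStalk] at this
    refine (Scheme.Hom.comp_apply r (Y.fromSpecStalk η) _).symm.trans ?_
    rw [hr]
    refine h1.trans ?_
    set y := Y.fromSpecStalk η p
    have hsub : W ⊆ closure {y} := by
      rw [← hη.def]
      exact closure_minimal (Set.singleton_subset_iff.mpr (specializes_iff_mem_closure.mp h2))
        isClosed_closure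
    have hWy : closure {y} ⊆ W := hW.2 isIrreducible_singleton.closure hsub
    have hy : IsGenericPoint y W := hsub.antisymm hWy ▸ isGenericPoint_closure
    exact (IsGenericPoint.eq hη hy)
  let m : g.fiber η ⟶ P := pullback.lift (g.fiberι η) (g.fiberToSpecResidueField η ≫ r)
    (by rw [Category.assoc, hr, g.fiber_fac])
  have hm : IsPullback m (g.fiberToSpecResidueField η) (pullback.snd g (Y.fromSpecStalk η)) r := by
    refine IsPullback.of_right ?_ (pullback.lift_snd _ _ _)
      (IsPullback.of_hasPullback g (Y.fromSpecStalk η))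
    rw [pullback.lift_fst, hr]
    exact IsPullback.of_hasPullback g (Y.fromSpecResidueField η)
  haveI : IsClosedImmersion m :=
    MorphismProperty.IsStableUnderBaseChange.of_isPullback hm.flip inferInstance
  haveI : Surjective m :=
    MorphismProperty.IsStableUnderBaseChange.of_isPullback hm.flip inferInstance
  haveI := isIso_of_isClosedImmersion_of_surjective m
  exact isReduced_of_isOpenImmersion m

end Groth.Agent.FlatMor67
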