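import Groth.Agent.FlatMor67.ProjDescent
import Mathlib.RingTheory.Flat.FaithfullyFlat.Algebra
import Mathlib.RingTheory.Flat.Localization
import Mathlib.RingTheory.LocalProperties.Projective
import Mathlib.RingTheory.Localization.BaseChange

/-! A Zariski-locally projective module is projective. -/

set_option linter.style.haveILetI false

universe u

open TensorProduct

namespace Groth.Agent.FlatMor67

variable {R : Type u} [CommRing R] {ι : Type u} [Fintype ι] (A : ι → Type u) [∀ i, CommRing (A i)]
  [∀ i, Algebra R (A i)] (P : Type u) [AddCommGroup P] [Module R P]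

/-- A base change to a finite product is projective if each factor is. -/
lemma projective_baseChange_pi (h : ∀ i, Module.Projective (A i) (A i ⊗[R] P)) :
    Module.Projective (∀ i, A i) ((∀ i, A i) ⊗[R] P) := by
  classical
  let T : (P →₀ R) →ₗ[R] P := Finsupp.linearCombination R id
  have hT : Function.Surjective T := fun m => ⟨Finsupp.single m 1, by simp [T]⟩
  letI : ∀ i, Algebra (∀ i, A i) (A i) := fun i => (Pi.evalRingHom A i).toAlgebra
  haveI : ∀ i, IsScalarTower R (∀ i, A i) (A i) := fun i =>
    IsScalarTower.of_algebraMap_eq fun r => rfl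
  haveI : ∀ i (X : Type u) (_ : AddCommGroup X) (_ : Module R X),
      IsScalarTower (∀ i, A i) (A i) (A i ⊗[R] X) := fun i X _ _ => inferInstance
  choose σ hσ using fun i => Module.projective_lifting_property (T.baseChange (A i)) LinearMap.id
    (LinearMap.baseChange_surjective (A i) hT) (P := A i ⊗[R] P)
  let inj : ∀ i, A i →ₗ[∀ i, A i] (∀ i, A i) := fun i =>
    { toFun := Pi.single i
      map_add' := Pi.single_add i
      map_smul' := fun s a => by
        ext j
        obtain rfl | hj := eq_or_ne j i
        · simp [Algebra.smul_def]; rfl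
        · simp [Pi.single_eq_of_ne hj] }
  let pr : ∀ i, (∀ i, A i) →ₗ[∀ i, A i] A i := fun i => Algebra.linearMap (∀ i, A i) (A i)
  have hinj : ∀ (i : ι) (X : Type u) [AddCommGroup X] [Module R X] (a : A i) (x : X),
      AlgebraTensorModule.map (inj i) LinearMap.id (a ⊗ₜ[R] x) = Pi.single i a ⊗ₜ[R] x :=
    fun i X _ _ a x => rfl
  have hnat : ∀ i (z : A i ⊗[R] (P →₀ R)),
      T.baseChange (∀ i, A i) (AlgebraTensorModule.map (inj i) LinearMap.id z) =
        AlgebraTensorModule.map (inj i) LinearMap.id (T.baseChange (A i) z) := fun i z => by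
    induction z using TensorProduct.induction_on with
    | zero => simp
    | add a b ha hb => simp only [map_add, ha, hb]
    | tmul a x => rfl
  let τ : (∀ i, A i) ⊗[R] P →ₗ[∀ i, A i] (∀ i, A i) ⊗[R] (P →₀ R) :=
    ∑ i, AlgebraTensorModule.map (inj i) LinearMap.id ∘ₗ (σ i).restrictScalars _ ∘ₗ
      AlgebraTensorModule.map (pr i) LinearMap.id
  refine Module.Projective.of_split τ (T.baseChange _) (LinearMap.ext fun z => ?_)
  simp only [τ, LinearMap.comp_apply, LinearMap.sum_apply, map_sum, hnat,
    LinearMap.restrictScalars_apply, LinearMap.id_apply]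
  have hσ' : ∀ i y, T.baseChange (A i) (σ i y) = y := fun i y => congr($(hσ i) y)
  simp only [hσ']
  induction z using TensorProduct.induction_on with
  | zero => simp
  | add a b ha hb => simp only [map_add, Finset.sum_add_distrib, ha, hb]
  | tmul s p =>
    show ∑ i, Pi.single i (s i) ⊗ₜ[R] p = s ⊗ₜ[R] p
    rw [← TensorProduct.sum_tmul, Finset.univ_sum_single]

theorem projective_of_localizationSpan (M : Type u) [AddCommGroup M] [Module R M] (G : Set R)
    (hG : Ideal.span G = ⊤)
    (h : ∀ c ∈ G, Module.Projective (Localization.Away c) (LocalizedModule (Submonoid.powers c) M)) :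
    Module.Projective R M := by
  classical
  obtain ⟨t, htG, ht⟩ := (Ideal.span_eq_top_iff_finite G).mp hG
  let A : t → Type u := fun c => Localization.Away (c : R)
  haveI : Module.Flat R (∀ c, A c) :=
    Module.Flat.of_linearEquiv (DirectSum.linearEquivFunOnFintype R t A).symm
  haveI : Module.FaithfullyFlat R (∀ c, A c) := by
    refine Module.FaithfullyFlat.of_comap_surjective fun p => ?_
    obtain ⟨c, hc, hcp⟩ : ∃ c ∈ t, c ∉ p.asIdeal := by
      by_contra hne
      push Not at hne
      exact p.isPrime.ne_top (top_le_iff.mp (ht ▸ Ideal.span_le.mpr hne))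
    obtain ⟨q, hq⟩ : p ∈ Set.range (PrimeSpectrum.comap (algebraMap R (A ⟨c, hc⟩))) := by
      rw [show Set.range (PrimeSpectrum.comap (algebraMap R (A ⟨c, hc⟩))) =
        (PrimeSpectrum.basicOpen c : Set (PrimeSpectrum R)) from
        PrimeSpectrum.localization_away_comap_range _ c]
      exact hcp
    exact ⟨PrimeSpectrum.comap (Pi.evalRingHom A ⟨c, hc⟩) q, hq⟩
  haveI : Module.Projective (∀ c, A c) ((∀ c, A c) ⊗[R] M) :=
    projective_baseChange_pi A M fun c => by
      haveI := h c.1 (htG c.2)
      exact Module.Projective.of_equiv (LocalizedModule.equivTensorProduct (Submonoid.powers c.1) M)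
  exact projective_descent R (∀ c, A c) M

end Groth.Agent.FlatMor67
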