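import Groth.Prelude.Def_Found
import Mathlib.Algebra.DirectSum.Module
import Mathlib.Algebra.Module.Projective
import Mathlib.LinearAlgebra.Finsupp.Span
import Mathlib.LinearAlgebra.Projection
import Mathlib.Order.CompactlyGenerated.Basic
import Mathlib.Order.Zorn

/-! Dévissage into countably generated submodules. -/

set_option linter.style.haveILetI false

universe u

namespace Groth.Agent.FlatMor67

open Submodule

/-- A countable set is contained in a countable set closed under a countable-valued map. -/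
lemma exists_countable_closed {κ : Type*} (F : κ → Set κ) (hF : ∀ k, (F k).Countable) (A : Set κ)
    (hA : A.Countable) : ∃ J : Set κ, J.Countable ∧ A ⊆ J ∧ ∀ k ∈ J, F k ⊆ J := by
  let g : Set κ → Set κ := fun T => ⋃ k ∈ T, F k
  refine ⟨⋃ n : ℕ, g^[n] A, Set.countable_iUnion fun n => ?_, Set.subset_iUnion_of_subset 0 le_rfl,
    fun k hk x hx => ?_⟩
  · induction n with
    | zero => exact hA
    | succ n ih =>
      rw [Function.iterate_succ_apply']
      exact ih.biUnion fun k _ => hF k
  · obtain ⟨n, hn⟩ := Set.mem_iUnion.mp hk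
    refine Set.mem_iUnion.mpr ⟨n + 1, ?_⟩
    rw [Function.iterate_succ_apply']
    exact Set.mem_biUnion hn hx

variable {R : Type u} [CommRing R] {M : Type u} [AddCommGroup M] [Module R M]

lemma countablyGenerated_span {s : Set M} (hs : s.Countable) :
    CAlg.IsCountablyGenerated R (span R s) :=
  ⟨_, hs.preimage Subtype.val_injective, span_span_coe_preimage⟩

lemma exists_span_eq_of_countablyGenerated {N : Submodule R M}
    (h : CAlg.IsCountablyGenerated R N) : ∃ s : Set M, s.Countable ∧ span R s = N := by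
  obtain ⟨t, ht, hspan⟩ := h
  refine ⟨N.subtype '' t, ht.image _, ?_⟩
  rw [← map_span, hspan, Submodule.map_top, range_subtype]

/-- The finite sets of indices supporting elements. -/
lemma exists_supp {κ : Type*} {N : κ → Submodule R M} (hN : iSup N = ⊤) (x : M) :
    ∃ t : Finset κ, x ∈ ⨆ k ∈ (t : Set κ), N k :=
  mem_iSup_iff_exists_finset.mp (hN ▸ mem_top (x := x))

lemma iSupIndep_insert {PP : Set (Submodule R M)} (h : sSupIndep PP) {P : Submodule R M}
    (hP : Disjoint P (sSup PP)) : sSupIndep (insert P PP) := by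
  intro a ha
  obtain rfl | ha := ha
  · exact hP.mono_right (sSup_le_sSup fun x hx => by
      obtain rfl | hx' := hx.1
      · exact absurd rfl hx.2
      · exact hx')
  · have h1 : Disjoint a (sSup (PP \ {a})) := h ha
    have h2 : Disjoint (a ⊔ sSup (PP \ {a})) P :=
      hP.symm.mono_left (sup_le (le_sSup ha) (sSup_le_sSup Set.sdiff_subset))
    refine (h1.disjoint_sup_right_of_disjoint_sup_left h2).mono_right (sSup_le fun x hx => ?_)
    obtain rfl | hx' := hx.1
    · exact le_sup_right
    · exact le_sup_of_le_left (le_sSup ⟨hx', hx.2⟩)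

lemma chain_union {κ : Type*} {c : Set (Set (Submodule R M) × Set κ)}
    (hc : IsChain (· ≤ ·) c) (h : ∀ z ∈ c, sSupIndep z.1) :
    sSupIndep (⋃ z ∈ c, z.1) := by
  rw [Set.biUnion_eq_iUnion]
  refine sSupIndep_iUnion_of_directed ?_ fun z => h _ z.2
  intro a b
  rcases hc.total a.2 b.2 with hab | hab
  · exact ⟨b, hab.1, le_rfl⟩
  · exact ⟨a, le_rfl, hab.1⟩

lemma transfer_internal {P : Submodule R M} {PP : Set (Submodule R M)} (h : sSupIndep PP)
    (htop : sSup PP = P) :
    iSupIndep (fun p : PP => (p : Submodule R M).comap P.subtype) ∧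
      ⨆ p : PP, (p : Submodule R M).comap P.subtype = ⊤ := by
  have hle : ∀ p : PP, (p : Submodule R M) ≤ P := fun p => htop ▸ le_sSup p.2
  have hmap : ∀ p : PP, ((p : Submodule R M).comap P.subtype).map P.subtype = p := fun p =>
    map_comap_eq_of_le (by rw [range_subtype]; exact hle p)
  refine ⟨fun p => ?_, map_injective_of_injective P.injective_subtype ?_⟩
  · rw [disjoint_iff]
    apply map_injective_of_injective P.injective_subtype
    rw [Submodule.map_inf _ P.injective_subtype, Submodule.map_bot, hmap, ← disjoint_iff]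
    simp only [Submodule.map_iSup, hmap]
    exact ((sSupIndep_iff PP).mp h) p
  · rw [Submodule.map_iSup, Submodule.map_top, range_subtype]
    simp only [hmap]
    rw [← sSup_eq_iSup', htop]

lemma exists_proj {P Q : Submodule R M} (h : IsCompl P Q) :
    ∃ π : M →ₗ[R] M, (∀ x, π x ∈ P) ∧ (∀ x ∈ P, π x = x) ∧ ∀ x, x - π x ∈ Q := by
  refine ⟨P.projection Q h, projection_apply_mem h, fun x hx => ?_, fun x => ?_⟩
  · rw [projection_apply]
    exact congrArg Subtype.val (projectionOnto_apply_left h ⟨x, hx⟩)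
  · rw [← projectionOnto_apply_eq_zero_iff h, map_sub, sub_eq_zero]
    exact (projectionOnto_apply_left h _).symm

/-- Kaplansky: summands of direct sums of countably generated modules are such direct sums. -/
theorem kaplansky {ι : Type u} (N : ι → Submodule R M) (hN : iSupIndep N) (htop : iSup N = ⊤)
    (hc : ∀ i, CAlg.IsCountablyGenerated R (N i)) {P Q : Submodule R M} (hPQ : IsCompl P Q) :
    ∃ PP : Set (Submodule R M), sSupIndep PP ∧ sSup PP = P ∧
      ∀ p ∈ PP, CAlg.IsCountablyGenerated R p := by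
  obtain ⟨π, hπP, hπid, -⟩ := exists_proj hPQ
  choose s hs hspan using fun i => exists_span_eq_of_countablyGenerated (hc i)
  choose supp hsupp using exists_supp htop
  let NN : Set ι → Submodule R M := fun J => ⨆ i ∈ J, N i
  let good : Set (Set (Submodule R M) × Set ι) := {z | sSupIndep z.1 ∧
    (∀ p ∈ z.1, CAlg.IsCountablyGenerated R p) ∧ (∀ x ∈ NN z.2, π x ∈ NN z.2) ∧
    sSup z.1 = (NN z.2).map π}
  obtain ⟨⟨PP, J⟩, ⟨hind, hcg, hinv, hsup⟩, hmax⟩ : ∃ m, Maximal (· ∈ good) m := by
    refine zorn_le₀ good fun c hcs hch => ?_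
    have hNN : NN (⋃ z ∈ c, z.2) = ⨆ z ∈ c, NN z.2 := by
      simp only [NN, iSup_iUnion]
    refine ⟨(⋃ z ∈ c, z.1, ⋃ z ∈ c, z.2), ⟨chain_union hch fun z hz => (hcs hz).1, fun p hp => ?_,
      ?_, ?_⟩, fun z hz => ⟨Set.subset_biUnion_of_mem (u := fun z => z.1) hz,
        Set.subset_biUnion_of_mem (u := fun z => z.2) hz⟩⟩
    · obtain ⟨z, hz, hpz⟩ := Set.mem_iUnion₂.mp hp
      exact (hcs hz).2.1 p hpz
    · intro x hx
      have : NN (⋃ z ∈ c, z.2) ≤ (NN (⋃ z ∈ c, z.2)).comap π := by
        conv_lhs => rw [hNN]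
        refine iSup₂_le fun z hz y hy => ?_
        show π y ∈ NN _
        rw [hNN]
        exact le_iSup₂ (f := fun z (_ : z ∈ c) => NN z.2) z hz ((hcs hz).2.2.1 y hy)
      exact this hx
    · show sSup (⋃ z ∈ c, z.1) = _
      rw [hNN]
      simp only [Submodule.map_iSup, sSup_iUnion]
      exact iSup_congr fun z => iSup_congr fun hz => (hcs hz).2.2.2
  refine ⟨PP, hind, ?_, hcg⟩
  by_cases hJ : ∀ i, i ∈ J
  · rw [hsup, Set.eq_univ_of_forall hJ]
    have : NN Set.univ = ⊤ := by simp [NN, htop]
    rw [this, Submodule.map_top]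
    exact le_antisymm (fun x ⟨y, hy⟩ => hy ▸ hπP y) fun x hx => ⟨x, hπid x hx⟩
  exfalso
  push Not at hJ
  obtain ⟨i₀, hi₀⟩ := hJ
  obtain ⟨J', hJ'c, hiJ', hclosed⟩ := exists_countable_closed
    (fun i => ⋃ x ∈ s i, (supp (π x) : Set ι))
    (fun i => (hs i).biUnion fun x _ => (supp (π x)).countable_toSet) {i₀} (Set.countable_singleton _)
  have hinv' : ∀ x ∈ NN J', π x ∈ NN J' := by
    have key : ∀ i ∈ J', ∀ x ∈ s i, π x ∈ NN J' := by
      intro i hi x hx
      have hsub : ∀ k, k ∈ (supp (π x) : Set ι) → k ∈ J' := fun k hk =>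
        hclosed i hi (Set.mem_biUnion hx hk)
      exact (biSup_mono hsub : (⨆ k ∈ (supp (π x) : Set ι), N k) ≤ NN J') (hsupp (π x))
    have : NN J' ≤ (NN J').comap π := by
      refine iSup₂_le fun i hi => ?_
      rw [← hspan i, span_le]
      exact key i hi
    exact fun x hx => this hx
  have hunion : NN (J ∪ J') = NN J ⊔ NN J' := by simp only [NN, iSup_union]
  have hinvU : ∀ x ∈ NN (J ∪ J'), π x ∈ NN (J ∪ J') := by
    rw [hunion]
    intro x hx
    obtain ⟨a, ha, b, hb, rfl⟩ := Submodule.mem_sup.mp hx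
    rw [map_add]
    exact add_mem (mem_sup_left (hinv a ha)) (mem_sup_right (hinv' b hb))
  -- a complement of `π (NN J)` inside `M`
  let D : Submodule R M := (NN J).map (LinearMap.id - π) ⊔ NN Jᶜ
  have hcompl : IsCompl (NN J) (NN Jᶜ) := by
    refine ⟨hN.disjoint_biSup_biSup disjoint_compl_right, codisjoint_iff.mpr ?_⟩
    simp only [NN, ← iSup_union, Set.union_compl_self, Set.mem_univ, iSup_pos, htop]
  have hqle : (NN J).map (LinearMap.id - π) ≤ NN J := by
    rintro _ ⟨x, hx, rfl⟩
    exact sub_mem hx (hinv x hx)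
  have hP1le : (NN J).map π ≤ NN J := by
    rintro _ ⟨x, hx, rfl⟩
    exact hinv x hx
  have hdisj1 : Disjoint ((NN J).map π) ((NN J).map (LinearMap.id - π)) := by
    rw [Submodule.disjoint_def]
    rintro _ ⟨x, -, rfl⟩ ⟨y, -, hy⟩
    have h1 := congrArg π hy
    rw [LinearMap.sub_apply, LinearMap.id_apply, map_sub, hπid _ (hπP y), sub_self,
      hπid _ (hπP x)] at h1
    exact h1.symm
  have hD : IsCompl ((NN J).map π) D := by
    refine ⟨hdisj1.disjoint_sup_right_of_disjoint_sup_left
      (hcompl.disjoint.mono_left (sup_le hP1le hqle)), codisjoint_iff.mpr ?_⟩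
    rw [eq_top_iff, ← hcompl.sup_eq_top, ← sup_assoc]
    refine sup_le (le_sup_of_le_left fun x hx => ?_) le_sup_right
    have : x = π x + (LinearMap.id - π : M →ₗ[R] M) x := by simp
    rw [this]
    exact add_mem (mem_sup_left (mem_map_of_mem hx)) (mem_sup_right (mem_map_of_mem hx))
  obtain ⟨ρ, hρD, -, hρ'⟩ := exists_proj hD.symm
  have hρ : ∀ x, ρ x - x ∈ (NN J).map π := fun x => by
    rw [← neg_sub]; exact neg_mem (hρ' x)
  let P' : Submodule R M := ((NN J').map π).map ρ
  have hP'sup : sSup (insert P' PP) = (NN (J ∪ J')).map π := by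
    rw [sSup_insert, hsup, hunion, Submodule.map_sup]
    refine le_antisymm (sup_le ?_ le_sup_left) (sup_le le_sup_right ?_)
    · rintro _ ⟨y, hy, rfl⟩
      rw [← sub_add_cancel (ρ y) y]
      exact add_mem (mem_sup_left (hρ y)) (mem_sup_right hy)
    · intro y hy
      rw [← sub_sub_cancel (ρ y) y]
      exact sub_mem (mem_sup_left ⟨y, hy, rfl⟩) (mem_sup_right (hρ y))
  have hdisjP : Disjoint P' (sSup PP) := by
    rw [hsup]
    refine hD.symm.disjoint.mono_left ?_
    rintro _ ⟨y, -, rfl⟩
    exact hρD y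
  have hcgP : CAlg.IsCountablyGenerated R P' := by
    have : P' = span R (⋃ i ∈ J', (ρ ∘ π) '' s i) := by
      simp only [P', NN, Submodule.map_iSup, span_iUnion]
      refine iSup_congr fun i => iSup_congr fun _ => ?_
      rw [Set.image_comp, ← map_span, ← map_span, hspan i]
    rw [this]
    exact countablyGenerated_span (hJ'c.biUnion fun i _ => (hs i).image _)
  have hnew : (insert P' PP, J ∪ J') ∈ good :=
    ⟨iSupIndep_insert hind hdisjP, Set.forall_mem_insert.mpr ⟨hcgP, hcg⟩, hinvU, hP'sup⟩
  exact hi₀ ((hmax hnew ⟨Set.subset_insert _ _, Set.subset_union_left⟩).2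
    (Or.inr (hiJ' rfl)))

/-- Kaplansky, as a family of submodules of the summand. -/
theorem kaplansky_family {ι : Type u} (N : ι → Submodule R M) (hN : iSupIndep N) (htop : iSup N = ⊤)
    (hc : ∀ i, CAlg.IsCountablyGenerated R (N i)) {P Q : Submodule R M} (hPQ : IsCompl P Q) :
    ∃ (κ : Type u) (L : κ → Submodule R P), iSupIndep L ∧ iSup L = ⊤ ∧
      ∀ k, CAlg.IsCountablyGenerated R (L k) := by
  obtain ⟨PP, h1, h2, h3⟩ := kaplansky N hN htop hc hPQ
  obtain ⟨h4, h5⟩ := transfer_internal h1 h2
  refine ⟨PP, _, h4, h5, fun p => ?_⟩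
  have hle : (p : Submodule R M) ≤ P := h2 ▸ le_sSup p.2
  obtain ⟨s, hs, hspan⟩ := exists_span_eq_of_countablyGenerated (h3 p p.2)
  have : span R (P.subtype ⁻¹' s) = (p : Submodule R M).comap P.subtype := by
    refine map_injective_of_injective P.injective_subtype ?_
    rw [map_span, Set.image_preimage_eq_of_subset, hspan,
      map_comap_eq_of_le (by rw [range_subtype]; exact hle)]
    intro x hx
    exact ⟨⟨x, hle (hspan ▸ subset_span hx)⟩, rfl⟩
  rw [← this]
  exact countablyGenerated_span (hs.preimage P.injective_subtype)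

/-- A projective module is a direct sum of countably generated submodules. -/
theorem exists_countable_decomposition (M : Type u) [AddCommGroup M] [Module R M]
    [Module.Projective R M] :
    ∃ (κ : Type u) (L : κ → Submodule R M), iSupIndep L ∧ iSup L = ⊤ ∧
      ∀ k, CAlg.IsCountablyGenerated R (L k) := by
  let T : (M →₀ R) →ₗ[R] M := Finsupp.linearCombination R id
  have hT : Function.Surjective T := fun m => ⟨Finsupp.single m 1, by simp [T]⟩
  obtain ⟨σ, hσ⟩ := Module.projective_lifting_property T LinearMap.id hT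
  have hσ' : ∀ m, T (σ m) = m := fun m => congr($hσ m)
  have hinj : Function.Injective σ := Function.LeftInverse.injective hσ'
  have hcompl : IsCompl (LinearMap.range σ) (LinearMap.ker T) := by
    refine ⟨disjoint_def.mpr ?_, codisjoint_iff_exists_add_eq.mpr fun z => ?_⟩
    · rintro _ ⟨m, rfl⟩ hm
      rw [LinearMap.mem_ker, hσ'] at hm
      rw [hm, map_zero]
    · exact ⟨σ (T z), z - σ (T z), ⟨T z, rfl⟩, by simp [LinearMap.mem_ker, hσ'], by abel⟩
  have hind : iSupIndep fun m : M => span R {Finsupp.single m (1 : R)} := by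
    simpa using (Finsupp.basisSingleOne (R := R) (ι := M)).linearIndependent.iSupIndep_span_singleton
  have htop : ⨆ m : M, span R {Finsupp.single m (1 : R)} = ⊤ := by
    rw [← span_iUnion, Set.iUnion_singleton_eq_range]
    simpa using (Finsupp.basisSingleOne (R := R) (ι := M)).span_eq
  obtain ⟨κ, L, h1, h2, h3⟩ := kaplansky_family _ hind htop
    (fun m => countablyGenerated_span (Set.countable_singleton _)) hcompl
  let e : LinearMap.range σ ≃ₗ[R] M := (LinearEquiv.ofInjective σ hinj).symm
  refine ⟨κ, fun k => (L k).map e.toLinearMap, h1.map_orderIso (Submodule.orderIsoMapComap e), ?_,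
    fun k => ?_⟩
  · rw [← Submodule.map_iSup, h2, Submodule.map_top, LinearEquiv.range]
  · obtain ⟨s, hs, hspan⟩ := exists_span_eq_of_countablyGenerated (R := R) (M := LinearMap.range σ) (N := L k) (h3 k)
    show CAlg.IsCountablyGenerated R ((L k).map e.toLinearMap)
    rw [← hspan, map_span]
    exact countablyGenerated_span (hs.image _)

end Groth.Agent.FlatMor67
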