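import Groth.Agent.ML3.BaseChange
import Groth.Agent.ML3.Countable
import Mathlib.LinearAlgebra.DirectSum.Finsupp
import Mathlib.Algebra.Module.Projective
import Mathlib.RingTheory.Flat.FaithfullyFlat.Basic

/-! The Mittag-Leffler property descends along faithfully flat ring maps; projective modules are
Mittag-Leffler. -/

universe u

open TensorProduct

namespace Groth.Agent.FlatMor67

variable {R : Type u} [CommRing R]

lemma ml_finsupp (κ : Type u) : CAlg.IsMittagLeffler R (κ →₀ R) := by
  classical
  refine ML3.ml_of_linearEquiv (finsuppLEquivDirectSum R R κ) fun ι Q _ _ a b hab => ?_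
  apply (TensorProduct.directSumLeft R R (fun _ : κ => R) (∀ i, Q i)).injective
  refine DirectSum.ext_component R fun k => ?_
  have key : ∀ x : TensorProduct R (DirectSum κ fun _ => R) (∀ i, Q i),
      DirectSum.component R κ _ k (TensorProduct.directSumLeft R R _ _ x)
        = (DirectSum.component R κ (fun _ => R) k).rTensor _ x := by
    intro x
    induction x using TensorProduct.induction_on with
    | zero => simp
    | add a b ha hb => simp [ha, hb]
    | tmul m q => exact TensorProduct.directSumLeft_tmul R R m q k
  rw [key, key]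
  apply ML3.ml_of_fp (R := R) (M := R) ι Q
  funext i
  rw [ML3.piHom_rTensor, ML3.piHom_rTensor, hab]

lemma ml_of_projective (M : Type u) [AddCommGroup M] [Module R M] [Module.Projective R M] :
    CAlg.IsMittagLeffler R M := by
  obtain ⟨σ, hσ⟩ := Module.projective_lifting_property (Finsupp.linearCombination R (id : M → M))
    LinearMap.id (fun m => ⟨Finsupp.single m 1, by simp⟩)
  refine ML3.ml_of_univInj σ (fun Q _ _ => ?_) (ml_finsupp M)
  refine Function.LeftInverse.injective (g := (Finsupp.linearCombination R (id : M → M)).rTensor Q) ?_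
  intro x
  rw [← LinearMap.rTensor_comp_apply, hσ, LinearMap.rTensor_id_apply]

variable {S : Type u} [CommRing S] [Algebra R S]

lemma dom_of_baseChange [Module.FaithfullyFlat R S] {G A B : Type u} [AddCommGroup G] [Module R G]
    [AddCommGroup A] [Module R A] [AddCommGroup B] [Module R B] {u : G →ₗ[R] A} {v : G →ₗ[R] B}
    (h : ML3.Dom (u.baseChange S) (v.baseChange S)) : ML3.Dom u v := by
  intro N _ _ x hx
  have key : ∀ {D : Type u} [AddCommGroup D] [Module R D] (φ : G →ₗ[R] D) (z : S ⊗[R] (G ⊗[R] N)),
      (φ.baseChange S).rTensor (S ⊗[R] N) (AlgebraTensorModule.distribBaseChange R S G N z) =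
        AlgebraTensorModule.distribBaseChange R S D N ((φ.rTensor N).lTensor S z) := by
    intro D _ _ φ z
    induction z using TensorProduct.induction_on with
    | zero => simp
    | add a b ha hb => simp only [map_add, ha, hb]
    | tmul s w =>
      induction w using TensorProduct.induction_on with
      | zero => simp
      | add a b ha hb => simp only [TensorProduct.tmul_add, map_add, ha, hb]
      | tmul g n => simp [AlgebraTensorModule.distribBaseChange]
  rw [LinearMap.mem_ker] at hx ⊢
  have h1 : (u.baseChange S).rTensor (S ⊗[R] N)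
      (AlgebraTensorModule.distribBaseChange R S G N (1 ⊗ₜ x)) = 0 := by
    rw [key, LinearMap.lTensor_tmul, hx, TensorProduct.tmul_zero, map_zero]
  have h2 := h (S ⊗[R] N) h1
  rw [LinearMap.mem_ker, key, EmbeddingLike.map_eq_zero_iff, LinearMap.lTensor_tmul] at h2
  exact (Module.FaithfullyFlat.one_tmul_eq_zero_iff _ _ (v.rTensor N x)).mp h2

lemma comm_lTensor {A B : Type u} [AddCommGroup A] [Module R A] [AddCommGroup B] [Module R B]
    (g : A →ₗ[R] B) (x : S ⊗[R] A) :
    g.rTensor S (TensorProduct.comm R S A x) = TensorProduct.comm R S B (g.lTensor S x) := by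
  induction x using TensorProduct.induction_on with
  | zero => simp
  | add a b ha hb => simp only [map_add, ha, hb]
  | tmul s g => simp

theorem ml_descent [Module.FaithfullyFlat R S] (M : Type u) [AddCommGroup M] [Module R M]
    (h : CAlg.IsMittagLeffler S (S ⊗[R] M)) : CAlg.IsMittagLeffler R M := by
  obtain ⟨ι, _, _, _, _, G, _, _, f, _, hfp, ⟨e⟩⟩ := ML3.exists_fp_system (R := R) M
  have := hfp
  let G' : ι → Type u := fun i => S ⊗[R] G i
  let f' : ∀ i j, i ≤ j → G' i →ₗ[S] G' j := fun i j hij => (f i j hij).baseChange S
  have : DirectedSystem G' fun i j h => f' i j h :=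
    { map_self := fun i x => by
        induction x using TensorProduct.induction_on with
        | zero => exact map_zero _
        | add a b ha hb => exact (map_add _ a b).trans (congrArg₂ (· + ·) ha hb)
        | tmul s g => exact congrArg (s ⊗ₜ ·) (DirectedSystem.map_self' f g)
      map_map := fun i j k hij hjk x => by
        induction x using TensorProduct.induction_on with
        | zero => simp
        | add a b ha hb => simp [map_add, ha, hb]
        | tmul s g => exact congrArg (s ⊗ₜ ·) (DirectedSystem.map_map' f hij hjk g) }
  have : ∀ i, Module.FinitePresentation S (G' i) := fun i => inferInstance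
  let L : Module.DirectLimit G' f' →ₗ[S] S ⊗[R] Module.DirectLimit G f :=
    Module.DirectLimit.lift S ι G' f' (fun i => (Module.DirectLimit.of R ι G f i).baseChange S)
      fun i j hij x => by
        show (_ : _ →ₗ[S] _) ((f i j hij).baseChange S x) = _
        rw [← LinearMap.comp_apply, ← LinearMap.baseChange_comp, ML3.of_comp]
  have hL : ∀ i x, L (Module.DirectLimit.of S ι G' f' i x) =
      (Module.DirectLimit.of R ι G f i).lTensor S x := fun i x => by
    rw [Module.DirectLimit.lift_of, ← LinearMap.baseChange_eq_ltensor]
  have hbij : Function.Bijective L := by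
    refine ⟨(injective_iff_map_eq_zero _).mpr fun z hz => ?_, fun z => ?_⟩
    · obtain ⟨i, x, rfl⟩ := Module.DirectLimit.exists_of z
      rw [hL] at hz
      obtain ⟨j, hij, hj⟩ := ML3.exists_le_rTensor_eq_zero f
        (y := TensorProduct.comm R S (G i) x) (by rw [comm_lTensor, hz, map_zero])
      rw [← Module.DirectLimit.of_f (hij := hij)]
      convert map_zero (Module.DirectLimit.of S ι G' f' j)
      show (f i j hij).baseChange S x = 0
      rw [LinearMap.baseChange_eq_ltensor]
      apply (TensorProduct.comm R S (G j)).injective
      rw [← comm_lTensor, hj, map_zero]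
    · obtain ⟨i, y, hy⟩ := ML3.exists_rTensor_of f S (TensorProduct.comm R S _ z)
      refine ⟨Module.DirectLimit.of S ι G' f' i ((TensorProduct.comm R S (G i)).symm y), ?_⟩
      rw [hL]
      apply (TensorProduct.comm R S _).injective
      rw [← comm_lTensor, LinearEquiv.apply_symm_apply, hy]
  have hML' : CAlg.IsMittagLeffler S (Module.DirectLimit G' f') :=
    ML3.ml_of_linearEquiv ((LinearEquiv.ofBijective L hbij).trans (e.baseChange (A := S))) h
  refine ML3.ml_of_linearEquiv e.symm ((ML3.ml_iff_eventually f).mpr fun i => ?_)
  obtain ⟨j, hij, hj⟩ := (ML3.ml_iff_eventually f').mp hML' i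
  refine ⟨j, hij, fun k hik => ?_⟩
  have : Module.FinitePresentation R (G k ⧸ LinearMap.range (f i k hik)) :=
    Module.finitePresentation_of_surjective _ (Submodule.mkQ_surjective _)
      (by rw [Submodule.ker_mkQ]; exact LinearMap.range_eq_map (f i k hik) ▸
        (Module.Finite.fg_top.map _))
  obtain ⟨h', hh'⟩ := hj k hik
  refine ML3.exists_factor (f i k hik) _ (dom_of_baseChange (S := S) ?_)
  show ML3.Dom (f' i k hik) (f' i j hij)
  rw [hh']
  exact ML3.dom_comp _ _

end Groth.Agent.FlatMor67
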