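import Groth.Agent.FlatMor67.CountProj
import Groth.Agent.FlatMor67.MLDescent
import Groth.Agent.FlatMor67.Kaplansky
import Mathlib.LinearAlgebra.TensorProduct.RightExactness

/-! Projectivity descends along faithfully flat ring maps. -/

set_option linter.style.haveILetI false

universe u

open TensorProduct Submodule

namespace Groth.Agent.FlatMor67

variable {R : Type u} [CommRing R]

lemma projective_of_iSupIndep {M : Type u} [AddCommGroup M] [Module R M] {κ : Type u}
    (L : κ → Submodule R M) (h1 : iSupIndep L) (h2 : iSup L = ⊤)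
    (h3 : ∀ k, Module.Projective R (L k)) : Module.Projective R M := by
  classical
  haveI := h3
  haveI : Module.Projective R (DirectSum κ fun k => L k) :=
    inferInstanceAs (Module.Projective R (Π₀ k, L k))
  exact Module.Projective.of_equiv (LinearEquiv.ofBijective (DirectSum.coeLinearMap L)
    ((DirectSum.isInternal_submodule_iff_iSupIndep_and_iSup_eq_top L).mpr ⟨h1, h2⟩))

variable {S : Type u} [CommRing S] [Algebra R S] {M : Type u} [AddCommGroup M] [Module R M]

lemma baseChange_gc : GaloisConnection (fun N : Submodule R M => N.baseChange S)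
    (fun W => (W.restrictScalars R).comap (TensorProduct.mk R S M 1)) := fun N W => by
  simp only [baseChange_eq_span, span_le]
  exact Set.image_subset_iff

/-- The new piece: a countably generated projective complement of `N` in `N ⊔ C`. -/
lemma exists_complement [Module.FaithfullyFlat R S] (N : Submodule R M) {C : Set M}
    (hC : C.Countable) {A D W₀ : Submodule S (S ⊗[R] M)} (hA : N.baseChange S = A)
    (hNC : (N ⊔ span R C).baseChange S = A ⊔ D) (hAD : Disjoint A D) (hD : IsCompl D W₀)
    [Module.Projective S (S ⊗[R] M)] :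
    ∃ P : Submodule R M, Disjoint P N ∧ N ⊔ P = N ⊔ span R C ∧ Module.Projective R P := by
  set N' : Submodule R M := N ⊔ span R C with hN'
  let N₀ : Submodule R N' := N.comap N'.subtype
  have hinc : N'.subtype.baseChange S |> Function.Injective := by
    rw [LinearMap.baseChange_eq_ltensor]
    exact Module.Flat.lTensor_preserves_injective_linearMap _ N'.injective_subtype
  set φ := N'.subtype.baseChange S
  set g := N₀.mkQ.baseChange S
  have hker : ∀ x, g x = 0 ↔ φ x ∈ A := by
    have hex : Function.Exact (N₀.subtype.lTensor S) (N₀.mkQ.lTensor S) :=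
      lTensor_exact S (LinearMap.exact_subtype_mkQ N₀) (mkQ_surjective _)
    have hcomp : N'.subtype ∘ₗ N₀.subtype = N.subtype ∘ₗ
        ((N'.subtype ∘ₗ N₀.subtype).codRestrict N fun x => x.2) := LinearMap.ext fun _ => rfl
    intro x
    simp only [g, LinearMap.baseChange_eq_ltensor]
    refine ⟨fun hx => ?_, fun hx => ?_⟩
    · obtain ⟨z, rfl⟩ := (hex x).mp hx
      rw [← hA, ← LinearMap.baseChange_eq_ltensor (A := S)]
      show φ (N₀.subtype.baseChange S z) ∈ _
      rw [← LinearMap.comp_apply, ← LinearMap.baseChange_comp, hcomp, LinearMap.baseChange_comp]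
      exact ⟨_, rfl⟩
    · rw [← hA] at hx
      obtain ⟨z, hz⟩ := hx
      let j : N →ₗ[R] N₀ :=
        LinearMap.codRestrict N₀ (inclusion (le_sup_left : N ≤ N')) fun x => x.2
      refine (hex x).mpr ⟨j.baseChange S z, ?_⟩
      apply hinc
      rw [← hz, ← LinearMap.baseChange_eq_ltensor (A := S), ← LinearMap.comp_apply (f := φ),
        ← LinearMap.baseChange_comp, ← LinearMap.comp_apply, ← LinearMap.baseChange_comp]
      rfl
  have hrange : LinearMap.range φ = A ⊔ D := hNC
  have hDle : ∀ d : D, ∃ x, φ x = d := fun d =>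
    (hrange.symm ▸ (mem_sup_right d.2 : (d : S ⊗[R] M) ∈ A ⊔ D) :)
  let E := LinearEquiv.ofInjective φ hinc
  let ψ : D →ₗ[S] S ⊗[R] (N' ⧸ N₀) :=
    g ∘ₗ E.symm.toLinearMap ∘ₗ inclusion (hrange.symm ▸ le_sup_right : D ≤ LinearMap.range φ)
  have hψ : ∀ (d : D) (x), φ x = d → ψ d = g x := fun d x hx => by
    show g (E.symm _) = g x
    congr 1
    rw [LinearEquiv.symm_apply_eq]
    exact Subtype.ext hx.symm
  have hbij : Function.Bijective ψ := by
    refine ⟨(injective_iff_map_eq_zero _).mpr fun d hd => ?_, fun y => ?_⟩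
    · obtain ⟨x, hx⟩ := hDle d
      rw [hψ d x hx, hker, hx] at hd
      exact Subtype.ext (Submodule.disjoint_def.mp hAD _ hd d.2)
    · obtain ⟨x, rfl⟩ := LinearMap.baseChange_surjective S (mkQ_surjective N₀) y
      have hx : φ x ∈ A ⊔ D := hrange ▸ LinearMap.mem_range_self φ x
      obtain ⟨a, ha, d, hd, had⟩ := mem_sup.mp hx
      obtain ⟨xd, hxd⟩ := hDle ⟨d, hd⟩
      refine ⟨⟨d, hd⟩, (hψ _ xd hxd).trans ?_⟩
      rw [eq_comm, ← sub_eq_zero, ← map_sub, hker, map_sub, hxd, ← had, add_sub_cancel_right]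
      exact ha
  haveI : Module.Projective S D := Module.Projective.of_split D.subtype (D.projectionOnto _ hD)
    (LinearMap.ext fun d => projectionOnto_apply_left hD d)
  haveI : Module.Projective S (S ⊗[R] (N' ⧸ N₀)) :=
    Module.Projective.of_equiv (LinearEquiv.ofBijective ψ hbij)
  haveI : Module.Flat R (N' ⧸ N₀) := Module.Flat.of_flat_tensorProduct R (N' ⧸ N₀) S
  have hcg : CAlg.IsCountablyGenerated R (N' ⧸ N₀) := by
    refine ⟨N₀.mkQ '' (N'.subtype ⁻¹' C), (hC.preimage N'.injective_subtype).image _, ?_⟩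
    rw [eq_top_iff]
    intro y _
    obtain ⟨⟨x, hx⟩, rfl⟩ := mkQ_surjective N₀ y
    obtain ⟨a, ha, c, hc, rfl⟩ := mem_sup.mp hx
    have hsub : (⟨a + c, hx⟩ : N') = ⟨a, mem_sup_left ha⟩ + ⟨c, mem_sup_right hc⟩ := rfl
    have ha0 : N₀.mkQ ⟨a, mem_sup_left ha⟩ = 0 := (Quotient.mk_eq_zero N₀).mpr ha
    rw [hsub, map_add, ha0, zero_add, ← map_span]
    refine mem_map_of_mem ?_
    have hCle : C ⊆ Set.range N'.subtype := fun x hx => ⟨⟨x, mem_sup_right (subset_span hx)⟩, rfl⟩
    have : span R C = (span R (N'.subtype ⁻¹' C)).map N'.subtype := by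
      rw [map_span, Set.image_preimage_eq_of_subset hCle]
    obtain ⟨z, hz, hzc⟩ := this ▸ hc
    rwa [← show z = ⟨c, mem_sup_right hc⟩ from Subtype.ext hzc]
  haveI : Module.Projective R (N' ⧸ N₀) :=
    projective_of_flat_ml_countable _ (ml_descent (S := S) _ (ml_of_projective _)) hcg
  obtain ⟨σ, hσ⟩ := Module.projective_lifting_property N₀.mkQ LinearMap.id (mkQ_surjective _)
  have hσ' : ∀ q, N₀.mkQ (σ q) = q := fun q => congr($hσ q)
  have hinj : Function.Injective (N'.subtype ∘ₗ σ) :=
    N'.injective_subtype.comp (Function.LeftInverse.injective hσ')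
  refine ⟨LinearMap.range (N'.subtype ∘ₗ σ), ?_, ?_, Module.Projective.of_equiv
    (LinearEquiv.ofInjective _ hinj)⟩
  · rw [Submodule.disjoint_def]
    rintro _ ⟨q, rfl⟩ hq
    have : N₀.mkQ (σ q) = 0 := (Quotient.mk_eq_zero N₀).mpr hq
    rw [hσ'] at this
    rw [this, map_zero]
  · refine le_antisymm (sup_le le_sup_left ?_) fun x hx => ?_
    · rintro _ ⟨q, rfl⟩
      exact (σ q).2
    · have : (⟨x, hx⟩ : N') - σ (N₀.mkQ ⟨x, hx⟩) ∈ N₀ := by
        rw [← Quotient.mk_eq_zero N₀, ← mkQ_apply, map_sub, hσ', sub_self]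
      rw [← sub_add_cancel x ((N'.subtype ∘ₗ σ) (N₀.mkQ ⟨x, hx⟩))]
      exact add_mem (mem_sup_left this) (mem_sup_right ⟨_, rfl⟩)

variable (R S M) in
theorem projective_descent [Module.FaithfullyFlat R S] [Module.Projective S (S ⊗[R] M)] :
    Module.Projective R M := by
  obtain ⟨κ, Q, hQ, htop, hc⟩ := exists_countable_decomposition (R := S) (S ⊗[R] M)
  choose s hs hspan using fun k => exists_span_eq_of_countablyGenerated (hc k)
  choose supp hsupp using fun m : M => exists_supp htop ((1 : S) ⊗ₜ[R] m)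
  -- finitely many elements of `M` whose images generate a given element
  have hgen : ∀ q : S ⊗[R] M, ∃ t : Finset M, q ∈ (span R (t : Set M)).baseChange S := by
    intro q
    classical
    induction q using TensorProduct.induction_on with
    | zero => exact ⟨∅, zero_mem _⟩
    | tmul a m => exact ⟨{m}, tmul_mem_baseChange_of_mem a (subset_span (Finset.mem_singleton_self m))⟩
    | add x y hx hy =>
      obtain ⟨t, ht⟩ := hx
      obtain ⟨t', ht'⟩ := hy
      exact ⟨t ∪ t', add_mem (baseChange_mono S (span_mono Finset.subset_union_left) ht)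
        (baseChange_mono S (span_mono Finset.subset_union_right) ht')⟩
  choose gen hgen using hgen
  let NN : Set κ → Submodule S (S ⊗[R] M) := fun J => ⨆ k ∈ J, Q k
  let good : Set (Set (Submodule R M) × Set κ) := {z | sSupIndep z.1 ∧
    (∀ p ∈ z.1, Module.Projective R p) ∧ (sSup z.1).baseChange S = NN z.2}
  obtain ⟨⟨PP, J⟩, ⟨hind, hproj, himg⟩, hmax⟩ : ∃ m, Maximal (· ∈ good) m := by
    refine zorn_le₀ good fun c hcs hch => ?_
    refine ⟨(⋃ z ∈ c, z.1, ⋃ z ∈ c, z.2), ⟨chain_union hch fun z hz => (hcs hz).1, fun p hp => ?_,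
      ?_⟩, fun z hz => ⟨Set.subset_biUnion_of_mem (u := fun z => z.1) hz,
        Set.subset_biUnion_of_mem (u := fun z => z.2) hz⟩⟩
    · obtain ⟨z, hz, hpz⟩ := Set.mem_iUnion₂.mp hp
      exact (hcs hz).2.1 p hpz
    · show (sSup (⋃ z ∈ c, z.1)).baseChange S = NN (⋃ z ∈ c, z.2)
      rw [sSup_iUnion]
      simp only [sSup_iUnion, NN, iSup_iUnion]
      rw [(baseChange_gc (R := R) (S := S) (M := M)).l_iSup₂]
      exact iSup_congr fun z => iSup_congr fun hz => (hcs hz).2.2
  suffices htop' : sSup PP = ⊤ by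
    refine projective_of_iSupIndep (fun p : PP => (p : Submodule R M)) ((sSupIndep_iff PP).mp hind)
      ?_ fun p => hproj p p.2
    rw [← sSup_eq_iSup', htop']
  by_contra hne
  obtain ⟨m, hm⟩ : ∃ m, m ∉ sSup PP := by
    by_contra h
    push Not at h
    exact hne (eq_top_iff.mpr fun x _ => h x)
  obtain ⟨J', hJ'c, hJ'A, hclosed⟩ := exists_countable_closed
    (fun k => ⋃ q ∈ s k, ⋃ x ∈ (gen q : Set M), (supp x : Set κ))
    (fun k => (hs k).biUnion fun q _ => (gen q).countable_toSet.biUnion fun x _ =>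
      (supp x).countable_toSet)
    (supp m : Set κ) (supp m).countable_toSet
  let C : Set M := {m} ∪ ⋃ k ∈ J', ⋃ q ∈ s k, (gen q : Set M)
  have hC : C.Countable := (Set.countable_singleton m).union
    (hJ'c.biUnion fun k _ => (hs k).biUnion fun q _ => (gen q).countable_toSet)
  have hCimg : (span R C).baseChange S = NN J' := by
    refine le_antisymm ?_ (iSup₂_le fun k hk => ?_)
    · rw [baseChange_span, span_le]
      rintro _ ⟨x, hx, rfl⟩
      refine (biSup_mono (f := Q) ?_ : _ ≤ NN J') (hsupp x)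
      obtain rfl | hx := hx
      · exact fun i hi => hJ'A hi
      · simp only [Set.mem_iUnion] at hx
        obtain ⟨k, hk, q, hq, hxq⟩ := hx
        exact fun i hi => hclosed k hk (Set.mem_biUnion hq (Set.mem_biUnion hxq hi))
    · rw [← hspan k, span_le]
      intro q hq
      refine baseChange_mono S (span_mono ?_) (hgen q)
      exact fun x hx => Or.inr (Set.mem_biUnion hk (Set.mem_biUnion hq hx))
  have hNC : (sSup PP ⊔ span R C).baseChange S = NN J ⊔ NN (J' \ J) := by
    rw [(baseChange_gc (R := R) (S := S) (M := M)).l_sup, himg, hCimg]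
    simp only [NN, ← iSup_union, Set.union_sdiff_self]
  have hAD : Disjoint (NN J) (NN (J' \ J)) := hQ.disjoint_biSup_biSup disjoint_sdiff_self_right
  have hD : IsCompl (NN (J' \ J)) (NN (J' \ J)ᶜ) := by
    refine ⟨hQ.disjoint_biSup_biSup disjoint_compl_right, codisjoint_iff.mpr ?_⟩
    simp only [NN, ← iSup_union, Set.union_compl_self, Set.mem_univ, iSup_pos, htop]
  obtain ⟨P, hPN, hsup, hP⟩ := exists_complement (sSup PP) hC himg hNC hAD hD
  have hnew : (insert P PP, J ∪ J') ∈ good := by
    refine ⟨iSupIndep_insert hind hPN, Set.forall_mem_insert.mpr ⟨hP, hproj⟩, ?_⟩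
    show (sSup (insert P PP)).baseChange S = NN (J ∪ J')
    rw [sSup_insert, sup_comm, hsup, hNC]
    simp only [NN, ← iSup_union, Set.union_sdiff_self]
  have hle := (hmax hnew ⟨Set.subset_insert _ _, Set.subset_union_left⟩).1
  have : P ≤ sSup PP := le_sSup (hle (Set.mem_insert _ _))
  have h2 : sSup PP ⊔ span R C = sSup PP := by rw [← hsup, sup_eq_left.mpr this]
  exact hm (h2 ▸ mem_sup_right (subset_span (Or.inl rfl)))

end Groth.Agent.FlatMor67
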