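import Groth.Agent.FlatMor67.GenericFibre
import Groth.Agent.Sep12.Basic
import Mathlib.AlgebraicGeometry.Geometrically.Reduced
import Mathlib.AlgebraicGeometry.Morphisms.Smooth
import Mathlib.AlgebraicGeometry.FunctionField

/-! Smoothness at the generic point of an integral scheme. -/

set_option linter.style.haveILetI false

set_option backward.isDefEq.respectTransparency.types false

universe u

namespace Groth.Agent.FlatMor67

open AlgebraicGeometry CategoryTheory Limits TensorProduct

variable {X Y : Scheme.{u}} [IsIntegral X] [IsIntegral Y] (f : X ⟶ Y) [IsDominant f]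

lemma map_genericPoint_of_isDominant : f (genericPoint X) = genericPoint Y := by
  have h := (genericPoint_spec X).image f.continuous
  rw [Set.image_univ, f.denseRange.closure_range] at h
  exact h.eq (genericPoint_spec Y)

lemma isField_stalk_image_genericPoint : IsField (Y.presheaf.stalk (f (genericPoint X))) := by
  rw [map_genericPoint_of_isDominant f]
  exact Field.toIsField Y.functionField

variable [LocallyOfFinitePresentation f]

/-- If the generic fibre is geometrically reduced, the morphism is smooth at the generic point. -/
theorem genericPoint_mem_smoothLocus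
    (hsep : GeometricallyReduced (f.fiberToSpecResidueField (f (genericPoint X)))) :
    genericPoint X ∈ f.smoothLocus := by
  set x := genericPoint X
  set y := f x
  letI : Field (Y.presheaf.stalk y) := (isField_stalk_image_genericPoint f).toField
  haveI : IsIso (Y.residue y) := by
    refine (ConcreteCategory.isIso_iff_bijective _).mpr ⟨?_, Ideal.Quotient.mk_surjective⟩
    show Function.Injective (IsLocalRing.residue (Y.presheaf.stalk y))
    exact RingHom.injective _
  letI : Field (X.presheaf.stalk x) := inferInstanceAs (Field X.functionField)
  let ψ : Y.residueField y ⟶ X.presheaf.stalk x := inv (Y.residue y) ≫ f.stalkMap x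
  have hψ : f.stalkMap x = Y.residue y ≫ ψ := by simp [ψ]
  have hfac : X.fromSpecStalk x ≫ f = Spec.map ψ ≫ Y.fromSpecResidueField y := by
    show _ = Spec.map ψ ≫ Spec.map (Y.residue y) ≫ Y.fromSpecStalk y
    rw [← Spec.map_comp_assoc, ← hψ, Scheme.SpecMap_stalkMap_fromSpecStalk]
  let j : Spec (X.presheaf.stalk x) ⟶ f.fiber y :=
    pullback.lift (X.fromSpecStalk x) (Spec.map ψ) hfac
  have hj : j ≫ f.fiberToSpecResidueField y = Spec.map ψ := pullback.lift_snd _ _ _
  have hjι : j ≫ f.fiberι y = X.fromSpecStalk x := pullback.lift_fst _ _ _
  have hsq : IsPullback j (𝟙 _) (f.fiberι y) (X.fromSpecStalk x) :=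
    IsPullback.of_isLimit' ⟨by simp [hjι]⟩ (PullbackCone.IsLimit.mk _ (fun s => s.snd)
      (fun s => by rw [← cancel_mono (f.fiberι y), Category.assoc, hjι, s.condition])
      (fun s => Category.comp_id _) (fun s m _ hm => (Category.comp_id m).symm.trans hm))
  haveI : Flat j := MorphismProperty.of_isPullback hsq.flip (flat_fromSpecStalk x)
  haveI : IsPreimmersion (j ≫ f.fiberι y) := hjι ▸ inferInstance
  haveI : IsPreimmersion j := IsPreimmersion.of_comp j (f.fiberι y)
  -- geometric reducedness of the stalk
  letI : Algebra (Y.residueField y) (X.presheaf.stalk x) := ψ.hom.toAlgebra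
  have hred : Algebra.IsGeometricallyReduced (Y.residueField y) (X.presheaf.stalk x) := by
    rw [Algebra.isGeometricallyReduced_field_iff]
    let L := AlgebraicClosure (Y.residueField y)
    let h : Spec (CommRingCat.of L) ⟶ Spec (Y.residueField y) :=
      Spec.map (CommRingCat.ofHom (algebraMap (Y.residueField y) L))
    let g := f.fiberToSpecResidueField y
    haveI : IsReduced (pullback g h) :=
      hsep.geometrically_isReduced _ _ _ (IsPullback.of_hasPullback g h)
    haveI : IsReduced (pullback j (pullback.fst g h)) :=
      isReduced_of_flat_isPreimmersion (pullback.snd j (pullback.fst g h))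
    haveI : IsReduced (pullback (j ≫ g) h) :=
      isReduced_of_isOpenImmersion (pullbackRightPullbackFstIso g h j).inv
    have hP : IsReduced (pullback h (Spec.map (CommRingCat.ofHom
        (algebraMap (Y.residueField y) (X.presheaf.stalk x))))) :=
      isReduced_of_isOpenImmersion ((pullbackSymmetry _ _) ≪≫
        pullback.congrHom (show Spec.map (CommRingCat.ofHom (algebraMap (Y.residueField y)
          (X.presheaf.stalk x))) = j ≫ g from hj.symm) (rfl : h = h)).hom
    haveI : IsReduced (Spec (CommRingCat.of (L ⊗[Y.residueField y] X.presheaf.stalk x))) :=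
      @isReduced_of_isOpenImmersion _ _ (pullbackSpecIso (Y.residueField y) L (X.presheaf.stalk x)).inv
        inferInstance hP
    exact affine_isReduced_iff _ |>.mp ‹_›
  have hfs : Algebra.FormallySmooth (Y.residueField y) (X.presheaf.stalk x) :=
    Sep12.formallySmooth_iff_isGeometricallyReduced.mpr hred
  rw [Scheme.Hom.mem_smoothLocus, hψ, CommRingCat.hom_comp,
    RingHom.FormallySmooth.respectsIso.cancel_left_isIso]
  exact hfs

end Groth.Agent.FlatMor67
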