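import Groth.Agent.FlatMor67.RegularSmooth
import Groth.Agent.FlatMor67.SmoothGeneric
import Mathlib.AlgebraicGeometry.Morphisms.FinitePresentation
import Mathlib.AlgebraicGeometry.Noetherian
import Mathlib.RingTheory.Localization.BaseChange

/-! Smoothness along the generic fibre of a regular scheme over a perfect function field. -/

set_option linter.style.haveILetI false
set_option backward.isDefEq.respectTransparency.types false

universe u

namespace Groth.Agent.FlatMor67

open AlgebraicGeometry CategoryTheory Limits TensorProduct Topology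

/-- Regular points over the generic point of a base with perfect fraction field are smooth. -/
theorem isSmoothAt_of_regular_generic {A B : Type u} [CommRing A] [IsDomain A] [CommRing B]
    [Algebra A B] [Algebra.FinitePresentation A B] (K : Type u) [Field K] [Algebra A K]
    [IsFractionRing A K] [PerfectField K] (q : Ideal B) [q.IsPrime]
    (hq : q.comap (algebraMap A B) = ⊥) [IsRegularLocalRing (Localization.AtPrime q)] :
    Algebra.IsSmoothAt A q := by
  let C := B ⊗[A] K
  letI : Algebra K C := Algebra.TensorProduct.rightAlgebra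
  haveI : IsScalarTower A K C := Algebra.TensorProduct.right_isScalarTower
  let M := Algebra.algebraMapSubmonoid B (nonZeroDivisors A)
  haveI : IsLocalization M C := by
    exact (Algebra.isLocalization_iff_isPushout (nonZeroDivisors A) K).mpr inferInstance
  have hdisj : Disjoint (M : Set B) q := by
    refine Set.disjoint_left.mpr ?_
    rintro _ ⟨a, ha, rfl⟩ hb
    have : a ∈ q.comap (algebraMap A B) := hb
    rw [hq, Ideal.mem_bot] at this
    exact nonZeroDivisors.ne_zero ha this
  let q' := q.map (algebraMap B C)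
  haveI : q'.IsPrime := IsLocalization.isPrime_of_isPrime_disjoint M C q ‹_› hdisj
  have hq' : q'.comap (algebraMap B C) = q :=
    IsLocalization.under_map_of_isPrime_disjoint M C ‹_› hdisj
  haveI : IsLocalization.AtPrime (Localization.AtPrime q') q := by
    have h := IsLocalization.isLocalization_isLocalization_atPrime_isLocalization M
      (Localization.AtPrime q') q'
    simp only [hq'] at h
    exact h
  let e : Localization.AtPrime q ≃ₐ[B] Localization.AtPrime q' :=
    IsLocalization.algEquiv q.primeCompl _ _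
  haveI : IsRegularLocalRing (Localization.AtPrime q') := IsRegularLocalRing.of_ringEquiv e.toRingEquiv
  haveI : Algebra.FiniteType K C := by
    haveI : Algebra.FiniteType K (K ⊗[A] B) := inferInstance
    refine Algebra.FiniteType.equiv this
      ({ (Algebra.TensorProduct.comm A K B).toRingEquiv with
          commutes' := fun r => rfl } : K ⊗[A] B ≃ₐ[K] C)
  haveI : Algebra.FormallySmooth K q'.ResidueField := Sep12.formallySmooth_of_perfectField _ _
  haveI : Algebra.FormallySmooth K (Localization.AtPrime q') := isSmoothAt_of_regular q'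
  haveI : Algebra.FormallyEtale A K := .of_isLocalization (nonZeroDivisors A)
  haveI : IsScalarTower A K (Localization.AtPrime q') := IsScalarTower.to₁₂₄ A K C _
  haveI : Algebra.FormallySmooth A (Localization.AtPrime q') := .comp A K _
  exact Algebra.FormallySmooth.of_equiv (e.symm.restrictScalars A)

lemma exists_open_mem_nhds_of_isConstructible {Z : Type*} [TopologicalSpace Z] {η : Z}
    (hη : IsGenericPoint η Set.univ) {s : Set Z} (hs : IsConstructible s) :
    ∃ W : Set Z, IsOpen W ∧ η ∈ W ∧ (W ⊆ s ∨ W ⊆ sᶜ) := by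
  induction hs using IsConstructible.empty_union_induction with
  | open_retrocompact U hU _ =>
    by_cases hU' : U.Nonempty
    · exact ⟨U, hU, hη.mem_open_set_iff hU |>.mpr (by simpa using hU'), Or.inl subset_rfl⟩
    · exact ⟨Set.univ, isOpen_univ, trivial, Or.inr fun z _ hz => hU' ⟨z, hz⟩⟩
  | union s hs t ht h1 h2 =>
    obtain ⟨W, hW, hWη, hW'⟩ := h1
    obtain ⟨W₂, hW₂, hW₂η, hW₂'⟩ := h2
    refine ⟨W ∩ W₂, hW.inter hW₂, ⟨hWη, hW₂η⟩, ?_⟩
    rcases hW' with h | h
    · exact Or.inl fun z hz => Or.inl (h hz.1)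
    rcases hW₂' with h' | h'
    · exact Or.inl fun z hz => Or.inr (h' hz.2)
    · exact Or.inr fun z hz hz' => hz'.elim (h hz.1) (h' hz.2)
  | compl s hs h =>
    obtain ⟨W, hW, hWη, hW'⟩ := h
    exact ⟨W, hW, hWη, hW'.symm.imp id fun h z hz hz' => hz' (h hz)⟩

variable {X Y : Scheme.{u}} [IsIntegral X] [IsIntegral Y] (f : X ⟶ Y) [LocallyOfFinitePresentation f]

omit [IsIntegral X] in
lemma mem_smoothLocus_of_regular_generic [PerfectField Y.functionField] {x : X}
    [IsRegularLocalRing (X.presheaf.stalk x)] (hx : f x = genericPoint Y) :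
    x ∈ f.smoothLocus := by
  obtain ⟨_, ⟨V, hV, rfl⟩, hyV, -⟩ :=
    Y.isBasis_affineOpens.exists_subset_of_mem_open (Set.mem_univ (f x)) isOpen_univ
  obtain ⟨_, ⟨U, hU, rfl⟩, hxU, hUV⟩ :=
    X.isBasis_affineOpens.exists_subset_of_mem_open hyV (V.2.preimage f.continuous)
  rw [Scheme.Hom.mem_smoothLocus, formallySmooth_stalkMap_iff V hV U hU hUV hxU]
  haveI : Nonempty V := ⟨⟨f x, hyV⟩⟩
  haveI := functionField_isFractionRing_of_isAffineOpen Y V hV
  letI := (f.appLE V U hUV).hom.toAlgebra
  haveI : Algebra.FinitePresentation Γ(Y, V) Γ(X, U) := f.finitePresentation_appLE hV hU hUV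
  set q := (hU.primeIdealOf ⟨x, hxU⟩).asIdeal
  haveI : IsRegularLocalRing (Localization.AtPrime q) := by
    letI := X.presheaf.algebra_section_stalk ⟨x, hxU⟩
    haveI := hU.isLocalization_stalk ⟨x, hxU⟩
    exact IsRegularLocalRing.of_ringEquiv
      (IsLocalization.algEquiv q.primeCompl (X.presheaf.stalk x) (Localization.AtPrime q)).toRingEquiv
  refine isSmoothAt_of_regular_generic Y.functionField q ?_
  refine ((congr($(IsAffineOpen.comap_primeIdealOf_appLE V hV U hU hUV hxU).1)).trans ?_)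
  rw [show (⟨f x, hUV hxU⟩ : V) = ⟨genericPoint Y, hx ▸ hyV⟩ from Subtype.ext hx]
  have hgen := hV.primeIdealOf_genericPoint
  rw [hgen]
  exact genericPoint_eq_bot_of_affine Γ(Y, V) ▸ rfl

omit [IsIntegral X] [IsIntegral Y] [LocallyOfFinitePresentation f] in
lemma smoothLocus_congr {g g' : X ⟶ Y} [LocallyOfFinitePresentation g]
    [LocallyOfFinitePresentation g'] (h : g = g') : g.smoothLocus = g'.smoothLocus := by
  subst h; rfl

theorem exists_dense_open_smooth [IsLocallyNoetherian X] [QuasiCompact f]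
    (hreg : ∀ x : X, IsRegularLocalRing (X.presheaf.stalk x)) [PerfectField Y.functionField] :
    ∃ V : Y.Opens, Dense (V : Set Y) ∧ Smooth (f ∣_ V) := by
  obtain ⟨_, ⟨(V₀ : Y.Opens), hV₀, rfl⟩, hηV, -⟩ :=
    Y.isBasis_affineOpens.exists_subset_of_mem_open (Set.mem_univ (genericPoint Y)) isOpen_univ
  haveI : IsAffine V₀.toScheme := hV₀
  haveI : CompactSpace V₀ := isCompact_iff_compactSpace.mp hV₀.isCompact
  let g := f ∣_ V₀
  haveI : IsLocallyNoetherian (f ⁻¹ᵁ V₀).toScheme := inferInstance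
  haveI : CompactSpace (f ⁻¹ᵁ V₀).toScheme := HasAffineProperty.iff_of_isAffine.mp (inferInstance : QuasiCompact g)
  haveI : IsNoetherian (f ⁻¹ᵁ V₀).toScheme := ⟨⟩
  let Z : Set (f ⁻¹ᵁ V₀).toScheme := (f ⁻¹ᵁ V₀).ι ⁻¹' ((f.smoothLocus : Set X))ᶜ
  have hZ : IsConstructible Z := by
    rw [← compl_compl Z, isConstructible_compl]
    refine IsRetrocompact.isConstructible ?_ fun t _ _ => TopologicalSpace.NoetherianSpace.isCompact _
    exact (f.smoothLocus.isOpen.isClosed_compl.preimage (f ⁻¹ᵁ V₀).ι.continuous).isOpen_compl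
  have hC := g.isConstructible_image hZ
  have hη : IsGenericPoint (⟨genericPoint Y, hηV⟩ : V₀) Set.univ := by
    rw [isGenericPoint_iff_specializes]
    intro z
    simp only [Set.mem_univ, iff_true]
    exact (subtype_specializes_iff _ _).mpr ((genericPoint_spec Y).specializes (Set.mem_univ _))
  obtain ⟨W, hW, hWη, hW'⟩ := exists_open_mem_nhds_of_isConstructible hη hC
  have hnot : (⟨genericPoint Y, hηV⟩ : V₀) ∉ g '' Z := by
    rintro ⟨z, hz, hzη⟩
    apply hz
    haveI := hreg ((f ⁻¹ᵁ V₀).ι z)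
    apply mem_smoothLocus_of_regular_generic f
    calc f ((f ⁻¹ᵁ V₀).ι z) = V₀.ι (g z) := by
          rw [← Scheme.Hom.comp_apply, ← Scheme.Hom.comp_apply, morphismRestrict_ι]
      _ = genericPoint Y := by rw [hzη]; rfl
  have hWC : W ⊆ (g '' Z)ᶜ := hW'.resolve_left fun h => hnot (h hWη)
  let V : Y.Opens := V₀.ι ''ᵁ ⟨W, hW⟩
  refine ⟨V, V.isOpen.dense ⟨genericPoint Y, ⟨_, hWη, rfl⟩⟩, ?_⟩
  rw [← Scheme.Hom.smoothLocus_eq_top_iff, eq_top_iff]
  intro x _
  have h1 : (f ⁻¹ᵁ V).ι ⁻¹ᵁ f.smoothLocus = ((f ∣_ V) ≫ V.ι).smoothLocus :=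
    (Scheme.Hom.preimage_smoothLocus_eq _ f).trans (smoothLocus_congr (morphismRestrict_ι f V).symm)
  have h2 : (f ⁻¹ᵁ V).ι x ∈ f.smoothLocus := by
    by_contra hx
    set x' : X := (f ⁻¹ᵁ V).ι x with hx'
    have hxV : f x' ∈ V := x.2
    obtain ⟨w, hw, hwx⟩ := hxV
    have hxV₀ : x' ∈ f ⁻¹ᵁ V₀ := by
      show f x' ∈ V₀
      rw [← hwx]
      exact w.2
    refine hWC hw ⟨⟨x', hxV₀⟩, hx, ?_⟩
    refine Subtype.ext ?_
    exact (morphismRestrict_base_coe f V₀ _).trans hwx.symm
  have h3 : x ∈ ((f ∣_ V) ≫ V.ι).smoothLocus := h1 ▸ h2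
  rw [Scheme.Hom.mem_smoothLocus, Scheme.Hom.stalkMap_comp] at h3
  exact (RingHom.FormallySmooth.respectsIso.cancel_left_isIso (V.ι.stalkMap ((f ∣_ V) x))
    ((f ∣_ V).stalkMap x)).mp h3

end Groth.Agent.FlatMor67
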