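import Groth.Agent.FlatMor67.Lifts

/-!
Infinitesimal lifting against affine thickenings versus the affine-local algebraic conditions.
-/

set_option linter.style.haveILetI false

universe u

namespace Groth.Agent.FlatMor67

open AlgebraicGeometry CategoryTheory Limits

variable {X Y : Scheme.{u}} {f : X ⟶ Y}

lemma specMk_isNilpotent_ker {A : Type u} [CommRing A] {I : Ideal A} (hI : IsNilpotent I) :
    IsNilpotent (Spec.map (CommRingCat.ofHom (Ideal.Quotient.mk I))).ker := by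
  set φ : CommRingCat.of A ⟶ CommRingCat.of (A ⧸ I) := CommRingCat.ofHom (Ideal.Quotient.mk I)
  haveI : IsClosedImmersion (Spec.map φ) :=
    IsClosedImmersion.spec_of_surjective _ Ideal.Quotient.mk_surjective
  obtain ⟨n, hn⟩ := hI
  have h1 : ((Spec.map φ).ker.ideal ⟨⊤, isAffineOpen_top _⟩).map
      (Scheme.ΓSpecIso (CommRingCat.of A)).hom.hom = I := by
    rw [Scheme.Hom.ker_apply]
    ext z
    rw [Ideal.mem_map_iff_of_surjective _
      (ConcreteCategory.bijective_of_isIso (Scheme.ΓSpecIso (CommRingCat.of A)).hom).2]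
    have hcomm : ∀ w, (Scheme.ΓSpecIso (CommRingCat.of (A ⧸ I))).hom ((Spec.map φ).appTop w) =
        Ideal.Quotient.mk I ((Scheme.ΓSpecIso (CommRingCat.of A)).hom w) := fun w =>
      congr($(Scheme.ΓSpecIso_naturality φ) w)
    constructor
    · rintro ⟨w, hw, rfl⟩
      refine Ideal.Quotient.eq_zero_iff_mem.mp ?_
      refine (hcomm w).symm.trans ?_
      have : (Spec.map φ).appTop w = 0 := hw
      rw [this, map_zero]
    · intro hz
      obtain ⟨w, rfl⟩ :=
        (ConcreteCategory.bijective_of_isIso (Scheme.ΓSpecIso (CommRingCat.of A)).hom).2 z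
      refine ⟨w, ?_, rfl⟩
      apply (ConcreteCategory.bijective_of_isIso
        (Scheme.ΓSpecIso (CommRingCat.of (A ⧸ I))).hom).1
      exact ((hcomm w).trans (Ideal.Quotient.eq_zero_iff_mem.mpr hz)).trans (map_zero _).symm
  refine ⟨n, Scheme.IdealSheafData.ext_of_isAffine ?_⟩
  rw [Scheme.IdealSheafData.ideal_pow, Pi.pow_apply]
  change _ = (⊥ : Ideal _)
  rw [← Ideal.map_eq_bot_iff_of_injective
    (ConcreteCategory.bijective_of_isIso (Scheme.ΓSpecIso (CommRingCat.of A)).hom).1,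
    Ideal.map_pow, h1, hn]
  rfl

lemma specMk_surjective {A : Type u} [CommRing A] {I : Ideal A} (hI : IsNilpotent I) :
    Surjective (Spec.map (CommRingCat.ofHom (Ideal.Quotient.mk I))) := by
  obtain ⟨n, hn⟩ := hI
  refine ⟨fun (p : PrimeSpectrum A) => ?_⟩
  have hp : p ∈ Set.range (PrimeSpectrum.comap (Ideal.Quotient.mk I)) := by
    rw [range_comap_of_surjective _ _ Ideal.Quotient.mk_surjective, Ideal.mk_ker,
      PrimeSpectrum.mem_zeroLocus]
    intro x hx
    have hxn : x ^ n ∈ I ^ n := Ideal.pow_mem_pow hx n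
    rw [hn] at hxn
    have hxn0 : x ^ n = 0 := hxn
    exact p.isPrime.mem_of_pow_mem n (hxn0 ▸ p.asIdeal.zero_mem)
  exact hp

section

variable {U : X.Opens} {V : Y.Opens} (hU : IsAffineOpen U) (hV : IsAffineOpen V)
  (hUV : U ≤ f ⁻¹ᵁ V)

include hV in
lemma fromSpec_comp_eq {B : Type u} [CommRing B] {g : Γ(X, U) →+* B} {β : Γ(Y, V) →+* B}
    (h : g.comp (f.appLE V U hUV).hom = β) :
    Spec.map (CommRingCat.ofHom g) ≫ hU.fromSpec ≫ f =
      Spec.map (CommRingCat.ofHom β) ≫ hV.fromSpec := by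
  rw [← hV.SpecMap_appLE_fromSpec f hU hUV, ← Spec.map_comp_assoc, ← h]
  rfl

include hU hV in
/-- A lift of an affine square factors through the affine chart. -/
lemma exists_lift_algHom (hf : MoreMor.IsFormallySmoothHom f) :
    letI := (f.appLE V U hUV).hom.toAlgebra
    ∀ ⦃B : Type u⦄ [CommRing B] [Algebra Γ(Y, V) B] (I : Ideal B), I ^ 2 = ⊥ →
      Function.Surjective ((Ideal.Quotient.mkₐ Γ(Y, V) I).comp :
        (Γ(X, U) →ₐ[Γ(Y, V)] B) → Γ(X, U) →ₐ[Γ(Y, V)] B ⧸ I) := by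
  letI := (f.appLE V U hUV).hom.toAlgebra
  intro B _ _ I hI g
  obtain ⟨l, hl₁, hl₂⟩ := hf B I hI (Spec.map (CommRingCat.ofHom g.toRingHom) ≫ hU.fromSpec)
    (Spec.map (CommRingCat.ofHom (algebraMap Γ(Y, V) B)) ≫ hV.fromSpec) (by
      rw [Category.assoc, fromSpec_comp_eq hU hV hUV (g := g.toRingHom) g.comp_algebraMap, ← Spec.map_comp_assoc]
      rfl)
  have hrange : Set.range l ⊆ Set.range hU.fromSpec := by
    rintro _ ⟨p, rfl⟩
    obtain ⟨q, rfl⟩ := (specMk_surjective (I := I) ⟨2, hI⟩).surj p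
    refine ⟨Spec.map (CommRingCat.ofHom g.toRingHom) q, ?_⟩
    exact congr($(hl₁.symm) q)
  obtain ⟨ψ, hψ⟩ : ∃ ψ, Spec.map ψ ≫ hU.fromSpec = l :=
    ⟨Spec.preimage (IsOpenImmersion.lift hU.fromSpec l hrange), by simp⟩
  subst hψ
  rw [← Spec.map_comp_assoc, cancel_mono, Spec.map_inj] at hl₁
  have hl₂' : f.appLE V U hUV ≫ ψ = CommRingCat.ofHom (algebraMap Γ(Y, V) B) := by
    rw [Category.assoc, ← hV.SpecMap_appLE_fromSpec f hU hUV, ← Spec.map_comp_assoc,
      cancel_mono, Spec.map_inj] at hl₂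
    exact hl₂
  exact ⟨⟨ψ.hom, fun r => congr($hl₂' r)⟩, AlgHom.ext fun x => congr($hl₁ x)⟩

include hU hV in
lemma formallySmooth_appLE (hf : MoreMor.IsFormallySmoothHom f) :
    letI := (f.appLE V U hUV).hom.toAlgebra
    Algebra.FormallySmooth Γ(Y, V) Γ(X, U) := by
  letI := (f.appLE V U hUV).hom.toAlgebra
  exact Algebra.FormallySmooth.of_comp_surjective (fun B _ _ I hI =>
    exists_lift_algHom hU hV hUV hf I hI)

include hU hV in
lemma formallyEtale_appLE (hf : MoreMor.IsFormallyEtaleHom f) :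
    letI := (f.appLE V U hUV).hom.toAlgebra
    Algebra.FormallyEtale Γ(Y, V) Γ(X, U) := by
  letI := (f.appLE V U hUV).hom.toAlgebra
  refine Algebra.FormallyEtale.iff_comp_bijective.mpr fun B _ _ I hI =>
    ⟨fun g₁ g₂ h => ?_, exists_lift_algHom hU hV hUV
      (fun A inst J hJ a b w => (@hf A inst J hJ a b w).exists) I hI⟩
  have hu := hf B I hI
    (Spec.map (CommRingCat.ofHom ((Ideal.Quotient.mkₐ Γ(Y, V) I).comp g₁).toRingHom) ≫ hU.fromSpec)
    (Spec.map (CommRingCat.ofHom (algebraMap Γ(Y, V) B)) ≫ hV.fromSpec) (by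
      rw [Category.assoc, fromSpec_comp_eq hU hV hUV
          (g := ((Ideal.Quotient.mkₐ Γ(Y, V) I).comp g₁).toRingHom) ((Ideal.Quotient.mkₐ Γ(Y, V) I).comp g₁).comp_algebraMap,
        ← Spec.map_comp_assoc]
      rfl)
  have key := hu.unique (y₁ := Spec.map (CommRingCat.ofHom g₁.toRingHom) ≫ hU.fromSpec)
    (y₂ := Spec.map (CommRingCat.ofHom g₂.toRingHom) ≫ hU.fromSpec)
    ⟨by rw [← Spec.map_comp_assoc]; rfl,
      by rw [Category.assoc, fromSpec_comp_eq hU hV hUV (g := g₁.toRingHom) g₁.comp_algebraMap]⟩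
    ⟨by rw [← Spec.map_comp_assoc, h]; rfl,
      by rw [Category.assoc, fromSpec_comp_eq hU hV hUV (g := g₂.toRingHom) g₂.comp_algebraMap]⟩
  rw [cancel_mono, Spec.map_inj] at key
  exact AlgHom.ext fun x => congr($key x)

end

lemma isFormallyEtaleHom_of_affineLocally
    (hf : ∀ (U : X.Opens) (V : Y.Opens) (_ : IsAffineOpen U) (_ : IsAffineOpen V)
      (hUV : U ≤ f ⁻¹ᵁ V), letI := (f.appLE V U hUV).hom.toAlgebra
      Algebra.FormallyEtale Γ(Y, V) Γ(X, U)) :
    MoreMor.IsFormallyEtaleHom f := by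
  intro A _ I hI a b w
  haveI := IsClosedImmersion.spec_of_surjective (CommRingCat.ofHom (Ideal.Quotient.mk I))
    Ideal.Quotient.mk_surjective
  haveI := specMk_surjective (I := I) ⟨2, hI⟩
  exact existsUnique_lift (specMk_isNilpotent_ker ⟨2, hI⟩) w hf

end Groth.Agent.FlatMor67
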