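import Groth.Agent.FlatMor67.RegularSmooth
import Groth.Agent.Sep12.Basic
import Mathlib.FieldTheory.PurelyInseparable.PerfectClosure
import Mathlib.RingTheory.Etale.Descent
import Mathlib.RingTheory.LocalProperties.Reduced
import Mathlib.RingTheory.Smooth.Locus
import Mathlib.RingTheory.Spectrum.Prime.Homeomorph

/-!
Smoothness of the reduced ring after a finite purely inseparable extension, on a dense open.
-/

set_option linter.style.haveILetI false

universe u

namespace Groth.Agent.FlatMor67.GRS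

open TensorProduct

/-- Localizations of reduced rings at minimal primes are regular. -/
lemma regular_atPrime_minimal {B : Type u} [CommRing B] [IsReduced B] (P : Ideal B) [P.IsPrime]
    (hP : P ∈ minimalPrimes B) : IsRegularLocalRing (Localization.AtPrime P) := by
  let L := Localization.AtPrime P
  have hmax : IsLocalRing.maximalIdeal L = ⊥ := by
    have hnil : IsLocalRing.maximalIdeal L ≤ nilradical L := by
      rw [nilradical_eq_sInf]
      refine le_sInf fun Q hQ => ?_
      haveI : Q.IsPrime := hQ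
      have h1 : Q.comap (algebraMap B L) ≤ P := by
        intro x hx
        by_contra hxP
        exact hQ.ne_top (Q.eq_top_of_isUnit_mem hx
          (IsLocalization.map_units L (⟨x, hxP⟩ : P.primeCompl)))
      have h2 : Q.comap (algebraMap B L) = P :=
        le_antisymm h1 (hP.2 ⟨Ideal.comap_isPrime _ _, bot_le⟩ h1)
      rw [← IsLocalization.map_under P.primeCompl L Q, Ideal.under, h2,
        Localization.AtPrime.map_eq_maximalIdeal]
    rw [nilradical_eq_zero L] at hnil
    exact le_bot_iff.mp hnil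
  letI : Field L := (IsLocalRing.isField_iff_maximalIdeal_eq.mpr hmax).toField
  exact inferInstanceAs (IsRegularLocalRing L)

variable {k : Type u} [Field k]

/-- Over the perfect closure, the reduced ring becomes smooth on a dense basic open defined over
the base. -/
theorem exists_smooth_perfect {A : Type u} [CommRing A] [Algebra k A] [Algebra.FiniteType k A]
    (K : Type u) [Field K] [Algebra k K] [IsPurelyInseparable k K] [PerfectField K] :
    ∃ c : A, (∀ p ∈ minimalPrimes A, c ∉ p) ∧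
      ∀ (C : Type u) [CommRing C] [Algebra A C] [Algebra k C] [IsScalarTower k A C]
        [IsLocalization.Away c C],
        ∃ (Q : Type u) (_ : CommRing Q) (_ : Algebra K Q) (_ : Algebra k Q) (_ : IsScalarTower k K Q)
          (ψ : C ⊗[k] K →ₐ[k] Q), Function.Surjective ψ ∧ RingHom.ker ψ ≤ nilradical _ ∧
          (∀ r, ψ (1 ⊗ₜ r) = algebraMap K Q r) ∧ IsReduced Q ∧ Algebra.Smooth K Q := by
  classical
  letI : Algebra K (A ⊗[k] K) := Algebra.TensorProduct.rightAlgebra
  haveI : IsScalarTower k K (A ⊗[k] K) := Algebra.TensorProduct.right_isScalarTower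
  haveI : Algebra.FiniteType K (A ⊗[k] K) := by
    haveI h : Algebra.FiniteType K (K ⊗[k] A) := inferInstance
    exact h.equiv ({ (Algebra.TensorProduct.comm k K A).toRingEquiv with
      commutes' := fun r => rfl } : K ⊗[k] A ≃ₐ[K] A ⊗[k] K)
  let N := nilradical (A ⊗[k] K)
  let B := (A ⊗[k] K) ⧸ N
  haveI : IsReduced B := (Ideal.isRadical_iff_quotient_reduced _).mp (Ideal.radical_isRadical _)
  haveI : Algebra.FiniteType K B :=
    ‹Algebra.FiniteType K (A ⊗[k] K)›.of_surjective (Ideal.Quotient.mkₐ K N)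
      Ideal.Quotient.mk_surjective
  haveI : IsNoetherianRing B := Algebra.FiniteType.isNoetherianRing K B
  haveI : Algebra.FinitePresentation K B := Algebra.FinitePresentation.of_finiteType.mp ‹_›
  let S : Set (PrimeSpectrum B) := Algebra.smoothLocus K B
  have hmin : ∀ (P : Ideal B) (hP : P ∈ minimalPrimes B),
      (⟨P, hP.1.1⟩ : PrimeSpectrum B) ∈ S := by
    intro P hP
    haveI : P.IsPrime := hP.1.1
    haveI := regular_atPrime_minimal P hP
    haveI : Algebra.FormallySmooth K P.ResidueField := Sep12.formallySmooth_of_perfectField _ _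
    exact isSmoothAt_of_regular P
  obtain ⟨T, hT⟩ := (PrimeSpectrum.isClosed_iff_zeroLocus_ideal _).mp
    (Algebra.isOpen_smoothLocus (R := K) (A := B)).isClosed_compl
  obtain ⟨b, hbT, hb⟩ : ∃ b ∈ T, ∀ P ∈ minimalPrimes B, b ∉ P := by
    by_contra hne
    push Not at hne
    have hfin : (minimalPrimes B).Finite := minimalPrimes.finite_of_isNoetherianRing B
    have hsub : (T : Set B) ⊆ ⋃ P ∈ (↑hfin.toFinset : Set (Ideal B)), (P : Set B) := fun x hx => by
      obtain ⟨P, hP, hxP⟩ := hne x hx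
      exact Set.mem_biUnion (by simpa using hP) hxP
    obtain ⟨P, hP, hTP⟩ := (Ideal.subset_union_prime (⊥ : Ideal B) (⊥ : Ideal B)
      (fun P hP _ _ => (hfin.mem_toFinset.mp hP).1.1)).mp hsub
    have : (⟨P, (hfin.mem_toFinset.mp hP).1.1⟩ : PrimeSpectrum B) ∈ (S : Set _)ᶜ := by
      show _ ∈ (Algebra.smoothLocus K B)ᶜ
      rw [hT]; exact hTP
    exact this (hmin P (hfin.mem_toFinset.mp hP))
  have hbS : (PrimeSpectrum.basicOpen b : Set (PrimeSpectrum B)) ⊆ Algebra.smoothLocus K B := by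
    intro Q hQ
    by_contra h
    have h' : Q ∈ (Algebra.smoothLocus K B)ᶜ := h
    rw [hT] at h'
    exact hQ (h' hbT)
  haveI hsm : Algebra.Smooth K (Localization.Away b) :=
    Algebra.basicOpen_subset_smoothLocus_iff_smooth.mp hbS
  obtain ⟨b₀, rfl⟩ := Ideal.Quotient.mk_surjective b
  obtain ⟨m, hm, c, hc⟩ := IsPurelyInseparable.exists_pow_mem_range_tensorProduct b₀
  refine ⟨c, fun p hp hcp => ?_, fun C _ _ _ _ _ => ?_⟩
  · haveI : p.IsPrime := hp.1.1
    obtain ⟨⟨P, hPp⟩, hP⟩ :=
      (PrimeSpectrum.isHomeomorph_comap_of_isPurelyInseparable k K A).surjective ⟨p, ‹_›⟩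
    have hNP : N ≤ P := nilradical_le_prime P
    let Q := P.map (Ideal.Quotient.mk N)
    haveI : Q.IsPrime :=
      Ideal.map_isPrime_of_surjective Ideal.Quotient.mk_surjective (by simpa using hNP)
    have hQ : Q.comap (Ideal.Quotient.mk N) = P := by
      rw [Ideal.comap_map_of_surjective _ Ideal.Quotient.mk_surjective, ← RingHom.ker_eq_comap_bot,
        Ideal.mk_ker, sup_eq_left.mpr hNP]
    obtain ⟨Q₀, hQ₀, hQ₀Q⟩ := Ideal.exists_minimalPrimes_le (bot_le : (⊥ : Ideal B) ≤ Q)
    haveI : Q₀.IsPrime := hQ₀.1.1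
    refine hb Q₀ hQ₀ ?_
    let P₀ := Q₀.comap (Ideal.Quotient.mk N)
    have hP₀P : P₀ ≤ P := (Ideal.comap_mono hQ₀Q).trans hQ.le
    have hPp' : P.comap (algebraMap A (A ⊗[k] K)) = p := congrArg PrimeSpectrum.asIdeal hP
    have h1 : P₀.comap (algebraMap A (A ⊗[k] K)) = p :=
      le_antisymm ((Ideal.comap_mono hP₀P).trans hPp'.le)
        (hp.2 ⟨Ideal.comap_isPrime _ _, bot_le⟩ ((Ideal.comap_mono hP₀P).trans hPp'.le))
    have h2 : b₀ ^ m ∈ P₀ := by
      rw [← hc]
      exact (h1.symm ▸ hcp : c ∈ P₀.comap (algebraMap A (A ⊗[k] K)))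
    exact Ideal.mem_comap.mp (Ideal.IsPrime.mem_of_pow_mem inferInstance m h2)
  -- the localized statement
  let Q := Localization.Away (Ideal.Quotient.mk N b₀)
  let mkN : A ⊗[k] K →ₐ[k] Q :=
    ((IsScalarTower.toAlgHom K B Q).restrictScalars k).comp (Ideal.Quotient.mkₐ k N)
  have hmkc : mkN (c ⊗ₜ 1) = algebraMap B Q (Ideal.Quotient.mk N b₀) ^ m := by
    rw [show (c ⊗ₜ[k] (1 : K)) = b₀ ^ m from hc, map_pow]
    rfl
  let u₀ : A →ₐ[k] Q := mkN.comp Algebra.TensorProduct.includeLeft
  have hu₀ : IsUnit (u₀ c) := by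
    show IsUnit (mkN (c ⊗ₜ 1))
    rw [hmkc]
    exact (IsLocalization.Away.algebraMap_isUnit _).pow m
  let u : C →ₐ[k] Q := IsLocalization.liftAlgHom (M := Submonoid.powers c) (f := u₀) fun y => by
    obtain ⟨n, hn⟩ := y.2
    rw [← hn, map_pow]
    exact hu₀.pow n
  have hu : ∀ a, u (algebraMap A C a) = u₀ a := fun a => IsLocalization.lift_eq _ a
  let ψ : C ⊗[k] K →ₐ[k] Q :=
    Algebra.TensorProduct.lift u (IsScalarTower.toAlgHom k K Q) fun _ _ => Commute.all _ _
  let ιA : A ⊗[k] K →ₐ[k] C ⊗[k] K :=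
    Algebra.TensorProduct.map (IsScalarTower.toAlgHom k A C) (AlgHom.id k K)
  have hψι : ψ.comp ιA = mkN := by
    refine Algebra.TensorProduct.ext (AlgHom.ext fun a => ?_) (AlgHom.ext fun r => ?_)
    · simp [ψ, ιA, hu, u₀]
    · simp only [ψ, ιA, AlgHom.comp_apply, Algebra.TensorProduct.includeRight_apply,
        AlgHom.restrictScalars_apply, Algebra.TensorProduct.map_tmul, map_one, AlgHom.id_apply,
        Algebra.TensorProduct.lift_tmul, one_mul, IsScalarTower.coe_toAlgHom']
      exact IsScalarTower.algebraMap_apply K B Q r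
  have hψι' : ∀ z, ψ (ιA z) = mkN z := fun z => congr($hψι z)
  let cC : C ⊗[k] K := algebraMap A C c ⊗ₜ 1
  have hunit : IsUnit cC :=
    (IsLocalization.Away.algebraMap_isUnit (S := C) c).map
      (Algebra.TensorProduct.includeLeft : C →ₐ[k] C ⊗[k] K)
  have hιc : ιA (c ⊗ₜ 1) = cC := by simp [ιA, cC]
  have hnum : ∀ z : C ⊗[k] K, ∃ n z', z * cC ^ n = ιA z' := by
    intro z
    induction z using TensorProduct.induction_on with
    | zero => exact ⟨0, 0, by simp⟩
    | tmul x r =>
      obtain ⟨n, a, ha⟩ := IsLocalization.Away.surj c x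
      refine ⟨n, a ⊗ₜ r, ?_⟩
      simp [cC, ιA, Algebra.TensorProduct.tmul_pow, ha]
    | add z w hz hw =>
      obtain ⟨n, z', hz⟩ := hz
      obtain ⟨l, w', hw⟩ := hw
      refine ⟨n + l, z' * (c ⊗ₜ 1) ^ l + w' * (c ⊗ₜ 1) ^ n, ?_⟩
      rw [map_add, map_mul, map_mul, map_pow, map_pow, hιc, ← hz, ← hw]
      ring
  refine ⟨Q, inferInstance, inferInstance, inferInstance, inferInstance, ψ, ?_, ?_, ?_,
    inferInstance, hsm⟩
  · intro y
    obtain ⟨n, x, hx⟩ := IsLocalization.Away.surj (Ideal.Quotient.mk N b₀) y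
    obtain ⟨x₀, rfl⟩ := Ideal.Quotient.mk_surjective x
    refine ⟨ιA (x₀ * b₀ ^ ((m - 1) * n)) * ↑(hunit.pow n).unit⁻¹, ?_⟩
    apply (((IsLocalization.Away.algebraMap_isUnit (S := Q) (Ideal.Quotient.mk N b₀)).pow m).pow n).mul_right_cancel
    rw [map_mul, mul_assoc, ← hmkc, ← hψι' (c ⊗ₜ 1), hιc, ← map_pow ψ, ← map_mul ψ,
      IsUnit.val_inv_mul, map_one, mul_one, hψι', map_mul, map_pow]
    show algebraMap B Q (Ideal.Quotient.mk N x₀) * algebraMap B Q (Ideal.Quotient.mk N b₀) ^ _ = _
    rw [← hx, mul_assoc, ← pow_add, map_pow ψ, ← hιc, hψι', hmkc, ← pow_mul]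
    congr 2
    cases m with
    | zero => exact absurd hm (lt_irrefl 0)
    | succ m => simp; ring
  · intro z hz
    obtain ⟨n, z', hz'⟩ := hnum z
    have h0 : mkN z' = 0 := by
      rw [← hψι', ← hz', map_mul, RingHom.mem_ker.mp hz, zero_mul]
    obtain ⟨⟨_, j, rfl⟩, hj⟩ :=
      (IsLocalization.map_eq_zero_iff (Submonoid.powers (Ideal.Quotient.mk N b₀)) Q
        (Ideal.Quotient.mk N z')).mp h0
    have h1 : b₀ ^ j * z' ∈ N := Ideal.Quotient.eq_zero_iff_mem.mp (by rwa [map_mul, map_pow])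
    have h2 : (c ⊗ₜ 1 : A ⊗[k] K) ^ j * z' ∈ N := by
      rw [show (c ⊗ₜ[k] (1 : K)) = b₀ ^ m from hc, ← pow_mul]
      have hle : j ≤ m * j := Nat.le_mul_of_pos_left j hm
      rw [show m * j = (m * j - j) + j by omega, pow_add, mul_assoc]
      exact Ideal.mul_mem_left _ _ h1
    have h3 := (mem_nilradical.mp h2).map ιA
    rw [map_mul, map_pow, hιc, ← hz', show cC ^ j * (z * cC ^ n) = cC ^ (j + n) * z by ring] at h3
    refine mem_nilradical.mpr ?_
    obtain ⟨e, he⟩ := h3
    refine ⟨e, ((hunit.pow (j + n)).pow e).mul_right_eq_zero.mp ?_⟩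
    rw [← mul_pow, he]
  · intro r
    simp [ψ]

/-- Descent of a smooth reduced quotient of `C ⊗ K` along `L → K`. -/
theorem exists_descent_aux {C : Type u} [CommRing C] [Algebra k C]
    (K : Type u) [Field K] [Algebra k K] (L : Type u) [Field L] [Algebra k L] [Algebra L K]
    [IsScalarTower k L K]
    (Q : Type u) [CommRing Q] [Algebra K Q] [Algebra k Q] [IsScalarTower k K Q] [IsReduced Q]
    [Algebra.Smooth K Q] (ψ : C ⊗[k] K →ₐ[k] Q) (hψ : Function.Surjective ψ)
    (hker : RingHom.ker ψ ≤ nilradical _) (hψr : ∀ r, ψ (1 ⊗ₜ r) = algebraMap K Q r)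
    (G : Finset (C ⊗[k] K)) (hG : Submodule.span (C ⊗[k] K) (G : Set (C ⊗[k] K)) = RingHom.ker ψ)
    (hG' : ∀ g ∈ G, ∃ g', Algebra.TensorProduct.map (AlgHom.id k C)
      (IsScalarTower.toAlgHom k L K) g' = g) :
    ∃ (Q' : Type u) (_ : CommRing Q') (_ : Algebra L Q') (φ : C ⊗[k] L →+* Q'),
      Function.Surjective φ ∧ (∀ z, φ z = 0 → IsNilpotent z) ∧
      (∀ r : L, φ (1 ⊗ₜ r) = algebraMap L Q' r) ∧ IsReduced Q' ∧ Algebra.Smooth L Q' := by
  classical
  let ι : C ⊗[k] L →ₐ[k] C ⊗[k] K :=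
    Algebra.TensorProduct.map (AlgHom.id k C) (IsScalarTower.toAlgHom k L K)
  have hιinj : Function.Injective ι :=
    Module.Flat.lTensor_preserves_injective_linearMap (M := C)
      (IsScalarTower.toAlgHom k L K).toLinearMap (algebraMap L K).injective
  choose! g' hg' using hG'
  let I : Ideal (C ⊗[k] L) := Ideal.span (g' '' G)
  let Q' := (C ⊗[k] L) ⧸ I
  letI : Algebra L Q' :=
    ((Ideal.Quotient.mk I).comp
      (Algebra.TensorProduct.includeRight : L →ₐ[k] C ⊗[k] L).toRingHom).toAlgebra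
  haveI : IsScalarTower k L Q' := IsScalarTower.of_algebraMap_eq fun r => by
    rw [RingHom.algebraMap_toAlgebra]
    exact congrArg (Ideal.Quotient.mk I)
      (Algebra.TensorProduct.includeRight.commutes (R := k) (A := L) r).symm
  -- the comparison maps
  letI : Algebra L Q := ((algebraMap K Q).comp (algebraMap L K)).toAlgebra
  haveI : IsScalarTower L K Q := IsScalarTower.of_algebraMap_eq fun _ => rfl
  have hI : ∀ z ∈ I, ψ (ι z) = 0 := by
    have : I ≤ RingHom.ker ((ψ.comp ι : C ⊗[k] L →ₐ[k] Q)) := Ideal.span_le.mpr <| by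
      rintro _ ⟨g, hg, rfl⟩
      show ψ (ι (g' g)) = 0
      rw [hg' g hg]
      rw [← RingHom.mem_ker, ← hG]
      exact Submodule.subset_span hg
    exact this
  let θ₀ : Q' →ₐ[L] Q :=
    { toRingHom := Ideal.Quotient.lift I (ψ.comp ι : C ⊗[k] L →ₐ[k] Q).toRingHom hI
      commutes' := fun r => by
        show ψ (ι (1 ⊗ₜ r)) = _
        simp only [ι, Algebra.TensorProduct.map_tmul, map_one, IsScalarTower.coe_toAlgHom', hψr]
        exact (IsScalarTower.algebraMap_apply L K Q r).symm }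
  let θ : K ⊗[L] Q' →ₐ[K] Q :=
    Algebra.TensorProduct.lift (Algebra.ofId K Q) θ₀ fun _ _ => Commute.all _ _
  let χ : C ⊗[k] K →ₐ[k] K ⊗[L] Q' :=
    Algebra.TensorProduct.lift
      (((Algebra.TensorProduct.includeRight : Q' →ₐ[L] K ⊗[L] Q').restrictScalars k).comp
        ((Ideal.Quotient.mkₐ k I).comp Algebra.TensorProduct.includeLeft))
      ((Algebra.TensorProduct.includeLeft : K →ₐ[K] K ⊗[L] Q').restrictScalars k)
      fun a b => mul_comm (G := K ⊗[L] Q') _ _
  have hχι : ∀ z, χ (ι z) = 1 ⊗ₜ Ideal.Quotient.mk I z := by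
    intro z
    induction z using TensorProduct.induction_on with
    | zero => simp
    | add a b ha hb => simp only [map_add, ha, hb, TensorProduct.tmul_add]
    | tmul x r =>
      have h1 : Ideal.Quotient.mk I (x ⊗ₜ[k] r) =
          algebraMap L Q' r * Ideal.Quotient.mk I (x ⊗ₜ[k] (1 : L)) := by
        rw [RingHom.algebraMap_toAlgebra, RingHom.comp_apply, ← map_mul]
        simp
      have h2 : χ (ι (x ⊗ₜ[k] r)) =
          (1 ⊗ₜ Ideal.Quotient.mk I (x ⊗ₜ[k] (1 : L))) * (algebraMap L K r ⊗ₜ[L] (1 : Q')) := rfl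
      rw [h2, h1, Algebra.TensorProduct.tmul_one_eq_one_tmul, Algebra.TensorProduct.tmul_mul_tmul,
        mul_one, mul_comm]
  have hθχ : ∀ z, θ (χ z) = ψ z := by
    intro z
    induction z using TensorProduct.induction_on with
    | zero => simp
    | add a b ha hb => simp only [map_add, ha, hb]
    | tmul x r =>
      simp only [χ, θ, θ₀, Algebra.TensorProduct.lift_tmul, AlgHom.comp_apply,
        AlgHom.restrictScalars_apply, Algebra.TensorProduct.includeRight_apply,
        Algebra.TensorProduct.includeLeft_apply, Ideal.Quotient.mkₐ_eq_mk,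
        Algebra.TensorProduct.tmul_mul_tmul, one_mul, mul_one, Algebra.ofId_apply, ← hψr r]
      show ψ (1 ⊗ₜ r) * ψ (ι (x ⊗ₜ 1)) = _
      simp [ι, ← map_mul]
  have hχ : Function.Surjective χ := by
    intro z
    induction z using TensorProduct.induction_on with
    | zero => exact ⟨0, map_zero _⟩
    | add a b ha hb =>
      obtain ⟨a, rfl⟩ := ha
      obtain ⟨b, rfl⟩ := hb
      exact ⟨a + b, map_add _ _ _⟩
    | tmul r q =>
      obtain ⟨q, rfl⟩ := Ideal.Quotient.mk_surjective q
      refine ⟨(1 ⊗ₜ r) * ι q, ?_⟩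
      rw [map_mul, hχι]
      simp [χ]
      rw [← map_mul, ← Algebra.TensorProduct.one_def, one_mul]
  have hbij : Function.Bijective θ := by
    refine ⟨(injective_iff_map_eq_zero _).mpr fun z hz => ?_, fun y => ?_⟩
    · obtain ⟨w, rfl⟩ := hχ z
      rw [hθχ, ← RingHom.mem_ker, ← hG] at hz
      have : (RingHom.ker χ : Ideal _) ≥ Submodule.span (C ⊗[k] K) (G : Set (C ⊗[k] K)) := by
        refine Submodule.span_le.mpr fun g hg => ?_
        show χ g = 0
        rw [← hg' g hg, hχι, Ideal.Quotient.eq_zero_iff_mem.mpr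
          (Ideal.subset_span (Set.mem_image_of_mem g' hg)), TensorProduct.tmul_zero]
      exact this hz
    · obtain ⟨w, rfl⟩ := hψ y
      exact ⟨χ w, hθχ w⟩
  haveI : Algebra.Smooth K (K ⊗[L] Q') := Algebra.Smooth.of_equiv (AlgEquiv.ofBijective θ hbij).symm
  haveI : Algebra.Smooth L Q' := Algebra.Smooth.of_smooth_tensorProduct_of_faithfullyFlat K
  have hinj : Function.Injective (Algebra.TensorProduct.includeRight : Q' →ₐ[L] K ⊗[L] Q') :=
    Algebra.TensorProduct.includeRight_injective (algebraMap L K).injective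
  refine ⟨Q', inferInstance, inferInstance, Ideal.Quotient.mk I, Ideal.Quotient.mk_surjective, ?_,
    fun r => rfl, isReduced_of_injective (θ.toRingHom.comp
      (Algebra.TensorProduct.includeRight : Q' →ₐ[L] K ⊗[L] Q').toRingHom)
      (hbij.1.comp hinj), ‹_›⟩
  intro z hz
  rw [Ideal.Quotient.eq_zero_iff_mem] at hz
  have hn : IsNilpotent (ι z) := mem_nilradical.mp (hker (hI z hz))
  exact (IsNilpotent.map_iff hιinj).mp hn


/-- Descent of a smooth reduced quotient of `C ⊗ K` to a finite subextension. -/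
theorem exists_descent {C : Type u} [CommRing C] [Algebra k C] [Algebra.FiniteType k C]
    (K : Type u) [Field K] [Algebra k K] [IsPurelyInseparable k K]
    (Q : Type u) [CommRing Q] [Algebra K Q] [Algebra k Q] [IsScalarTower k K Q] [IsReduced Q]
    [Algebra.Smooth K Q] (ψ : C ⊗[k] K →ₐ[k] Q) (hψ : Function.Surjective ψ)
    (hker : RingHom.ker ψ ≤ nilradical _) (hψr : ∀ r, ψ (1 ⊗ₜ r) = algebraMap K Q r) :
    ∃ (L : Type u) (_ : Field L) (_ : Algebra k L) (_ : Module.Finite k L)
      (_ : IsPurelyInseparable k L) (Q' : Type u) (_ : CommRing Q')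
      (_ : Algebra L Q') (φ : C ⊗[k] L →+* Q'), Function.Surjective φ ∧
        (∀ z, φ z = 0 → IsNilpotent z) ∧ (∀ r : L, φ (1 ⊗ₜ r) = algebraMap L Q' r) ∧
        IsReduced Q' ∧ Algebra.Smooth L Q' := by
  classical
  letI : Algebra K (C ⊗[k] K) := Algebra.TensorProduct.rightAlgebra
  haveI : Algebra.FiniteType K (C ⊗[k] K) := by
    haveI h : Algebra.FiniteType K (K ⊗[k] C) := inferInstance
    exact h.equiv ({ (Algebra.TensorProduct.comm k K C).toRingEquiv with
      commutes' := fun r => rfl } : K ⊗[k] C ≃ₐ[K] C ⊗[k] K)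
  haveI : IsNoetherianRing (C ⊗[k] K) := Algebra.FiniteType.isNoetherianRing K _
  obtain ⟨G, hG⟩ := IsNoetherian.noetherian (RingHom.ker ψ)
  have hdef : ∀ z : C ⊗[k] K, ∃ S : Finset K, ∀ L : IntermediateField k K, (S : Set K) ⊆ L →
      z ∈ (Algebra.TensorProduct.map (AlgHom.id k C) L.val).range := by
    intro z
    induction z using TensorProduct.induction_on with
    | zero => exact ⟨∅, fun L _ => zero_mem _⟩
    | tmul x r =>
      exact ⟨{r}, fun L hL => ⟨x ⊗ₜ ⟨r, hL (Finset.mem_singleton_self r)⟩, by simp⟩⟩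
    | add a b ha hb =>
      obtain ⟨S, hS⟩ := ha
      obtain ⟨S', hS'⟩ := hb
      exact ⟨S ∪ S', fun L hL => add_mem
        (hS L ((Finset.coe_subset.mpr Finset.subset_union_left).trans hL))
        (hS' L ((Finset.coe_subset.mpr Finset.subset_union_right).trans hL))⟩
  choose supp hsupp using hdef
  let L : IntermediateField k K := IntermediateField.adjoin k ↑(G.biUnion supp)
  haveI : FiniteDimensional k L :=
    IntermediateField.finiteDimensional_adjoin fun x _ => Algebra.IsIntegral.isIntegral x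
  haveI : IsPurelyInseparable k L := IsPurelyInseparable.tower_bot k L K
  exact ⟨L, inferInstance, inferInstance, inferInstance, inferInstance,
    exists_descent_aux K L Q ψ hψ hker hψr G hG fun g hg => hsupp g L fun x hx =>
      IntermediateField.subset_adjoin k _ (Finset.mem_biUnion.mpr ⟨g, hg, hx⟩)⟩

end Groth.Agent.FlatMor67.GRS
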