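import Groth.Agent.FlatMor66.FibCritScheme
import Groth.Agent.SpPts86.LocPMore
import Groth.Agent.AlgGrp79.Unram
import Groth.Agent.Unr55.TopInv
import Mathlib.AlgebraicGeometry.Morphisms.SmoothFiber
import Mathlib.AlgebraicGeometry.Morphisms.FlatMono

/-! Properties of a morphism over a base read on the fibres, the source being flat. -/

set_option autoImplicit false
set_option backward.isDefEq.respectTransparency false
set_option backward.isDefEq.respectTransparency.types false

universe u

open CategoryTheory CategoryTheory.Limits AlgebraicGeometry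

namespace Groth.Agent.FlatMor67.FibreCrit

variable {X Y S : Scheme.{u}} (f : X ⟶ Y) (g : Y ⟶ S)

theorem flat_fiberMap (s : S) (h : Flat (pullback.snd f (g.fiberι s))) :
    Flat (MoreMor.fiberMap f g s) := by
  let e : pullback f (g.fiberι s) ≅ (f ≫ g).fiber s := pullbackRightPullbackFstIso g (S.fromSpecResidueField s) f
  have he : e.hom ≫ MoreMor.fiberMap f g s = pullback.snd f (g.fiberι s) := by
    apply pullback.hom_ext
    · rw [Category.assoc]
      erw [pullback.lift_fst, pullbackRightPullbackFstIso_hom_fst_assoc]
      exact pullback.condition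
    · rw [Category.assoc]
      erw [pullback.lift_snd, pullbackRightPullbackFstIso_hom_snd]
      rfl
  rw [← Iso.eq_inv_comp] at he
  rw [he]
  infer_instance

variable [LocallyOfFinitePresentation g] [LocallyOfFinitePresentation (f ≫ g)] [Flat (f ≫ g)]

theorem flat_at_of_fibres (h : ∀ s : S, Flat (pullback.snd f (g.fiberι s))) (x : X) :
    (g.stalkMap (f x)).hom.Flat ∧ (f.stalkMap x).hom.Flat := by
  refine ((Groth.Agent.FlatMor66.critere_scheme f g).1 x).1 ⟨Flat.stalkMap (f ≫ g) x, ?_⟩
  have := flat_fiberMap f g (g (f x)) (h _)
  exact Flat.stalkMap _ _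

theorem flat_of_fibres (h : ∀ s : S, Flat (pullback.snd f (g.fiberι s))) : Flat f :=
  (Flat.iff_flat_stalkMap f).2 fun x => (flat_at_of_fibres f g h x).2

omit [LocallyOfFinitePresentation g] [LocallyOfFinitePresentation (f ≫ g)] [Flat (f ≫ g)] in
theorem exists_fibre_factor {T : Scheme.{u}} (y : Y) (t : T ⟶ Spec (Y.residueField y)) :
    ∃ r : T ⟶ g.fiber (g y), r ≫ g.fiberι (g y) = t ≫ Y.fromSpecResidueField y :=
  ⟨pullback.lift (t ≫ Y.fromSpecResidueField y) (t ≫ Spec.map (g.residueFieldMap y))
    (by rw [Category.assoc, Category.assoc, Scheme.Hom.SpecMap_residueFieldMap_fromSpecResidueField]),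
    pullback.lift_fst _ _ _⟩

omit [LocallyOfFinitePresentation g] [LocallyOfFinitePresentation (f ≫ g)] [Flat (f ≫ g)] in
/-- A property stable under base change holds on the fibres of `f` when it holds on the maps of fibres. -/
theorem fibre_of_fibres (P : MorphismProperty Scheme.{u}) [P.IsStableUnderBaseChange] [P.RespectsIso]
    (h : ∀ s : S, P (pullback.snd f (g.fiberι s))) (y : Y) : P (f.fiberToSpecResidueField y) := by
  obtain ⟨r, hr⟩ := exists_fibre_factor g y (𝟙 _)
  rw [Category.id_comp] at hr
  have h1 : P (pullback.snd (pullback.snd f (g.fiberι (g y))) r) := MorphismProperty.pullback_snd _ _ (h _)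
  rw [← pullbackLeftPullbackSndIso_hom_snd, MorphismProperty.cancel_left_of_respectsIso (P := P)] at h1
  show P (pullback.snd f (Y.fromSpecResidueField y))
  have key : ∀ (w w' : Spec (Y.residueField y) ⟶ Y) [HasPullback f w], w = w' →
      P (pullback.snd f w) → P (pullback.snd f w') := by
    intro w w' _ e
    subst e
    exact id
  exact key _ _ hr h1

theorem smooth_of_fibres (h : ∀ s : S, Smooth (pullback.snd f (g.fiberι s))) : Smooth f := by
  have : LocallyOfFinitePresentation f := SpPts86.lfp_of_comp f g
  have : Flat f := flat_of_fibres f g fun s => by have := h s; infer_instance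
  exact Smooth.of_smooth_fiberToSpecResidueField f (fibre_of_fibres f g @Smooth h)

theorem etale_of_fibres (h : ∀ s : S, Etale (pullback.snd f (g.fiberι s))) : Etale f := by
  have : LocallyOfFinitePresentation f := SpPts86.lfp_of_comp f g
  have : Flat f := flat_of_fibres f g fun s => by have := h s; infer_instance
  have : FormallyUnramified f := AlgGrp79.formallyUnramified_of_fiberToSpecResidueField f fun y => by
    have := fibre_of_fibres f g @Etale h y
    infer_instance
  exact Etale.of_formallyUnramified_of_flat f

theorem isOpenImmersion_of_fibres (h : ∀ s : S, IsOpenImmersion (pullback.snd f (g.fiberι s))) :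
    IsOpenImmersion f := by
  have : LocallyOfFinitePresentation f := SpPts86.lfp_of_comp f g
  have : Flat f := flat_of_fibres f g fun s => by have := h s; infer_instance
  have : UniversallyInjective f := ((tfae_universallyInjective f).out 0 1).2 <| by
    intro K hK a b hab
    let z := a (IsLocalRing.closedPoint K)
    let y := f z
    let t := a ≫ f
    have ht := Scheme.descResidueField_stalkClosedPointTo_fromSpecResidueField K Y t
    obtain ⟨r, hr⟩ := exists_fibre_factor g (t (IsLocalRing.closedPoint K)) (Spec.map (Y.descResidueField (Scheme.stalkClosedPointTo t)))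
    have hr' : r ≫ g.fiberι _ = a ≫ f := hr.trans ht
    have := h (g (t (IsLocalRing.closedPoint K)))
    let a' : Spec (CommRingCat.of K) ⟶ pullback f (g.fiberι (g (t (IsLocalRing.closedPoint K)))) :=
      pullback.lift a r hr'.symm
    let b' : Spec (CommRingCat.of K) ⟶ pullback f (g.fiberι (g (t (IsLocalRing.closedPoint K)))) :=
      pullback.lift b r (hab.symm.trans hr'.symm)
    have hab' : a' = b' := (cancel_mono (pullback.snd f (g.fiberι (g (t (IsLocalRing.closedPoint K)))))).1 (by
      simp [a', b'])
    simpa [a', b'] using congrArg (· ≫ pullback.fst f _) hab'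
  have : FormallyUnramified f := AlgGrp79.formallyUnramified_of_fiberToSpecResidueField f fun y => by
    have := fibre_of_fibres f g @IsOpenImmersion h y
    infer_instance
  have : Etale f := Etale.of_formallyUnramified_of_flat f
  have : Mono f := Unr55.mono_of_universallyInjective f inferInstance
  exact IsOpenImmersion.of_flat_of_mono f

theorem isIso_of_fibres (h : ∀ s : S, IsIso (pullback.snd f (g.fiberι s))) : IsIso f := by
  have : IsOpenImmersion f := isOpenImmersion_of_fibres f g fun s => by have := h s; infer_instance
  have : Surjective f := ⟨fun y => by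
    obtain ⟨r, hr⟩ := exists_fibre_factor g y (𝟙 _)
    have := h (g y)
    let c := IsLocalRing.closedPoint (Y.residueField y)
    refine ⟨pullback.fst f (g.fiberι (g y)) (inv (pullback.snd f (g.fiberι (g y))) (r c)), ?_⟩
    rw [← Scheme.Hom.comp_apply, pullback.condition, Scheme.Hom.comp_apply, ← Scheme.Hom.comp_apply (inv _),
      IsIso.inv_hom_id]
    show (r ≫ g.fiberι (g y)) c = y
    rw [hr, Category.id_comp, Scheme.fromSpecResidueField_apply]⟩
  exact (isIso_iff_isOpenImmersion_and_epi_base f).2 ⟨inferInstance, (TopCat.epi_iff_surjective _).2 f.surjective⟩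

end Groth.Agent.FlatMor67.FibreCrit
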