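import Mathlib.AlgebraicGeometry.Fiber
import Mathlib.AlgebraicGeometry.Morphisms.Finite
import Mathlib.AlgebraicGeometry.Morphisms.ClosedImmersion
import Mathlib.AlgebraicGeometry.Morphisms.UniversallyClosed
import Mathlib.AlgebraicGeometry.Morphisms.Integral
import Mathlib.RingTheory.LocalRing.Module
import Mathlib.RingTheory.Support

/-! A morphism is a closed immersion near a point iff it is universally closed nearby and the fibre
is empty or a reduced point with trivial residue extension. -/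

set_option autoImplicit false
set_option backward.isDefEq.respectTransparency.types false
set_option linter.style.haveILetI false

universe u

open CategoryTheory Limits AlgebraicGeometry TensorProduct TopologicalSpace

namespace Groth.Agent.FlatMor67.ClosedNhd

/-- A finite algebra whose fibre at `p` is `κ(p)` is a quotient of the base near `p`. -/
theorem exists_surj_away {A B : Type u} [CommRing A] [CommRing B] [Algebra A B] [Module.Finite A B]
    (p : PrimeSpectrum A) (h : Function.Surjective (algebraMap p.asIdeal.ResidueField (p.asIdeal.Fiber B))) :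
    ∃ r ∉ p.asIdeal, ∀ b : B, ∃ a : A, algebraMap A B r * b = algebraMap A B a := by
  let R : Submodule A B := LinearMap.range (Algebra.linearMap A B)
  let π : B →ₗ[A] B ⧸ R := R.mkQ
  have hπ : Function.Surjective (π.lTensor p.asIdeal.ResidueField) :=
    LinearMap.lTensor_surjective _ R.mkQ_surjective
  have : Subsingleton (p.asIdeal.ResidueField ⊗[A] (B ⧸ R)) := by
    refine subsingleton_of_forall_eq 0 fun q => ?_
    obtain ⟨z, rfl⟩ := hπ q
    obtain ⟨c, rfl⟩ := h z
    show π.lTensor p.asIdeal.ResidueField (c ⊗ₜ[A] (1 : B)) = 0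
    rw [LinearMap.lTensor_tmul]
    have : π 1 = 0 := (Submodule.Quotient.mk_eq_zero R).2 ⟨1, map_one (algebraMap A B)⟩
    rw [this, TensorProduct.tmul_zero]
  have hp : p ∉ Module.support A (B ⧸ R) := fun hp =>
    not_subsingleton_iff_nontrivial.2
      ((Module.mem_support_iff_nontrivial_residueField_tensorProduct p).1 hp) this
  rw [Module.support_eq_zeroLocus, PrimeSpectrum.mem_zeroLocus, Set.not_subset] at hp
  obtain ⟨r, hr, hrp⟩ := hp
  refine ⟨r, hrp, fun b => ?_⟩
  obtain ⟨a, ha⟩ := (Submodule.Quotient.mk_eq_zero R).1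
    ((Submodule.Quotient.mk_smul R r b).trans (Module.mem_annihilator.1 hr _))
  exact ⟨a, by rw [← Algebra.smul_def]; exact ha.symm⟩

theorem closedImmersion_of_affine {X Y : Scheme.{u}} (f : X ⟶ Y) (W : Y.Opens) (hW : IsAffineOpen W)
    (hW' : IsAffineOpen (f ⁻¹ᵁ W)) (r : Γ(Y, W))
    (h : ∀ b : Γ(X, f ⁻¹ᵁ W), ∃ a : Γ(Y, W), f.app W r * b = f.app W a) :
    IsClosedImmersion (f ∣_ Y.basicOpen r) := by
  have : IsAffine (Y.basicOpen r) := hW.basicOpen r
  have : IsAffine (f ⁻¹ᵁ Y.basicOpen r).toScheme := by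
    rw [Scheme.preimage_basicOpen]
    exact hW'.basicOpen _
  refine IsClosedImmersion.of_surjective_of_isAffine _ ?_
  suffices Function.Surjective (f.app (Y.basicOpen r)) by
    have e : Arrow.mk (f ∣_ Y.basicOpen r).appTop ≅ Arrow.mk (f.app (Y.basicOpen r)) :=
      Arrow.isoMk (Y.basicOpen r).topIso (f ⁻¹ᵁ Y.basicOpen r).topIso
        (by simp [Scheme.Opens.topIso, Scheme.Hom.app_eq_appLE]
            erw [Scheme.Hom.map_appLE, Scheme.Hom.appLE_map])
    exact ((MorphismProperty.surjective CommRingCat).arrow_mk_iso_iff e).mpr this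
  intro z
  let : Algebra Γ(X, f ⁻¹ᵁ W) Γ(X, f ⁻¹ᵁ Y.basicOpen r) :=
    ((X.presheaf.map (homOfLE (f.preimage_mono (Y.basicOpen_le r))).op).hom).toAlgebra
  have : IsLocalization.Away (f.app W r) Γ(X, f ⁻¹ᵁ Y.basicOpen r) :=
    hW'.isLocalization_of_eq_basicOpen _ _ (Scheme.preimage_basicOpen f r)
  obtain ⟨b, ⟨_, n, rfl⟩, rfl⟩ := IsLocalization.exists_mk'_eq (.powers (f.app W r)) z
  obtain ⟨a, ha⟩ := h b
  have hnat : ∀ c, f.app (Y.basicOpen r) (algebraMap Γ(Y, W) Γ(Y, Y.basicOpen r) c) =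
      algebraMap Γ(X, f ⁻¹ᵁ W) Γ(X, f ⁻¹ᵁ Y.basicOpen r) (f.app W c) := fun c ↦
    congr($(f.naturality (homOfLE (Y.basicOpen_le r)).op) c)
  have := hW.isLocalization_basicOpen r
  refine ⟨IsLocalization.mk' _ a (⟨r ^ (1 + n), 1 + n, rfl⟩ : Submonoid.powers r), ?_⟩
  rw [IsLocalization.eq_mk'_iff_mul_eq, ← (IsLocalization.Away.algebraMap_isUnit
    (S := Γ(X, f ⁻¹ᵁ Y.basicOpen r)) (f.app W r)).pow 1 |>.mul_left_inj]
  rw [← map_pow (algebraMap Γ(X, f ⁻¹ᵁ W) _), ← map_mul, mul_assoc, ← map_mul, ← pow_add,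
    add_comm n 1, ← map_pow, ← hnat, ← map_mul, IsLocalization.mk'_spec, hnat, pow_one, mul_comm b]
  exact congrArg _ ha.symm

theorem exists_closedImmersion_nhd {X Y : Scheme.{u}} (f : X ⟶ Y) [LocallyOfFiniteType f] (y : Y)
    (h : IsEmpty ↥(f.fiber y) ∨ IsIso (f.fiberToSpecResidueField y))
    (V : Y.Opens) (hy : y ∈ V) [hV : UniversallyClosed (f ∣_ V)] :
    ∃ U : Y.Opens, y ∈ U ∧ IsClosedImmersion (f ∣_ U) := by
  have hclosed : ∀ C : Set X, IsClosed C → (∀ x ∈ C, f x ≠ y) →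
      ∃ U : Y.Opens, y ∈ U ∧ U ≤ V ∧ Disjoint (f ⁻¹' U) C := by
    intro C hC hCy
    have hcl : IsClosed ((f ∣_ V) '' ((f ⁻¹ᵁ V).ι ⁻¹' C)) :=
      (f ∣_ V).isClosedMap _ (hC.preimage (f ⁻¹ᵁ V).ι.continuous)
    refine ⟨V.ι ''ᵁ ⟨_, hcl.isOpen_compl⟩, ⟨⟨y, hy⟩, ?_, rfl⟩, V.ι_image_le _,
      Set.disjoint_left.2 fun x hx hxC => ?_⟩
    · rintro ⟨x, hxC, hx⟩
      refine hCy _ hxC ?_
      have := congrArg Subtype.val hx
      rwa [morphismRestrict_base_coe] at this
    · obtain ⟨⟨v, hv⟩, hv', hvx⟩ := hx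
      change v = f x at hvx
      subst hvx
      exact hv' ⟨⟨x, hv⟩, hxC, Subtype.ext (morphismRestrict_base_coe f V _)⟩
  rcases h with h | h
  · obtain ⟨U, hyU, -, hdisj⟩ := hclosed Set.univ isClosed_univ fun x _ hx =>
      h.elim ((f.fiberHomeo y).symm ⟨x, hx⟩)
    have : IsEmpty (f ⁻¹ᵁ U : Scheme.{u}) := ⟨fun x => Set.disjoint_left.1 hdisj x.2 trivial⟩
    exact ⟨U, hyU, inferInstance⟩
  have hbij : Function.Bijective (f.fiberToSpecResidueField y) :=
    (Scheme.homeoOfIso (asIso (f.fiberToSpecResidueField y))).bijective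
  obtain ⟨x₀, hx₀⟩ := hbij.2 default
  let x := f.fiberι y x₀
  have huniq : ∀ x' : X, f x' = y → x' = x := fun x' hx' => by
    have e := hbij.1 (Subsingleton.elim (α := PrimeSpectrum _)
      (f.fiberToSpecResidueField y ((f.fiberHomeo y).symm ⟨x', hx'⟩)) (f.fiberToSpecResidueField y x₀))
    rw [show x = f.fiberι y x₀ from rfl, ← e, Scheme.Hom.fiberι_fiberHomeo_symm]
  have hfx : f x = y := by
    have : x ∈ Set.range (f.fiberι y) := ⟨x₀, rfl⟩
    rwa [f.range_fiberι] at this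
  obtain ⟨W₀, hW₀, hyW₀, hW₀V⟩ := exists_isAffineOpen_mem_and_subset hy
  obtain ⟨U₀, hU₀, hxU₀, hU₀W⟩ := exists_isAffineOpen_mem_and_subset (show x ∈ f ⁻¹ᵁ W₀ by show f x ∈ W₀; rw [hfx]; exact hyW₀)
  obtain ⟨U₁, hyU₁, -, hdisj⟩ := hclosed (U₀ : Set X)ᶜ U₀.2.isClosed_compl fun x' hx' hx'y =>
    hx' (huniq x' hx'y ▸ hxU₀)
  obtain ⟨s, hs, hys⟩ := hW₀.exists_basicOpen_le (V := U₁) ⟨y, hyU₁⟩ hyW₀
  let W := Y.basicOpen s
  have hW : IsAffineOpen W := hW₀.basicOpen s
  have hpre : f ⁻¹ᵁ W = X.basicOpen ((f.appLE W₀ U₀ hU₀W) s) := by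
    rw [Scheme.basicOpen_appLE]
    refine (inf_eq_right.2 fun x' hx' => ?_).symm
    by_contra hne
    exact Set.disjoint_left.1 hdisj (hs hx') hne
  have hW' : IsAffineOpen (f ⁻¹ᵁ W) := hpre ▸ hU₀.basicOpen _
  have hWV : W ≤ V := (Y.basicOpen_le s).trans hW₀V
  have hfin : IsFinite (f ∣_ W) := by
    rw [IsFinite.iff_isIntegralHom_and_locallyOfFiniteType]
    refine ⟨IsIntegralHom.iff_universallyClosed_and_isAffineHom.2 ⟨?_, ?_⟩, inferInstance⟩
    · have e := morphismRestrictRestrict f V (V.ι ⁻¹ᵁ W)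
      have hU : UniversallyClosed (f ∣_ V ∣_ V.ι ⁻¹ᵁ W) := IsZariskiLocalAtTarget.restrict hV _
      have heq : V.ι ''ᵁ (V.ι ⁻¹ᵁ W) = W := by
        rw [Scheme.Hom.image_preimage_eq_opensRange_inf, Scheme.Opens.opensRange_ι]
        exact inf_eq_right.2 hWV
      have := (MorphismProperty.arrow_mk_iso_iff @UniversallyClosed e).1 hU
      rwa [heq] at this
    · have : IsAffine (f ⁻¹ᵁ W : Scheme.{u}) := hW'
      have : IsAffine (W : Scheme.{u}) := hW
      infer_instance
  have hfin' : (f.app W).hom.Finite := by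
    have : IsAffine (f ⁻¹ᵁ W : Scheme.{u}) := hW'
    have : IsAffine (W : Scheme.{u}) := hW
    have hle : f ⁻¹ᵁ W ≤ f ⁻¹ᵁ W := le_rfl
    have h1 := IsFinite.finite_app (f ∣_ W) _ (isAffineOpen_top W)
    have e : Arrow.mk ((f ∣_ W).app ⊤) ≅ Arrow.mk (f.app W) :=
      Arrow.isoMk W.topIso (f ⁻¹ᵁ W).topIso
        (by simp [Scheme.Opens.topIso, Scheme.Hom.app_eq_appLE]
            erw [Scheme.Hom.map_appLE, Scheme.Hom.appLE_map])
    exact (RingHom.finite_respectsIso.arrow_mk_iso_iff e).1 h1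
  let A := Γ(Y, W)
  let B := Γ(X, f ⁻¹ᵁ W)
  letI : Algebra A B := (f.app W).hom.toAlgebra
  haveI : Module.Finite A B := hfin'
  let p := hW.primeIdealOf ⟨y, hys⟩
  have hsq : IsPullback hW'.fromSpec (Spec.map (CommRingCat.ofHom (algebraMap A B))) f hW.fromSpec := by
    have hm := (isPullback_morphismRestrict f W).flip
    refine hm.of_iso hW'.isoSpec (Iso.refl _) hW.isoSpec (Iso.refl _) ?_ ?_ (by simp) (by simp)
    · simp [IsAffineOpen.isoSpec_hom]
    · have hsp : Spec.map (CommRingCat.ofHom (algebraMap A B)) ≫ hW.fromSpec = hW'.fromSpec ≫ f := by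
        show Spec.map (f.app W) ≫ _ = _
        rw [Scheme.Hom.app_eq_appLE, hW.SpecMap_appLE_fromSpec f hW']
      rw [← cancel_mono hW.fromSpec, Category.assoc, Category.assoc, hsp,
        IsAffineOpen.isoSpec_hom, IsAffineOpen.isoSpec_hom, IsAffineOpen.toSpecΓ_fromSpec,
        IsAffineOpen.toSpecΓ_fromSpec_assoc, morphismRestrict_ι]
  have hpt : hW.fromSpec p = y := hW.fromSpec_primeIdealOf _
  have hiso : IsIso ((Spec.map (CommRingCat.ofHom (algebraMap A B))).fiberToSpecResidueField p) := by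
    have hsq' := isPullback_fiberToSpecResidueField_of_isPullback hsq p
    have hi : IsIso (f.fiberToSpecResidueField (hW.fromSpec p)) := by rw [hpt]; exact h
    exact hsq'.isIso_snd_of_isIso (inst := hi)
  have hsurj : Function.Surjective (algebraMap p.asIdeal.ResidueField (p.asIdeal.Fiber B)) := by
    have e := Spec.fiberToSpecResidueFieldIso A B p
    have hi : IsIso (Spec.map (CommRingCat.ofHom (algebraMap p.asIdeal.ResidueField (p.asIdeal.Fiber B)))) :=
      (MorphismProperty.arrow_mk_iso_iff (MorphismProperty.isomorphisms Scheme) e).1 hiso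
    haveI : IsIso (Scheme.Spec.map (CommRingCat.ofHom (algebraMap p.asIdeal.ResidueField (p.asIdeal.Fiber B))).op) := hi
    haveI := isIso_of_reflects_iso
      (CommRingCat.ofHom (algebraMap p.asIdeal.ResidueField (p.asIdeal.Fiber B))).op Scheme.Spec
    haveI : IsIso (CommRingCat.ofHom (algebraMap p.asIdeal.ResidueField (p.asIdeal.Fiber B))) :=
      isIso_of_op _
    exact (ConcreteCategory.bijective_of_isIso
      (CommRingCat.ofHom (algebraMap p.asIdeal.ResidueField (p.asIdeal.Fiber B)))).2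
  obtain ⟨r, hr, hrb⟩ := exists_surj_away p hsurj
  refine ⟨Y.basicOpen r, ?_, closedImmersion_of_affine f W hW hW' r hrb⟩
  rw [Scheme.mem_basicOpen Y r y hys]
  letI := Y.presheaf.algebra_section_stalk ⟨y, hys⟩
  haveI := hW.isLocalization_stalk ⟨y, hys⟩
  exact (IsLocalization.AtPrime.isUnit_to_map_iff (Y.presheaf.stalk y) p.asIdeal r).mpr hr

theorem closedImmersion_nhd_iff {X Y : Scheme.{u}} (f : X ⟶ Y) [LocallyOfFiniteType f] (y : Y) :
    (∃ U : Y.Opens, y ∈ U ∧ IsClosedImmersion (f ∣_ U)) ↔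
      ((IsEmpty ↥(f.fiber y) ∨ IsIso (f.fiberToSpecResidueField y)) ∧
        ∃ V : Y.Opens, y ∈ V ∧ UniversallyClosed (f ∣_ V)) := by
  refine ⟨fun ⟨U, hy, hU⟩ => ⟨?_, U, hy, inferInstance⟩, fun ⟨h, V, hy, hV⟩ =>
    exists_closedImmersion_nhd f y h V hy (hV := hV)⟩
  by_cases hne : IsEmpty ↥(f.fiber y)
  · exact Or.inl hne
  right
  have hsq := isPullback_fiberToSpecResidueField_of_isPullback (isPullback_morphismRestrict f U).flip ⟨y, hy⟩
  have hci : IsClosedImmersion ((f ∣_ U).fiberToSpecResidueField ⟨y, hy⟩) :=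
    MorphismProperty.pullback_snd _ _ hU
  haveI hiso : IsIso (Spec.map (U.ι.residueFieldMap ⟨y, hy⟩)) := inferInstance
  haveI := hsq.isIso_fst_of_isIso
  have hci' : IsClosedImmersion (f.fiberToSpecResidueField (U.ι ⟨y, hy⟩)) := by
    have key : ∀ {P Q R : Scheme.{u}} (a : P ⟶ Q) (_ : IsIso a) (b : P ⟶ R) (c : Q ⟶ R),
        a ≫ c = b → IsClosedImmersion b → IsClosedImmersion c := by
      intro P Q R a ha b c e hb
      rw [← e] at hb
      exact (MorphismProperty.cancel_left_of_respectsIso @IsClosedImmersion a c).1 hb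
    exact key _ hsq.isIso_fst_of_isIso _ _ hsq.w
      ((MorphismProperty.cancel_right_of_respectsIso @IsClosedImmersion _ _).2 hci)
  change IsClosedImmersion (f.fiberToSpecResidueField y) at hci'
  haveI : Nonempty ↥(f.fiber y) := not_isEmpty_iff.1 hne
  haveI : Surjective (f.fiberToSpecResidueField y) :=
    ⟨fun z => ⟨Classical.arbitrary _, Subsingleton.elim (α := PrimeSpectrum _) _ _⟩⟩
  exact isIso_of_isClosedImmersion_of_surjective _

end Groth.Agent.FlatMor67.ClosedNhd
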