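import Groth.Agent.CAlgH2.LocalFibCrit
import Groth.Agent.FlatMor66.FibPointFT

/-!
The local fibre criterion of flatness for a module, the middle local algebra only essentially
of finite type over the base.
-/

set_option autoImplicit false
set_option linter.style.haveILetI false
universe u

open TensorProduct

namespace Groth.Agent.FlatMor67

theorem flat_quot_transfer {A B M : Type u} [CommRing A] [CommRing B] [Algebra A B] [AddCommGroup M]
    [Module A M] [Module B M] [IsScalarTower A B M] (hs : Function.Surjective (algebraMap A B))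
    (I : Ideal A) (J : Ideal B) (hJ : I.map (algebraMap A B) = J) (hker : RingHom.ker (algebraMap A B) ≤ I)
    (h : Module.Flat (B ⧸ J) (M ⧸ J • (⊤ : Submodule B M))) :
    Module.Flat (A ⧸ I) (M ⧸ I • (⊤ : Submodule A M)) := by
  letI : Algebra (A ⧸ I) (B ⧸ J) :=
    (Ideal.quotientMap J (algebraMap A B) (Ideal.map_le_iff_le_comap.mp hJ.le)).toAlgebra
  have hbij : Function.Bijective (algebraMap (A ⧸ I) (B ⧸ J)) := by
    refine ⟨Ideal.quotientMap_injective' ?_, Ideal.quotientMap_surjective hs⟩
    rw [← hJ, Ideal.comap_map_of_surjective _ hs, ← RingHom.ker_eq_comap_bot]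
    exact sup_le le_rfl hker
  haveI : Module.Flat (A ⧸ I) (B ⧸ J) := RingHom.Flat.of_bijective hbij
  letI : Module (A ⧸ I) (M ⧸ J • (⊤ : Submodule B M)) := Module.compHom _ (algebraMap (A ⧸ I) (B ⧸ J))
  haveI : IsScalarTower (A ⧸ I) (B ⧸ J) (M ⧸ J • (⊤ : Submodule B M)) := .of_algebraMap_smul fun _ _ => rfl
  haveI : Module.Flat (A ⧸ I) (M ⧸ J • (⊤ : Submodule B M)) := Module.Flat.trans _ (B ⧸ J) _
  have heq : (J • (⊤ : Submodule B M)).restrictScalars A = I • (⊤ : Submodule A M) := by
    rw [← hJ, Ideal.smul_restrictScalars, Submodule.restrictScalars_top]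
  let e₀ : (M ⧸ I • (⊤ : Submodule A M)) ≃ₗ[A] M ⧸ (J • (⊤ : Submodule B M)).restrictScalars A :=
    Submodule.quotEquivOfEq _ _ heq.symm
  let e : (M ⧸ I • (⊤ : Submodule A M)) ≃ₗ[A ⧸ I] M ⧸ J • (⊤ : Submodule B M) :=
    { e₀.toAddEquiv with
      map_smul' := fun c x => by
        obtain ⟨c, rfl⟩ := Ideal.Quotient.mk_surjective c
        obtain ⟨x, rfl⟩ := Submodule.Quotient.mk_surjective _ x
        refine (congrArg (Submodule.Quotient.mk (p := J • (⊤ : Submodule B M))) (algebraMap_smul B c x).symm).trans ?_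
        rfl }
  exact Module.Flat.of_linearEquiv e

/-- A surjection onto `S` from a local algebra essentially of finite presentation with the same
closed fibre. -/
theorem exists_fp_local_model {R S : Type u} [CommRing R] [CommRing S] [IsLocalRing R] [IsLocalRing S] [Algebra R S]
    {n : ℕ} (π : MvPolynomial (Fin n) R →ₐ[R] S) (hπ : ∀ z : S, ∃ b t, IsUnit (π t) ∧ z * π t = π b) :
    ∃ (Sj : Type u) (_ : CommRing Sj) (_ : IsLocalRing Sj) (_ : Algebra R Sj) (L : Sj →ₐ[R] S),
      CAlgX.IsEssFinitePresentation R Sj ∧ Function.Surjective L ∧ IsLocalHom L.toRingHom ∧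
        RingHom.ker L.toRingHom ≤ (IsLocalRing.maximalIdeal R).map (algebraMap R Sj) := by
  classical
  let P := MvPolynomial (Fin n) R
  let m := IsLocalRing.maximalIdeal R
  let φ : P →+* MvPolynomial (Fin n) (R ⧸ m) := MvPolynomial.map (Ideal.Quotient.mk m)
  have hφ : Function.Surjective φ := MvPolynomial.map_surjective _ Ideal.Quotient.mk_surjective
  letI : Field (R ⧸ m) := Ideal.Quotient.field m
  obtain ⟨T', hT', hTs⟩ := (Submodule.fg_span_iff_fg_span_finset_subset (R := MvPolynomial (Fin n) (R ⧸ m))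
    (φ '' (RingHom.ker π : Set P))).mp (IsNoetherian.noetherian _)
  obtain ⟨T, hT, rfl⟩ := Finset.subset_set_image_iff.mp hT'
  let I : Ideal P := Ideal.span (T : Set P)
  have hI : I ≤ RingHom.ker π := Ideal.span_le.mpr hT
  have hK : RingHom.ker π ≤ I ⊔ m.map (algebraMap R P) := by
    intro x hx
    have h1 : φ x ∈ I.map φ := by
      rw [Ideal.map_span]
      have h2 : φ x ∈ Submodule.span (MvPolynomial (Fin n) (R ⧸ m)) (φ '' (RingHom.ker π : Set P)) :=
        Submodule.subset_span ⟨x, hx, rfl⟩
      rw [hTs, Finset.coe_image] at h2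
      exact h2
    have h3 : x ∈ (I.map φ).comap φ := h1
    rw [Ideal.comap_map_of_surjective φ hφ, ← RingHom.ker_eq_comap_bot] at h3
    have h4 : RingHom.ker φ = m.map (algebraMap R P) := by
      show RingHom.ker (MvPolynomial.map (Ideal.Quotient.mk m)) = _
      rw [MvPolynomial.ker_map, Ideal.mk_ker]
      rfl
    rwa [h4] at h3
  let Bj := P ⧸ I
  haveI : Algebra.FinitePresentation R Bj :=
    Algebra.FinitePresentation.quotient (Submodule.fg_span T.finite_toSet)
  let β : Bj →ₐ[R] S := Ideal.Quotient.liftₐ I π fun a ha => hI ha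
  let qj : Ideal Bj := (IsLocalRing.maximalIdeal S).comap β.toRingHom
  let Sj := Localization.AtPrime qj
  have hu : ∀ y : qj.primeCompl, IsUnit (β.toRingHom y) := fun y =>
    Classical.not_not.mp fun h => y.2 ((IsLocalRing.mem_maximalIdeal _).mpr h)
  let L : Sj →+* S := IsLocalization.lift hu
  have hL : ∀ x, L (algebraMap Bj Sj x) = β x := fun x => IsLocalization.lift_eq hu x
  have hLs : Function.Surjective L := by
    intro z
    obtain ⟨b, t, ht, hz⟩ := hπ z
    have htq : Ideal.Quotient.mk I t ∈ qj.primeCompl := fun h => by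
      have h' : π t ∈ IsLocalRing.maximalIdeal S := h
      exact (IsLocalRing.mem_maximalIdeal _).mp h' ht
    refine ⟨IsLocalization.mk' Sj (Ideal.Quotient.mk I b) ⟨Ideal.Quotient.mk I t, htq⟩, ?_⟩
    rw [IsLocalization.lift_mk'_spec]
    show π b = π t * z
    rw [← hz, mul_comm]
  have hlocL : IsLocalHom L := IsLocalHom.mk fun a ha => by
    obtain ⟨x, s, rfl⟩ := IsLocalization.exists_mk'_eq qj.primeCompl a
    have h1 : IsUnit (L (IsLocalization.mk' Sj x s) * L (algebraMap Bj Sj s)) := ha.mul (by rw [hL]; exact hu s)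
    rw [← map_mul, IsLocalization.mk'_spec, hL] at h1
    have hx : x ∈ qj.primeCompl := fun h => (IsLocalRing.mem_maximalIdeal _).mp h h1
    have h2 := IsLocalization.map_units Sj (⟨x, hx⟩ : qj.primeCompl)
    rw [show ((⟨x, hx⟩ : qj.primeCompl) : Bj) = x from rfl, ← IsLocalization.mk'_spec Sj x s] at h2
    exact isUnit_of_mul_isUnit_left h2
  have hker : RingHom.ker L ≤ m.map (algebraMap R Sj) := by
    intro a ha
    obtain ⟨x, s, rfl⟩ := IsLocalization.exists_mk'_eq qj.primeCompl a
    obtain ⟨p, rfl⟩ := Ideal.Quotient.mk_surjective x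
    have hp : π p = 0 := by
      have h1 := congrArg L (IsLocalization.mk'_spec Sj (Ideal.Quotient.mk I p) s)
      rw [map_mul, RingHom.mem_ker.mp ha, zero_mul, hL] at h1
      exact h1.symm
    have h2 : Ideal.Quotient.mk I p ∈ m.map (algebraMap R Bj) := by
      have h3 : Ideal.Quotient.mk I p ∈ (I ⊔ m.map (algebraMap R P)).map (Ideal.Quotient.mk I) :=
        Ideal.mem_map_of_mem _ (hK hp)
      rw [Ideal.map_sup, Ideal.map_quotient_self, bot_sup_eq, Ideal.map_map] at h3
      exact h3
    have h4 := Ideal.mem_map_of_mem (algebraMap Bj Sj) h2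
    rw [Ideal.map_map, ← IsScalarTower.algebraMap_eq] at h4
    rw [IsLocalization.mk'_eq_mul_mk'_one]
    exact Ideal.mul_mem_right _ _ h4
  have hcomm : ∀ r, L (algebraMap R Sj r) = algebraMap R S r := fun r => by
    rw [IsScalarTower.algebraMap_apply R Bj Sj, hL, AlgHom.commutes]
  exact ⟨Sj, inferInstance, inferInstance, inferInstance, { L with commutes' := hcomm },
    ⟨Bj, inferInstance, inferInstance, inferInstance, inferInstance, qj.primeCompl, inferInstance, inferInstance⟩,
    hLs, hlocL, hker⟩

/-- Fibrewise criterion of flatness: `S` is generated by the image of a polynomial ring up to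
localization, `S'` is essentially of finite presentation. -/
theorem fibre_criterion_essFT {R S S' M : Type u} [CommRing R] [CommRing S] [CommRing S']
    [IsLocalRing R] [IsLocalRing S] [IsLocalRing S'] [Algebra R S] [Algebra S S'] [Algebra R S']
    [IsScalarTower R S S'] [IsLocalHom (algebraMap R S)] [IsLocalHom (algebraMap S S')]
    {n : ℕ} (π : MvPolynomial (Fin n) R →ₐ[R] S) (hπ : ∀ z : S, ∃ b t, IsUnit (π t) ∧ z * π t = π b)
    (hS' : CAlgX.IsEssFinitePresentation R S')
    [AddCommGroup M] [Module S' M] [Module S M] [Module R M] [IsScalarTower S S' M] [IsScalarTower R S' M]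
    [IsScalarTower R S M] [Module.FinitePresentation S' M] [Nontrivial M] [Module.Flat R M]
    (hfib : Module.Flat (S ⧸ (IsLocalRing.maximalIdeal R).map (algebraMap R S))
      (M ⧸ (IsLocalRing.maximalIdeal R).map (algebraMap R S) • (⊤ : Submodule S M))) :
    Module.Flat R S ∧ Module.Flat S M := by
  classical
  suffices hSM : Module.Flat S M by
    haveI := hSM
    haveI : Module.Finite S' M := inferInstance
    haveI : Module.FaithfullyFlat S M := Groth.Agent.FlatCrit65.faithfullyFlat_of_isLocalHom (S' := S')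
    exact ⟨Groth.Agent.CAlgH2.flat_left_of_faithfullyFlat (M := M), hSM⟩
  obtain ⟨Sj, _, _, _, L, hSj, hLs, hlocL, hker⟩ := exists_fp_local_model π hπ
  letI : Algebra Sj S := L.toRingHom.toAlgebra
  haveI : IsScalarTower R Sj S := .of_algebraMap_eq fun r => (L.commutes r).symm
  haveI : IsLocalHom (algebraMap Sj S) := hlocL
  letI : Algebra Sj S' := ((algebraMap S S').comp L.toRingHom).toAlgebra
  haveI : IsScalarTower Sj S S' := .of_algebraMap_eq fun _ => rfl
  haveI : IsScalarTower R Sj S' := .of_algebraMap_eq fun r => by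
    rw [IsScalarTower.algebraMap_apply Sj S S', ← IsScalarTower.algebraMap_apply R Sj S,
      ← IsScalarTower.algebraMap_apply R S S']
  haveI : IsLocalHom (algebraMap Sj S') := by
    rw [IsScalarTower.algebraMap_eq Sj S S']; infer_instance
  haveI : IsLocalHom (algebraMap R Sj) := IsLocalHom.mk fun r hr => by
    have h := hr.map (algebraMap Sj S)
    rw [← IsScalarTower.algebraMap_apply] at h
    exact isUnit_of_map_unit (algebraMap R S) r h
  letI : Module Sj M := Module.compHom M L.toRingHom
  haveI : IsScalarTower Sj S M := .of_algebraMap_smul fun _ _ => rfl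
  haveI : IsScalarTower Sj S' M := .of_algebraMap_smul fun a x => by
    rw [IsScalarTower.algebraMap_apply Sj S S', algebraMap_smul, algebraMap_smul]
  haveI : IsScalarTower R Sj M := .of_algebraMap_smul fun r x => by
    rw [← algebraMap_smul S (algebraMap R Sj r) x, ← IsScalarTower.algebraMap_apply, algebraMap_smul]
  have hJ : ((IsLocalRing.maximalIdeal R).map (algebraMap R Sj)).map (algebraMap Sj S) =
      (IsLocalRing.maximalIdeal R).map (algebraMap R S) := by
    rw [Ideal.map_map, ← IsScalarTower.algebraMap_eq]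
  have hfj := flat_quot_transfer (A := Sj) (B := S) hLs _ _ hJ hker hfib
  obtain ⟨-, hflat⟩ := Groth.Agent.CAlgH2.fibre_criterion (R := R) (S := Sj) (S' := S') (M := M) hSj hS' hfj
  haveI := hflat
  exact Groth.Agent.FlatMor66.flat_of_flat_of_surjective (B' := Sj) (B := S) hLs

end Groth.Agent.FlatMor67

namespace Groth.Agent.FlatMor67

/-- Both directions of the fibrewise criterion. -/
theorem fibre_criterion_essFT_iff {R S S' M : Type u} [CommRing R] [CommRing S] [CommRing S']
    [IsLocalRing R] [IsLocalRing S] [IsLocalRing S'] [Algebra R S] [Algebra S S'] [Algebra R S']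
    [IsScalarTower R S S'] [IsLocalHom (algebraMap R S)] [IsLocalHom (algebraMap S S')]
    {n : ℕ} (π : MvPolynomial (Fin n) R →ₐ[R] S) (hπ : ∀ z : S, ∃ b t, IsUnit (π t) ∧ z * π t = π b)
    (hS' : CAlgX.IsEssFinitePresentation R S')
    [AddCommGroup M] [Module S' M] [Module S M] [Module R M] [IsScalarTower S S' M] [IsScalarTower R S' M]
    [IsScalarTower R S M] [Module.FinitePresentation S' M] [Nontrivial M] :
    (Module.Flat R M ∧ Module.Flat (S ⧸ (IsLocalRing.maximalIdeal R).map (algebraMap R S))
      (M ⧸ (IsLocalRing.maximalIdeal R).map (algebraMap R S) • (⊤ : Submodule S M))) ↔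
    (Module.Flat R S ∧ Module.Flat S M) := by
  refine ⟨fun h => ?_, fun h => ?_⟩
  · haveI := h.1
    exact fibre_criterion_essFT π hπ hS' h.2
  · haveI := h.1
    haveI := h.2
    refine ⟨Module.Flat.trans R S M, ?_⟩
    let J := (IsLocalRing.maximalIdeal R).map (algebraMap R S)
    exact Module.Flat.of_linearEquiv (M := (S ⧸ J) ⊗[S] M)
      (LinearEquiv.extendScalarsOfSurjective Ideal.Quotient.mk_surjective
        (TensorProduct.quotTensorEquivQuotSMul M J)).symm

end Groth.Agent.FlatMor67
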