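import Groth.Agent.FlatMor66.FibCritScheme
import Groth.Prelude.Def_CAlgX

/-!
Stalks of morphisms locally of finite type / presentation as essentially finite algebras.
-/

set_option autoImplicit false
set_option linter.style.haveILetI false
universe u

open AlgebraicGeometry CategoryTheory TensorProduct

attribute [local instance] Algebra.TensorProduct.rightAlgebra

namespace Groth.Agent.FlatMor67

theorem essFP_of_localizations {A C Ar L : Type u} [CommRing A] [CommRing C] [CommRing Ar] [CommRing L]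
    [Algebra A C] [Algebra.FinitePresentation A C] (M : Submonoid A) [Algebra A Ar] [IsLocalization M Ar]
    (N : Submonoid C) [Algebra C L] [IsLocalization N L] [Algebra Ar L] [Algebra A L]
    [IsScalarTower A C L] [IsScalarTower A Ar L] (hMN : ∀ a ∈ M, algebraMap A C a ∈ N) :
    CAlgX.IsEssFinitePresentation Ar L := by
  let f : Ar ⊗[A] C →ₐ[Ar] L :=
    Algebra.TensorProduct.lift (Algebra.ofId Ar L) (IsScalarTower.toAlgHom A C L) fun _ _ => Commute.all _ _
  letI : Algebra (Ar ⊗[A] C) L := f.toRingHom.toAlgebra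
  haveI : IsScalarTower Ar (Ar ⊗[A] C) L := .of_algebraMap_eq fun r => (f.commutes r).symm
  haveI : IsScalarTower C (Ar ⊗[A] C) L := .of_algebraMap_eq fun c => by
    show algebraMap C L c = f (1 ⊗ₜ c)
    simp [f]
  have hle : Algebra.algebraMapSubmonoid C M ≤ N := by
    rintro _ ⟨a, ha, rfl⟩
    exact hMN a ha
  exact ⟨Ar ⊗[A] C, inferInstance, inferInstance, inferInstance, inferInstance,
    N.map (algebraMap C (Ar ⊗[A] C)), inferInstance,
    IsLocalization.isLocalization_of_submonoid_le _ L (Algebra.algebraMapSubmonoid C M) N hle⟩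

theorem exists_gen_of_localization {A B Ar L : Type u} [CommRing A] [CommRing B] [CommRing Ar] [CommRing L]
    [Algebra A B] [Algebra.FiniteType A B] [Algebra A Ar] (N : Submonoid B) [Algebra B L] [IsLocalization N L]
    [Algebra Ar L] [Algebra A L] [IsScalarTower A B L] [IsScalarTower A Ar L] :
    ∃ (n : ℕ) (π : MvPolynomial (Fin n) Ar →ₐ[Ar] L), ∀ z : L, ∃ b t, IsUnit (π t) ∧ z * π t = π b := by
  obtain ⟨n, π₀, hπ₀⟩ := Algebra.FiniteType.iff_quotient_mvPolynomial''.mp ‹Algebra.FiniteType A B›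
  refine ⟨n, MvPolynomial.aeval fun i => algebraMap B L (π₀ (MvPolynomial.X i)), fun z => ?_⟩
  have key : ∀ p : MvPolynomial (Fin n) A,
      MvPolynomial.aeval (fun i => algebraMap B L (π₀ (MvPolynomial.X i)))
        (MvPolynomial.map (algebraMap A Ar) p) = algebraMap B L (π₀ p) := fun p => by
    rw [MvPolynomial.aeval_map_algebraMap]
    exact DFunLike.congr_fun (MvPolynomial.algHom_ext (A := L) fun i => by simp :
      MvPolynomial.aeval (fun i => algebraMap B L (π₀ (MvPolynomial.X i))) =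
        (IsScalarTower.toAlgHom A B L).comp π₀) p
  obtain ⟨⟨b, t⟩, hz⟩ := IsLocalization.surj N z
  obtain ⟨p, rfl⟩ := hπ₀ b
  obtain ⟨q, hq⟩ := hπ₀ t
  refine ⟨MvPolynomial.map (algebraMap A Ar) p, MvPolynomial.map (algebraMap A Ar) q, ?_, ?_⟩
  · rw [key, hq]
    exact IsLocalization.map_units L t
  · rw [key, key, hq]
    exact hz

variable {X S : Scheme.{u}}

theorem essFP_stalk (h : X ⟶ S) [LocallyOfFinitePresentation h] (x : X) :
    letI := (h.stalkMap x).hom.toAlgebra
    CAlgX.IsEssFinitePresentation (S.presheaf.stalk (h x)) (X.presheaf.stalk x) := by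
  letI := (h.stalkMap x).hom.toAlgebra
  obtain ⟨V, hV, hxV, -⟩ := exists_isAffineOpen_mem_and_subset (show h x ∈ (⊤ : S.Opens) from trivial)
  obtain ⟨W, hW, hxW, e⟩ := exists_isAffineOpen_mem_and_subset (show x ∈ h ⁻¹ᵁ V from hxV)
  letI := (h.appLE V W e).hom.toAlgebra
  haveI : Algebra.FinitePresentation Γ(S, V) Γ(X, W) :=
    LocallyOfFinitePresentation.finitePresentation_appLE h hV hW e
  letI := TopCat.Presheaf.algebra_section_stalk X.presheaf ⟨x, hxW⟩
  letI := TopCat.Presheaf.algebra_section_stalk S.presheaf ⟨h x, e hxW⟩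
  haveI : IsLocalization.AtPrime (X.presheaf.stalk x) (hW.primeIdealOf ⟨x, hxW⟩).asIdeal :=
    hW.isLocalization_stalk ⟨x, hxW⟩
  haveI : IsLocalization.AtPrime (S.presheaf.stalk (h x)) (hV.primeIdealOf ⟨h x, e hxW⟩).asIdeal :=
    hV.isLocalization_stalk ⟨h x, e hxW⟩
  letI : Algebra Γ(S, V) (X.presheaf.stalk x) :=
    ((algebraMap Γ(X, W) (X.presheaf.stalk x)).comp (h.appLE V W e).hom).toAlgebra
  haveI : IsScalarTower Γ(S, V) Γ(X, W) (X.presheaf.stalk x) := .of_algebraMap_eq fun _ => rfl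
  haveI : IsScalarTower Γ(S, V) (S.presheaf.stalk (h x)) (X.presheaf.stalk x) :=
    .of_algebraMap_eq fun a => (FlatMor66.stalkMap_germ_appLE h e hxW a).symm
  refine essFP_of_localizations (C := Γ(X, W)) (hV.primeIdealOf ⟨h x, e hxW⟩).asIdeal.primeCompl
    (hW.primeIdealOf ⟨x, hxW⟩).asIdeal.primeCompl fun a ha hm => ha ?_
  rw [FlatMor66.primeIdealOf_image h hV hW e hxW]
  exact hm

theorem exists_gen_stalk (g : X ⟶ S) [LocallyOfFiniteType g] (x : X) :
    letI := (g.stalkMap x).hom.toAlgebra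
    ∃ (n : ℕ) (π : MvPolynomial (Fin n) (S.presheaf.stalk (g x)) →ₐ[S.presheaf.stalk (g x)] X.presheaf.stalk x),
      ∀ z, ∃ b t, IsUnit (π t) ∧ z * π t = π b := by
  letI := (g.stalkMap x).hom.toAlgebra
  obtain ⟨V, hV, hxV, -⟩ := exists_isAffineOpen_mem_and_subset (show g x ∈ (⊤ : S.Opens) from trivial)
  obtain ⟨W, hW, hxW, e⟩ := exists_isAffineOpen_mem_and_subset (show x ∈ g ⁻¹ᵁ V from hxV)
  letI := (g.appLE V W e).hom.toAlgebra
  haveI : Algebra.FiniteType Γ(S, V) Γ(X, W) := LocallyOfFiniteType.finiteType_appLE g hV hW e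
  letI := TopCat.Presheaf.algebra_section_stalk X.presheaf ⟨x, hxW⟩
  letI := TopCat.Presheaf.algebra_section_stalk S.presheaf ⟨g x, e hxW⟩
  haveI : IsLocalization.AtPrime (X.presheaf.stalk x) (hW.primeIdealOf ⟨x, hxW⟩).asIdeal :=
    hW.isLocalization_stalk ⟨x, hxW⟩
  letI : Algebra Γ(S, V) (X.presheaf.stalk x) :=
    ((algebraMap Γ(X, W) (X.presheaf.stalk x)).comp (g.appLE V W e).hom).toAlgebra
  haveI : IsScalarTower Γ(S, V) Γ(X, W) (X.presheaf.stalk x) := .of_algebraMap_eq fun _ => rfl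
  haveI : IsScalarTower Γ(S, V) (S.presheaf.stalk (g x)) (X.presheaf.stalk x) :=
    .of_algebraMap_eq fun a => (FlatMor66.stalkMap_germ_appLE g e hxW a).symm
  exact exists_gen_of_localization (A := Γ(S, V)) (B := Γ(X, W)) (hW.primeIdealOf ⟨x, hxW⟩).asIdeal.primeCompl

end Groth.Agent.FlatMor67
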