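import Groth.Agent.CAlg6.FlatHartogs
import Mathlib.LinearAlgebra.Dual.Lemmas
import Mathlib.Algebra.Module.FinitePresentation

/-!
The Hartogs property of modules for a family of elements missing no height-one prime, and the comparison of
modules with this property which are isomorphic away from their common zero locus.
-/

set_option autoImplicit false
set_option maxHeartbeats 400000

universe u

open scoped TensorProduct

namespace Groth.Agent.FlatMor67.HartAlg

variable {R : Type u} [CommRing R] {ι : Type u} [Fintype ι] (f : ι → R)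

/-- Sections over the union of the `D(f i)` extend uniquely. -/
structure Hart (N : Type*) [AddCommGroup N] [Module R N] : Prop where
  inj : ∀ (n : ℕ) (x : N), (∀ i, f i ^ n • x = 0) → x = 0
  surj : ∀ (n : ℕ) (m : ι → N), (∀ i j, f j ^ n • m i = f i ^ n • m j) → ∃ x, ∀ i, f i ^ n • x = m i

theorem hart_of_flat [IsNoetherianRing R]
    (hnor : ∀ (p : Ideal R) [p.IsPrime], IsDomain (Localization.AtPrime p) ∧ IsIntegrallyClosed (Localization.AtPrime p))
    (hf : ∀ p : Ideal R, p.IsPrime → p.height ≤ 1 → ∃ i, f i ∉ p)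
    (M : Type u) [AddCommGroup M] [Module R M] [Module.Flat R M] : Hart f M :=
  ⟨CAlg6.FlatHartogs.module_inj hnor f hf, CAlg6.FlatHartogs.module_surj hnor f hf⟩

variable {f}

section
variable {N N' : Type*} [AddCommGroup N] [Module R N] [AddCommGroup N'] [Module R N']

omit [Fintype ι] in
theorem Hart.of_equiv (h : Hart f N) (e : N ≃ₗ[R] N') : Hart f N' where
  inj n x hx := e.symm.injective (by
    rw [map_zero]; exact h.inj n _ fun i => by rw [← map_smul, hx i, map_zero])
  surj n m hm := by
    obtain ⟨x, hx⟩ := h.surj n (fun i => e.symm (m i)) fun i j => by rw [← map_smul, hm, map_smul]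
    exact ⟨e x, fun i => by rw [← map_smul, hx, e.apply_symm_apply]⟩

omit [Fintype ι] in
theorem Hart.ker (h : Hart f N) (h' : Hart f N') (u : N →ₗ[R] N') : Hart f (LinearMap.ker u) where
  inj n x hx := Subtype.ext (h.inj n x.1 fun i => congrArg Subtype.val (hx i))
  surj n m hm := by
    obtain ⟨x, hx⟩ := h.surj n (fun i => (m i).1) fun i j => congrArg Subtype.val (hm i j)
    refine ⟨⟨x, LinearMap.mem_ker.2 (h'.inj n _ fun i => ?_)⟩, fun i => Subtype.ext (hx i)⟩
    rw [← map_smul, hx]
    exact (m i).2

omit [Fintype ι] in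
theorem Hart.linearMap (h : Hart f N') : Hart f (N →ₗ[R] N') where
  inj n x hx := LinearMap.ext fun a => h.inj n (x a) fun i => LinearMap.congr_fun (hx i) a
  surj n m hm := by
    choose x hx using fun a => h.surj n (fun i => m i a) fun i j => LinearMap.congr_fun (hm i j) a
    refine ⟨⟨⟨x, fun a b => ?_⟩, fun c a => ?_⟩, fun i => LinearMap.ext fun a => hx a i⟩
    · refine sub_eq_zero.1 (h.inj n _ fun i => ?_)
      rw [smul_sub, smul_add, hx, hx, hx, map_add, sub_self]
    · refine sub_eq_zero.1 (h.inj n _ fun i => ?_)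
      rw [RingHom.id_apply, smul_sub, hx, smul_comm, hx, map_smul, sub_self]

/-- A map between Hartogs modules which is bijective away from the zero locus of the `f i` is bijective. -/
theorem bijective_of_killed (h : Hart f N) (h' : Hart f N') (θ : N →ₗ[R] N')
    (hker : ∀ i x, θ x = 0 → ∃ k : ℕ, f i ^ k • x = 0)
    (hcoker : ∀ i y, ∃ (k : ℕ) (x : N), θ x = f i ^ k • y) : Function.Bijective θ := by
  have hi : ∀ x, θ x = 0 → x = 0 := fun x hx => by
    choose k hk using fun i => hker i x hx
    refine h.inj (Finset.univ.sup k) x fun i => ?_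
    obtain ⟨d, hd⟩ := Nat.exists_eq_add_of_le (Finset.le_sup (f := k) (Finset.mem_univ i))
    rw [hd, add_comm, pow_add, mul_smul, hk, smul_zero]
  refine ⟨(injective_iff_map_eq_zero θ).2 hi, fun y => ?_⟩
  choose k x hx using fun i => hcoker i y
  let K := Finset.univ.sup k
  have hK : ∀ i, θ (f i ^ (K - k i) • x i) = f i ^ K • y := fun i => by
    rw [map_smul, hx, ← mul_smul, ← pow_add, Nat.sub_add_cancel (Finset.le_sup (f := k) (Finset.mem_univ i))]
  obtain ⟨z, hz⟩ := h.surj K (fun i => f i ^ (K - k i) • x i) fun i j => by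
    refine sub_eq_zero.1 (hi _ ?_)
    rw [map_sub, map_smul θ (f j ^ K), map_smul θ (f i ^ K), hK, hK, smul_comm, sub_self]
  refine ⟨z, sub_eq_zero.1 (h'.inj K _ fun i => ?_)⟩
  rw [smul_sub, ← map_smul, hz, hK, sub_self]

end

section Reflexive

variable [IsNoetherianRing R]
    (hnor : ∀ (p : Ideal R) [p.IsPrime], IsDomain (Localization.AtPrime p) ∧ IsIntegrallyClosed (Localization.AtPrime p))
    (hf : ∀ p : Ideal R, p.IsPrime → p.height ≤ 1 → ∃ i, f i ∉ p)
    (M : Type u) [AddCommGroup M] [Module R M] [Module.Finite R M]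

/-- After multiplication by a power of `g`, the identity factors through a finite free module. -/
def NearFree (g : R) : Prop :=
  ∃ (r k : ℕ) (φ : Fin r → Module.Dual R M) (m : Fin r → M), ∀ x, g ^ k • x = ∑ j, φ j x • m j

theorem nearFree_of_isLocalizedModule {M' : Type u} [AddCommGroup M'] [Module R M'] {g : R}
    {Rg : Type u} [CommRing Rg] [Algebra R Rg] [IsLocalization.Away g Rg] [Module Rg M'] [IsScalarTower R Rg M']
    (l : M →ₗ[R] M') [IsLocalizedModule (Submonoid.powers g) l] [Module.Free Rg M'] [Module.Finite Rg M'] :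
    NearFree M g := by
  classical
  have : Module.FinitePresentation R M := Module.finitePresentation_of_finite R M
  obtain ⟨r, b⟩ : ∃ r : ℕ, Nonempty (Module.Basis (Fin r) Rg M') := by
    let b₀ := Module.Free.chooseBasis Rg M'
    exact ⟨_, ⟨b₀.reindex (Fintype.equivFin _)⟩⟩
  obtain ⟨b⟩ := b
  choose φ s hφ using fun j => Module.FinitePresentation.exists_lift_of_isLocalizedModule
    (Submonoid.powers g) (Algebra.linearMap R Rg) ((b.coord j).restrictScalars R ∘ₗ l)
  choose mb hmb using fun j => IsLocalizedModule.surj (Submonoid.powers g) l (b j)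
  let t : Submonoid.powers g := (∏ j, s j) * ∏ j, (mb j).2
  let φ' : Fin r → Module.Dual R M := fun j => ((∏ i ∈ Finset.univ.erase j, (s i : R)) *
    ∏ i ∈ Finset.univ.erase j, ((mb i).2 : R)) • φ j
  have key : ∀ x, l ((t : R) • x) = l (∑ j, φ' j x • (mb j).1) := fun x => by
    rw [map_smul, map_sum]
    conv_lhs => rw [← b.sum_repr (l x), Finset.smul_sum]
    refine Finset.sum_congr rfl fun j _ => ?_
    have h1 : (algebraMap R Rg) (φ j x) = (s j : R) • b.coord j (l x) := LinearMap.congr_fun (hφ j) x
    rw [map_smul, ← hmb j, ← algebraMap_smul Rg (φ' j x), ← algebraMap_smul Rg (t : R)]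
    simp only [φ', LinearMap.smul_apply, smul_eq_mul, map_mul, h1]
    rw [Submonoid.smul_def, ← algebraMap_smul Rg ((mb j).2 : R) (b j), ← mul_smul, ← mul_smul, Algebra.smul_def,
      Module.Basis.coord_apply]
    congr 1
    simp only [t, Submonoid.coe_mul, Submonoid.coe_finsetProd, map_mul]
    rw [← Finset.mul_prod_erase Finset.univ (fun i => (s i : R)) (Finset.mem_univ j),
      ← Finset.mul_prod_erase Finset.univ (fun i => ((mb i).2 : R)) (Finset.mem_univ j), map_mul, map_mul]
    ring
  obtain ⟨G, hG⟩ := Module.Finite.fg_top (R := R) (M := M)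
  choose u hu using fun x => (IsLocalizedModule.eq_iff_exists (Submonoid.powers g) l).1 (key x)
  obtain ⟨k, hk⟩ := ((∏ x ∈ G, u x) * t).2
  refine ⟨r, k, fun j => ((∏ x ∈ G, u x : Submonoid.powers g) : R) • φ' j, fun j => (mb j).1, fun x => ?_⟩
  have hx : x ∈ Submodule.span R (G : Set M) := hG ▸ Submodule.mem_top
  change g ^ k = _ at hk
  rw [hk, Submonoid.coe_mul, mul_smul]
  simp only [LinearMap.smul_apply, smul_eq_mul, mul_smul, ← Finset.smul_sum]
  induction hx using Submodule.span_induction with
  | mem y hy =>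
    obtain ⟨d, hd⟩ := Finset.dvd_prod_of_mem u hy
    rw [hd, Submonoid.coe_mul, mul_comm, mul_smul, mul_smul]
    congr 1
    simpa only [Submonoid.smul_def] using hu y
  | zero => simp
  | add a b _ _ ha hb =>
    simp only [map_add, add_smul, smul_add, Finset.sum_add_distrib] at ha hb ⊢
    rw [ha, hb]
  | smul c a _ ha =>
    simp only [map_smul, smul_eq_mul, mul_smul, ← Finset.smul_sum] at ha ⊢
    rw [smul_comm _ c, smul_comm _ c, ha, smul_comm c]

include hnor hf in
omit [Module.Finite R M] in
theorem eval_bijective (hM : Hart f M) (hfree : ∀ i, NearFree M (f i)) :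
    Function.Bijective (Module.Dual.eval R M) := by
  refine bijective_of_killed hM (hart_of_flat f hnor hf R).linearMap _ (fun i x hx => ?_) fun i ξ => ?_
  · obtain ⟨r, k, φ, m, h⟩ := hfree i
    refine ⟨k, (h x).trans (Finset.sum_eq_zero fun j _ => ?_)⟩
    have : φ j x = 0 := LinearMap.congr_fun hx (φ j)
    rw [this, zero_smul]
  · obtain ⟨r, k, φ, m, h⟩ := hfree i
    refine ⟨k, ∑ j, ξ (φ j) • m j, LinearMap.ext fun ψ => ?_⟩
    have hψ : f i ^ k • ψ = ∑ j, ψ (m j) • φ j := LinearMap.ext fun x => by
      rw [LinearMap.smul_apply, ← map_smul, h, map_sum, LinearMap.sum_apply]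
      refine Finset.sum_congr rfl fun j _ => ?_
      rw [map_smul, LinearMap.smul_apply, smul_eq_mul, smul_eq_mul, mul_comm]
    simp only [map_sum, map_smul, LinearMap.sum_apply, LinearMap.smul_apply, Module.Dual.eval_apply, smul_eq_mul]
    rw [← smul_eq_mul (f i ^ k), ← map_smul ξ, hψ, map_sum]
    exact Finset.sum_congr rfl fun j _ => by rw [map_smul, smul_eq_mul, mul_comm]

include hnor hf in
/-- A reflexive-type module stays Hartogs after flat base change. -/
theorem hart_tensor (hM : Hart f M) (hfree : ∀ i, NearFree M (f i)) (B : Type u) [AddCommGroup B] [Module R B]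
    [Module.Flat R B] : Hart f (B ⊗[R] M) := by
  obtain ⟨n, p, hp⟩ := Module.Finite.exists_fin' R (Module.Dual R M)
  obtain ⟨m, q, hq⟩ := Module.Finite.exists_fin' R (LinearMap.ker p)
  let q' : (Fin m → R) →ₗ[R] (Fin n → R) := (LinearMap.ker p).subtype ∘ₗ q
  have hex : Function.Exact p.dualMap q'.dualMap := by
    rw [LinearMap.exact_iff, LinearMap.ker_dualMap_eq_dualAnnihilator_range,
      LinearMap.range_dualMap_eq_dualAnnihilator_ker_of_surjective _ hp]
    congr 1
    rw [LinearMap.range_comp, LinearMap.range_eq_top.2 hq, Submodule.map_top, Submodule.range_subtype]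
  let u : M →ₗ[R] Module.Dual R (Fin n → R) := p.dualMap ∘ₗ Module.Dual.eval R M
  have hu : Function.Injective u :=
    (LinearMap.dualMap_injective_of_surjective hp).comp (eval_bijective hnor hf M hM hfree).1
  have hux : Function.Exact u q'.dualMap := by
    intro z
    rw [hex z]
    exact ((eval_bijective hnor hf M hM hfree).2.range_comp _).symm ▸ Iff.rfl
  have h1 := Module.Flat.lTensor_preserves_injective_linearMap (M := B) u hu
  have h2 := Module.Flat.lTensor_exact B hux
  let e : (B ⊗[R] M) ≃ₗ[R] LinearMap.ker (q'.dualMap.lTensor B) :=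
    (LinearEquiv.ofInjective _ h1).trans (LinearEquiv.ofEq _ _ (LinearMap.exact_iff.1 h2).symm)
  exact ((hart_of_flat f hnor hf _).ker (hart_of_flat f hnor hf _) _).of_equiv e.symm

end Reflexive

end Groth.Agent.FlatMor67.HartAlg
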