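import Groth.Agent.FlatMor67.SpreadBasis
import Groth.Agent.FlatMor67.HartAlg
import Groth.Agent.Desc59.ModDesc
import Groth.Agent.RB70.Coherent
import Groth.Agent.Coh69.Grothendieck
import Groth.Agent.Props58.LocFree.Affine
import Groth.Agent.LimTop61.LocFreeStage
import Groth.Prelude.Def_Pi1

/-!
A finite locally free module on a flat proper scheme over a normal Noetherian base which is free over the local
rings of dimension at most one comes from the base.
-/

set_option autoImplicit false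
set_option maxSynthPendingDepth 6
set_option synthInstance.maxHeartbeats 200000
set_option maxHeartbeats 800000
set_option linter.style.haveILetI false
set_option backward.isDefEq.respectTransparency.types false

universe u

noncomputable section

open CategoryTheory CategoryTheory.Limits AlgebraicGeometry TopologicalSpace Opposite TensorProduct
open Groth.Agent.QC70 Groth.Agent.Props58.LocFree Groth.Agent.FlatMor67.HartAlg

namespace Groth.Agent.FlatMor67.DescFree

/-- The direct image of a coherent module along a proper morphism is coherent. -/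
theorem isCoh_pushforward {X S : Scheme.{u}} (f : X ⟶ S) [IsProper f] [IsLocallyNoetherian S]
    {M : X.Modules} (hM : Coh.IsCoh M) : Coh.IsCoh ((Scheme.Modules.pushforward f).obj M) :=
  haveI : HasInjectiveResolutions X.Modules := Coh69.modules_hasInjectiveResolutions X
  QC70.isCoh_of_iso ((Scheme.Modules.pushforward f).rightDerivedZeroIsoSelf.app M) (RB70.isCoh_rpush f M hM 0)

/-- A proper morphism with `f_*O = O` is surjective. -/
theorem surjective_of_app_bijective {X S : Scheme.{u}} (f : X ⟶ S) [IsProper f]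
    (hO : ∀ U : S.Opens, Function.Bijective (f.app U)) : Function.Surjective f := by
  intro s
  by_contra hs
  let W : S.Opens := ⟨(Set.range f)ᶜ, f.isClosedMap.isClosed_range.isOpen_compl⟩
  have hW : f ⁻¹ᵁ W = ⊥ := Opens.ext (Set.eq_empty_of_forall_notMem fun x hx => hx ⟨x, rfl⟩)
  have hsW : s ∈ W := hs
  haveI : Subsingleton Γ(X, f ⁻¹ᵁ W) := by
    rw [hW]
    exact CommRingCat.subsingleton_of_isTerminal X.sheaf.isTerminalOfEmpty
  have h1 : (1 : Γ(S, W)) = 0 := (hO W).1 (Subsingleton.elim _ _)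
  have := congrArg (S.presheaf.germ W s hsW) h1
  rw [map_one, map_zero] at this
  exact one_ne_zero this

variable {X S : Scheme.{u}} (f : X ⟶ S) [Flat f] (E : X.Modules)

/-- The good locus of the base. -/
def goodLocus : S.Opens :=
  ⨆ V : {V : S.Opens // ∃ (r : ℕ) (m : Fin r → Γ(E, f ⁻¹ᵁ V)), StalkBasis m}, V.1

theorem flat_sections (hE : FlatMod.IsFinLocFree E) {V : S.Opens} (hV : IsAffineOpen V) {W : X.Opens}
    (hW : IsAffineOpen W) (e : W ≤ f ⁻¹ᵁ V) :
    letI := ParaF26.FlatSec.mdl f E e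
    Module.Flat Γ(S, V) Γ(E, W) := by
  letI := ParaF26.FlatSec.mdl f E e
  letI := (f.appLE V W e).hom.toAlgebra
  haveI : IsScalarTower Γ(S, V) Γ(X, W) Γ(E, W) := IsScalarTower.of_algebraMap_smul fun r x => rfl
  haveI : Module.Flat Γ(S, V) Γ(X, W) := HasRingHomProperty.appLE @Flat f inferInstance ⟨V, hV⟩ ⟨W, hW⟩ e
  haveI := Props58.LocFree.isQuasicoherent_of_isFinLocFree hE
  haveI : Module.Projective Γ(X, W) Γ(E, W) := Props58.LocFree.projective_sections hE hW
  exact Module.Flat.trans Γ(S, V) Γ(X, W) Γ(E, W)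

variable {f E} {V : S.Opens} {ι : Type u} [Fintype ι] (g : ι → Γ(S, V))

section

variable [IsNoetherianRing Γ(S, V)]
  (hnor : ∀ (p : Ideal Γ(S, V)) [p.IsPrime], IsDomain (Localization.AtPrime p) ∧ IsIntegrallyClosed (Localization.AtPrime p))
  (hf : ∀ p : Ideal Γ(S, V), p.IsPrime → p.height ≤ 1 → ∃ i, g i ∉ p)
  (hE : FlatMod.IsFinLocFree E) (hV : IsAffineOpen V)

include hnor hf hE hV in
theorem hart_push : Hart g Γ((Scheme.Modules.pushforward f).obj E, V) := by
  let J := {W : X.Opens // IsAffineOpen W ∧ W ≤ f ⁻¹ᵁ V}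
  have hcov : f ⁻¹ᵁ V ≤ ⨆ W : J, W.1 := fun x hx => by
    obtain ⟨W, hW, hxW, hWV⟩ := exists_isAffineOpen_mem_and_subset hx
    exact Opens.mem_iSup.2 ⟨⟨W, hW, hWV⟩, hxW⟩
  have hH : ∀ W : J, letI := ParaF26.FlatSec.mdl f E W.2.2
      Hart g Γ(E, W.1) := fun W => by
    letI := ParaF26.FlatSec.mdl f E W.2.2
    haveI := flat_sections f E hE hV W.2.1 W.2.2
    exact hart_of_flat g hnor hf _
  have hres : ∀ (W : X.Opens) (e : W ≤ f ⁻¹ᵁ V) (a : Γ(S, V))
      (x : Γ((Scheme.Modules.pushforward f).obj E, V)),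
      res E e (show Γ(E, f ⁻¹ᵁ V) from a • x) = f.appLE V W e a • res E e (show Γ(E, f ⁻¹ᵁ V) from x) :=
    fun W e a x => res_smul e _ _
  constructor
  · intro n x hx
    refine section_ext' E (fun W : J => W.1) (fun W => W.2.2) hcov (show Γ(E, f ⁻¹ᵁ V) from x) 0 fun W => ?_
    letI := ParaF26.FlatSec.mdl f E W.2.2
    rw [res_zero]
    refine (hH W).inj n _ fun i => ?_
    refine (hres W.1 W.2.2 (g i ^ n) x).symm.trans ?_
    rw [hx i]
    exact res_zero _
  · intro n m hm
    have hloc : ∀ W : J, ∃ z : Γ(E, W.1), ∀ i,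
        f.appLE V W.1 W.2.2 (g i ^ n) • z = res E W.2.2 (show Γ(E, f ⁻¹ᵁ V) from m i) := fun W => by
      letI := ParaF26.FlatSec.mdl f E W.2.2
      exact (hH W).surj n (fun i => res E W.2.2 (show Γ(E, f ⁻¹ᵁ V) from m i)) fun i j =>
        ((hres W.1 W.2.2 (g j ^ n) (m i)).symm.trans (congrArg (res E W.2.2) (hm i j))).trans
          (hres W.1 W.2.2 (g i ^ n) (m j))
    choose z hz using hloc
    let Sh : TopCat.Sheaf AddCommGrpCat.{u} X := ⟨E.presheaf, E.isSheaf⟩
    obtain ⟨y, hy, -⟩ := TopCat.Sheaf.existsUnique_gluing' Sh (fun W : J => W.1) (f ⁻¹ᵁ V)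
      (fun W => homOfLE W.2.2) hcov z (fun W W' => by
        show res E (inf_le_left : W.1 ⊓ W'.1 ≤ W.1) (z W) = res E (inf_le_right : W.1 ⊓ W'.1 ≤ W'.1) (z W')
        let J' := {T : X.Opens // IsAffineOpen T ∧ T ≤ W.1 ⊓ W'.1}
        refine section_ext' E (fun T : J' => T.1) (fun T => T.2.2) (fun x hx => ?_) _ _ fun T => ?_
        · obtain ⟨T, hT, hxT, hTW⟩ := exists_isAffineOpen_mem_and_subset hx
          exact Opens.mem_iSup.2 ⟨⟨T, hT, hTW⟩, hxT⟩
        rw [res_res, res_res]
        have e : T.1 ≤ f ⁻¹ᵁ V := T.2.2.trans (inf_le_left.trans W.2.2)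
        letI := ParaF26.FlatSec.mdl f E e
        refine sub_eq_zero.1 ((hH ⟨T.1, T.2.1, e⟩).inj n _ fun i => ?_)
        rw [smul_sub, sub_eq_zero]
        have key : ∀ (W : J) (h : T.1 ≤ W.1), f.appLE V T.1 e (g i ^ n) • res E h (z W) =
            res E e (show Γ(E, f ⁻¹ᵁ V) from m i) := fun W h => by
          rw [← res_res W.2.2 h, ← hz W i, res_smul]
          exact congrArg (· • res E h (z W))
            (ConcreteCategory.congr_hom (Scheme.Hom.appLE_map f W.2.2 (homOfLE h).op) (g i ^ n)).symm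
        exact (key W _).trans (key W' _).symm)
    refine ⟨y, fun i => section_ext' E (fun W : J => W.1) (fun W => W.2.2) hcov _ _ fun W => ?_⟩
    exact ((hres W.1 W.2.2 (g i ^ n) y).trans (congrArg (f.appLE V W.1 W.2.2 (g i ^ n) • ·) (hy W))).trans
      (hz W i)

end

omit [Flat f] in
theorem nearFree_push [((Scheme.Modules.pushforward f).obj E).IsQuasicoherent]
    (hO : ∀ U : S.Opens, Function.Bijective (f.app U)) (hV : IsAffineOpen V)
    [Module.Finite Γ(S, V) Γ((Scheme.Modules.pushforward f).obj E, V)] [IsNoetherianRing Γ(S, V)]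
    (a : Γ(S, V)) {V' : S.Opens} (hV' : S.basicOpen a ≤ V') {r : ℕ} {m : Fin r → Γ(E, f ⁻¹ᵁ V')}
    (hm : StalkBasis m) : NearFree Γ((Scheme.Modules.pushforward f).obj E, V) a := by
  let G := (Scheme.Modules.pushforward f).obj E
  letI := resAlg (S.basicOpen_le a)
  letI := resModule G (S.basicOpen_le a)
  haveI := isScalarTower_res G (S.basicOpen_le a)
  haveI := isLocalization_resAlg hV a
  haveI := isLocalizedModule_resLin G (isLocAt_of_isQuasicoherent G hV) a
  have hb := ((SpreadBasis.push_stalkBasis hO hm).bijective hV')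
  let l := Fintype.linearCombination Γ(S, S.basicOpen a)
    fun i => res G hV' (show Γ(G, V') from m i)
  have hl : Function.Bijective l := by
    have : ⇑l = fun c : Fin r → Γ(S, S.basicOpen a) => ∑ i, c i • res G hV' (show Γ(G, V') from m i) :=
      funext fun c => Fintype.linearCombination_apply _ _ _
    rw [this]
    exact hb
  haveI : Module.Free Γ(S, S.basicOpen a) Γ(G, S.basicOpen a) :=
    Module.Free.of_equiv (LinearEquiv.ofBijective l hl)
  haveI : Module.Finite Γ(S, S.basicOpen a) Γ(G, S.basicOpen a) :=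
    Module.Finite.equiv (LinearEquiv.ofBijective l hl)
  exact nearFree_of_isLocalizedModule (Rg := Γ(S, S.basicOpen a)) _ (resLin G (S.basicOpen_le a))

variable [IsProper f]

theorem hnor_sections (hS : Pi1.IsNormalScheme S) (hV : IsAffineOpen V) (p : Ideal Γ(S, V)) [p.IsPrime] :
    IsDomain (Localization.AtPrime p) ∧ IsIntegrallyClosed (Localization.AtPrime p) := by
  obtain ⟨x, hx, rfl⟩ := Div89.exists_point ⟨V, hV⟩ p
  obtain ⟨h1, h2⟩ := hS x
  letI := Div89.stalkAlg V x hx
  haveI := Div89.isLocalization_stalk ⟨V, hV⟩ x hx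
  let e := IsLocalization.algEquiv (Div89.primeAt ⟨V, hV⟩ x hx).primeCompl
    (Localization.AtPrime (Div89.primeAt ⟨V, hV⟩ x hx)) (S.presheaf.stalk x)
  haveI := h1
  exact ⟨e.toRingEquiv.toMulEquiv.isDomain _, .of_equiv e.toRingEquiv.symm⟩

theorem counit_app_bijective_affine [IsNoetherian S] (hO : ∀ U : S.Opens, Function.Bijective (f.app U))
    (hS : Pi1.IsNormalScheme S) (hE : FlatMod.IsFinLocFree E)
    (hgood : ∀ s : S, ringKrullDim (S.presheaf.stalk s) ≤ 1 → s ∈ goodLocus f E)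
    (hV : IsAffineOpen V) {W : X.Opens} (hW : IsAffineOpen W) (e : W ≤ f ⁻¹ᵁ V) :
    Function.Bijective (((Scheme.Modules.pullbackPushforwardAdjunction f).counit.app E).app W) := by
  classical
  haveI : IsNoetherianRing Γ(S, V) := IsLocallyNoetherian.component_noetherian ⟨V, hV⟩
  let G := (Scheme.Modules.pushforward f).obj E
  let θ : (Scheme.Modules.pullback f).obj G ⟶ E := (Scheme.Modules.pullbackPushforwardAdjunction f).counit.app E
  haveI := Props58.LocFree.isQuasicoherent_of_isFinLocFree hE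
  have hG : Coh.IsCoh G := isCoh_pushforward f ⟨inferInstance, Props58.LocFree.isFiniteType_of_isFinLocFree hE⟩
  haveI : G.IsQuasicoherent := hG.1
  haveI : G.IsFiniteType := hG.2
  haveI : Module.Finite Γ(S, V) Γ(G, V) := finite_sections_of_isFiniteType G hV
  have hb : ∀ x : (V ⊓ goodLocus f E : S.Opens), ∃ (a : Γ(S, V)) (V' : S.Opens) (r : ℕ)
      (m : Fin r → Γ(E, f ⁻¹ᵁ V')), StalkBasis m ∧ (x : S) ∈ S.basicOpen a ∧ S.basicOpen a ≤ V' := by
    rintro ⟨x, hxV, hxU⟩
    obtain ⟨⟨V', r, m, hm⟩, hxV'⟩ := Opens.mem_iSup.1 hxU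
    obtain ⟨a, ha, hax⟩ := hV.exists_basicOpen_le (V := V') ⟨x, hxV'⟩ hxV
    exact ⟨a, V', r, m, hm, hax, ha⟩
  choose a V' r m hm hax hale using hb
  obtain ⟨t, ht⟩ := (NoetherianSpace.isCompact ((V ⊓ goodLocus f E : S.Opens) : Set S)).elim_finite_subcover
    (fun x : (V ⊓ goodLocus f E : S.Opens) => (S.basicOpen (a x) : Set S)) (fun x => (S.basicOpen (a x)).2)
    (fun x hx => Set.mem_iUnion.2 ⟨⟨x, hx⟩, hax ⟨x, hx⟩⟩)
  let g : t → Γ(S, V) := fun x => a x.1
  have hf : ∀ p : Ideal Γ(S, V), p.IsPrime → p.height ≤ 1 → ∃ i, g i ∉ p := by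
    intro p hp hh
    obtain ⟨x, hx, rfl⟩ := Div89.exists_point ⟨V, hV⟩ p
    have hxU : x ∈ goodLocus f E :=
      hgood x (by rw [Div89.ringKrullDim_stalk_eq_height ⟨V, hV⟩ x hx]; exact_mod_cast hh)
    obtain ⟨y, hy, hxy⟩ := Set.mem_iUnion₂.1 (ht (show x ∈ ((V ⊓ goodLocus f E : S.Opens) : Set S) from ⟨hx, hxU⟩))
    exact ⟨⟨y, hy⟩, (Div89.mem_basicOpen_iff_notMem ⟨V, hV⟩ x hx (a y)).1 hxy⟩
  have hnor := fun (p : Ideal Γ(S, V)) (_ : p.IsPrime) => hnor_sections (S := S) hS hV p
  have hM : Hart g Γ(G, V) := hart_push g hnor hf hE hV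
  have hfree : ∀ i, NearFree Γ(G, V) (g i) := fun i => nearFree_push hO hV _ (hale i.1) (hm i.1)
  let C := (Scheme.Modules.pullback f).obj G
  letI := (f.appLE V W e).hom.toAlgebra
  letI := ParaF26.FlatSec.mdl f C e
  letI := ParaF26.FlatSec.mdl f E e
  haveI : Module.Flat Γ(S, V) Γ(X, W) := HasRingHomProperty.appLE @Flat f inferInstance ⟨V, hV⟩ ⟨W, hW⟩ e
  haveI : IsScalarTower Γ(S, V) Γ(X, W) Γ(C, W) := IsScalarTower.of_algebraMap_smul fun r x => rfl
  have hC : Hart g Γ(C, W) :=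
    (hart_tensor hnor hf Γ(G, V) hM hfree Γ(X, W)).of_equiv
      ((QCPull72.sectionsPullbackEquiv f G hV hW e).symm.restrictScalars Γ(S, V))
  haveI : Module.Flat Γ(S, V) Γ(E, W) := flat_sections f E hE hV hW e
  let θW : Γ(C, W) →ₗ[Γ(S, V)] Γ(E, W) :=
    { toFun := θ.app W
      map_add' := map_add _
      map_smul' := fun c x => Scheme.Modules.Hom.app_smul θ _ _ }
  have hb : ∀ i, Function.Bijective (θ.app (X.basicOpen (f.appLE V W e (g i)))) := fun i =>
    SpreadBasis.counit_app_bijective hO (hm i.1) (by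
      rw [Scheme.basicOpen_appLE]
      exact inf_le_right.trans (f.preimage_mono (hale i.1)))
  haveI : C.IsQuasicoherent := QCPull72.isQuasicoherent_pullback f G
  have hlC := isLocAt_of_isQuasicoherent C hW
  have hlE := isLocAt_of_isQuasicoherent E hW
  refine bijective_of_killed hC (hart_of_flat g hnor hf _) θW (fun i x hx => ?_) fun i y => ?_
  · have h0 : res C (X.basicOpen_le (f.appLE V W e (g i))) x = 0 := (hb i).1 (by
      rw [map_zero, app_res, show θ.app W x = 0 from hx]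
      exact res_zero _)
    obtain ⟨k, hk⟩ := hlC.eq_zero_of _ x h0
    exact ⟨k, by show f.appLE V W e (g i ^ k) • x = 0; rw [map_pow, hk]⟩
  · let b := f.appLE V W e (g i)
    obtain ⟨z, hz⟩ := (hb i).2 (res E (X.basicOpen_le b) y)
    obtain ⟨k, x, hx⟩ := hlC.exists_of b z
    obtain ⟨l, hl⟩ := hlE.eq_zero_of b (θ.app W x - b ^ k • y) (by
      rw [res_sub, ← app_res, hx, Scheme.Modules.Hom.app_smul, hz, res_pow_smul, sub_self])
    refine ⟨l + k, g i ^ l • x, ?_⟩
    show θ.app W (f.appLE V W e (g i ^ l) • x) = f.appLE V W e (g i ^ (l + k)) • y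
    rw [Scheme.Modules.Hom.app_smul, map_pow, map_pow, pow_add, mul_smul, ← sub_eq_zero, ← smul_sub]
    exact hl

theorem isIso_counit [IsNoetherian S] (hO : ∀ U : S.Opens, Function.Bijective (f.app U))
    (hS : Pi1.IsNormalScheme S) (hE : FlatMod.IsFinLocFree E)
    (hgood : ∀ s : S, ringKrullDim (S.presheaf.stalk s) ≤ 1 → s ∈ goodLocus f E) :
    IsIso ((Scheme.Modules.pullbackPushforwardAdjunction f).counit.app E) := by
  set θ := (Scheme.Modules.pullbackPushforwardAdjunction f).counit.app E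
  have hb : ∀ (O : X.Opens) (p : X), p ∈ O → ∃ W : X.Opens, p ∈ W ∧ W ≤ O ∧ Function.Bijective (θ.app W) := by
    intro O p hp
    obtain ⟨V, hV, hpV, -⟩ := exists_isAffineOpen_mem_and_subset (X := S) (x := f p) (U := ⊤) trivial
    obtain ⟨W, hW, hpW, hWO⟩ := exists_isAffineOpen_mem_and_subset (show p ∈ O ⊓ f ⁻¹ᵁ V from ⟨hp, hpV⟩)
    exact ⟨W, hpW, hWO.trans inf_le_left, counit_app_bijective_affine hO hS hE hgood hV hW (hWO.trans inf_le_right)⟩
  haveI := Om3.mono_of_basis θ fun O p hp => (hb O p hp).imp fun _ h => ⟨h.1, h.2.1, h.2.2.1⟩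
  haveI := Om3.epi_of_basis θ fun O p hp => (hb O p hp).imp fun _ h => ⟨h.1, h.2.1, h.2.2.2⟩
  exact isIso_of_mono_of_epi θ

theorem isFinLocFree_pushforward [IsNoetherian S] (hO : ∀ U : S.Opens, Function.Bijective (f.app U))
    (hE : FlatMod.IsFinLocFree E)
    [IsIso ((Scheme.Modules.pullbackPushforwardAdjunction f).counit.app E)] :
    FlatMod.IsFinLocFree ((Scheme.Modules.pushforward f).obj E) := by
  haveI := Props58.LocFree.isQuasicoherent_of_isFinLocFree hE
  haveI : ((Scheme.Modules.pushforward f).obj E).IsQuasicoherent :=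
    (isCoh_pushforward f ⟨inferInstance, Props58.LocFree.isFiniteType_of_isFinLocFree hE⟩).1
  haveI : QuasiCompactCover (⟨PUnit.{u+1}, fun _ => X, fun _ => f⟩ : PreZeroHypercover.{u} S) :=
    ⟨fun {U} hU => .of_finite (κ := PUnit.{1}) (fun _ => PUnit.unit) (fun _ => f ⁻¹ᵁ U)
      (fun _ => f.isCompact_preimage hU.isCompact)
      ((Set.iUnion_const _).trans (Set.image_preimage_eq _ (surjective_of_app_bijective f hO)))⟩
  exact Desc59.ModDesc.isFinLocFree_of_pullback (ι := PUnit.{u+1}) (fun _ => f) (fun _ => inferInstance) _ fun _ =>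
    LimTop61.isFinLocFree_of_iso (asIso ((Scheme.Modules.pullbackPushforwardAdjunction f).counit.app E)).symm hE

end Groth.Agent.FlatMor67.DescFree
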