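import Groth.Agent.Amp73.QA
import Groth.Prelude.Def_MoreMor

/-! Ample families of invertible modules pass along morphisms with a relatively ample module. -/

universe u

open CategoryTheory CategoryTheory.Limits AlgebraicGeometry Opposite TopologicalSpace

noncomputable section

namespace Groth.Agent.FlatMor67.AmpFam

open Amp73 Var76.LineBundle Var76.ZeroScheme

variable {X Y : Scheme.{u}} {L : X.Modules}

/-- Opens `X_t` inside `X_σ` cut out by sections of a power of `L` over `X_σ` are generating loci of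
sections of invertible modules on `X`. -/
theorem image_genLocus [CompactSpace X] [QuasiSeparatedSpace X] (hL : PicF.IsInvertible L)
    {N : X.Modules} (hN : PicF.IsInvertible N) (σ : Coh.structureModule X ⟶ N)
    {W : Scheme.{u}} (j : W ⟶ X) [IsOpenImmersion j] (hj : j.opensRange = CohB1.genLocus N σ)
    {G : W.Opens} (hG : G ∈ GenSet (L.restrict j)) :
    ∃ (L' : X.Modules) (s : Coh.structureModule X ⟶ L'), PicF.IsInvertible L' ∧ CohB1.genLocus L' s = j ''ᵁ G := by
  obtain ⟨n, s, rfl⟩ := hG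
  let M := CohB1.tensorPow L (n + 1)
  have hM : PicF.IsInvertible M := EGA73.isInvertible_tensorPow hL _
  let s' : Coh.structureModule W ⟶ M.restrict j := s ≫ (powRestrict j L (n + 1)).hom
  have hs' : CohB1.genLocus _ s' = CohB1.genLocus _ s := genLocus_comp_iso _ _
  have hU : j ''ᵁ ⊤ = CohB1.genLocus _ σ := by rw [Scheme.Hom.image_top_eq_opensRange, hj]
  let t : Γ(M, j ''ᵁ ⊤) := val (M.restrict j) s' ⊤
  obtain ⟨k, hk, t', ht'⟩ := exists_tw_extend_pos hN σ
    (Mero90.isQCoh_of_isInvertible hM) (res M hU.ge t)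
  let P := CohB1.tensorMod M (CohB1.tensorPow N k)
  let τ : Coh.structureModule X ⟶ P := Var76.Frames.ofSection P t'
  have key : ∀ (V : X.Opens) (hV : V ≤ CohB1.genLocus _ σ),
      V ≤ CohB1.genLocus P τ ↔ IsFrame M V (res M (hV.trans hU.ge) t) := by
    intro V hV
    rw [← isFrame_iff_le_genLocus, ← res_val P τ hV,
      show val P τ (CohB1.genLocus _ σ) = _ from (Var76.Frames.val_ofSection P t' _).trans ht', res_tw, res_res]
    exact isFrame_tm_right_iff hM (isFrame_epow ((isFrame_iff_le_genLocus σ V).2 hV) k)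
  have hres : ∀ V : W.Opens, val (M.restrict j) s' V = res M (j.image_mono le_top) t := fun V =>
    (res_val (M.restrict j) s' (le_top : V ≤ ⊤)).symm
  have heq : CohB1.genLocus P τ ⊓ CohB1.genLocus _ σ = j ''ᵁ CohB1.genLocus _ s' := by
    apply le_antisymm
    · have hV : CohB1.genLocus P τ ⊓ CohB1.genLocus _ σ ≤ CohB1.genLocus _ σ := inf_le_right
      have h := (key _ hV).1 inf_le_left
      set V := CohB1.genLocus P τ ⊓ CohB1.genLocus _ σ
      have h2 := h.res (j.image_preimage_le V)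
      rw [res_res] at h2
      have h3 : IsFrame (M.restrict j) (j ⁻¹ᵁ V) (val (M.restrict j) s' (j ⁻¹ᵁ V)) := by
        rw [isFrame_restrict_iff, hres]; exact h2
      refine le_trans ?_ (j.image_mono ((isFrame_iff_le_genLocus s' _).1 h3))
      rw [Scheme.Hom.image_preimage_eq_opensRange_inf, hj]
      exact le_inf hV le_rfl
    · have hV : j ''ᵁ CohB1.genLocus _ s' ≤ CohB1.genLocus _ σ := (j.image_mono le_top).trans hU.le
      refine le_inf ((key _ hV).2 ?_) hV
      have h := isFrame_genLocus s'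
      rw [isFrame_restrict_iff, hres] at h
      exact h
  have hP : PicF.IsInvertible P := EGA73.isInvertible_tensorMod hM (EGA73.isInvertible_tensorPow hN k)
  refine ⟨CohB1.tensorMod P N, SecTwist.tmulHom τ σ, EGA73.isInvertible_tensorMod hP hN, ?_⟩
  rw [genLocus_tmulHom hP hN, heq, hs']

theorem quasiSeparatedSpace_of_hasAmpleFamily (h : MoreMor.HasAmpleFamily Y) : QuasiSeparatedSpace Y := by
  classical
  obtain ⟨_, hs⟩ := h
  choose L n s hL hn hx ha using hs
  let G : Y → Y.Opens := fun y => CohB1.genLocus (CohB1.tensorPow (L y) (n y)) (s y)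
  refine QuasiSeparatedSpace.of_isOpenCover (U := G)
    (IsOpenCover.mk (top_le_iff.mp fun x _ => Opens.mem_iSup.mpr ⟨x, hx x⟩)) (fun x V hVc hVo => ?_)
    fun x => (ha x).isQuasiSeparated
  obtain ⟨T, hT⟩ := hVc.elim_finite_subcover
    (fun W : {W : Y.affineOpens // (W.1 : Set Y) ⊆ V} => (W.1.1 : Set Y)) (fun W => W.1.1.2) (fun y hy => by
      obtain ⟨W, hW, hyW, hWle⟩ := exists_isAffineOpen_mem_and_subset (U := ⟨V, hVo⟩) hy
      exact Set.mem_iUnion.2 ⟨⟨⟨W, hW⟩, hWle⟩, hyW⟩)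
  have e : (G x : Set Y) ∩ V = ⋃ W ∈ T, ((G x ⊓ W.1.1 : Y.Opens) : Set Y) := by
    ext y
    constructor
    · rintro ⟨h1, h2⟩
      obtain ⟨W, hW, hyW⟩ := Set.mem_iUnion₂.1 (hT h2)
      exact Set.mem_iUnion₂.2 ⟨W, hW, h1, hyW⟩
    · intro hy
      obtain ⟨W, -, h1, hyW⟩ := Set.mem_iUnion₂.1 hy
      exact ⟨h1, W.2 hyW⟩
  rw [e]
  exact T.isCompact_biUnion fun W _ =>
    (isAffineOpen_genLocus_inf (EGA73.isInvertible_tensorPow (hL x) _) (s x) W.1.2).isCompact

theorem hasAmpleFamily_of_relAmple (f : X ⟶ Y) (hY : MoreMor.HasAmpleFamily Y)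
    (hL : RelAmple.IsRelAmple f L) : MoreMor.HasAmpleFamily X := by
  have := hL.1
  have := hY.1
  have := quasiSeparatedSpace_of_hasAmpleFamily hY
  have : CompactSpace X := QuasiCompact.compactSpace_of_compactSpace f
  have : QuasiSeparated f := by
    rw [IsZariskiLocalAtTarget.iff_of_iSup_eq_top (P := @QuasiSeparated) _ (iSup_affineOpens_eq_top Y)]
    intro V
    have hqs := quasiSeparatedSpace_of_isAmple (hL.2 V)
    have : IsAffine (V.1 : Scheme.{u}) := V.2
    exact (quasiSeparated_iff_quasiSeparatedSpace (f ∣_ V.1)).2 hqs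
  have : QuasiSeparatedSpace X := quasiSeparatedSpace_of_quasiSeparated f
  have hinv := isInvertible_of_isRelAmple hL
  refine ⟨inferInstance, fun x => ?_⟩
  obtain ⟨M, n, s, hM, hn, hx, ha⟩ := hY.2 (f x)
  have hMn := EGA73.isInvertible_tensorPow hM n
  set V := CohB1.genLocus (CohB1.tensorPow M n) s
  have hσ : CohB1.genLocus _ (pullHom f s) = f ⁻¹ᵁ V := genLocus_pullHom f hMn s
  obtain ⟨G, hG, hxG, hGa⟩ := (isAmple_iff.1 (hL.2 ⟨V, ha⟩)).2.2 ⟨x, hx⟩
  obtain ⟨L', t, hL', ht⟩ := image_genLocus hinv (isInvertible_pullback f hMn) (pullHom f s) (f ⁻¹ᵁ V).ι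
    (by rw [Scheme.Opens.opensRange_ι, hσ]) hG
  refine ⟨L', 1, t ≫ (powOne L').inv, hL', le_rfl, ?_⟩
  rw [genLocus_comp_iso, ht]
  exact ⟨⟨_, hxG, rfl⟩, hGa.image_of_isOpenImmersion _⟩

theorem hasAmpleFamily_of_affine_or_quasiAffine (f : X ⟶ Y) (hf : IsAffineHom f ∨ Mor2.IsQuasiAffine f)
    (hY : MoreMor.HasAmpleFamily Y) : MoreMor.HasAmpleFamily X := by
  have hq : Mor2.IsQuasiAffine f := hf.elim (fun h => isQuasiAffine_of_isAffineHom f) id
  exact hasAmpleFamily_of_relAmple f hY ((isQuasiAffine_iff_isRelAmple f).1 hq)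

end Groth.Agent.FlatMor67.AmpFam
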