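import Groth.Agent.EGA73.AmpleBaseImmersion
import Groth.Agent.S2333
import Groth.Agent.S4381
import Groth.Agent.Approx60.Segre
import Groth.Agent.Ample57.Separated

/-!
Immersions into projective spaces over a base with an ample module.
-/

set_option autoImplicit false
set_option backward.isDefEq.respectTransparency.types false

universe u

open CategoryTheory CategoryTheory.Limits AlgebraicGeometry

noncomputable section

namespace Groth.Agent.FlatMor67.AmpleProjSpace

variable {X S : Scheme.{u}}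

/-- An ample module is ample relative to every quasi-compact morphism. -/
theorem isRelAmple_of_isAmple (f : X ⟶ S) [QuasiCompact f] {L : X.Modules} (hL : CohB1.IsAmple L) :
    RelAmple.IsRelAmple f L := by
  have : CompactSpace X := hL.2.1
  let g := specULiftZIsTerminal.from S
  have : QuasiCompact (f ≫ g) :=
    HasAffineProperty.iff_of_isAffine.mpr (inferInstanceAs (CompactSpace X))
  exact Groth.Agent.S2333.result f g L ((Groth.Agent.S4381.result (f ≫ g) L).mpr hL)

theorem exists_isAmple_of_isRelAmple (hS : ∃ N : S.Modules, CohB1.IsAmple N) (f : X ⟶ S)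
    {L : X.Modules} (hL : RelAmple.IsRelAmple f L) : ∃ L' : X.Modules, CohB1.IsAmple L' := by
  obtain ⟨N, hN⟩ := hS
  have := hL.1
  obtain ⟨n₀, -, h⟩ := EGA73.RelAmpleComp.eventually_isAmple_comp f hL hN
  exact ⟨_, h n₀ le_rfl⟩

theorem exists_isAmple_of_immersion (hS : ∃ N : S.Modules, CohB1.IsAmple N) {f : X ⟶ S}
    [LocallyOfFiniteType f] [QuasiCompact f] {n : ℕ} (i : X ⟶ CohB1.ProjSpaceOver n S) [IsImmersion i]
    (hi : i ≫ CohB1.ProjSpaceOver.toBase n S = f) : ∃ L : X.Modules, CohB1.IsAmple L := by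
  obtain ⟨-, -, L, hL⟩ := EGA73.AmpleBaseImmersion.isQuasiProjective_of_immersion i hi
  exact exists_isAmple_of_isRelAmple hS f hL

theorem exists_qc_immersion (hS : ∃ N : S.Modules, CohB1.IsAmple N) (f : X ⟶ S) [LocallyOfFiniteType f]
    [QuasiCompact f] (hX : ∃ L : X.Modules, CohB1.IsAmple L) :
    ∃ (n : ℕ) (i : X ⟶ CohB1.ProjSpaceOver n S),
      IsImmersion i ∧ QuasiCompact i ∧ i ≫ CohB1.ProjSpaceOver.toBase n S = f := by
  obtain ⟨L, hL⟩ := hX
  obtain ⟨n, i, hi, hif⟩ := EGA73.AmpleBaseImmersion.exists_immersion hS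
    (f := f) ⟨inferInstance, inferInstance, L, isRelAmple_of_isAmple f hL⟩
  have := Approx60.Segre.isProper_toBase n S
  have : QuasiCompact (i ≫ CohB1.ProjSpaceOver.toBase n S) := hif ▸ inferInstance
  exact ⟨n, i, hi, QuasiCompact.of_comp i (CohB1.ProjSpaceOver.toBase n S), hif⟩

theorem finiteType_of_qc_immersion (f : X ⟶ S) {n : ℕ} (i : X ⟶ CohB1.ProjSpaceOver n S) [IsImmersion i]
    [QuasiCompact i] (hi : i ≫ CohB1.ProjSpaceOver.toBase n S = f) :
    LocallyOfFiniteType f ∧ QuasiCompact f := by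
  have := Approx60.Segre.isProper_toBase n S
  subst hi
  exact ⟨inferInstance, inferInstance⟩

theorem isProper_of_closedImmersion (f : X ⟶ S) {n : ℕ} (i : X ⟶ CohB1.ProjSpaceOver n S)
    [IsClosedImmersion i] (hi : i ≫ CohB1.ProjSpaceOver.toBase n S = f) : IsProper f := by
  have := Approx60.Segre.isProper_toBase n S
  subst hi
  infer_instance

theorem exists_closedImmersion (hS : ∃ N : S.Modules, CohB1.IsAmple N) (f : X ⟶ S) [IsProper f]
    (hX : ∃ L : X.Modules, CohB1.IsAmple L) :
    ∃ (n : ℕ) (i : X ⟶ CohB1.ProjSpaceOver n S),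
      IsClosedImmersion i ∧ i ≫ CohB1.ProjSpaceOver.toBase n S = f := by
  obtain ⟨n, i, hi, -, hif⟩ := exists_qc_immersion hS f hX
  have := Approx60.Segre.isProper_toBase n S
  have : IsProper (i ≫ CohB1.ProjSpaceOver.toBase n S) := hif ▸ inferInstance
  have : IsProper i := IsProper.of_comp i (CohB1.ProjSpaceOver.toBase n S)
  exact ⟨n, i, EGA73.AmpleBaseImmersion.isClosedImmersion_of_isImmersion_of_isProper i, hif⟩

end Groth.Agent.FlatMor67.AmpleProjSpace
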