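import Groth.Agent.LCI19.DescentIdeal
import Groth.Agent.LCI19.Target
import Mathlib.RingTheory.TensorProduct.MvPolynomial
import Mathlib.RingTheory.TensorProduct.Pi
import Mathlib.RingTheory.Finiteness.Descent
import Mathlib.RingTheory.Flat.FaithfullyFlat.Algebra

/-!
# Descent of local complete intersection maps along a jointly surjective flat family
-/

universe u

open TensorProduct

namespace Groth.Agent.FlatMor67

open LCI19

variable {A B : Type u} [CommRing A] [CommRing B] [Algebra A B] {ι : Type} [Fintype ι]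
  {R : ι → Type u} [∀ i, CommRing (R i)] [∀ i, Algebra A (R i)]

/-- a finite product of flat algebras that cover the spectrum is faithfully flat -/
lemma faithfullyFlat_pi [∀ i, Module.Flat A (R i)]
    (hsurj : ∀ p : PrimeSpectrum A, ∃ i q, PrimeSpectrum.comap (algebraMap A (R i)) q = p) :
    Module.FaithfullyFlat A (∀ i, R i) := by
  classical
  have : Module.Flat A (∀ i, R i) :=
    Module.Flat.of_linearEquiv (DirectSum.linearEquivFunOnFintype A ι R).symm
  refine Module.FaithfullyFlat.of_comap_surjective fun p => ?_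
  obtain ⟨i, q, rfl⟩ := hsurj p
  exact ⟨PrimeSpectrum.comap (Pi.evalRingHom R i) q, rfl⟩

lemma tmul_pi_surjective {M N : Type u} [AddCommGroup M] [Module A M] [AddCommGroup N] [Module A N]
    (f : M →ₗ[A] N) (h : ∀ i, Function.Surjective (f.lTensor (R i))) :
    Function.Surjective (f.lTensor (∀ i, R i)) := by
  classical
  intro z
  induction z with
  | zero => exact ⟨0, map_zero _⟩
  | add x y hx hy =>
    obtain ⟨a, rfl⟩ := hx
    obtain ⟨b, rfl⟩ := hy
    exact ⟨a + b, map_add _ _ _⟩
  | tmul r n =>
    choose w hw using fun i => h i (r i ⊗ₜ n)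
    refine ⟨∑ i, (LinearMap.single A R i).rTensor M (w i), ?_⟩
    have h1 : ∀ i, f.lTensor (∀ i, R i) ((LinearMap.single A R i).rTensor M (w i)) =
        (LinearMap.single A R i).rTensor N (f.lTensor (R i) (w i)) := fun i => by
      rw [← LinearMap.comp_apply, ← LinearMap.comp_apply, LinearMap.lTensor_comp_rTensor,
        LinearMap.rTensor_comp_lTensor]
    simp only [map_sum, h1, hw, LinearMap.rTensor_tmul, LinearMap.coe_single, ← TensorProduct.sum_tmul]
    rw [Finset.univ_sum_single]

/-- finite type descends along a jointly surjective flat family -/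
lemma finiteType_descend [∀ i, Module.Flat A (R i)]
    (hsurj : ∀ p : PrimeSpectrum A, ∃ i q, PrimeSpectrum.comap (algebraMap A (R i)) q = p)
    (h : ∀ i, Algebra.FiniteType (R i) (R i ⊗[A] B)) : Algebra.FiniteType A B := by
  classical
  have := faithfullyFlat_pi hsurj
  choose s hs using fun i => (h i).out
  have hx : ∀ (i : ι) (x : s i), ∃ (k : ℕ) (t : Fin k → R i) (m : Fin k → B),
      x.1 = ∑ j, t j ⊗ₜ[A] m j := fun i x => TensorProduct.exists_sum_tmul_eq x.1
  choose k t m hm using hx
  let f : MvPolynomial (Σ i, Σ x : s i, Fin (k i x)) A →ₐ[A] B :=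
    MvPolynomial.aeval fun q => m q.1 q.2.1 q.2.2
  apply Algebra.FiniteType.of_surjective f
  refine (Module.FaithfullyFlat.lTensor_surjective_iff_surjective A (∀ i, R i) f.toLinearMap).1
    (tmul_pi_surjective f.toLinearMap fun i => ?_)
  suffices Function.Surjective (Algebra.TensorProduct.map (AlgHom.id (R i) (R i)) f) from this
  rw [← AlgHom.range_eq_top, eq_top_iff, ← hs i, Algebra.adjoin_le_iff]
  intro x hx
  refine ⟨∑ j, t i ⟨x, hx⟩ j ⊗ₜ MvPolynomial.X ⟨i, ⟨x, hx⟩, j⟩, ?_⟩
  simp [f, ← hm]

/-- **Descent of complete intersection maps.** -/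
theorem isLCI_descend [∀ i, Module.Flat A (R i)]
    (hsurj : ∀ p : PrimeSpectrum A, ∃ i q, PrimeSpectrum.comap (algebraMap A (R i)) q = p)
    (h : ∀ i, LCI.IsLCI (R i) (R i ⊗[A] B)) : LCI.IsLCI A B := by
  classical
  have := faithfullyFlat_pi hsurj
  have hft := finiteType_descend hsurj fun i => (h i).1
  obtain ⟨n, α, hα⟩ := Algebra.FiniteType.iff_quotient_mvPolynomial''.1 hft
  refine ⟨hft, n, α, hα, ?_⟩
  set I := RingHom.ker α.toRingHom with hI
  let P := MvPolynomial (Fin n) A
  let P' := MvPolynomial (Fin n) (∀ i, R i)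
  let φ : P →+* P' := MvPolynomial.map (algebraMap A (∀ i, R i))
  let : Algebra P P' := φ.toAlgebra
  have : Module.FaithfullyFlat P P' := by
    let := (Algebra.TensorProduct.includeRight (R := A) (A := ∀ i, R i) (B := P)).toRingHom.toAlgebra
    have : Module.FaithfullyFlat P ((∀ i, R i) ⊗[A] P) :=
      .of_linearEquiv _ _ (Algebra.TensorProduct.commRight _ _ _).symm.toLinearEquiv
    exact .of_linearEquiv P ((∀ i, R i) ⊗[A] P)
      (LinearEquiv.symm (AddEquiv.toLinearEquiv
        (MvPolynomial.algebraTensorAlgEquiv A (∀ i, R i)).toAddEquiv fun p z => by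
          show MvPolynomial.algebraTensorAlgEquiv A (∀ i, R i) ((1 ⊗ₜ p) * z) = φ p * _
          rw [map_mul, MvPolynomial.algebraTensorAlgEquiv_tmul, one_smul]
          rfl))
  refine isKoszulRegularIdeal_descend P' I ((isKoszulRegularIdeal_iff _).2 fun q hq => ?_)
  obtain ⟨i, hi⟩ : ∃ i, MvPolynomial.C (Pi.single i (1 : R i)) ∉ q.asIdeal := by
    by_contra hall
    push Not at hall
    refine q.isPrime.ne_top ((Ideal.eq_top_iff_one _).2 ?_)
    have : (1 : P') = ∑ i, MvPolynomial.C (Pi.single i (1 : R i)) := by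
      rw [← map_sum, show (∑ i, Pi.single i (1 : R i)) = (1 : ∀ i, R i) from
        Finset.univ_sum_single 1, map_one]
    rw [this]
    exact sum_mem fun i _ => hall i
  let P'' := MvPolynomial (Fin n) (R i)
  let ψ : P' →+* P'' := MvPolynomial.map (Pi.evalRingHom R i)
  let : Algebra P' P'' := ψ.toAlgebra
  have : IsLocalization.Away (MvPolynomial.C (Pi.single i (1 : R i)) : P') P'' := by
    refine IsLocalization.away_of_isIdempotentElem_of_mul
      (IsIdempotentElem.map (by simp [IsIdempotentElem, ← Pi.single_mul]) MvPolynomial.C)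
      (fun x y => ?_) (MvPolynomial.map_surjective _ fun r => ⟨Pi.single i r, by simp⟩)
    show MvPolynomial.map _ x = MvPolynomial.map _ y ↔ _
    simp only [MvPolynomial.ext_iff, MvPolynomial.coeff_map, MvPolynomial.coeff_C_mul]
    refine forall_congr' fun m => ⟨fun hxy => funext fun j => ?_, fun hxy => ?_⟩
    · by_cases hj : j = i
      · subst hj
        simpa using hxy
      · simp [hj]
    · simpa using congrFun hxy i
  refine krAt_of_away (B := P'') ?_ q hq hi
  let e := MvPolynomial.algebraTensorAlgEquiv (σ := Fin n) A (R i)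
  let αi : P'' →ₐ[R i] R i ⊗[A] B :=
    (Algebra.TensorProduct.map (AlgHom.id (R i) (R i)) α).comp e.symm.toAlgHom
  have hαi : Function.Surjective αi :=
    (LinearMap.lTensor_surjective (R i) (g := α.toLinearMap) hα).comp e.symm.surjective
  have hk := isKoszulRegularIdeal_ker_of_isLCI (h i) αi hαi
  convert hk using 1
  have h1 : RingHom.ker αi.toRingHom =
      (RingHom.ker (Algebra.TensorProduct.map (AlgHom.id (R i) (R i)) α)).comap
        e.symm.toRingEquiv.toRingHom := rfl
  rw [h1]
  erw [Algebra.TensorProduct.lTensor_ker α hα]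
  have h2 : (algebraMap P' P'').comp (algebraMap P P') = MvPolynomial.map (algebraMap A (R i)) :=
    RingHom.ext fun x => by
      show MvPolynomial.map (Pi.evalRingHom R i) (MvPolynomial.map (algebraMap A (∀ i, R i)) x) = _
      rw [MvPolynomial.map_map]
      rfl
  have h3 : (I.map (algebraMap P P')).map (algebraMap P' P'') =
      I.map (MvPolynomial.map (algebraMap A (R i))) := by
    rw [Ideal.map_map, h2]
  refine h3.trans (Eq.trans ?_ (Ideal.map_comap_of_equiv e.toRingEquiv))
  refine Eq.trans ?_ (Ideal.map_map _ _).symm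
  congr 1
  exact MvPolynomial.ringHom_ext (fun a => by simp [e]) fun j => by simp [e]

end Groth.Agent.FlatMor67
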