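import Groth.Agent.FlatMor67.LCIComp
import Groth.Agent.LCI19.Target
import Mathlib.AlgebraicGeometry.AffineScheme

/-!
# Local complete intersection morphisms: gluing on the source
-/

universe u

open CategoryTheory AlgebraicGeometry

namespace Groth.Agent.FlatMor67

/-- invariance under isomorphism of algebras -/
lemma isLCI_of_algEquiv {A B B' : Type u} [CommRing A] [CommRing B] [CommRing B'] [Algebra A B]
    [Algebra A B'] (e : B ≃ₐ[A] B') (h : LCI.IsLCI A B) : LCI.IsLCI A B' := by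
  obtain ⟨hft, n, α, hα, hk⟩ := h
  refine ⟨hft.equiv e, n, e.toAlgHom.comp α, e.surjective.comp hα, ?_⟩
  have : RingHom.ker (e.toAlgHom.comp α).toRingHom = RingHom.ker α.toRingHom :=
    RingHom.ker_equiv_comp α.toRingHom e.toRingEquiv
  rwa [this]

variable {X Z : Scheme.{u}}

/-- being lci can be checked on a cover of the source by basic opens -/
lemma isLCI_appLE_of_basicOpen_cover (f : X ⟶ Z) {U : X.Opens} {V : Z.Opens} (hU : IsAffineOpen U)
    (hUV : U ≤ f ⁻¹ᵁ V)
    (h : ∀ x ∈ U, ∃ (a : Γ(X, U)) (e : X.basicOpen a ≤ f ⁻¹ᵁ V), x ∈ X.basicOpen a ∧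
      letI := (f.appLE V (X.basicOpen a) e).hom.toAlgebra
      LCI.IsLCI Γ(Z, V) Γ(X, X.basicOpen a)) :
    letI := (f.appLE V U hUV).hom.toAlgebra
    LCI.IsLCI Γ(Z, V) Γ(X, U) := by
  let := (f.appLE V U hUV).hom.toAlgebra
  choose a e hx hlci using h
  have hcov : Ideal.span (Set.range fun p : U => a p.1 p.2) = ⊤ := by
    rw [← hU.self_le_iSup_basicOpen_iff]
    intro x hxU
    exact TopologicalSpace.Opens.mem_iSup.2 ⟨⟨_, ⟨x, hxU⟩, rfl⟩, hx x hxU⟩
  obtain ⟨T, hT, hTspan⟩ := (Ideal.span_eq_top_iff_finite _).1 hcov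
  refine LCI19.isLCI_of_span T.card (fun j => (T.equivFin.symm j).1) ?_ fun j => ?_
  · convert hTspan
    ext b
    exact ⟨by rintro ⟨j, rfl⟩; exact (T.equivFin.symm j).2,
      fun hb => ⟨T.equivFin ⟨b, hb⟩, by simp⟩⟩
  · obtain ⟨⟨x, hxU⟩, hb⟩ := hT (T.equivFin.symm j).2
    rw [← hb]
    set b := a x hxU
    let := (f.appLE V (X.basicOpen b) (e x hxU)).hom.toAlgebra
    have := hU.isLocalization_basicOpen b
    have : IsScalarTower Γ(Z, V) Γ(X, U) Γ(X, X.basicOpen b) := IsScalarTower.of_algebraMap_eq'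
      (by
        have h1 := f.appLE_map hUV (homOfLE (X.basicOpen_le b)).op
        exact congrArg CommRingCat.Hom.hom h1.symm)
    exact isLCI_of_algEquiv
      ((IsLocalization.algEquiv (Submonoid.powers b) Γ(X, X.basicOpen b)
        (Localization.Away b)).restrictScalars Γ(Z, V)) (hlci x hxU)

end Groth.Agent.FlatMor67
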