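import Groth.Agent.CAlg1.Regular
import Groth.Agent.LCI19.LocalExact

/-!
# An ideal with regular quotient in a regular ring is Koszul-regular
-/

universe u

open TensorProduct IsLocalRing

namespace Groth.Agent.FlatMor67

open Koszul19 LCI19

variable {A : Type u} [CommRing A]

lemma finite_koszul_X (l : List A) (q : ℤ) : Module.Finite A ((Koszul.koszul A l).X q : Type u) := by
  induction l generalizing q with
  | nil =>
    by_cases h : q = 0
    · subst h
      exact Module.Finite.equiv (nilZero (A := A)).symm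
    · have := subsingleton_nil (A := A) h
      infer_instance
  | cons f l ih =>
    have := ih q
    have := ih (q + 1)
    exact Module.Finite.equiv ((consData f l).e q (q + 1) rfl).symm

/-- multipliers killing the cohomology in degree `q` can be chosen outside `p` -/
lemma exists_notMem_forall_cycle [IsNoetherianRing A] (p : Ideal A) [p.IsPrime] (l : List A) (q : ℤ)
    (h : Ex (Koszul.koszul (Localization.AtPrime p) (l.map (algebraMap A (Localization.AtPrime p)))) q) :
    ∃ g ∉ p, ∀ z : (Koszul.koszul A l).X q, dd (Koszul.koszul A l) q (q + 1) z = 0 →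
      g ∈ bdyColon (Koszul.koszul A l) (q - 1) q z := by
  classical
  let K := Koszul.koszul A l
  let L := Localization.AtPrime p
  let d := bcKoszul (B := L) l
  have := finite_koszul_X l q
  have key : ∀ z : K.X q, dd K q (q + 1) z = 0 → ∃ g ∉ p, g ∈ bdyColon K (q - 1) q z := by
    intro z hz
    obtain ⟨W, hW⟩ := h (q - 1) (q + 1) (by omega) rfl (d.e q ((1 : L) ⊗ₜ[A] z)) (by
      rw [← d.comm q (q + 1) rfl, LinearMap.baseChange_tmul, hz, TensorProduct.tmul_zero, map_zero])
    have h1 : (1 : L) ∈ bdyColon _ (q - 1) q (d.e q ((1 : L) ⊗ₜ[A] z)) :=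
      mem_bdyColon.2 ⟨W, by rw [one_smul, hW]⟩
    rw [bdyColon_map L d (q - 1) q (by omega)] at h1
    by_contra hall
    push Not at hall
    have hle : bdyColon K (q - 1) q z ≤ p := fun g hg => by
      by_contra hgp
      exact hall g hgp hg
    refine (maximalIdeal.isMaximal L).ne_top ((Ideal.eq_top_iff_one _).2 ?_)
    rw [← Localization.AtPrime.map_eq_maximalIdeal]
    exact Ideal.map_mono hle h1
  obtain ⟨s, hs⟩ := IsNoetherian.noetherian (LinearMap.ker (dd K q (q + 1)))
  choose g hgp hg using fun z : s => key z.1 (LinearMap.mem_ker.1 (hs ▸ Submodule.subset_span z.2))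
  refine ⟨∏ z : s, g z, fun hc => ?_, fun z hz => ?_⟩
  · obtain ⟨z, -, hz⟩ := (Ideal.IsPrime.prod_mem_iff).1 hc
    exact hgp z hz
  · let N : Submodule A (K.X q) :=
      (LinearMap.range (dd K (q - 1) q)).comap ((∏ z : s, g z) • LinearMap.id)
    have : LinearMap.ker (dd K q (q + 1)) ≤ N := by
      rw [← hs, Submodule.span_le]
      intro y hy
      have : (∏ z : s, g z) ∈ bdyColon K (q - 1) q y :=
        Ideal.mem_of_dvd _ (Finset.dvd_prod_of_mem _ (Finset.mem_univ (⟨y, hy⟩ : s))) (hg ⟨y, hy⟩)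
      exact this
    exact this hz

/-- Koszul regularity spreads from a local ring to a neighbourhood -/
lemma exists_away_kR [IsNoetherianRing A] (p : Ideal A) [p.IsPrime] (l : List A)
    (h : KR (l.map (algebraMap A (Localization.AtPrime p)))) :
    ∃ g ∉ p, ∀ g', g ∣ g' → KR (l.map (algebraMap A (Localization.Away g'))) := by
  classical
  choose g hgp hg using fun q : Finset.Icc (-(l.length : ℤ)) (-1) =>
    exists_notMem_forall_cycle p l q.1 (h q.1 (by have := (Finset.mem_Icc.1 q.2).2; omega))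
  refine ⟨∏ q, g q, fun hc => ?_, fun g' hg' => kR_of_neg _ fun q hq => ?_⟩
  · obtain ⟨q, -, hq⟩ := (Ideal.IsPrime.prod_mem_iff).1 hc
    exact hgp q hq
  · by_cases hq' : q < -(l.length : ℤ)
    · exact ex_of_bound _ q (Or.inr (by simpa using hq'))
    · have hmem : q ∈ Finset.Icc (-(l.length : ℤ)) (-1) := Finset.mem_Icc.2 ⟨by omega, by omega⟩
      refine ex_away g' (Localization.Away g') (bcKoszul l) (q - 1) q (q + 1) (by omega) rfl
        fun z hz => ⟨1, ?_⟩
      rw [pow_one]
      exact Ideal.mem_of_dvd _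
        (dvd_trans (Finset.dvd_prod_of_mem _ (Finset.mem_univ ⟨q, hmem⟩)) hg') (hg ⟨q, hmem⟩ z hz)

/-- **An ideal with regular quotient in a regular ring is Koszul-regular.** -/
theorem isKoszulRegularIdeal_of_regular [IsRegularRing A] (I : Ideal A) [IsRegularRing (A ⧸ I)] :
    LCI.IsKoszulRegularIdeal I := by
  classical
  rw [isKoszulRegularIdeal_iff]
  intro p hp
  let L := Localization.AtPrime p.asIdeal
  let q := p.asIdeal.map (Ideal.Quotient.mk I)
  have hker : RingHom.ker (Ideal.Quotient.mk I) ≤ p.asIdeal := by rwa [Ideal.mk_ker]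
  have : q.IsPrime := Ideal.map_isPrime_of_surjective Ideal.Quotient.mk_surjective hker
  have hM : Algebra.algebraMapSubmonoid (A ⧸ I) p.asIdeal.primeCompl = q.primeCompl := by
    ext y
    obtain ⟨a, rfl⟩ := Ideal.Quotient.mk_surjective y
    constructor
    · rintro ⟨b, hb, hab⟩ hy
      obtain ⟨c, hc, hca⟩ := (Ideal.mem_map_iff_of_surjective _ Ideal.Quotient.mk_surjective).1 hy
      refine hb ?_
      have h1 : b - c ∈ p.asIdeal := hker (by rw [RingHom.mem_ker, map_sub, hca, sub_eq_zero]; exact hab)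
      simpa using add_mem h1 hc
    · exact fun hy => ⟨a, fun ha => hy (Ideal.mem_map_of_mem _ ha), rfl⟩
  have : IsLocalization.AtPrime (L ⧸ I.map (algebraMap A L)) q := by
    show IsLocalization q.primeCompl _
    rw [← hM]
    infer_instance
  have : IsRegularLocalRing (L ⧸ I.map (algebraMap A L)) :=
    IsRegularLocalRing.of_ringEquiv (IsLocalization.algEquiv q.primeCompl
      (Localization.AtPrime q) (L ⧸ I.map (algebraMap A L))).toRingEquiv
  obtain ⟨x, c, hc, hx, hI⟩ := CAlg1.exists_params_quotient L _ rfl (I.map (algebraMap A L))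
  let lx : List L := (List.ofFn x).take c
  have hreg : RingTheory.Sequence.IsWeaklyRegular L lx := by
    have h1 := CAlg1.isWeaklyRegular_params L (List.ofFn x)
      (by rw [ofList_ofFn, hx]) (by simp)
    rw [← List.take_append_drop c (List.ofFn x)] at h1
    exact ((RingTheory.Sequence.isWeaklyRegular_append_iff L _ _).1 h1).1
  have hlx : lx = List.ofFn fun i : Fin c => x (Fin.castLE hc i) := by
    refine List.ext_getElem (by simp [lx, hc]) fun i h1 h2 => ?_
    simp [lx]
  have hmem : ∀ i : Fin c, ∃ a ∈ I, ∃ u : L, IsUnit u ∧ x (Fin.castLE hc i) * u = algebraMap A L a := by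
    intro i
    have : x (Fin.castLE hc i) ∈ I.map (algebraMap A L) := hI ▸ Ideal.subset_span ⟨i, rfl⟩
    obtain ⟨⟨⟨a, ha⟩, s⟩, e⟩ :=
      (IsLocalization.mem_map_algebraMap_iff p.asIdeal.primeCompl L).1 this
    exact ⟨a, ha, _, IsLocalization.map_units L s, e⟩
  choose a ha u hu he using hmem
  let l : List A := List.ofFn a
  have hspan : I.map (algebraMap A L) = Ideal.ofList (l.map (algebraMap A L)) := by
    refine le_antisymm (hI.le.trans (Ideal.span_le.2 ?_)) ?_
    · rintro _ ⟨i, rfl⟩
      obtain ⟨v, hv⟩ := (hu i).exists_right_inv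
      have : x (Fin.castLE hc i) = algebraMap A L (a i) * v := by rw [← he i, mul_assoc, hv, mul_one]
      show x (Fin.castLE hc i) ∈ Ideal.ofList _
      rw [this]
      refine Ideal.mul_mem_right _ _ (Ideal.subset_span ?_)
      exact List.mem_map_of_mem (by simp [l])
    · rw [← LCI19.map_ofList]
      exact Ideal.map_mono (Ideal.span_le.2 fun y hy => by
        obtain ⟨i, rfl⟩ := List.mem_ofFn.1 hy
        exact ha i)
  have hkr : KR (l.map (algebraMap A L)) := kR_of_length_le (kR_of_isWeaklyRegular lx hreg)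
    (by rw [← hspan, hlx, ofList_ofFn, ← hI]) (by simp [l, hlx])
  obtain ⟨g, hgp, hg⟩ := exists_away_kR p.asIdeal l hkr
  obtain ⟨T, hT⟩ : I.FG := IsNoetherian.noetherian I
  have hkey : ∀ z : T, ∃ t ∉ p.asIdeal, t * z.1 ∈ Ideal.ofList l := by
    intro z
    have h1 : algebraMap A L z.1 ∈ (Ideal.ofList l).map (algebraMap A L) := by
      rw [LCI19.map_ofList, ← hspan]
      exact Ideal.mem_map_of_mem _ (hT ▸ Ideal.subset_span z.2)
    obtain ⟨⟨⟨b, hb⟩, t⟩, e⟩ := (IsLocalization.mem_map_algebraMap_iff p.asIdeal.primeCompl L).1 h1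
    rw [← map_mul] at e
    obtain ⟨t', ht'⟩ := IsLocalization.exists_of_eq (M := p.asIdeal.primeCompl) e
    refine ⟨t'.1 * t.1, fun hc => (p.isPrime.mem_or_mem hc).elim t'.2 t.2, ?_⟩
    rw [mul_assoc, mul_comm t.1, ht']
    exact Ideal.mul_mem_left _ _ hb
  choose t htp ht using hkey
  refine ⟨g * ∏ z, t z, fun hc => ?_, l, fun y hy => ?_, hg _ (dvd_mul_right _ _), ?_⟩
  · rcases p.isPrime.mem_or_mem hc with h | h
    · exact hgp h
    · obtain ⟨z, -, hz⟩ := (Ideal.IsPrime.prod_mem_iff).1 h
      exact htp z hz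
  · obtain ⟨i, rfl⟩ := List.mem_ofFn.1 hy
    exact ha i
  · rw [← LCI19.map_ofList]
    refine le_antisymm ?_ (Ideal.map_mono (Ideal.span_le.2 fun y hy => by
      obtain ⟨i, rfl⟩ := List.mem_ofFn.1 hy
      exact ha i))
    rw [Ideal.map_le_iff_le_comap, ← hT]
    refine Ideal.span_le.2 fun z hz => ?_
    have hu : IsUnit (algebraMap A (Localization.Away (g * ∏ z, t z)) (t ⟨z, hz⟩)) :=
      isUnit_of_dvd_unit (map_dvd _ ((Finset.dvd_prod_of_mem _ (Finset.mem_univ _)).trans
        (dvd_mul_left _ g))) (IsLocalization.Away.algebraMap_isUnit (g * ∏ z, t z))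
    rw [SetLike.mem_coe, Ideal.mem_comap, ← Ideal.unit_mul_mem_iff_mem _ hu, ← map_mul]
    exact Ideal.mem_map_of_mem _ (ht ⟨z, hz⟩)

end Groth.Agent.FlatMor67
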