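import Groth.Agent.FlatMor67.SmoothLift

/-!
Smooth morphisms have the infinitesimal lifting property on affine thickenings.
-/

set_option linter.style.haveILetI false

universe u

namespace Groth.Agent.FlatMor67

open AlgebraicGeometry CategoryTheory

lemma isFormallySmoothHom_of_affineLocally_of_finiteType {X Y : Scheme.{u}} {f : X ⟶ Y}
    [LocallyOfFiniteType f]
    (hf : ∀ (U : X.Opens) (V : Y.Opens) (_ : IsAffineOpen U) (_ : IsAffineOpen V)
      (hUV : U ≤ f ⁻¹ᵁ V), letI := (f.appLE V U hUV).hom.toAlgebra
      Algebra.FormallySmooth Γ(Y, V) Γ(X, U)) :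
    MoreMor.IsFormallySmoothHom f := fun _ _ _ hI _ _ w =>
  SmoothLift.exists_lift_of_projective hI w hf fun _ _ _ _ hs hft hloc =>
    SqZero.projective_of_liftsAt hs (hft inferInstance) hloc

end Groth.Agent.FlatMor67
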