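import Groth.Agent.EGA4H10.RegAway
import Groth.Agent.CAlg6.RegularNormal
import Groth.Prelude.Def_Found
import Groth.Prelude.Def_EGA4b

/-!
# Smooth ring maps are regular and normal
-/

universe u

open TensorProduct

namespace Groth.Agent.FlatMor67

/-- a smooth algebra over a field is regular -/
theorem isRegularRing_of_smooth (k S : Type u) [Field k] [CommRing S] [Algebra k S] [Algebra.Smooth k S] :
    IsRegularRing S := by
  have : IsNoetherianRing S := Algebra.FiniteType.isNoetherianRing k S
  refine isRegularRing_iff.2 fun p hp => ?_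
  have : Algebra.IsSmoothAt k p := Algebra.FormallySmooth.comp k S (Localization.AtPrime p)
  obtain ⟨f, hf, n, _, _, h⟩ :=
    Algebra.IsSmoothAt.exists_isStandardEtale_mvPolynomial (R := k) (p := p)
  let S' := Localization.Away f
  have : IsNoetherianRing S' := IsLocalization.isNoetherianRing (Submonoid.powers f) _ inferInstance
  have : IsRegularRing S' := isRegularRing_iff.2 fun P _ => by
    have : Algebra.IsEtaleAt (MvPolynomial (Fin n) k) P :=
      Algebra.FormallyEtale.comp (MvPolynomial (Fin n) k) S' (Localization.AtPrime P)
    have : IsRegularLocalRing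
        (Localization.AtPrime (P.comap (algebraMap (MvPolynomial (Fin n) k) S'))) :=
      isRegularRing_iff.1 inferInstance _
    exact EGA4H10.regular_of_etaleAt (R := MvPolynomial (Fin n) k) P
  exact EGA4H10.regular_atPrime_of_isLocalization (Submonoid.powers f) S' p
    ((Ideal.disjoint_powers_iff_notMem_of_isPrime _).2 hf)

/-- a regular ring is normal -/
theorem isNormalRing_of_regular (S : Type u) [CommRing S] [IsRegularRing S] : EGA4.IsNormalRing S :=
  fun p _ => ⟨CAlg1.isDomain_regular _, CAlg6.isIntegrallyClosed_of_regular _⟩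

theorem isRegularHom_of_smooth (R S : Type u) [CommRing R] [CommRing S] [Algebra R S]
    [Algebra.Smooth R S] : CAlg.IsRegularHom R S :=
  ⟨inferInstance, fun p _ => ⟨Algebra.FiniteType.isNoetherianRing p.ResidueField _,
    fun k' _ _ _ => isRegularRing_of_smooth k' _⟩⟩

theorem isNormalHom_of_smooth (R S : Type u) [CommRing R] [CommRing S] [Algebra R S]
    [Algebra.Smooth R S] : EGA4.IsNormalHom R S :=
  ⟨inferInstance, fun p _ k' _ _ _ =>
    have := isRegularRing_of_smooth k' (k' ⊗[p.ResidueField] p.Fiber S)
    isNormalRing_of_regular _⟩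

end Groth.Agent.FlatMor67
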