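import Groth.Agent.FlatMor67.FibreFree
import Groth.Agent.Cube73.Semicont
import Groth.Agent.H98Pos.Sec
import Groth.Agent.TrivLine96.Basic
import Groth.Agent.Amp73.PullTensor
import Groth.Agent.FBase64.ExtPow.DelPezzo
import Groth.Agent.Small51.SemilocalPic

/-!
Closedness of the locus where an invertible module and its inverse have sections on the fibres, and triviality
on geometrically integral fibres.
-/

set_option autoImplicit false
set_option maxSynthPendingDepth 6
set_option synthInstance.maxHeartbeats 200000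
set_option maxHeartbeats 800000
set_option linter.style.haveILetI false
set_option backward.isDefEq.respectTransparency.types false

universe u

noncomputable section

open CategoryTheory CategoryTheory.Limits AlgebraicGeometry TopologicalSpace Opposite TensorProduct

namespace Groth.Agent.FlatMor67.TrivLocus

open QC70 FF71 Mum71 QCPull72 Cube7
open H98Pos (HasSec)

section Sec

variable {X Y : Scheme.{u}}

theorem hasSec_of_iso {M N : X.Modules} (e : M ≅ N) (h : HasSec M) : HasSec N := h.of_mono (f := e.hom)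

theorem hasSec_iff_nontrivial {M : X.Modules} : HasSec M ↔ Nontrivial Γ(M, ⊤) := by
  constructor
  · rintro ⟨s, hs⟩
    by_contra hn
    rw [not_nontrivial_iff_subsingleton] at hn
    refine hs (Scheme.Modules.hom_ext _ _ fun V => ?_)
    ext c
    refine (Amp73.app_eq_smul_val s V c).trans ?_
    rw [← Var76.ZeroScheme.res_val M s (le_top (a := V)), Subsingleton.elim (Var76.ZeroScheme.val M s ⊤) 0]
    exact (congrArg _ (map_zero _)).trans (smul_zero _)
  · intro _
    obtain ⟨m, hm⟩ := exists_ne (0 : Γ(M, ⊤))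
    refine ⟨EGA73.unitHom M m, fun h0 => hm ?_⟩
    refine Eq.trans ?_ (ConcreteCategory.congr_hom (congrArg (fun f => Scheme.Modules.Hom.app f ⊤) h0)
      ((1 : Γ(X, ⊤)) : Γ(Coh.structureModule X, ⊤)))
    refine ((EGA73.unitHom_app M m ⊤ 1).trans ((one_smul _ _).trans ?_)).symm
    rw [show (homOfLE (le_top (a := (⊤ : X.Opens)))).op = 𝟙 _ from rfl, M.presheaf.map_id]
    rfl

theorem hasSec_structureModule [Nonempty X] : HasSec (Coh.structureModule X) :=
  ⟨𝟙 _, H98Pos.ne_zero_of_mem_genLocus (x := Classical.arbitrary X) (by rw [Amp73.genLocus_id]; trivial)⟩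

/-- Pullback along an isomorphism preserves nonzero sections. -/
theorem hasSec_pullback_of_isIso (h : X ⟶ Y) [IsIso h] {M : Y.Modules} (hM : HasSec M) :
    HasSec ((Scheme.Modules.pullback h).obj M) := by
  obtain ⟨s, hs⟩ := hM
  let ε : Scheme.Modules.pullback h ⋙ Scheme.Modules.pullback (inv h) ≅ 𝟭 _ :=
    Scheme.Modules.pullbackComp (inv h) h ≪≫ Scheme.Modules.pullbackCongr (IsIso.inv_hom_id h) ≪≫
      Scheme.Modules.pullbackId Y
  refine ⟨(PicLoc.pullbackStructureIso h).inv ≫ (Scheme.Modules.pullback h).map s, fun h0 => hs ?_⟩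
  have h1 : (Scheme.Modules.pullback h).map s = 0 := by
    rw [← cancel_epi (PicLoc.pullbackStructureIso h).inv, h0, comp_zero]
  have h2 := ε.hom.naturality s
  rw [Functor.comp_map, h1, Functor.map_zero, zero_comp, Functor.id_map] at h2
  exact (cancel_epi (ε.hom.app (Coh.structureModule Y))).1 (h2.symm.trans comp_zero.symm)

theorem hasSec_pullback_iff_of_iso {W : Scheme.{u}} (h : W ≅ X) {M : X.Modules} :
    HasSec ((Scheme.Modules.pullback h.hom).obj M) ↔ HasSec M := by
  refine ⟨fun hs => ?_, hasSec_pullback_of_isIso h.hom⟩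
  exact hasSec_of_iso ((Scheme.Modules.pullbackComp h.inv h.hom).app M ≪≫
    (Scheme.Modules.pullbackCongr h.inv_hom_id).app M ≪≫ (Scheme.Modules.pullbackId X).app M)
    (hasSec_pullback_of_isIso h.inv hs)

/-- The pullback of a product with the inverse stays trivial. -/
theorem pullback_inverse (h : X ⟶ Y) {L N : Y.Modules} (hL : PicF.IsInvertible L) (hN : PicF.IsInvertible N)
    (e : CohB1.tensorMod N L ≅ Coh.structureModule Y) :
    Nonempty (CohB1.tensorMod ((Scheme.Modules.pullback h).obj N) ((Scheme.Modules.pullback h).obj L) ≅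
      Coh.structureModule X) := by
  haveI := Amp73.isIso_pullTensHom h hN hL
  exact ⟨(asIso (Amp73.pullTensHom h N L)).symm ≪≫ (Scheme.Modules.pullback h).mapIso e ≪≫
    PicLoc.pullbackStructureIso h⟩

/-- Nonzero sections of an invertible module and of its inverse trivialise it. -/
theorem iso_structureModule_of_hasSec [IsIntegral X] (hfield : IsField (Γ(X, ⊤) : Type u)) {L N : X.Modules}
    (hL : PicF.IsInvertible L) (hN : PicF.IsInvertible N) (e : CohB1.tensorMod N L ≅ Coh.structureModule X)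
    (sL : HasSec L) (sN : HasSec N) : Nonempty (L ≅ Coh.structureModule X) := by
  obtain ⟨s, hs⟩ := sL
  obtain ⟨s', hs'⟩ := sN
  refine TrivLine96.nonempty_iso_of_two_sided hfield hL s hs
    ((EGA73.tensUnitLeft L).inv ≫ H98Pos.tensMap s' L ≫ e.hom) fun h0 => ?_
  refine H98Pos.tensMap_ne_zero EGA73.isInvertible_structureModule hN hL hs' ?_
  rw [← cancel_mono e.hom, ← cancel_epi (EGA73.tensUnitLeft L).inv, h0]
  simp

/-- A trivial module with inverse has a nonzero inverse. -/
theorem hasSec_of_iso_structureModule [Nonempty X] {L N : X.Modules}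
    (e : CohB1.tensorMod N L ≅ Coh.structureModule X) (α : L ≅ Coh.structureModule X) : HasSec N :=
  hasSec_of_iso (e.symm ≪≫ EGA73.tensIso (Iso.refl N) α ≪≫ EGA73.tensUnitRight N) hasSec_structureModule

end Sec

/-- The point over a prime. -/
abbrev pt {A : CommRingCat.{u}} {S : Scheme.{u}} (g : Spec A ⟶ S) (p : PrimeSpectrum A) :
    Spec (CommRingCat.of p.asIdeal.ResidueField) ⟶ S :=
  Spec.map (CommRingCat.ofHom (algebraMap A p.asIdeal.ResidueField)) ≫ g

theorem pt_apply {A : CommRingCat.{u}} {S : Scheme.{u}} (g : Spec A ⟶ S) (p : PrimeSpectrum A)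
    (z : Spec (CommRingCat.of p.asIdeal.ResidueField)) : pt g p z = g p := by
  rw [Scheme.Hom.comp_apply]
  refine congrArg g (PrimeSpectrum.ext ?_)
  show Ideal.comap (algebraMap A p.asIdeal.ResidueField) z.asIdeal = p.asIdeal
  rw [Ideal.eq_bot_of_prime (K := p.asIdeal.ResidueField) z.asIdeal]
  exact Ideal.ker_algebraMap_residueField _

theorem nontrivial_hom_iff {A₀ A : Type u} [CommRing A₀] [CommRing A] [Algebra A₀ A] (Q : Type u) [AddCommGroup Q]
    [Module A₀ Q] [Module.Finite A₀ Q] (p : PrimeSpectrum A) :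
    Nontrivial (Q →ₗ[A₀] p.asIdeal.ResidueField) ↔ p ∈ Module.support A (A ⊗[A₀] Q) := by
  rw [Module.mem_support_iff_nontrivial_residueField_tensorProduct,
    (LinearMap.liftBaseChangeEquiv p.asIdeal.ResidueField).toEquiv.nontrivial_congr,
    (AlgebraTensorModule.cancelBaseChange A₀ A p.asIdeal.ResidueField p.asIdeal.ResidueField
      Q).toEquiv.nontrivial_congr]
  exact Module.nontrivial_dual_iff _

/-- The primes whose fibre has a nonzero section form a closed set. -/
theorem isClosed_secLocus {X S : Scheme.{u}} (f : X ⟶ S) [Flat f] [IsProper f] [LocallyOfFinitePresentation f]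
    {G : X.Modules} (hG : PicF.IsInvertible G) {A : CommRingCat.{u}} (g : Spec A ⟶ S) :
    IsClosed {p : PrimeSpectrum A | HasSec ((Scheme.Modules.pullback (pullback.fst f (pt g p))).obj G)} := by
  let g' := pullback.fst f g
  have hG' := Amp73.isInvertible_pullback g' hG
  haveI := (Amp73.isCoh_of_isInvertible hG').1
  haveI : CohB1.IsFP ((Scheme.Modules.pullback g').obj G) :=
    Props58.LocFree.isFP_of_isFinLocFree ((LimTop61.isFinLocFreeOfRank_iff.mp (Mero90.isFinLocFreeOfRank_of_isInvertible hG')).1)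
  obtain ⟨A₀, hA₀, φA, X₀, f₀, hf₀, F₀, hF₀, hfl₀, q, hq, ⟨ψ⟩⟩ :=
    Mum71.exists_proper_model (pullback.snd f g) _
      (Cube73.isFlatOver_of_isInvertible (pullback.snd f g) hG')
  letI : Algebra A₀ A := φA.hom.toAlgebra
  letI : X₀.Over (Spec (CommRingCat.of A₀)) := ⟨f₀⟩
  haveI : IsProper (X₀ ↘ Spec (CommRingCat.of A₀)) := hf₀
  haveI := hF₀.1
  obtain ⟨M⟩ := RelH0.exists_model (A₀ := A₀) F₀ hF₀ hfl₀
  have hset : ∀ p : PrimeSpectrum A, HasSec ((Scheme.Modules.pullback (pullback.fst f (pt g p))).obj G) ↔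
      p ∈ Module.support A (A ⊗[(A₀ : Type u)] M.Q) := by
    intro p
    let K := p.asIdeal.ResidueField
    let t : Spec (CommRingCat.of K) ⟶ Spec (CommRingCat.of A) :=
      Spec.map (CommRingCat.ofHom (IsScalarTower.toAlgHom A₀ A K).toRingHom)
    obtain ⟨θ, hθ, hθs⟩ : ∃ θ : pullback f g ≅ bc (A₀ : Type u) X₀ A, θ.hom ≫ bcπ (A₀ : Type u) X₀ A = q ∧
        θ.hom ≫ (bc (A₀ : Type u) X₀ A ↘ Spec (CommRingCat.of A)) = pullback.snd f g :=
      ⟨hq.isoPullback, hq.isoPullback_hom_fst, hq.isoPullback_hom_snd⟩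
    let w : bc (A₀ : Type u) X₀ K ⟶ pullback f g := RelH0.hBC (IsScalarTower.toAlgHom A₀ A K) ≫ θ.inv
    have hsq : IsPullback (w ≫ g') (bc (A₀ : Type u) X₀ K ↘ Spec (CommRingCat.of K)) f (pt g p) := by
      refine (IsPullback.paste_horiz (h₂₁ := t) ?_ (IsPullback.of_hasPullback f g))
      refine (RelH0.isPullback_hBC (X := X₀) (IsScalarTower.toAlgHom A₀ A K)).of_iso (Iso.refl _) θ.symm (Iso.refl _)
        (Iso.refl _) ?_ ?_ ?_ ?_
      · simp [w]
      · simp
      · rw [← hθs]; simp
      · simp [t]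
    have hwq : w ≫ q = bcπ (A₀ : Type u) X₀ K := by
      rw [Category.assoc, ← hθ, Iso.inv_hom_id_assoc, RelH0.hBC_fst]
    let c : (Scheme.Modules.pullback hsq.isoPullback.hom).obj
        ((Scheme.Modules.pullback (pullback.fst f (pt g p))).obj G) ≅ bcMod (A := (A₀ : Type u)) F₀ K :=
      (Scheme.Modules.pullbackComp hsq.isoPullback.hom _).app G ≪≫
        (Scheme.Modules.pullbackCongr hsq.isoPullback_hom_fst).app G ≪≫
        ((Scheme.Modules.pullbackComp w g').app G).symm ≪≫ (Scheme.Modules.pullback w).mapIso ψ.symm ≪≫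
        (Scheme.Modules.pullbackComp w q).app F₀ ≪≫ (Scheme.Modules.pullbackCongr hwq).app F₀
    rw [← hasSec_pullback_iff_of_iso hsq.isoPullback, ← nontrivial_hom_iff (A := A) M.Q p]
    refine Iff.trans ⟨hasSec_of_iso c, hasSec_of_iso c.symm⟩ ?_
    rw [hasSec_iff_nontrivial]
    exact (M.Φ K).toEquiv.nontrivial_congr.symm
  convert Module.isClosed_support (R := A) (M := A ⊗[(A₀ : Type u)] M.Q) using 1
  exact Set.ext hset

/-- A point of a field over an immersion factors through it. -/
theorem exists_lift {K : Type u} [Field K] {S Z : Scheme.{u}} (j : Z ⟶ S) [IsImmersion j]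
    (w : Spec (CommRingCat.of K) ⟶ S) (hw : ∃ z, j z = w (IsLocalRing.closedPoint K)) :
    ∃ w' : Spec (CommRingCat.of K) ⟶ Z, w' ≫ j = w := by
  have hc : Set.range (pullback.snd j w) = Set.univ := by
    rw [Scheme.Pullback.range_snd]
    refine Set.eq_univ_of_forall fun y => ?_
    obtain ⟨z, hz⟩ := hw
    exact ⟨z, hz.trans (congrArg w (Subsingleton.elim _ _))⟩
  haveI : IsClosedImmersion (pullback.snd j w) :=
    IsClosedImmersion.of_isPreimmersion _ (by rw [hc]; exact isClosed_univ)
  haveI : Surjective (pullback.snd j w) := ⟨Set.range_eq_univ.1 hc⟩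
  haveI := isIso_of_isClosedImmersion_of_surjective (pullback.snd j w)
  exact ⟨inv (pullback.snd j w) ≫ pullback.fst j w, by simp [pullback.condition]⟩

end Groth.Agent.FlatMor67.TrivLocus
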