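import Groth.Agent.FlatMor67.PCScheme
import Groth.Agent.FlatMor68.PerfKoszul
import Mathlib.RingTheory.AdjoinRoot
import Mathlib.RingTheory.Finiteness.ModuleFinitePresentation
import Mathlib.AlgebraicGeometry.Morphisms.ClosedImmersion
import Mathlib.AlgebraicGeometry.Morphisms.Finite
import Mathlib.RingTheory.TensorProduct.Free
import Groth.Prelude.Def_Mor2

/-! Finite pseudo-coherent morphisms; regular closed immersions are perfect. -/

set_option autoImplicit false
set_option backward.isDefEq.respectTransparency.types false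
set_option linter.style.haveILetI false

universe u

open CategoryTheory Limits AlgebraicGeometry TensorProduct

attribute [local instance] HasDerivedCategory.standard

namespace Groth.Agent.FlatMor67.PCF

open DR39 PCM PCH PCS

/-- Finite sets of integral elements lie in the image of a finite free algebra. -/
theorem exists_free_algHom {A B : Type u} [CommRing A] [CommRing B] [Algebra A B]
    (s : Finset B) (hs : ∀ b ∈ s, IsIntegral A b) :
    ∃ (P : Type u) (_ : CommRing P) (_ : Algebra A P) (_ : Module.Free A P) (_ : Module.Finite A P)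
      (π : P →ₐ[A] B), (s : Set B) ⊆ Set.range π := by
  classical
  induction s using Finset.induction_on with
  | empty => exact ⟨A, inferInstance, inferInstance, inferInstance, inferInstance, Algebra.ofId A B, by simp⟩
  | @insert b s _ ih =>
    obtain ⟨P, _, _, _, _, π, hπ⟩ := ih fun c hc => hs c (Finset.mem_insert_of_mem hc)
    obtain ⟨p, hp, hpb⟩ := hs b (Finset.mem_insert_self b s)
    let ρ : AdjoinRoot p →ₐ[A] B := AdjoinRoot.liftAlgHom p (Algebra.ofId A B) b (by simpa using hpb)
    haveI := hp.free_adjoinRoot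
    haveI := hp.finite_adjoinRoot
    refine ⟨P ⊗[A] AdjoinRoot p, inferInstance, inferInstance, inferInstance, inferInstance,
      Algebra.TensorProduct.productMap π ρ, ?_⟩
    intro c hc
    rw [Finset.coe_insert, Set.mem_insert_iff] at hc
    rcases hc with rfl | hc
    · exact ⟨1 ⊗ₜ AdjoinRoot.root p, by simp [ρ]⟩
    · obtain ⟨x, rfl⟩ := hπ hc
      exact ⟨x ⊗ₜ 1, by simp⟩

theorem pcHom_iff_module_of_finite (A B : Type u) [CommRing A] [CommRing B] [Algebra A B] [Module.Finite A B] :
    MoreMor.IsPseudoCoherentHom A B ↔ DRing.IsPseudoCoherentModule' A B := by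
  obtain ⟨s, hs⟩ := (inferInstance : Module.Finite A B).fg_top
  obtain ⟨P, _, _, _, _, π, hπ⟩ := exists_free_algHom (A := A) s fun b _ => IsIntegral.of_finite A b
  letI := π.toRingHom.toAlgebra
  haveI : IsScalarTower A P B := IsScalarTower.of_algHom π
  have hsurj : Function.Surjective (algebraMap P B) := by
    intro b
    have hb : b ∈ Submodule.span A (s : Set B) := by rw [hs]; trivial
    have : Submodule.span A (s : Set B) ≤ LinearMap.range π.toLinearMap := Submodule.span_le.2 fun c hc => hπ hc
    exact this hb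
  haveI : Module.FinitePresentation A P := Module.finitePresentation_of_projective A P
  haveI : Algebra.FinitePresentation A P := inferInstance
  have hP : DRing.IsPseudoCoherentModule' A P :=
    (pc'_iff_forall_pc _).2 fun n => pc_of_bff (bff_inD_of_free P)
  exact (pcHom_iff P hsurj).trans (pc'_tower_iff hP B).symm

theorem pcMor_finite_iff {X S : Scheme.{u}} (f : X ⟶ S) [IsFinite f] :
    MoreMor.IsPseudoCoherentMor f ↔ ∀ (V : S.Opens), IsAffineOpen V →
      (letI := (f.app V).hom.toAlgebra
       DRing.IsPseudoCoherentModule' Γ(S, V) Γ(X, f ⁻¹ᵁ V)) := by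
  have key : ∀ (V : S.Opens) (hV : IsAffineOpen V), pcH (f.app V).hom ↔
      (letI := (f.app V).hom.toAlgebra
       DRing.IsPseudoCoherentModule' Γ(S, V) Γ(X, f ⁻¹ᵁ V)) := by
    intro V hV
    letI := (f.app V).hom.toAlgebra
    haveI : Module.Finite Γ(S, V) Γ(X, f ⁻¹ᵁ V) := f.finite_app _ hV
    exact pcHom_iff_module_of_finite _ _
  constructor
  · intro h V hV
    refine (key V hV).1 ?_
    rw [Scheme.Hom.app_eq_appLE]
    exact h _ V (hV.preimage f) hV le_rfl
  · intro h
    refine (pcMor_iff_exists f).2 fun x => ?_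
    obtain ⟨_, ⟨V, hV, rfl⟩, hxV, -⟩ :=
      S.isBasis_affineOpens.exists_subset_of_mem_open (Set.mem_univ (f x)) isOpen_univ
    refine ⟨f ⁻¹ᵁ V, V, le_rfl, hV.preimage f, hV, hxV, ?_⟩
    rw [← Scheme.Hom.app_eq_appLE]
    exact (key V hV).2 (h V hV)

theorem pfH_of_surjective_ker {A B : Type u} [CommRing A] [CommRing B] (f : A →+* B)
    (hf : Function.Surjective f) (l : List A) (hl : RingTheory.Sequence.IsWeaklyRegular A l)
    (hker : RingHom.ker f = Ideal.ofList l) : pfH f := by
  letI := f.toAlgebra
  let e : (A ⧸ Ideal.ofList l) ≃ₗ[A] B :=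
    (Submodule.quotEquivOfEq (Ideal.ofList l) (LinearMap.ker (Algebra.linearMap A B)) hker.symm).trans
      ((Algebra.linearMap A B).quotKerEquivOfSurjective hf)
  exact perfectHom_of_module A hf
    (perfect_congr e (FlatMor68.PerfKoszul.perfect_quotient_of_kR l (Koszul19.kR_of_isWeaklyRegular l hl)))

theorem pfMor_of_regularClosedImmersion {Z X : Scheme.{u}} (i : Z ⟶ X)
    (hi : Mor2.IsRegularClosedImmersion i) : MoreMor.IsPerfectMor i := by
  haveI := hi.1
  refine (pfMor_iff_exists i).2 fun z => ?_
  obtain ⟨U, hU, hz, rs, hrs, hker⟩ := hi.2 z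
  refine ⟨i ⁻¹ᵁ U, U, le_rfl, hU.preimage i, hU, hz, ?_⟩
  rw [← Scheme.Hom.app_eq_appLE]
  exact pfH_of_surjective_ker _ (i.app_surjective U hU) rs hrs.toIsWeaklyRegular
    ((Scheme.Hom.ker_apply i ⟨U, hU⟩).symm.trans hker)

end Groth.Agent.FlatMor67.PCF
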