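import Groth.Agent.Koszul19.BaseChange

/-!
# Concatenation of Koszul-regular sequences

If `f` is Koszul-regular in `A` and the image of `g` is Koszul-regular in `A/(f)`, then `g ++ f` is
Koszul-regular: the termwise surjection `K(g ++ f) → K_{A/(f)}(g)` has an exact kernel, because this holds
for the empty `g` and is inherited by mapping cones.
-/

universe u

open CategoryTheory

namespace Groth.Agent.FlatMor67

open Koszul19

variable {A B : Type u} [CommRing A] [CommRing B] [Algebra A B]

/-- A termwise surjective semilinear map of complexes with exact kernel. -/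
structure Reduction (K : CochainComplex (ModuleCat.{u} A) ℤ)
    (L : CochainComplex (ModuleCat.{u} B) ℤ) : Type u where
  /-- the components -/
  φ : ∀ q, (K.X q : Type u) →+ (L.X q : Type u)
  smul : ∀ q (a : A) (x : K.X q), φ q (a • x) = algebraMap A B a • φ q x
  comm : ∀ q q₁, q + 1 = q₁ → ∀ x, φ q₁ (dd K q q₁ x) = dd L q q₁ (φ q x)
  surj : ∀ q, Function.Surjective (φ q)
  ker : ∀ p q j, p + 1 = q → q + 1 = j → ∀ z, φ q z = 0 → dd K q j z = 0 →
    ∃ w, φ p w = 0 ∧ dd K p q w = z

namespace Reduction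

variable {K : CochainComplex (ModuleCat.{u} A) ℤ} {L : CochainComplex (ModuleCat.{u} B) ℤ}

lemma ex (r : Reduction K L) {q : ℤ} (h : Ex L q) : Ex K q := by
  intro p j hp hj z hz
  obtain ⟨w', hw'⟩ := h p j hp hj (r.φ q z) (by rw [← r.comm q j hj, hz, map_zero])
  obtain ⟨w, rfl⟩ := r.surj p w'
  obtain ⟨v, -, hv⟩ := r.ker p q j hp hj (z - dd K p q w)
    (by rw [map_sub, r.comm p q hp, hw', sub_self]) (by rw [map_sub, hz, dd_dd, sub_self])
  exact ⟨w + v, by rw [map_add, hv, add_sub_cancel]⟩

/-- reductions pass to cones -/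
noncomputable def cone (r : Reduction K L) {x : A} {M : CochainComplex (ModuleCat.{u} A) ℤ}
    {N : CochainComplex (ModuleCat.{u} B) ℤ} (c : ConeData x K M)
    (c' : ConeData (algebraMap A B x) L N) : Reduction M N where
  φ q := AddMonoidHom.mk' (fun z => (c'.e q (q + 1) rfl).symm
      (r.φ (q + 1) (c.e q (q + 1) rfl z).1, r.φ q (c.e q (q + 1) rfl z).2))
    fun z z' => by simp only [map_add, Prod.fst_add, Prod.snd_add, ← Prod.mk_add_mk]
  smul q a y := by
    simp only [AddMonoidHom.mk'_apply, map_smul, Prod.smul_fst, Prod.smul_snd, r.smul,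
      ← Prod.smul_mk]
  comm q q₁ h y := by
    subst h
    apply (c'.e (q + 1) (q + 1 + 1) rfl).injective
    simp only [AddMonoidHom.mk'_apply, LinearEquiv.apply_symm_apply,
      c'.d_eq q (q + 1) (q + 1 + 1) rfl rfl, c.d_eq q (q + 1) (q + 1 + 1) rfl rfl,
      map_neg, map_add, r.smul, r.comm (q + 1) (q + 1 + 1) rfl, r.comm q (q + 1) rfl]
  surj q y := by
    obtain ⟨⟨a, b⟩, rfl⟩ := (c'.e q (q + 1) rfl).symm.surjective y
    obtain ⟨a, rfl⟩ := r.surj (q + 1) a
    obtain ⟨b, rfl⟩ := r.surj q b
    exact ⟨(c.e q (q + 1) rfl).symm (a, b), by simp⟩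
  ker p q j hp hj z hφ hz := by
    subst hj hp
    simp only [AddMonoidHom.mk'_apply, LinearEquiv.map_eq_zero_iff, Prod.mk_eq_zero] at hφ
    obtain ⟨ha, hb⟩ := (c.cycle_iff (p + 1) (p + 1 + 1) (p + 1 + 1 + 1) rfl rfl z).1 hz
    obtain ⟨a', ha'0, ha'⟩ := r.ker (p + 1) (p + 1 + 1) _ rfl rfl _ hφ.1 ha
    obtain ⟨v, hv0, hv⟩ := r.ker p (p + 1) _ rfl rfl
      (x • a' + (c.e (p + 1) (p + 1 + 1) rfl z).2)
      (by rw [map_add, r.smul, ha'0, smul_zero, hφ.2, add_zero])
      (by rw [map_add, map_smul, ha', hb])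
    refine ⟨(c.e p (p + 1) rfl).symm (-a', v), ?_, (c.e (p + 1) (p + 1 + 1) rfl).injective ?_⟩
    · simp [ha'0, hv0]
    · rw [c.e_d_symm p (p + 1) (p + 1 + 1) rfl rfl, map_neg, neg_neg, ha', smul_neg, hv]
      exact Prod.ext rfl (by simp)

end Reduction

/-- the augmentation of a Koszul-regular sequence -/
noncomputable def reductionNil (f : List A) (hs : Function.Surjective (algebraMap A B))
    (hker : RingHom.ker (algebraMap A B) = Ideal.ofList f) (hf : KR f) :
    Reduction (Koszul.koszul A f) (Koszul.koszul B []) where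
  φ q := if h : q = 0 then h ▸ ((nilZero (A := B)).symm.toAddEquiv.toAddMonoidHom.comp
      ((algebraMap A B).toAddMonoidHom.comp (eps f).toAddEquiv.toAddMonoidHom)) else 0
  smul q a y := by
    by_cases h : q = 0
    · subst h
      simp only [↓reduceDIte, AddMonoidHom.comp_apply]
      show (nilZero (A := B)).symm (algebraMap A B (eps f (a • y))) =
        algebraMap A B a • (nilZero (A := B)).symm (algebraMap A B (eps f y))
      rw [map_smul, smul_eq_mul, map_mul, ← map_smul, smul_eq_mul]
    · exact (subsingleton_nil (A := B) h).elim _ _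
  comm q q₁ h y := by
    by_cases h1 : q₁ = 0
    · subst h1
      obtain rfl : q = -1 := by omega
      have : eps f (dd (Koszul.koszul A f) (-1) 0 y) ∈ RingHom.ker (algebraMap A B) := by
        rw [hker, eps_mem_iff]
        exact ⟨y, rfl⟩
      simp [RingHom.mem_ker.1 this]
    · exact (subsingleton_nil (A := B) h1).elim _ _
  surj q y := by
    by_cases h : q = 0
    · subst h
      obtain ⟨a, ha⟩ := hs (nilZero y)
      exact ⟨(eps f).symm a, by simp [ha]⟩
    · exact ⟨0, (subsingleton_nil (A := B) h).elim _ _⟩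
  ker p q j hp hj z hφ hz := by
    by_cases h : q = 0
    · subst h
      simp at hφ
      obtain rfl : p = -1 := by omega
      obtain ⟨w, hw⟩ := (eps_mem_iff f z).1 (hker ▸ RingHom.mem_ker.2 hφ)
      exact ⟨w, (subsingleton_nil (A := B) (by omega)).elim _ _, hw⟩
    · by_cases hp0 : p = 0
      · have := subsingleton_X f q (Or.inl (by omega))
        exact ⟨0, map_zero _, Subsingleton.elim _ _⟩
      · obtain ⟨w, hw⟩ := hf q h p j hp hj z hz
        exact ⟨w, (subsingleton_nil (A := B) hp0).elim _ _, hw⟩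

/-- the reduction of `K(g ++ f)` modulo `(f)` -/
noncomputable def reduction (f : List A) (hs : Function.Surjective (algebraMap A B))
    (hker : RingHom.ker (algebraMap A B) = Ideal.ofList f) (hf : KR f) : (g : List A) →
    Reduction (Koszul.koszul A (g ++ f)) (Koszul.koszul B (g.map (algebraMap A B)))
  | [] => reductionNil f hs hker hf
  | x :: g => (reduction f hs hker hf g).cone (consData x (g ++ f)) (consData (algebraMap A B x) _)

/-- **Koszul-regular followed by Koszul-regular modulo it is Koszul-regular.** -/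
lemma kR_append (hs : Function.Surjective (algebraMap A B)) {f g : List A}
    (hker : RingHom.ker (algebraMap A B) = Ideal.ofList f) (hf : KR f)
    (hg : KR (g.map (algebraMap A B))) : KR (g ++ f) :=
  fun q hq => (reduction f hs hker hf g).ex (hg q hq)

end Groth.Agent.FlatMor67
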