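import Mathlib.RingTheory.Flat.Tensor
import Mathlib.RingTheory.Ideal.Pure
import Mathlib.RingTheory.TensorProduct.Maps
import Mathlib.LinearAlgebra.TensorProduct.Quotient
import Mathlib.RingTheory.Etale.Weakly

/-!
If the multiplication map `B ⊗[A] B → B` is flat, a `B`-module flat over `A` is flat over `B`.
-/

set_option linter.style.haveILetI false

universe u₁ u₂ v

namespace Groth.Agent.FlatMor67

open TensorProduct

variable {A : Type u₁} {B : Type u₂} [CommRing A] [CommRing B] [Algebra A B]

lemma pure_ker_lmul' (hμ : (Algebra.TensorProduct.lmul' A (S := B)).Flat) :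
    (RingHom.ker (Algebra.TensorProduct.lmul' A (S := B)).toRingHom).Pure := by
  set μ := (Algebra.TensorProduct.lmul' A (S := B)).toRingHom with hμ'
  have hs : Function.Surjective μ := fun b => ⟨b ⊗ₜ 1, by simp [hμ']⟩
  letI := μ.toAlgebra
  haveI : Module.Flat (B ⊗[A] B) B := hμ
  let e : ((B ⊗[A] B) ⧸ RingHom.ker μ) ≃ₗ[B ⊗[A] B] B :=
    (Ideal.quotientKerAlgEquivOfSurjective (f := Algebra.ofId (B ⊗[A] B) B) hs).toLinearEquiv
  exact Module.Flat.of_linearEquiv e

/-- Flatness over the target of a flat multiplication map. -/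
theorem flat_of_flat_lmul' (hμ : (Algebra.TensorProduct.lmul' A (S := B)).Flat)
    (M : Type v) [AddCommGroup M] [Module A M] [Module B M] [IsScalarTower A B M]
    [Module.Flat A M] : Module.Flat B M := by
  set μ := (Algebra.TensorProduct.lmul' A (S := B)).toRingHom with hμ'
  haveI := pure_ker_lmul' hμ
  rw [Module.Flat.iff_rTensor_injective]
  intro I _
  -- the two actions of `B` on `N ⊗[A] M`
  let actI : (B ⊗[A] B) →ₐ[A] Module.End A (I ⊗[A] M) :=
    Algebra.TensorProduct.lift
      ((Module.End.rTensorAlgHom A I M).comp (Algebra.lsmul A A I))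
      ((Module.End.lTensorAlgHom A M I).comp (Algebra.lsmul A A M))
      (fun x y => TensorProduct.ext' fun n m => rfl)
  let actB : (B ⊗[A] B) →ₐ[A] Module.End A (B ⊗[A] M) :=
    Algebra.TensorProduct.lift
      ((Module.End.rTensorAlgHom A B M).comp (Algebra.lsmul A A B))
      ((Module.End.lTensorAlgHom A M B).comp (Algebra.lsmul A A M))
      (fun x y => TensorProduct.ext' fun n m => rfl)
  have hactI : ∀ (a b : B) (n : I) (m : M), actI (a ⊗ₜ b) (n ⊗ₜ m) = (a • n) ⊗ₜ (b • m) :=
    fun a b n m => by simp only [actI]; rfl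
  have hactB : ∀ (a b : B) (n : B) (m : M), actB (a ⊗ₜ b) (n ⊗ₜ m) = (a • n) ⊗ₜ (b • m) :=
    fun a b n m => by simp only [actB]; rfl
  let f : I ⊗[A] M →ₗ[A] B ⊗[A] M := (I.subtype.restrictScalars A).rTensor M
  have hf : Function.Injective f :=
    Module.Flat.rTensor_preserves_injective_linearMap _ I.injective_subtype
  have hcomm : ∀ (p : B ⊗[A] B) (z : I ⊗[A] M), f (actI p z) = actB p (f z) := by
    intro p z
    induction p using TensorProduct.induction_on with
    | zero => simp
    | add p q hp hq => simp [hp, hq]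
    | tmul a b =>
      induction z using TensorProduct.induction_on with
      | zero => simp
      | add z w hz hw => simp [hz, hw]
      | tmul n m => simp [f, hactI, hactB]
  -- elements killed in `B ⊗[B] M` are fixed by some element of the kernel of multiplication
  have key : ∀ z ∈ (TensorProduct.mapOfCompatibleSMul B A B B M).ker,
      ∃ e ∈ RingHom.ker μ, actB e z = z := by
    intro z hz
    rw [AlgebraTensorModule.ker_mapOfCompatibleSMul] at hz
    induction hz using Submodule.span_induction with
    | zero => exact ⟨0, zero_mem _, by simp⟩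
    | mem z hz =>
      obtain ⟨a, n, m, rfl⟩ := hz
      have hd : a ⊗ₜ[A] (1 : B) - 1 ⊗ₜ[A] a ∈ RingHom.ker μ := by simp [hμ']
      obtain ⟨e, he, hde⟩ := Ideal.exists_eq_mul_of_pure hd
      refine ⟨e, he, ?_⟩
      have h1 : (a • n) ⊗ₜ[A] m - n ⊗ₜ[A] (a • m) =
          actB (a ⊗ₜ 1 - 1 ⊗ₜ a) (n ⊗ₜ m) := by simp [hactB]
      rw [h1, ← Module.End.mul_apply, ← map_mul, mul_comm, ← hde]
    | add z w _ _ hz hw =>
      obtain ⟨e₁, he₁, hz⟩ := hz
      obtain ⟨e₂, he₂, hw⟩ := hw
      refine ⟨e₁ + e₂ - e₂ * e₁, sub_mem (add_mem he₁ he₂) (Ideal.mul_mem_left _ e₂ he₁), ?_⟩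
      have h2 : actB (e₂ * e₁) w = actB e₁ w := by
        rw [mul_comm, map_mul, Module.End.mul_apply, hw]
      simp only [map_sub, map_add, LinearMap.sub_apply, LinearMap.add_apply]
      rw [h2, map_mul, Module.End.mul_apply, hz, hw]
      abel
    | smul b z _ hz =>
      obtain ⟨e, he, hz⟩ := hz
      refine ⟨e, he, ?_⟩
      have hb : ∀ w : B ⊗[A] M, b • w = actB (b ⊗ₜ 1) w := fun w => by
        induction w using TensorProduct.induction_on with
        | zero => simp
        | add w₁ w₂ h₁ h₂ => simp [h₁, h₂]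
        | tmul n m => simp [hactB, smul_tmul']
      rw [hb, ← Module.End.mul_apply, ← map_mul, mul_comm, map_mul, Module.End.mul_apply, hz]
  -- compatibility with the quotient maps
  let πI := TensorProduct.mapOfCompatibleSMul B A B I M
  let πB := TensorProduct.mapOfCompatibleSMul B A B B M
  have hsq : ∀ z, πB (f z) = I.subtype.rTensor M (πI z) := fun z => by
    induction z using TensorProduct.induction_on with
    | zero => simp
    | add z w hz hw => simp [hz, hw]
    | tmul n m => simp [f, πI, πB]
  have hkill : ∀ p ∈ RingHom.ker μ, ∀ z, πI (actI p z) = 0 := by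
    intro p hp z
    have : ∀ q : B ⊗[A] B, πI (actI q z) = μ q • πI z := fun q => by
      induction q using TensorProduct.induction_on with
      | zero => simp
      | add q r hq hr => simp [hq, hr, add_smul]
      | tmul a b =>
        induction z using TensorProduct.induction_on with
        | zero => simp
        | add z w hz hw => simp [hz, hw]
        | tmul n m => simp [hactI, πI, hμ', smul_tmul', mul_smul]; rw [smul_comm]
    rw [this, RingHom.mem_ker.mp hp, zero_smul]
  rw [injective_iff_map_eq_zero]
  intro y hy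
  obtain ⟨z, rfl⟩ := TensorProduct.mapOfCompatibleSMul_surjective B A B I M y
  obtain ⟨e, he, hez⟩ := key (f z) (by rw [LinearMap.mem_ker]; exact (hsq z).trans hy)
  rw [← hcomm] at hez
  rw [← hf hez]
  exact hkill e he z

end Groth.Agent.FlatMor67
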