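import Groth.Agent.FlatMor67.FlatMul
import Mathlib.AlgebraicGeometry.Morphisms.WeaklyEtale
import Mathlib.AlgebraicGeometry.Morphisms.Flat

/-!
Morphisms with flat diagonal on affine charts and stalks.
-/

set_option linter.style.haveILetI false
set_option backward.isDefEq.respectTransparency.types false

universe u v

namespace Groth.Agent.FlatMor67

open AlgebraicGeometry CategoryTheory Limits MorphismProperty

variable {X Y : Scheme.{u}}

lemma diagonalFlat_of_mono (g : X ⟶ Y) [Mono g] : (diagonal @Flat) g := by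
  show Flat (pullback.diagonal g)
  infer_instance

lemma diagonalFlat_resLE {f : X ⟶ Y} (hf : (diagonal @Flat) f) {U : X.Opens} {V : Y.Opens}
    (hUV : U ≤ f ⁻¹ᵁ V) : (diagonal @Flat) (f.resLE V U hUV) := by
  rw [Scheme.Hom.resLE]
  exact MorphismProperty.comp_mem _ _ _ (diagonalFlat_of_mono _)
    (IsZariskiLocalAtTarget.restrict hf V)

/-- `f.resLE` between affine opens is `Spec` of `appLE`. -/
lemma resLE_eq_specMap (f : X ⟶ Y) {U : X.Opens} {V : Y.Opens} (hU : IsAffineOpen U)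
    (hV : IsAffineOpen V) (hUV : U ≤ f ⁻¹ᵁ V) :
    f.resLE V U hUV ≫ hV.isoSpec.hom = hU.isoSpec.hom ≫ Spec.map (f.appLE V U hUV) := by
  rw [← cancel_mono hV.fromSpec, Category.assoc, Category.assoc, IsAffineOpen.isoSpec_hom,
    IsAffineOpen.isoSpec_hom, IsAffineOpen.toSpecΓ_fromSpec, Scheme.Hom.resLE_comp_ι,
    hV.SpecMap_appLE_fromSpec f hU hUV, IsAffineOpen.toSpecΓ_fromSpec_assoc]

lemma resLE_iff_specMap (P : MorphismProperty Scheme.{u}) [P.RespectsIso] (f : X ⟶ Y)
    {U : X.Opens} {V : Y.Opens} (hU : IsAffineOpen U) (hV : IsAffineOpen V)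
    (hUV : U ≤ f ⁻¹ᵁ V) : P (f.resLE V U hUV) ↔ P (Spec.map (f.appLE V U hUV)) := by
  rw [← P.cancel_right_of_respectsIso (f.resLE V U hUV) hV.isoSpec.hom,
    resLE_eq_specMap f hU hV hUV, P.cancel_left_of_respectsIso]

lemma diagonalFlat_specMap_iff (A B : Type u) [CommRing A] [CommRing B] [Algebra A B] :
    (diagonal @Flat) (Spec.map (CommRingCat.ofHom (algebraMap A B))) ↔
      (Algebra.TensorProduct.lmul' A (S := B)).Flat := by
  show Flat (pullback.diagonal _) ↔ _
  rw [diagonal_SpecMap, MorphismProperty.cancel_right_of_respectsIso @Flat,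
    HasRingHomProperty.Spec_iff (P := @Flat)]
  rfl

/-- Flat multiplication on affine charts. -/
lemma flat_lmul'_appLE {f : X ⟶ Y} (hf : (diagonal @Flat) f) {U : X.Opens} {V : Y.Opens}
    (hU : IsAffineOpen U) (hV : IsAffineOpen V) (hUV : U ≤ f ⁻¹ᵁ V) :
    letI := (f.appLE V U hUV).hom.toAlgebra
    (Algebra.TensorProduct.lmul' Γ(Y, V) (S := Γ(X, U))).Flat := by
  letI := (f.appLE V U hUV).hom.toAlgebra
  exact (diagonalFlat_specMap_iff Γ(Y, V) Γ(X, U)).mp
    ((resLE_iff_specMap (diagonal @Flat) f hU hV hUV).mp (diagonalFlat_resLE hf hUV))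

/-- A module over a stalk of `X`, flat over the stalk of `Y`, is flat when the diagonal is flat. -/
theorem flat_stalk_of_diagonalFlat {f : X ⟶ Y} (hf : (diagonal @Flat) f) (x : X)
    (M : Type v) [AddCommGroup M] [Module (X.presheaf.stalk x) M]
    (h : letI := Module.compHom M (f.stalkMap x).hom
      Module.Flat (Y.presheaf.stalk (f x)) M) :
    Module.Flat (X.presheaf.stalk x) M := by
  obtain ⟨_, ⟨V, hV, rfl⟩, hxV, -⟩ :=
    Y.isBasis_affineOpens.exists_subset_of_mem_open (Set.mem_univ (f x)) isOpen_univ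
  obtain ⟨_, ⟨U, hU, rfl⟩, hxU, hUV⟩ :=
    X.isBasis_affineOpens.exists_subset_of_mem_open hxV (f ⁻¹ᵁ V).isOpen
  letI := (f.appLE V U hUV).hom.toAlgebra
  letI : Algebra Γ(X, U) (X.presheaf.stalk x) := X.presheaf.algebra_section_stalk ⟨x, hxU⟩
  letI : Algebra Γ(Y, V) (Y.presheaf.stalk (f x)) := Y.presheaf.algebra_section_stalk ⟨f x, hxV⟩
  haveI hlX := hU.isLocalization_stalk ⟨x, hxU⟩
  haveI hlY := hV.isLocalization_stalk ⟨f x, hxV⟩
  letI : Module (Y.presheaf.stalk (f x)) M := Module.compHom M (f.stalkMap x).hom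
  letI : Module Γ(X, U) M := Module.compHom M (algebraMap Γ(X, U) (X.presheaf.stalk x))
  letI : Module Γ(Y, V) M := Module.compHom M (algebraMap Γ(Y, V) Γ(X, U))
  haveI : IsScalarTower Γ(X, U) (X.presheaf.stalk x) M :=
    IsScalarTower.of_algebraMap_smul fun r m => rfl
  haveI : IsScalarTower Γ(Y, V) Γ(X, U) M := IsScalarTower.of_algebraMap_smul fun r m => rfl
  haveI : IsScalarTower Γ(Y, V) (Y.presheaf.stalk (f x)) M := by
    refine IsScalarTower.of_algebraMap_smul fun r m => ?_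
    change (f.stalkMap x) (Y.presheaf.germ V (f x) hxV r) • m =
      (X.presheaf.germ U x hxU (f.appLE V U hUV r)) • m
    rw [Scheme.Hom.germ_stalkMap_apply]
    congr 1
    exact (X.presheaf.germ_res_apply (homOfLE hUV) x hxU _).symm
  haveI : Module.Flat Γ(Y, V) M :=
    (Module.flat_iff_of_isLocalization (Y.presheaf.stalk (f x))
      (hV.primeIdealOf ⟨f x, hxV⟩).asIdeal.primeCompl M).mp h
  haveI := flat_of_flat_lmul' (flat_lmul'_appLE hf hU hV hUV) M
  exact (Module.flat_iff_of_isLocalization (X.presheaf.stalk x)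
    (hU.primeIdealOf ⟨x, hxU⟩).asIdeal.primeCompl M).mpr inferInstance

end Groth.Agent.FlatMor67
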