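import Groth.Agent.FlatMor67.FlatMul
import Mathlib.RingTheory.Nilpotent.Basic
import Mathlib.RingTheory.LocalRing.ResidueField.Ideal

/-!
Weakly étale algebras over reduced rings are reduced.
-/

set_option linter.style.haveILetI false

universe u

namespace Groth.Agent.FlatMor67

open TensorProduct

lemma flat_of_vonNeumannRegular {K : Type u} [CommRing K] (h : ∀ x : K, ∃ y, x * x * y = x)
    (M : Type u) [AddCommGroup M] [Module K M] : Module.Flat K M := by
  rw [Module.Flat.iff_rTensor_injective]
  intro I hI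
  have hid : IsIdempotentElem I := le_antisymm Ideal.mul_le_left fun x hx => by
    obtain ⟨y, hy⟩ := h x
    rw [← hy, mul_assoc]
    exact Ideal.mul_mem_mul hx (Ideal.mul_mem_right _ _ hx)
  obtain ⟨e, he, rfl⟩ := (Ideal.isIdempotentElem_iff_of_fg _ hI).mp hid
  let r : K →ₗ[K] ↥(Submodule.span K {e} : Ideal K) :=
    LinearMap.toSpanSingleton K _ ⟨e, Submodule.mem_span_singleton_self e⟩
  have hr : r ∘ₗ (Submodule.span K {e} : Ideal K).subtype = LinearMap.id := by
    refine LinearMap.ext fun ⟨x, hx⟩ => Subtype.ext ?_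
    obtain ⟨c, rfl⟩ := Submodule.mem_span_singleton.mp hx
    simp [r, mul_assoc, he.eq]
  intro a b hab
  simpa [← LinearMap.rTensor_comp_apply, hr] using congrArg (r.rTensor M) hab

lemma isReduced_of_weaklyEtale_vnr {K S : Type u} [CommRing K] [CommRing S] [Algebra K S]
    (h : ∀ x : K, ∃ y, x * x * y = x) [Algebra.WeaklyEtale K S] : IsReduced S := by
  refine isReduced_iff_pow_one_lt 2 one_lt_two |>.mpr fun x hx => ?_
  haveI := flat_of_vonNeumannRegular h (S ⧸ Ideal.span {x})
  haveI : Ideal.Pure (Ideal.span {x}) :=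
    flat_of_flat_lmul' (Algebra.WeaklyEtale.flat_lmul' K S) (S ⧸ Ideal.span {x})
  obtain ⟨y, hy, hxy⟩ := Ideal.exists_eq_mul_of_pure (Ideal.mem_span_singleton_self x)
  obtain ⟨c, rfl⟩ := Ideal.mem_span_singleton'.mp hy
  rw [hxy]
  linear_combination c * hx

theorem isReduced_of_weaklyEtale (R S : Type u) [CommRing R] [CommRing S] [Algebra R S]
    [IsReduced R] [Algebra.WeaklyEtale R S] : IsReduced S := by
  let K := ∀ p : PrimeSpectrum R, p.asIdeal.ResidueField
  have hK : ∀ x : K, ∃ y, x * x * y = x := fun x =>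
    ⟨fun p => (x p)⁻¹, funext fun p => by
      show x p * x p * (x p)⁻¹ = x p
      exact mul_self_mul_inv (x p)⟩
  have hRK : Function.Injective (Algebra.linearMap R K) := by
    rw [injective_iff_map_eq_zero]
    intro x hx
    apply IsReduced.eq_zero
    rw [← mem_nilradical, nilradical_eq_sInf, Ideal.mem_sInf]
    intro J hJ
    haveI : J.IsPrime := hJ
    have := congrFun hx ⟨J, hJ⟩
    exact Ideal.algebraMap_residueField_eq_zero.mp this
  haveI := isReduced_of_weaklyEtale_vnr (S := K ⊗[R] S) hK
  refine isReduced_of_injective (Algebra.TensorProduct.includeRight (R := R) (A := K) (B := S)) ?_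
  have hinj := Module.Flat.rTensor_preserves_injective_linearMap (M := S) _ hRK
  intro a b hab
  have hlid : ∀ s : S, (Algebra.linearMap R K).rTensor S ((1 : R) ⊗ₜ s) = (1 : K) ⊗ₜ s :=
    fun s => by simp
  have h2 := hinj ((hlid a).trans (hab.trans (hlid b).symm))
  simpa using congrArg (TensorProduct.lid R S) h2

end Groth.Agent.FlatMor67
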