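import Mathlib.AlgebraicGeometry.Limits
import Mathlib.AlgebraicGeometry.Noetherian

/-! A Noetherian scheme has a dense affine open. -/

universe u

open CategoryTheory

namespace Groth.Agent.FlatMor67

open AlgebraicGeometry TopologicalSpace

theorem exists_dense_affineOpen (X : Scheme.{u}) [NoetherianSpace X] :
    ∃ U : X.Opens, IsAffineOpen U ∧ Dense (U : Set X) := by
  classical
  have hfin := NoetherianSpace.finite_irreducibleComponents (α := X)
  let O : Set X → X.Opens := fun Z =>
    ⟨(⋃₀ (irreducibleComponents X \ {Z}))ᶜ, by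
      rw [Set.sUnion_eq_biUnion, isOpen_compl_iff]
      exact hfin.sdiff.isClosed_biUnion fun W hW => isClosed_of_mem_irreducibleComponents W hW.1⟩
  have hO : ∀ Z ∈ irreducibleComponents X, closure (O Z : Set X) = Z := fun Z hZ =>
    closure_sUnion_irreducibleComponents_sdiff_singleton hfin Z hZ
  have hne : ∀ Z ∈ irreducibleComponents X, ∃ U : X.Opens, IsAffineOpen U ∧ U ≤ O Z ∧
      (U : Set X).Nonempty := by
    intro Z hZ
    obtain ⟨x, hx⟩ : (O Z : Set X).Nonempty := by
      rw [Set.nonempty_iff_ne_empty]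
      intro h
      have := hO Z hZ
      rw [h, closure_empty] at this
      exact hZ.1.nonempty.ne_empty this.symm
    obtain ⟨_, ⟨U, hU, rfl⟩, hxU, hUO⟩ :=
      X.isBasis_affineOpens.exists_subset_of_mem_open hx (O Z).isOpen
    exact ⟨U, hU, hUO, ⟨x, hxU⟩⟩
  choose! U hU hUO hUne using hne
  refine ⟨⨆ Z ∈ irreducibleComponents X, U Z, IsAffineOpen.biSup_of_disjoint hfin
    (fun Z hZ => hU Z hZ) ?_, ?_⟩
  · intro Z hZ Z' hZ' hne
    simp only [Function.onFun, disjoint_iff, eq_bot_iff]
    intro x hx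
    have h1 : x ∈ (O Z : Set X) := hUO Z hZ hx.1
    have h2 : x ∈ (O Z' : Set X) := hUO Z' hZ' hx.2
    obtain ⟨W, hW, hxW⟩ : ∃ W ∈ irreducibleComponents X, x ∈ W :=
      ⟨_, irreducibleComponent_mem_irreducibleComponents x, mem_irreducibleComponent⟩
    have e1 : W = Z := by
      by_contra h
      exact h1 ⟨W, ⟨hW, h⟩, hxW⟩
    have e2 : W = Z' := by
      by_contra h
      exact h2 ⟨W, ⟨hW, h⟩, hxW⟩
    exact hne (e1.symm.trans e2)
  · rw [dense_iff_closure_eq, Set.eq_univ_iff_forall]
    intro x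
    obtain ⟨Z, hZ, hxZ⟩ : ∃ Z ∈ irreducibleComponents X, x ∈ Z :=
      ⟨_, irreducibleComponent_mem_irreducibleComponents x, mem_irreducibleComponent⟩
    have hsub : (U Z : Set X) ⊆ ((⨆ W ∈ irreducibleComponents X, U W : X.Opens) : Set X) :=
      SetLike.coe_subset_coe.mpr (le_iSup₂_of_le Z hZ le_rfl)
    refine closure_mono hsub ?_
    have hZsub : (U Z : Set X) ⊆ Z := fun y hy => by
      rw [← hO Z hZ]; exact subset_closure (hUO Z hZ hy)
    have : Z ⊆ closure (U Z : Set X) :=
      subset_closure_inter_of_isPreirreducible_of_isOpen hZ.1.isPreirreducible (U Z).isOpen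
        (by rw [Set.inter_eq_right.mpr hZsub]; exact hUne Z hZ) |>.trans
          (closure_mono Set.inter_subset_right)
    exact this hxZ

end Groth.Agent.FlatMor67
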