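import Groth.Agent.ParaF26.FlatSec
import Groth.Agent.FlatMor67.GenericFibre
import Groth.Agent.FinCov99.Dbl
import Groth.Agent.Pinch99.Faithful
import Groth.Agent.Props58.LocFree.Criteria
import Mathlib.RingTheory.OrzechProperty

/-!
A finite locally free module which is free over `Spec O_{S,s}` has a basis of sections over the preimage of a
neighbourhood of `s`, for a proper morphism.
-/

set_option autoImplicit false
set_option maxSynthPendingDepth 6
set_option synthInstance.maxHeartbeats 200000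
set_option maxHeartbeats 800000
set_option linter.style.haveILetI false
set_option backward.isDefEq.respectTransparency.types false

universe u

noncomputable section

open CategoryTheory CategoryTheory.Limits AlgebraicGeometry TopologicalSpace Opposite TensorProduct
open Groth.Agent.QC70 Groth.Agent.Props58.LocFree Groth.Agent.DCK91 Groth.Agent.Amp73

namespace Groth.Agent.FlatMor67.SpreadBasis

/-- Transport of a stalk basis along an isomorphism. -/
theorem stalkBasis_map {X : Scheme.{u}} {M N : X.Modules} (α : M ≅ N) {U : X.Opens} {n : ℕ}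
    {s : Fin n → Γ(M, U)} (hs : StalkBasis s) : StalkBasis fun i => α.hom.app U (s i) := by
  refine FinCov99.stalkBasis_of_bijective fun W hW => ?_
  have e : (fun a : Fin n → Γ(X, W) => ∑ i, a i • res N hW (α.hom.app U (s i))) =
      (α.hom.app W : _ → _) ∘ fun a => ∑ i, a i • res M hW (s i) := by
    funext a
    rw [Function.comp_apply, map_sum]
    exact Finset.sum_congr rfl fun i _ => by rw [Scheme.Modules.Hom.app_smul, app_res]
  rw [e]
  exact (ConcreteCategory.bijective_of_isIso (α.hom.app W)).comp (hs.bijective hW)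

theorem stalkBasis_unitVec (X : Scheme.{u}) (n : ℕ) : StalkBasis (unitVec X n) := by
  refine FinCov99.stalkBasis_of_bijective fun W hW => ⟨fun a b h => ?_, fun z => ?_⟩
  · exact free_eq_of_comb h
  · obtain ⟨a, ha⟩ := free_exists_comb z
    exact ⟨a, ha⟩

theorem exists_stalkBasis_top {X : Scheme.{u}} {M : X.Modules} {n : ℕ} (α : M ≅ FlatMod.freeMod X n) :
    ∃ s : Fin n → Γ(M, ⊤), StalkBasis s :=
  ⟨_, stalkBasis_map α.symm (stalkBasis_unitVec X n)⟩

/-- A basis scaled by units is a basis. -/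
theorem germComb_bijective_of_units {X : Scheme.{u}} {M : X.Modules} {U : X.Opens} {n : ℕ}
    (s t : Fin n → Γ(M, U)) (y : X) (hy : y ∈ U) (c : Fin n → X.presheaf.stalk y) (hc : ∀ i, IsUnit (c i))
    (h : ∀ i, germM M U y hy (t i) = c i • germM M U y hy (s i)) (hs : Function.Bijective (germComb s y hy)) :
    Function.Bijective (germComb t y hy) := by
  have e : germComb t y hy = germComb s y hy ∘ fun a i => a i * c i := by
    funext a
    simp only [germComb, Function.comp_apply, h, mul_smul]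
  rw [e]
  exact hs.comp (Function.Bijective.piMap (f := fun i a => a * c i) fun i => by
    obtain ⟨v, hv⟩ := hc i
    show Function.Bijective fun a => a * c i
    rw [← hv]
    exact v.mulRight.bijective)

/-- Being a basis of a stalk descends along a flat morphism. -/
theorem germComb_bijective_of_pullS {X Y : Scheme.{u}} (g : X ⟶ Y) [Flat g] {F : Y.Modules} {U : Y.Opens} {n : ℕ}
    (s : Fin n → Γ(F, U)) (x : X) (hx : g x ∈ U)
    (h : Function.Bijective (germComb (fun i => pullS g F U (s i)) x (U := g ⁻¹ᵁ U) hx)) :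
    Function.Bijective (germComb s (g x) hx) := by
  letI := (g.stalkMap x).hom.toAlgebra
  letI := Module.compHom (((Scheme.Modules.pullback g).obj F).presheaf.stalk x) (g.stalkMap x).hom
  haveI : IsScalarTower (Y.presheaf.stalk (g x)) (X.presheaf.stalk x)
      (((Scheme.Modules.pullback g).obj F).presheaf.stalk x) :=
    IsScalarTower.of_algebraMap_smul fun r e => rfl
  haveI : Module.FaithfullyFlat (Y.presheaf.stalk (g x)) (X.presheaf.stalk x) :=
    @Module.FaithfullyFlat.of_flat_of_isLocalHom _ _ _ _ _ _ _ (Flat.stalkMap g x) (g.toLRSHom.prop x)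
  let φ := Fintype.linearCombination (Y.presheaf.stalk (g x)) fun i => germM F U (g x) hx (s i)
  have hφ : ⇑φ = germComb s (g x) hx := funext fun c => by rw [Fintype.linearCombination_apply]; rfl
  rw [← hφ, ← Module.FaithfullyFlat.lTensor_bijective_iff_bijective (Y.presheaf.stalk (g x)) (X.presheaf.stalk x)]
  let E := (isBaseChange_pullη g F x).equiv
  let P := TensorProduct.piScalarRight (Y.presheaf.stalk (g x)) (X.presheaf.stalk x) (X.presheaf.stalk x) (Fin n)
  have key : ∀ z, germComb (fun i => pullS g F U (s i)) x (U := g ⁻¹ᵁ U) hx (P z) =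
      E (φ.lTensor (X.presheaf.stalk x) z) := by
    intro z
    induction z with
    | zero => simp [germComb]
    | add a b ha hb =>
      simp only [map_add, ← ha, ← hb, germComb, Pi.add_apply, add_smul, Finset.sum_add_distrib]
    | tmul a c =>
      rw [LinearMap.lTensor_tmul, IsBaseChange.equiv_tmul, Fintype.linearCombination_apply, map_sum,
        Finset.smul_sum]
      refine Finset.sum_congr rfl fun i _ => ?_
      simp only [P, TensorProduct.piScalarRight_apply, TensorProduct.piScalarRightHom_tmul, map_smul, pullη_germ]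
      refine Eq.trans ?_ (congrArg (a • ·) (algebraMap_smul (X.presheaf.stalk x) (c i) _))
      rw [← mul_smul, mul_comm, Algebra.smul_def]
      rfl
  have h2 : Function.Bijective (fun z => E (φ.lTensor (X.presheaf.stalk x) z)) := by
    rw [← funext key]
    exact h.comp P.bijective
  exact (Function.Bijective.of_comp_iff' E.bijective _).1 h2

/-- Elements of the stalk tensor a module are pure up to a unit. -/
theorem exists_unit_smul_eq_tmul {R A M : Type u} [CommRing R] [CommRing A] [Algebra R A] [AddCommGroup M]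
    [Module R M] (hA : ∀ a : A, ∃ (t r : R), IsUnit (algebraMap R A t) ∧ algebraMap R A t * a = algebraMap R A r)
    (z : A ⊗[R] M) : ∃ (t : R) (m : M), IsUnit (algebraMap R A t) ∧ t • z = 1 ⊗ₜ m := by
  induction z with
  | zero => exact ⟨1, 0, by simp, by simp⟩
  | add a b ha hb =>
    obtain ⟨t, m, ht, hm⟩ := ha
    obtain ⟨t', m', ht', hm'⟩ := hb
    refine ⟨t * t', t' • m + t • m', by rw [map_mul]; exact ht.mul ht', ?_⟩
    rw [smul_add, TensorProduct.tmul_add, TensorProduct.tmul_smul, TensorProduct.tmul_smul, ← hm, ← hm',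
      ← mul_smul, ← mul_smul, mul_comm t' t]
  | tmul a m =>
    obtain ⟨t, r, ht, hr⟩ := hA a
    refine ⟨t, r • m, ht, ?_⟩
    rw [TensorProduct.smul_tmul', Algebra.smul_def, hr, TensorProduct.tmul_smul, TensorProduct.smul_tmul',
      Algebra.smul_def, mul_one]

theorem exists_fraction {S : Scheme.{u}} {V : S.Opens} (hV : IsAffineOpen V) (s : S) (hs : s ∈ V)
    (a : S.presheaf.stalk s) : ∃ t r : Γ(S, V), IsUnit (S.presheaf.germ V s hs t) ∧
      S.presheaf.germ V s hs t * a = S.presheaf.germ V s hs r := by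
  letI : Algebra Γ(S, V) (S.presheaf.stalk s) := S.presheaf.algebra_section_stalk ⟨s, hs⟩
  haveI := hV.isLocalization_stalk ⟨s, hs⟩
  obtain ⟨⟨r, t⟩, h⟩ := IsLocalization.surj (hV.primeIdealOf ⟨s, hs⟩).asIdeal.primeCompl a
  exact ⟨t.1, r, IsLocalization.map_units (S.presheaf.stalk s) t, by rw [mul_comm]; exact h⟩

variable {X S : Scheme.{u}} (f : X ⟶ S) [IsProper f] (E : X.Modules)

/-- The basis at the points over `s`. -/
theorem exists_sections_basis_fibre [E.IsQuasicoherent] (s : S) {V : S.Opens} (hV : IsAffineOpen V) (hsV : s ∈ V)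
    (r : ℕ) (α : (Scheme.Modules.pullback (pullback.fst f (S.fromSpecStalk s))).obj E ≅
      FlatMod.freeMod (pullback f (S.fromSpecStalk s)) r) :
    ∃ m : Fin r → Γ(E, f ⁻¹ᵁ V), ∀ (x : X) (hx : f x ∈ V), f x = s →
      Function.Bijective (germComb m x hx) := by
  let g := S.fromSpecStalk s
  let X' := pullback f g
  let g' : X' ⟶ X := pullback.fst f g
  let f' : X' ⟶ Spec (S.presheaf.stalk s) := pullback.snd f g
  have H : IsPullback g' f' f g := IsPullback.of_hasPullback f g
  haveI : Flat g' := inferInstanceAs (Flat (pullback.fst f g))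
  have hWV : (⊤ : (Spec (S.presheaf.stalk s)).Opens) ≤ g ⁻¹ᵁ V := fun z _ => by
    have : g z ∈ Set.range g := ⟨z, rfl⟩
    rw [Scheme.range_fromSpecStalk] at this
    exact this.mem_open V.2 hsV
  obtain ⟨e, he⟩ := exists_stalkBasis_top α
  let O : X'.Opens := g' ⁻¹ᵁ (f ⁻¹ᵁ V) ⊓ f' ⁻¹ᵁ ⊤
  have hc : IsCompact ((f ⁻¹ᵁ V : X.Opens) : Set X) := f.isCompact_preimage hV.isCompact
  have hq : IsQuasiSeparated ((f ⁻¹ᵁ V : X.Opens) : Set X) := by
    rw [isQuasiSeparated_iff_quasiSeparatedSpace _ (f ⁻¹ᵁ V).isOpen]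
    haveI : IsAffine V.toScheme := hV
    exact quasiSeparatedSpace_of_quasiSeparated (f ∣_ V)
  letI := ParaF26.FlatSec.mdl f E (le_refl (f ⁻¹ᵁ V))
  letI := (g.appLE V ⊤ hWV).hom.toAlgebra
  have hν : ∀ t : Γ(S, V), algebraMap Γ(S, V) Γ(Spec (S.presheaf.stalk s), ⊤) t =
      (Scheme.ΓSpecIso (S.presheaf.stalk s)).inv (S.presheaf.germ V s hsV t) := fun t => by
    show g.appLE V ⊤ hWV t = _
    rw [Scheme.Hom.appLE, Scheme.fromSpecStalk_app hsV]
    simp only [Category.assoc, ← Functor.map_comp]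
    rw [show ((homOfLE (le_top : g ⁻¹ᵁ V ≤ ⊤)).op ≫ (homOfLE hWV).op) = 𝟙 _ from rfl, CategoryTheory.Functor.map_id]
    rfl
  have hA : ∀ a : Γ(Spec (S.presheaf.stalk s), ⊤), ∃ t r : Γ(S, V),
      IsUnit (algebraMap Γ(S, V) Γ(Spec (S.presheaf.stalk s), ⊤) t) ∧
        algebraMap Γ(S, V) Γ(Spec (S.presheaf.stalk s), ⊤) t * a =
          algebraMap Γ(S, V) Γ(Spec (S.presheaf.stalk s), ⊤) r := fun a => by
    obtain ⟨t, r, ht, h⟩ := exists_fraction hV s hsV ((Scheme.ΓSpecIso (S.presheaf.stalk s)).hom a)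
    refine ⟨t, r, by rw [hν]; exact ht.map _, ?_⟩
    rw [hν, hν, ← h, map_mul, Iso.hom_inv_id_apply]
  have hpure : ∀ k, ∃ (u : Γ(X', O)) (m : Γ(E, f ⁻¹ᵁ V)), IsUnit u ∧
      u • res _ (le_top : O ≤ ⊤) (e k) = res _ (inf_le_left : O ≤ g' ⁻¹ᵁ (f ⁻¹ᵁ V)) (pullS g' E (f ⁻¹ᵁ V) m) := by
    intro k
    obtain ⟨z, hz⟩ := (ParaF26.FlatSec.μ_bijective f g f' g' H E hWV hV (isAffineOpen_top _)
      (le_refl (f ⁻¹ᵁ V)) hc hq).2 (res _ (le_top : O ≤ ⊤) (e k))
    obtain ⟨t, m, ht, hm⟩ := exists_unit_smul_eq_tmul hA z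
    refine ⟨f'.appLE ⊤ O inf_le_right (algebraMap Γ(S, V) Γ(Spec (S.presheaf.stalk s), ⊤) t), m, ht.map _, ?_⟩
    have key : ∀ z, ParaF26.FlatSec.μ f g f' g' H E hWV (le_refl (f ⁻¹ᵁ V)) (t • z) =
        f'.appLE ⊤ O inf_le_right (algebraMap Γ(S, V) Γ(Spec (S.presheaf.stalk s), ⊤) t) •
          ParaF26.FlatSec.μ f g f' g' H E hWV (le_refl (f ⁻¹ᵁ V)) z := by
      intro z
      induction z with
      | zero => rw [smul_zero, map_zero, smul_zero]
      | add a b ha hb => rw [smul_add, map_add, ha, hb, map_add, smul_add]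
      | tmul a x =>
        rw [TensorProduct.smul_tmul', Algebra.smul_def, ParaF26.FlatSec.μ_tmul, ParaF26.FlatSec.μ_tmul, map_mul,
          mul_smul]
    rw [← hz, ← key, hm, ParaF26.FlatSec.μ_tmul, map_one, one_smul]
  choose w m hu hm using hpure
  refine ⟨m, fun x hx hxs => ?_⟩
  obtain ⟨x', rfl⟩ : x ∈ Set.range g' := by
    rw [Scheme.Pullback.range_fst]
    exact ⟨IsLocalRing.closedPoint _, by rw [hxs]; exact S.fromSpecStalk_closedPoint⟩
  refine germComb_bijective_of_pullS g' m x' hx ?_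
  have hO : x' ∈ O := ⟨hx, trivial⟩
  have h1 : Function.Bijective (germComb (fun k => res _ (le_top : O ≤ ⊤) (e k)) x' hO) :=
    (he.restrict (le_top : O ≤ ⊤)) x' hO
  have h2 := germComb_bijective_of_units _
    (fun k => res _ (inf_le_left : O ≤ g' ⁻¹ᵁ (f ⁻¹ᵁ V)) (pullS g' E (f ⁻¹ᵁ V) (m k))) x' hO
    (fun k => X'.presheaf.germ O x' hO (w k)) (fun k => (hu k).map _)
    (fun k => by rw [← hm k, germM_smul]) h1
  rwa [show germComb (fun k => res _ (inf_le_left : O ≤ g' ⁻¹ᵁ (f ⁻¹ᵁ V)) (pullS g' E (f ⁻¹ᵁ V) (m k))) x' hO =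
    germComb (fun k => pullS g' E (f ⁻¹ᵁ V) (m k)) x' (U := g' ⁻¹ᵁ (f ⁻¹ᵁ V)) hx from
    funext (germComb_res _ inf_le_left x' hO)] at h2

/-- The locus where sections form a basis of a finite locally free module is open. -/
theorem exists_nhd_basis {Y : Scheme.{u}} {M : Y.Modules} (hM : FlatMod.IsFinLocFree M) {U : Y.Opens} {n : ℕ}
    (s : Fin n → Γ(M, U)) (x : Y) (hx : x ∈ U) (h : Function.Bijective (germComb s x hx)) :
    ∃ W : Y.Opens, x ∈ W ∧ W ≤ U ∧ ∀ (y : Y) (hy : y ∈ U), y ∈ W → Function.Bijective (germComb s y hy) := by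
  haveI := Props58.LocFree.isFiniteType_of_isFinLocFree hM
  obtain ⟨W, hW, hxW, hsurj⟩ := Props58.LocFree.exists_nhd_surjective s hx h.2
  obtain ⟨T, k, t, hxT, ht⟩ := isFinLocFree_iff.1 hM x
  let φ : ∀ (y : Y) (hy : y ∈ U), (Fin n → Y.presheaf.stalk y) →ₗ[Y.presheaf.stalk y] M.presheaf.stalk y :=
    fun y hy => Fintype.linearCombination (Y.presheaf.stalk y) fun i => germM M U y hy (s i)
  have hφ : ∀ y hy, ⇑(φ y hy) = germComb s y hy := fun y hy => funext fun c => by
    rw [Fintype.linearCombination_apply]; rfl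
  have hnk : n = k := by
    have := ((LinearEquiv.ofBijective (φ x hx) (by rw [hφ]; exact h)).trans (ht.stalkEquiv x hxT).symm).finrank_eq
    rwa [Module.finrank_fin_fun, Module.finrank_fin_fun] at this
  subst hnk
  refine ⟨W ⊓ T, ⟨hxW, hxT⟩, inf_le_left.trans hW, fun y hy hy' => ?_⟩
  have hs' : Function.Surjective (φ y hy) := by rw [hφ]; exact hsurj y hy'.1
  have hsur : Function.Surjective ((ht.stalkEquiv y hy'.2).symm.toLinearMap ∘ₗ φ y hy) :=
    (ht.stalkEquiv y hy'.2).symm.surjective.comp hs'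
  have hi := OrzechProperty.injective_of_surjective_endomorphism _ hsur
  rw [← hφ y hy]
  exact ⟨fun a b hab => hi (congrArg (ht.stalkEquiv y hy'.2).symm hab), hs'⟩

/-- **Spreading out of a trivialization from `Spec O_{S,s}`.** -/
theorem exists_nhd_stalkBasis (hE : FlatMod.IsFinLocFree E) (s : S)
    (hfree : ∃ r : ℕ, Nonempty ((Scheme.Modules.pullback (pullback.fst f (S.fromSpecStalk s))).obj E ≅
      FlatMod.freeMod (pullback f (S.fromSpecStalk s)) r)) :
    ∃ (V : S.Opens) (r : ℕ) (m : Fin r → Γ(E, f ⁻¹ᵁ V)), s ∈ V ∧ StalkBasis m := by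
  haveI := Props58.LocFree.isQuasicoherent_of_isFinLocFree hE
  obtain ⟨r, ⟨α⟩⟩ := hfree
  obtain ⟨V, hV, hsV, -⟩ := exists_isAffineOpen_mem_and_subset (X := S) (x := s) (U := ⊤) trivial
  obtain ⟨m, hm⟩ := exists_sections_basis_fibre f E s hV hsV r α
  choose W hxW hWU hW using fun (x : {x : X // f x = s}) =>
    exists_nhd_basis hE m x.1 (show f x.1 ∈ V by rw [x.2]; exact hsV) (hm x.1 _ x.2)
  let Ω : X.Opens := ⨆ x, W x
  let V₁ : S.Opens := V ⊓ ⟨(f '' (Ω : Set X)ᶜ)ᶜ,
    (f.isClosedMap _ Ω.2.isClosed_compl).isOpen_compl⟩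
  have hsV₁ : s ∈ V₁ := ⟨hsV, fun ⟨x, hx, e⟩ => hx (Opens.mem_iSup.2 ⟨⟨x, e⟩, hxW ⟨x, e⟩⟩)⟩
  refine ⟨V₁, r, fun i => res E (f.preimage_mono inf_le_left) (m i), hsV₁, fun y hy => ?_⟩
  have hyΩ : y ∈ Ω := by
    by_contra hc
    exact hy.2 ⟨y, hc, rfl⟩
  obtain ⟨x, hx⟩ := Opens.mem_iSup.1 hyΩ
  rw [show germComb (fun i => res E (f.preimage_mono inf_le_left) (m i)) y hy = germComb m y hy.1 from
    funext (germComb_res m _ y hy)]
  exact hW x y hy.1 hx

section Push

variable {f E} (hO : ∀ U : S.Opens, Function.Bijective (f.app U))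
  {V : S.Opens} {r : ℕ} {m : Fin r → Γ(E, f ⁻¹ᵁ V)} (hm : StalkBasis m)

omit [IsProper f]

include hO hm in
theorem push_stalkBasis :
    StalkBasis (M := (Scheme.Modules.pushforward f).obj E) (U := V) (fun i => m i) := by
  refine FinCov99.stalkBasis_of_bijective fun W hW => ?_
  exact (hm.bijective (f.preimage_mono hW)).comp ((hO W).comp_left (α := Fin r))

include hO hm in
theorem counit_app_bijective {T : X.Opens} (hT : T ≤ f ⁻¹ᵁ V) :
    Function.Bijective (((Scheme.Modules.pullbackPushforwardAdjunction f).counit.app E).app T) := by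
  let N := (Scheme.Modules.pushforward f).obj E
  let adj := Scheme.Modules.pullbackPushforwardAdjunction f
  have h1 := (Pinch99.stalkBasis_pullS f (push_stalkBasis hO hm)).bijective hT
  have key : ∀ i, (adj.counit.app E).app (f ⁻¹ᵁ V) (pullS f N V (show Γ(N, V) from m i)) = m i := fun i =>
    ConcreteCategory.congr_hom (congrArg (fun t => Scheme.Modules.Hom.app t V) (adj.right_triangle_components E))
      (show Γ(N, V) from m i)
  refine (Function.Bijective.of_comp_iff _ h1).1 ?_
  have e' : ((adj.counit.app E).app T : _ → _) ∘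
      (fun a : Fin r → Γ(X, T) => ∑ i, a i • res _ hT (pullS f N V (show Γ(N, V) from m i))) =
      fun a : Fin r → Γ(X, T) => ∑ i, a i • res E hT (m i) := by
    funext a
    rw [Function.comp_apply, map_sum]
    refine Finset.sum_congr rfl fun i _ => ?_
    refine (Scheme.Modules.Hom.app_smul (adj.counit.app E) (a i) _).trans (congrArg (a i • ·) ?_)
    exact (app_res (adj.counit.app E) hT _).trans (congrArg (res E hT) (key i))
  rw [e']
  exact hm.bijective hT

end Push

end Groth.Agent.FlatMor67.SpreadBasis
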