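import Groth.Agent.FlatMor68.PerfHom
import Groth.Agent.DR39.BC

/-! Pseudo-coherent and perfect modules: transitivity, base change, locality. -/

set_option autoImplicit false
set_option backward.isDefEq.respectTransparency.types false
set_option linter.style.haveILetI false

universe u

open CategoryTheory
open scoped TensorProduct

attribute [local instance] HasDerivedCategory.standard

namespace Groth.Agent.FlatMor67.PCM

open DR39

variable {A B : Type u} [CommRing A] [CommRing B] [Algebra A B]

theorem pc'_congr {M N : Type u} [AddCommGroup M] [Module A M] [AddCommGroup N] [Module A N]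
    (e : M ≃ₗ[A] N) (h : DRing.IsPseudoCoherentModule' A M) : DRing.IsPseudoCoherentModule' A N :=
  (pc'_iff_forall_pc _).2 fun n => PC.of_iso (pc_of_pc' h n) (inDIso e)

theorem perfect_congr {M N : Type u} [AddCommGroup M] [Module A M] [AddCommGroup N] [Module A N]
    (e : M ≃ₗ[A] N) (h : DRing.IsPerfectModule A M) : DRing.IsPerfectModule A N :=
  perfect_of_iso h (inDIso e)

theorem pc'_of_perfect {M : Type u} [AddCommGroup M] [Module A M]
    (h : DRing.IsPerfectModule A M) : DRing.IsPseudoCoherentModule' A M :=
  ((perfect_iff _).1 h).1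

/-- Restriction of scalars of a module placed in degree zero. -/
theorem rest_inD (M : Type u) [AddCommGroup M] [Module A M] [Module B M] [IsScalarTower A B M] :
    Nonempty ((DRing.restrictD (algebraMap A B)).obj (Dual.inD B M) ≅ Dual.inD A M) := by
  let l : (ModuleCat.restrictScalars (algebraMap A B)).obj (ModuleCat.of B M) ≃ₗ[A] M :=
    { toFun := fun x => x
      invFun := fun x => x
      map_add' := fun _ _ => rfl
      map_smul' := fun r x => algebraMap_smul (M := M) B r x
      left_inv := fun _ => rfl
      right_inv := fun _ => rfl }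
  exact ⟨((ModuleCat.restrictScalars.{u} (algebraMap A B)).mapDerivedCategorySingleFunctor 0).app _ ≪≫
    (DerivedCategory.singleFunctor (ModuleCat.{u} A) 0).mapIso l.toModuleIso⟩

theorem pc_self (hB : DRing.IsPseudoCoherentModule' A B) (n : ℤ) :
    PC n (Dual.inD A ((ModuleCat.restrictScalars (algebraMap A B)).obj (ModuleCat.of B B))) := by
  obtain ⟨e⟩ := rest_self_iso (A := A) B
  exact PC.of_iso (pc_of_pc' hB n) (inDIso e.toLinearEquiv).symm

/-- Over a pseudo-coherent algebra, pseudo-coherence may be tested over either ring. -/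
theorem pc'_tower_iff (hB : DRing.IsPseudoCoherentModule' A B) (M : Type u) [AddCommGroup M]
    [Module A M] [Module B M] [IsScalarTower A B M] :
    DRing.IsPseudoCoherentModule' A M ↔ DRing.IsPseudoCoherentModule' B M := by
  obtain ⟨e⟩ := rest_inD (A := A) (B := B) M
  rw [DRing.IsPseudoCoherentModule', DRing.IsPseudoCoherentModule', pc'_iff_forall_pc, pc'_iff_forall_pc]
  exact forall_congr' fun n =>
    ⟨fun h => (pc_restrict_iff _ (pc_self hB) _ n).2 (h.of_iso e.symm),
      fun h => ((pc_restrict_iff _ (pc_self hB) _ n).1 h).of_iso e⟩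

/-- A perfect module over a perfect algebra is perfect over the base. -/
theorem perfect_tower (hB : DRing.IsPerfectModule A B) (M : Type u) [AddCommGroup M]
    [Module A M] [Module B M] [IsScalarTower A B M] (h : DRing.IsPerfectModule B M) :
    DRing.IsPerfectModule A M := by
  obtain ⟨e⟩ := rest_inD (A := A) (B := B) M
  obtain ⟨e'⟩ := rest_self_iso (A := A) B
  exact perfect_of_iso
    (perfect_restrict _ (perfect_of_iso hB (inDIso e'.toLinearEquiv).symm) h) e

theorem pc'_baseChange [Module.Flat A B] {M N : Type u} [AddCommGroup M] [Module A M]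
    [AddCommGroup N] [Module B N] (e : (B ⊗[A] M) ≃ₗ[B] N) (h : DRing.IsPseudoCoherentModule' A M) :
    DRing.IsPseudoCoherentModule' B N := by
  obtain ⟨e'⟩ := rep_inD_baseChange (A := A) (B := B) M
  exact pc'_congr e ((pc'_iff_forall_pc _).2 fun n =>
    (pc_map (extA A B) (pc_extendScalars_FF _) (pc_of_pc' h n)).of_iso e')

theorem perfect_baseChange [Module.Flat A B] {M N : Type u} [AddCommGroup M] [Module A M]
    [AddCommGroup N] [Module B N] (e : (B ⊗[A] M) ≃ₗ[B] N) (h : DRing.IsPerfectModule A M) :
    DRing.IsPerfectModule B N := by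
  obtain ⟨e'⟩ := rep_inD_baseChange (A := A) (B := B) M
  exact perfect_congr e (perfect_of_iso (perfect_map h) e')

theorem pc'_of_faithfullyFlat [Module.FaithfullyFlat A B] {M : Type u} [AddCommGroup M] [Module A M]
    (h : DRing.IsPseudoCoherentModule' B (B ⊗[A] M)) : DRing.IsPseudoCoherentModule' A M := by
  obtain ⟨e'⟩ := rep_inD_baseChange (A := A) (B := B) M
  exact (pc'_iff_forall_pc _).2 fun n =>
    pc_reflect (extA A B) (pc_extendScalars_FF _) (finite_of_faithfullyFlat B) (isZero_of_faithfullyFlat B)
      ((pc_of_pc' h n).of_iso e'.symm)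

theorem perfect_of_faithfullyFlat [Module.FaithfullyFlat A B] {M : Type u} [AddCommGroup M] [Module A M]
    (h : DRing.IsPerfectModule B (B ⊗[A] M)) : DRing.IsPerfectModule A M := by
  obtain ⟨e'⟩ := rep_inD_baseChange (A := A) (B := B) M
  obtain ⟨hpc, a, b, hta⟩ := (perfect_iff _).1 h
  exact (perfect_iff _).2 ⟨pc'_of_faithfullyFlat hpc, a, b,
    ta_descent (B := fun _ : Unit => B) (fun N hN => isZero_of_faithfullyFlat B N (hN ()))
      fun _ => TA.of_iso hta e'.symm⟩

variable {r : ℕ} (f : Fin r → A) (hf : Ideal.span (Set.range f) = ⊤)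
  {M : Type u} [AddCommGroup M] [Module A M]

include hf in
theorem pc'_of_away
    (h : ∀ i, DRing.IsPseudoCoherentModule' (Localization.Away (f i)) (Localization.Away (f i) ⊗[A] M)) :
    DRing.IsPseudoCoherentModule' A M := by
  haveI : ∀ i, Module.Flat A (Localization.Away (f i)) :=
    fun i => IsLocalization.flat _ (Submonoid.powers (f i))
  let e := fun i => (rep_inD_baseChange (A := A) (B := Localization.Away (f i)) M).some
  exact (pc'_iff_forall_pc _).2 fun n =>
    pc_descent (B := fun i => Localization.Away (f i)) (isZero_of_away f hf) (finite_of_away f hf) (b := 1)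
      (fun i j hj => (acyc_inD (A := Localization.Away (f i)) (Localization.Away (f i) ⊗[A] M)
        one_pos).of_iso (e i).symm j hj)
      fun i => (pc_of_pc' (h i) n).of_iso (e i).symm

include hf in
theorem perfect_of_away
    (h : ∀ i, DRing.IsPerfectModule (Localization.Away (f i)) (Localization.Away (f i) ⊗[A] M)) :
    DRing.IsPerfectModule A M := by
  haveI : ∀ i, Module.Flat A (Localization.Away (f i)) :=
    fun i => IsLocalization.flat _ (Submonoid.powers (f i))
  let e := fun i => (rep_inD_baseChange (A := A) (B := Localization.Away (f i)) M).some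
  choose hpc a b hta using fun i => (perfect_iff _).1 (h i)
  let a' : ℤ := -∑ i, |a i|
  let b' : ℤ := ∑ i, |b i|
  have ha : ∀ i, a' ≤ a i := fun i => by
    have := Finset.single_le_sum (fun j _ => abs_nonneg (a j)) (Finset.mem_univ i)
    have := neg_abs_le (a i)
    omega
  have hb : ∀ i, b i ≤ b' := fun i => by
    have := Finset.single_le_sum (fun j _ => abs_nonneg (b j)) (Finset.mem_univ i)
    have := le_abs_self (b i)
    omega
  exact (perfect_iff _).2 ⟨pc'_of_away f hf hpc, a', b',
    ta_descent (B := fun i => Localization.Away (f i)) (isZero_of_away f hf)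
      fun i => TA.of_iso (TA.mono (hta i) (ha i) (hb i)) (e i).symm⟩

omit hf in
/-- A finitely presented module, flat over the base, over a flat finitely presented algebra is
pseudo-coherent. -/
theorem pc'_of_flat_fp (A T M : Type u) [CommRing A] [CommRing T] [Algebra A T]
    [Algebra.FinitePresentation A T] [Module.Flat A T] [AddCommGroup M] [Module T M] [Module A M]
    [IsScalarTower A T M] [Module.FinitePresentation T M] [Module.Flat A M] :
    DRing.IsPseudoCoherentModule' T M := by
  obtain ⟨D, B₁, _, _, _, _, _, _, _, _, _, _, _, hm⟩ := FlatStage64.exists_flat_model A T M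
  exact (pc'_iff_forall_pc _).2 fun m => pc_inD_of_coherent
    (P := fun M _ _ => FlatStage64.HasModel D B₁ T M)
    (fun M _ _ hM => FlatStage64.HasModel.step D A B₁ T hM) M hm m

end Groth.Agent.FlatMor67.PCM
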