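import Groth.Agent.FlatMor67.PCModule
import Mathlib.RingTheory.FinitePresentation
import Mathlib.RingTheory.RingHom.FiniteType
import Mathlib.RingTheory.TensorProduct.MvPolynomial
import Mathlib.RingTheory.Flat.Stability
import Mathlib.RingTheory.Flat.Localization

/-! Pseudo-coherent and perfect ring maps: independence of the presentation, composition,
cancellation, flat base change, descent and locality. -/

set_option autoImplicit false
set_option backward.isDefEq.respectTransparency.types false
set_option linter.style.haveILetI false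

universe u

open CategoryTheory
open scoped TensorProduct

attribute [local instance] HasDerivedCategory.standard MvPolynomial.algebraMvPolynomial

namespace Groth.Agent.FlatMor67.PCH

open DR39 PCM

theorem exists_surj (A P : Type u) [CommRing A] [CommRing P] [Algebra A P] [Algebra.FiniteType A P] :
    ∃ (n : ℕ) (φ : MvPolynomial (Fin n) A →ₐ[A] P), Function.Surjective φ :=
  Algebra.FiniteType.iff_quotient_mvPolynomial''.1 inferInstance

/-- Quotients between flat finitely presented algebras are pseudo-coherent. -/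
theorem pc'_quotient (A T P : Type u) [CommRing A] [CommRing T] [CommRing P] [Algebra A T] [Algebra A P]
    [Algebra T P] [IsScalarTower A T P] [Module.Flat A T] [Algebra.FinitePresentation A T]
    [Module.Flat A P] [Algebra.FinitePresentation A P] (h : Function.Surjective (algebraMap T P)) :
    DRing.IsPseudoCoherentModule' T P := by
  haveI : Module.FinitePresentation T P :=
    Module.finitePresentation_of_surjective (Algebra.linearMap T P) h
      (Algebra.FinitePresentation.ker_fG_of_surjective (IsScalarTower.toAlgHom A T P) h)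
  exact pc'_of_flat_fp A T P

variable {A B : Type u} [CommRing A] [CommRing B] [Algebra A B]

/-- Pseudo-coherence of `B` does not depend on the flat finitely presented algebra surjecting to it. -/
theorem pc'_indep (P₁ P₂ : Type u) [CommRing P₁] [CommRing P₂] [Algebra A P₁] [Algebra A P₂]
    [Algebra P₁ B] [Algebra P₂ B] [IsScalarTower A P₁ B] [IsScalarTower A P₂ B]
    [Module.Flat A P₁] [Algebra.FinitePresentation A P₁] [Module.Flat A P₂] [Algebra.FinitePresentation A P₂]
    (h₁ : Function.Surjective (algebraMap P₁ B)) (h₂ : Function.Surjective (algebraMap P₂ B))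
    (h : DRing.IsPseudoCoherentModule' P₁ B) : DRing.IsPseudoCoherentModule' P₂ B := by
  obtain ⟨k₁, ρ₁, hρ₁⟩ := exists_surj A P₁
  obtain ⟨k₂, ρ₂, hρ₂⟩ := exists_surj A P₂
  choose g₁ hg₁ using fun j : Fin k₂ => h₁ (algebraMap P₂ B (ρ₂ (MvPolynomial.X j)))
  choose g₂ hg₂ using fun i : Fin k₁ => h₂ (algebraMap P₁ B (ρ₁ (MvPolynomial.X i)))
  let T := MvPolynomial (Fin (k₁ + k₂)) A
  let q₁ : T →ₐ[A] P₁ := MvPolynomial.aeval (Fin.append (fun i => ρ₁ (MvPolynomial.X i)) g₁)
  let q₂ : T →ₐ[A] P₂ := MvPolynomial.aeval (Fin.append g₂ (fun j => ρ₂ (MvPolynomial.X j)))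
  have hq₁ : Function.Surjective q₁ := by
    intro p
    obtain ⟨x, rfl⟩ := hρ₁ p
    refine ⟨MvPolynomial.rename (Fin.castAdd k₂) x, ?_⟩
    have : q₁.comp (MvPolynomial.rename (Fin.castAdd k₂)) = ρ₁ := MvPolynomial.algHom_ext fun i => by
      show MvPolynomial.aeval _ (MvPolynomial.rename (Fin.castAdd k₂) (MvPolynomial.X i)) = _
      rw [MvPolynomial.rename_X, MvPolynomial.aeval_X, Fin.append_left]
    exact DFunLike.congr_fun this x
  have hq₂ : Function.Surjective q₂ := by
    intro p
    obtain ⟨x, rfl⟩ := hρ₂ p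
    refine ⟨MvPolynomial.rename (Fin.natAdd k₁) x, ?_⟩
    have : q₂.comp (MvPolynomial.rename (Fin.natAdd k₁)) = ρ₂ := MvPolynomial.algHom_ext fun i => by
      show MvPolynomial.aeval _ (MvPolynomial.rename (Fin.natAdd k₁) (MvPolynomial.X i)) = _
      rw [MvPolynomial.rename_X, MvPolynomial.aeval_X, Fin.append_right]
    exact DFunLike.congr_fun this x
  let χ : T →ₐ[A] B := (IsScalarTower.toAlgHom A P₁ B).comp q₁
  have hχ : (IsScalarTower.toAlgHom A P₂ B).comp q₂ = χ := by
    refine MvPolynomial.algHom_ext fun i => ?_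
    refine Fin.addCases (fun i => ?_) (fun j => ?_) i
    · simp [χ, q₁, q₂, hg₂]
    · simp [χ, q₁, q₂, hg₁]
  letI := χ.toRingHom.toAlgebra
  letI := q₁.toRingHom.toAlgebra
  letI := q₂.toRingHom.toAlgebra
  haveI : IsScalarTower A T B := IsScalarTower.of_algHom χ
  haveI : IsScalarTower A T P₁ := IsScalarTower.of_algHom q₁
  haveI : IsScalarTower A T P₂ := IsScalarTower.of_algHom q₂
  haveI : IsScalarTower T P₁ B := IsScalarTower.of_algebraMap_eq fun x => rfl
  haveI : IsScalarTower T P₂ B := IsScalarTower.of_algebraMap_eq fun x => (DFunLike.congr_fun hχ x).symm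
  exact (pc'_tower_iff (pc'_quotient A T P₂ hq₂) B).1
    ((pc'_tower_iff (pc'_quotient A T P₁ hq₁) B).2 h)

/-- Pseudo-coherence of a ring map, tested on any flat finitely presented algebra surjecting to the target. -/
theorem pcHom_iff (P : Type u) [CommRing P] [Algebra A P] [Algebra P B] [IsScalarTower A P B]
    [Module.Flat A P] [Algebra.FinitePresentation A P] (h : Function.Surjective (algebraMap P B)) :
    MoreMor.IsPseudoCoherentHom A B ↔ DRing.IsPseudoCoherentModule' P B := by
  constructor
  · rintro ⟨n, φ, hφ, hpc⟩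
    letI := φ.toRingHom.toAlgebra
    haveI : IsScalarTower A (MvPolynomial (Fin n) A) B := IsScalarTower.of_algHom φ
    exact pc'_indep (A := A) (B := B) (MvPolynomial (Fin n) A) P hφ h hpc
  · intro hpc
    obtain ⟨k, ρ, hρ⟩ := exists_surj A P
    haveI : Algebra.FinitePresentation A (MvPolynomial (Fin k) A) := inferInstance
    refine ⟨k, (IsScalarTower.toAlgHom A P B).comp ρ, h.comp hρ, ?_⟩
    letI := ((IsScalarTower.toAlgHom A P B).comp ρ).toRingHom.toAlgebra
    haveI : IsScalarTower A (MvPolynomial (Fin k) A) B :=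
      IsScalarTower.of_algHom ((IsScalarTower.toAlgHom A P B).comp ρ)
    exact pc'_indep (A := A) (B := B) P (MvPolynomial (Fin k) A) h (h.comp hρ) hpc

theorem finiteType_of_pcHom (h : MoreMor.IsPseudoCoherentHom A B) : Algebra.FiniteType A B := by
  obtain ⟨n, φ, hφ, -⟩ := h
  exact Algebra.FiniteType.iff_quotient_mvPolynomial''.2 ⟨n, φ, hφ⟩

theorem fp_of_pcHom (h : MoreMor.IsPseudoCoherentHom A B) : Algebra.FinitePresentation A B := by
  obtain ⟨n, φ, hφ, hpc⟩ := h
  letI := φ.toRingHom.toAlgebra
  haveI : Module.FinitePresentation (MvPolynomial (Fin n) A) B :=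
    (pcModule_negOne_iff B).1 (pc_of_pc' hpc _)
  exact Algebra.FinitePresentation.of_surjective (f := φ) hφ
    (Module.FinitePresentation.fg_ker (Algebra.linearMap (MvPolynomial (Fin n) A) B) hφ)

theorem perfectHom_of_module (P : Type u) [CommRing P] [Algebra A P] [Algebra P B] [IsScalarTower A P B]
    [Module.Flat A P] [Algebra.FinitePresentation A P] (h : Function.Surjective (algebraMap P B))
    (hB : DRing.IsPerfectModule P B) : MoreMor.IsPerfectHom A B := by
  obtain ⟨hpc, a, b, hta⟩ := (perfect_iff _).1 hB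
  exact ⟨(pcHom_iff P h).2 hpc, FlatMor68.PerfHom.finiteTorDim_restrict (P := P) B hta⟩

/-- Over a polynomial algebra surjecting to the target of a perfect ring map the target is perfect. -/
theorem perfectModule_of_perfectHom (hB : MoreMor.IsPerfectHom A B) (n : ℕ)
    [Algebra (MvPolynomial (Fin n) A) B] [IsScalarTower A (MvPolynomial (Fin n) A) B]
    (h : Function.Surjective (algebraMap (MvPolynomial (Fin n) A) B)) :
    DRing.IsPerfectModule (MvPolynomial (Fin n) A) B := by
  obtain ⟨d, hd⟩ := hB.2
  exact (perfect_iff _).2 ⟨(pcHom_iff _ h).1 hB.1, _, _,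
    LCI19.ta_mvPolynomial n B ((hasTorDimLE_iff B d).1 hd)⟩

section Comp

variable {C : Type u} [CommRing C] [Algebra A C] [Algebra B C] [IsScalarTower A B C]

/-- The square used for composition and cancellation. -/
theorem comp_square (n m : ℕ) (φ : MvPolynomial (Fin n) A →ₐ[A] B) (hφ : Function.Surjective φ)
    (ψ : MvPolynomial (Fin m) B →ₐ[B] C) (hψ : Function.Surjective ψ) :
    letI := φ.toRingHom.toAlgebra
    letI := ψ.toRingHom.toAlgebra
    letI : Algebra (MvPolynomial (Fin m) (MvPolynomial (Fin n) A)) C :=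
      (ψ.toRingHom.comp (algebraMap (MvPolynomial (Fin m) (MvPolynomial (Fin n) A)) (MvPolynomial (Fin m) B))).toAlgebra
    IsScalarTower A (MvPolynomial (Fin m) (MvPolynomial (Fin n) A)) C ∧
      IsScalarTower (MvPolynomial (Fin m) (MvPolynomial (Fin n) A)) (MvPolynomial (Fin m) B) C ∧
      Function.Surjective (algebraMap (MvPolynomial (Fin m) (MvPolynomial (Fin n) A)) C) ∧
      (DRing.IsPseudoCoherentModule' (MvPolynomial (Fin n) A) B →
        DRing.IsPseudoCoherentModule' (MvPolynomial (Fin m) (MvPolynomial (Fin n) A)) (MvPolynomial (Fin m) B)) ∧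
      (DRing.IsPerfectModule (MvPolynomial (Fin n) A) B →
        DRing.IsPerfectModule (MvPolynomial (Fin m) (MvPolynomial (Fin n) A)) (MvPolynomial (Fin m) B)) := by
  letI := φ.toRingHom.toAlgebra
  letI := ψ.toRingHom.toAlgebra
  letI : Algebra (MvPolynomial (Fin m) (MvPolynomial (Fin n) A)) C :=
    (ψ.toRingHom.comp (algebraMap (MvPolynomial (Fin m) (MvPolynomial (Fin n) A)) (MvPolynomial (Fin m) B))).toAlgebra
  have hmap : Function.Surjective
      (algebraMap (MvPolynomial (Fin m) (MvPolynomial (Fin n) A)) (MvPolynomial (Fin m) B)) := by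
    rw [MvPolynomial.algebraMap_def]
    exact MvPolynomial.map_surjective _ hφ
  refine ⟨?_, IsScalarTower.of_algebraMap_eq fun x => rfl, hψ.comp hmap, ?_, ?_⟩
  · refine IsScalarTower.of_algebraMap_eq fun a => ?_
    show algebraMap A C a = ψ (algebraMap _ (MvPolynomial (Fin m) B) _)
    rw [IsScalarTower.algebraMap_apply A (MvPolynomial (Fin n) A)
        (MvPolynomial (Fin m) (MvPolynomial (Fin n) A)),
      MvPolynomial.algebraMap_def, MvPolynomial.algebraMap_eq, MvPolynomial.algebraMap_eq,
      MvPolynomial.map_C]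
    show algebraMap A C a = ψ (MvPolynomial.C (φ _))
    rw [← MvPolynomial.algebraMap_eq, ψ.commutes, ← MvPolynomial.algebraMap_eq (R := A), φ.commutes,
      ← IsScalarTower.algebraMap_apply]
  all_goals
    intro h
    haveI : Algebra.IsPushout (MvPolynomial (Fin n) A) (MvPolynomial (Fin m) (MvPolynomial (Fin n) A)) B
        (MvPolynomial (Fin m) B) := inferInstance
    let e := (Algebra.IsPushout.equiv (MvPolynomial (Fin n) A) (MvPolynomial (Fin m) (MvPolynomial (Fin n) A)) B
      (MvPolynomial (Fin m) B)).toLinearEquiv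
    first | exact pc'_baseChange e h | exact perfect_baseChange e h

theorem pcHom_comp (h₁ : MoreMor.IsPseudoCoherentHom A B) (h₂ : MoreMor.IsPseudoCoherentHom B C) :
    MoreMor.IsPseudoCoherentHom A C := by
  obtain ⟨n, φ, hφ, hφpc⟩ := h₁
  obtain ⟨m, ψ, hψ, hψpc⟩ := h₂
  letI := φ.toRingHom.toAlgebra
  letI := ψ.toRingHom.toAlgebra
  letI : Algebra (MvPolynomial (Fin m) (MvPolynomial (Fin n) A)) C :=
    (ψ.toRingHom.comp (algebraMap (MvPolynomial (Fin m) (MvPolynomial (Fin n) A)) (MvPolynomial (Fin m) B))).toAlgebra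
  obtain ⟨_, _, hs, hpc, -⟩ := comp_square n m φ hφ ψ hψ
  haveI : Algebra.FinitePresentation A (MvPolynomial (Fin m) (MvPolynomial (Fin n) A)) :=
    Algebra.FinitePresentation.mvPolynomial_of_finitePresentation _
  haveI : Module.Flat A (MvPolynomial (Fin m) (MvPolynomial (Fin n) A)) :=
    Module.Flat.trans A (MvPolynomial (Fin n) A) _
  exact (pcHom_iff _ hs).2 ((pc'_tower_iff (hpc hφpc) C).2 hψpc)

theorem pcHom_cancel (h₁ : MoreMor.IsPseudoCoherentHom A B) (h₂ : MoreMor.IsPseudoCoherentHom A C) :
    MoreMor.IsPseudoCoherentHom B C := by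
  obtain ⟨n, φ, hφ, hφpc⟩ := h₁
  haveI := finiteType_of_pcHom h₂
  haveI : Algebra.FiniteType B C := Algebra.FiniteType.of_restrictScalars_finiteType A B C
  obtain ⟨m, ψ, hψ⟩ := exists_surj B C
  refine ⟨m, ψ, hψ, ?_⟩
  letI := φ.toRingHom.toAlgebra
  letI := ψ.toRingHom.toAlgebra
  letI : Algebra (MvPolynomial (Fin m) (MvPolynomial (Fin n) A)) C :=
    (ψ.toRingHom.comp (algebraMap (MvPolynomial (Fin m) (MvPolynomial (Fin n) A)) (MvPolynomial (Fin m) B))).toAlgebra
  obtain ⟨_, _, hs, hpc, -⟩ := comp_square n m φ hφ ψ hψ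
  haveI : Algebra.FinitePresentation A (MvPolynomial (Fin m) (MvPolynomial (Fin n) A)) :=
    Algebra.FinitePresentation.mvPolynomial_of_finitePresentation _
  haveI : Module.Flat A (MvPolynomial (Fin m) (MvPolynomial (Fin n) A)) :=
    Module.Flat.trans A (MvPolynomial (Fin n) A) _
  exact (pc'_tower_iff (hpc hφpc) C).1 ((pcHom_iff _ hs).1 h₂)

theorem perfectHom_comp (h₁ : MoreMor.IsPerfectHom A B) (h₂ : MoreMor.IsPerfectHom B C) :
    MoreMor.IsPerfectHom A C := by
  obtain ⟨n, φ, hφ, hφp⟩ := (FlatMor68.PerfHom.t7066 A B).1 h₁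
  obtain ⟨m, ψ, hψ, hψp⟩ := (FlatMor68.PerfHom.t7066 B C).1 h₂
  letI := φ.toRingHom.toAlgebra
  letI := ψ.toRingHom.toAlgebra
  letI : Algebra (MvPolynomial (Fin m) (MvPolynomial (Fin n) A)) C :=
    (ψ.toRingHom.comp (algebraMap (MvPolynomial (Fin m) (MvPolynomial (Fin n) A)) (MvPolynomial (Fin m) B))).toAlgebra
  obtain ⟨_, _, hs, -, hp⟩ := comp_square n m φ hφ ψ hψ
  haveI : Algebra.FinitePresentation A (MvPolynomial (Fin m) (MvPolynomial (Fin n) A)) :=
    Algebra.FinitePresentation.mvPolynomial_of_finitePresentation _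
  haveI : Module.Flat A (MvPolynomial (Fin m) (MvPolynomial (Fin n) A)) :=
    Module.Flat.trans A (MvPolynomial (Fin n) A) _
  exact perfectHom_of_module _ hs (perfect_tower (hp hφp) C hψp)

end Comp

section BaseChange

variable (A' : Type u) [CommRing A'] [Algebra A A'] (B' : Type u) [CommRing B'] [Algebra A' B']
  [Algebra B B'] [Algebra A B'] [IsScalarTower A A' B'] [IsScalarTower A B B']
  [Algebra.IsPushout A A' B B']

/-- The presentation of a base change. -/
theorem bc_square (n : ℕ) (φ : MvPolynomial (Fin n) A →ₐ[A] B) (hφ : Function.Surjective φ) :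
    letI := φ.toRingHom.toAlgebra
    ∃ φ' : MvPolynomial (Fin n) A' →ₐ[A'] B', Function.Surjective φ' ∧
      letI := φ'.toRingHom.toAlgebra
      Nonempty ((MvPolynomial (Fin n) A' ⊗[MvPolynomial (Fin n) A] B) ≃ₗ[MvPolynomial (Fin n) A'] B') := by
  letI := φ.toRingHom.toAlgebra
  haveI : IsScalarTower A (MvPolynomial (Fin n) A) B := IsScalarTower.of_algHom φ
  let φ' : MvPolynomial (Fin n) A' →ₐ[A'] B' :=
    MvPolynomial.aeval fun i => algebraMap B B' (φ (MvPolynomial.X i))
  letI := φ'.toRingHom.toAlgebra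
  haveI : IsScalarTower A' (MvPolynomial (Fin n) A') B' := IsScalarTower.of_algHom φ'
  letI : Algebra (MvPolynomial (Fin n) A) B' :=
    ((algebraMap B B').comp φ.toRingHom).toAlgebra
  haveI : IsScalarTower (MvPolynomial (Fin n) A) B B' := IsScalarTower.of_algebraMap_eq fun x => rfl
  haveI : IsScalarTower A (MvPolynomial (Fin n) A) B' := IsScalarTower.of_algebraMap_eq fun a => by
    show algebraMap A B' a = algebraMap B B' (φ (algebraMap A _ a))
    rw [φ.commutes, ← IsScalarTower.algebraMap_apply]
  haveI : IsScalarTower (MvPolynomial (Fin n) A) (MvPolynomial (Fin n) A') B' := by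
    refine IsScalarTower.of_algebraMap_eq' ?_
    refine MvPolynomial.ringHom_ext (fun a => ?_) (fun i => ?_)
    · show algebraMap B B' (φ (MvPolynomial.C a)) = φ' (algebraMap _ (MvPolynomial (Fin n) A') (MvPolynomial.C a))
      rw [MvPolynomial.algebraMap_def, MvPolynomial.map_C, ← MvPolynomial.algebraMap_eq,
        ← MvPolynomial.algebraMap_eq, φ.commutes, φ'.commutes, ← IsScalarTower.algebraMap_apply,
        ← IsScalarTower.algebraMap_apply]
    · show algebraMap B B' (φ (MvPolynomial.X i)) = φ' (algebraMap _ (MvPolynomial (Fin n) A') (MvPolynomial.X i))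
      rw [MvPolynomial.algebraMap_def, MvPolynomial.map_X]
      simp [φ']
  haveI : IsScalarTower A (MvPolynomial (Fin n) A') B' := IsScalarTower.of_algebraMap_eq fun a => by
    rw [IsScalarTower.algebraMap_apply A A' (MvPolynomial (Fin n) A'), ← IsScalarTower.algebraMap_apply A' (MvPolynomial (Fin n) A') B',
      ← IsScalarTower.algebraMap_apply A A' B']
  haveI hpo : Algebra.IsPushout (MvPolynomial (Fin n) A) (MvPolynomial (Fin n) A') B B' := by
    haveI : Algebra.IsPushout A B A' B' := .symm inferInstance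
    exact ((Algebra.IsPushout.comp_iff A (MvPolynomial (Fin n) A) A' (MvPolynomial (Fin n) A') (T := B) (T' := B')).1
      inferInstance).symm
  let e := Algebra.IsPushout.equiv (MvPolynomial (Fin n) A) (MvPolynomial (Fin n) A') B B'
  refine ⟨φ', fun b => ?_, ⟨e.toLinearEquiv⟩⟩
  obtain ⟨z, rfl⟩ := e.surjective b
  induction z using TensorProduct.induction_on with
  | zero => exact ⟨0, by simp⟩
  | add x y hx hy =>
    obtain ⟨u, hu⟩ := hx
    obtain ⟨v, hv⟩ := hy
    exact ⟨u + v, by rw [map_add, hu, hv, map_add]⟩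
  | tmul p b =>
    obtain ⟨q, rfl⟩ := hφ b
    refine ⟨p * algebraMap _ (MvPolynomial (Fin n) A') q, ?_⟩
    rw [map_mul, Algebra.IsPushout.equiv_tmul]
    congr 1
    exact (IsScalarTower.algebraMap_apply (MvPolynomial (Fin n) A) (MvPolynomial (Fin n) A') B' q).symm

theorem flat_mvPolynomial [Module.Flat A A'] (n : ℕ) :
    Module.Flat (MvPolynomial (Fin n) A) (MvPolynomial (Fin n) A') := by
  haveI h : Algebra.IsPushout A (MvPolynomial (Fin n) A) A' (MvPolynomial (Fin n) A') := inferInstance
  exact Module.Flat.isBaseChange (R := A) (M := A') (S := MvPolynomial (Fin n) A) _ h.out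

theorem faithfullyFlat_mvPolynomial [Module.FaithfullyFlat A A'] (n : ℕ) :
    Module.FaithfullyFlat (MvPolynomial (Fin n) A) (MvPolynomial (Fin n) A') := by
  haveI h : Algebra.IsPushout A (MvPolynomial (Fin n) A) A' (MvPolynomial (Fin n) A') := inferInstance
  exact Module.FaithfullyFlat.of_linearEquiv _ _ h.out.equiv.symm

include A' in
theorem pcHom_baseChange [Module.Flat A A'] (h : MoreMor.IsPseudoCoherentHom A B) :
    MoreMor.IsPseudoCoherentHom A' B' := by
  obtain ⟨n, φ, hφ, hpc⟩ := h
  obtain ⟨φ', hφ', ⟨e⟩⟩ := bc_square A' B' n φ hφ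
  letI := φ.toRingHom.toAlgebra
  letI := φ'.toRingHom.toAlgebra
  haveI := flat_mvPolynomial (A := A) A' n
  exact ⟨n, φ', hφ', pc'_baseChange e hpc⟩

include A' in
theorem perfectHom_baseChange [Module.Flat A A'] (h : MoreMor.IsPerfectHom A B) :
    MoreMor.IsPerfectHom A' B' := by
  obtain ⟨n, φ, hφ, hp⟩ := (FlatMor68.PerfHom.t7066 A B).1 h
  obtain ⟨φ', hφ', ⟨e⟩⟩ := bc_square A' B' n φ hφ
  letI := φ.toRingHom.toAlgebra
  letI := φ'.toRingHom.toAlgebra
  haveI := flat_mvPolynomial (A := A) A' n
  exact (FlatMor68.PerfHom.t7066 A' B').2 ⟨n, φ', hφ', perfect_baseChange e hp⟩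

include A' B' in
theorem finiteType_of_bc [Module.FaithfullyFlat A A'] [Algebra.FiniteType A' B'] :
    Algebra.FiniteType A B := by
  haveI : Algebra.FiniteType A' (A' ⊗[A] B) :=
    Algebra.FiniteType.equiv inferInstance (Algebra.IsPushout.equiv A A' B B').symm
  exact Algebra.FiniteType.of_finiteType_tensorProduct_of_faithfullyFlat A'

include A' B' in
theorem pcHom_descent [Module.FaithfullyFlat A A'] (h : MoreMor.IsPseudoCoherentHom A' B') :
    MoreMor.IsPseudoCoherentHom A B := by
  haveI := finiteType_of_pcHom h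
  haveI := finiteType_of_bc (A := A) (B := B) A' B'
  obtain ⟨n, φ, hφ⟩ := exists_surj A B
  obtain ⟨φ', hφ', ⟨e⟩⟩ := bc_square A' B' n φ hφ
  letI := φ.toRingHom.toAlgebra
  letI := φ'.toRingHom.toAlgebra
  haveI : IsScalarTower A' (MvPolynomial (Fin n) A') B' := IsScalarTower.of_algHom φ'
  haveI := faithfullyFlat_mvPolynomial (A := A) A' n
  exact ⟨n, φ, hφ, pc'_of_faithfullyFlat (pc'_congr e.symm ((pcHom_iff _ hφ').1 h))⟩

include A' B' in
theorem perfectHom_descent [Module.FaithfullyFlat A A'] (h : MoreMor.IsPerfectHom A' B') :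
    MoreMor.IsPerfectHom A B := by
  haveI := finiteType_of_pcHom h.1
  haveI := finiteType_of_bc (A := A) (B := B) A' B'
  obtain ⟨n, φ, hφ⟩ := exists_surj A B
  obtain ⟨φ', hφ', ⟨e⟩⟩ := bc_square A' B' n φ hφ
  letI := φ.toRingHom.toAlgebra
  letI := φ'.toRingHom.toAlgebra
  haveI : IsScalarTower A' (MvPolynomial (Fin n) A') B' := IsScalarTower.of_algHom φ'
  haveI := faithfullyFlat_mvPolynomial (A := A) A' n
  exact (FlatMor68.PerfHom.t7066 A B).2
    ⟨n, φ, hφ, perfect_of_faithfullyFlat (perfect_congr e.symm (perfectModule_of_perfectHom h n hφ'))⟩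

end BaseChange

section Away

/-- The localized presentation. -/
theorem away_square {P : Type u} [CommRing P] [Algebra P B] (h : Function.Surjective (algebraMap P B)) (G : P)
    (S : Type u) [CommRing S] [Algebra B S] [IsLocalization.Away (algebraMap P B G) S] :
    letI : Algebra (Localization.Away G) S :=
      (IsLocalization.Away.map (Localization.Away G) S (algebraMap P B) G).toAlgebra
    Function.Surjective (algebraMap (Localization.Away G) S) ∧
      Nonempty ((Localization.Away G ⊗[P] B) ≃ₗ[Localization.Away G] S) := by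
  letI : Algebra (Localization.Away G) S :=
    (IsLocalization.Away.map (Localization.Away G) S (algebraMap P B) G).toAlgebra
  letI : Algebra P S := ((algebraMap B S).comp (algebraMap P B)).toAlgebra
  haveI : IsScalarTower P B S := IsScalarTower.of_algebraMap_eq fun x => rfl
  haveI : IsScalarTower P (Localization.Away G) S := IsScalarTower.of_algebraMap_eq fun x => by
    show algebraMap B S (algebraMap P B x) =
      IsLocalization.Away.map (Localization.Away G) S (algebraMap P B) G (algebraMap P _ x)
    simp [IsLocalization.Away.map, IsLocalization.map_eq]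
  haveI : IsLocalization ((Submonoid.powers G).map (algebraMap P B)) S := by
    rw [Submonoid.map_powers]; infer_instance
  refine ⟨IsLocalization.map_surjective_of_surjective (M := Submonoid.powers G) (S := Localization.Away G) (Q := S) (g := algebraMap P B) h, ?_⟩
  haveI : IsLocalization (Algebra.algebraMapSubmonoid B (Submonoid.powers G)) S := ‹_›
  haveI : IsLocalizedModule (Submonoid.powers G) (IsScalarTower.toAlgHom P B S).toLinearMap :=
    isLocalizedModule_iff_isLocalization.mpr inferInstance
  exact ⟨(IsLocalizedModule.isBaseChange (Submonoid.powers G) (Localization.Away G)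
    (IsScalarTower.toAlgHom P B S).toLinearMap).equiv⟩

/-- A module over a localization is its own base change. -/
theorem away_self {P : Type u} [CommRing P] (G : P) (S : Type u) [AddCommGroup S]
    [Module (Localization.Away G) S] [Module P S] [IsScalarTower P (Localization.Away G) S] :
    Nonempty ((Localization.Away G ⊗[P] S) ≃ₗ[Localization.Away G] S) := by
  haveI : IsLocalizedModule (Submonoid.powers G) (LinearMap.id : S →ₗ[P] S) :=
    { map_units := fun x => by
        obtain ⟨v, hv⟩ := (IsLocalization.map_units (Localization.Away G) x).exists_left_inv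
        rw [Module.End.isUnit_iff]
        refine Function.bijective_iff_has_inverse.2 ⟨fun s => v • s, fun s => ?_, fun s => ?_⟩
        · show v • ((x : P) • s) = s
          rw [← algebraMap_smul (Localization.Away G) (x : P) s, smul_smul, hv, one_smul]
        · show (x : P) • (v • s) = s
          rw [← algebraMap_smul (Localization.Away G) (x : P) (v • s), smul_smul, mul_comm, hv, one_smul]
      surj := fun y => ⟨(y, 1), by simp⟩
      exists_of_eq := fun {x y} hxy => ⟨1, by simpa using hxy⟩ }
  exact ⟨(IsLocalizedModule.isBaseChange (Submonoid.powers G) (Localization.Away G)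
    (LinearMap.id : S →ₗ[P] S)).equiv⟩

theorem pcHom_of_span {r : ℕ} (g : Fin r → B) (hg : Ideal.span (Set.range g) = ⊤)
    [Algebra.FiniteType A B]
    (h : ∀ i, MoreMor.IsPseudoCoherentHom A (Localization.Away (g i))) :
    MoreMor.IsPseudoCoherentHom A B ∧
      ((∀ i, MoreMor.IsPerfectHom A (Localization.Away (g i))) → MoreMor.IsPerfectHom A B) := by
  obtain ⟨n, φ, hφ⟩ := exists_surj A B
  letI := φ.toRingHom.toAlgebra
  haveI : IsScalarTower A (MvPolynomial (Fin n) A) B := IsScalarTower.of_algHom φ
  choose G hG using fun i => hφ (g i)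
  obtain ⟨p, hp, hp1⟩ : ∃ p ∈ Ideal.span (Set.range G), φ p = 1 := by
    have h1 : (1 : B) ∈ (Ideal.span (Set.range G)).map φ := by
      rw [Ideal.map_span, ← Set.range_comp, show φ ∘ G = g from funext hG, hg]
      exact Submodule.mem_top
    obtain ⟨p, hp, hp'⟩ := (Ideal.mem_map_iff_of_surjective φ hφ).1 h1
    exact ⟨p, hp, hp'⟩
  let G' : Fin (r + 1) → MvPolynomial (Fin n) A := Fin.cons (1 - p) G
  have hG' : Ideal.span (Set.range G') = ⊤ := by
    rw [Ideal.eq_top_iff_one]
    have h0 : 1 - p ∈ Ideal.span (Set.range G') := Ideal.subset_span ⟨0, by simp [G']⟩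
    have hp' : p ∈ Ideal.span (Set.range G') :=
      Ideal.span_mono (by rintro _ ⟨i, rfl⟩; exact ⟨i.succ, by simp [G']⟩) hp
    simpa using Ideal.add_mem _ h0 hp'
  let S : Fin (r + 1) → Type u := fun j => Localization.Away (φ (G' j))
  have hS : ∀ j, MoreMor.IsPseudoCoherentHom A (S j) ∧
      ((∀ i, MoreMor.IsPerfectHom A (Localization.Away (g i))) → MoreMor.IsPerfectHom A (S j)) := by
    intro j
    refine Fin.cases ?_ (fun i => ?_) j
    · have h0 : φ (G' 0) = 0 := by simp [G', hp1]
      haveI : Subsingleton (S 0) :=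
        IsLocalization.subsingleton (S := S 0) (M := Submonoid.powers (φ (G' 0))) ⟨1, (pow_one _).trans h0⟩
      haveI : Algebra.FinitePresentation A (S 0) :=
        Algebra.FinitePresentation.of_surjective (f := Algebra.ofId A (S 0)) (fun x => ⟨0, Subsingleton.elim _ _⟩)
          ⟨{1}, by
            rw [Finset.coe_singleton, Ideal.span_singleton_one]
            exact (RingHom.ker_eq_top_of_subsingleton _).symm⟩
      have := FlatMor68.PerfHom.t7068 A (S 0)
      exact ⟨this.1, fun _ => this⟩
    · have e : φ (G' i.succ) = g i := by simp [G', hG]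
      have key : ∀ b : B, b = g i → MoreMor.IsPseudoCoherentHom A (Localization.Away b) ∧
          ((∀ i, MoreMor.IsPerfectHom A (Localization.Away (g i))) →
            MoreMor.IsPerfectHom A (Localization.Away b)) := by
        rintro b rfl; exact ⟨h i, fun H => H i⟩
      exact key _ e
  have hpc : DRing.IsPseudoCoherentModule' (MvPolynomial (Fin n) A) B := by
    refine pc'_of_away G' hG' fun j => ?_
    haveI : IsLocalization.Away (algebraMap (MvPolynomial (Fin n) A) B (G' j)) (S j) :=
      (inferInstance : IsLocalization.Away (φ (G' j)) (Localization.Away (φ (G' j))))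
    obtain ⟨hs, ⟨e⟩⟩ := away_square hφ (G' j) (S j)
    letI : Algebra (Localization.Away (G' j)) (S j) :=
      (IsLocalization.Away.map (Localization.Away (G' j)) (S j) (algebraMap (MvPolynomial (Fin n) A) B) (G' j)).toAlgebra
    haveI : IsScalarTower A (Localization.Away (G' j)) (S j) := IsScalarTower.of_algebraMap_eq fun a => by
      show algebraMap A (S j) a = IsLocalization.Away.map _ _ _ _ (algebraMap A _ a)
      rw [IsScalarTower.algebraMap_apply A (MvPolynomial (Fin n) A) (Localization.Away (G' j))]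
      simp [IsLocalization.Away.map, IsLocalization.map_eq, ← IsScalarTower.algebraMap_apply]
      rw [← MvPolynomial.algebraMap_eq, ← IsScalarTower.algebraMap_apply]
    haveI : Module.Flat (MvPolynomial (Fin n) A) (Localization.Away (G' j)) :=
      IsLocalization.flat _ (Submonoid.powers (G' j))
    haveI : Module.Flat A (Localization.Away (G' j)) := Module.Flat.trans A (MvPolynomial (Fin n) A) _
    haveI : Algebra.FinitePresentation (MvPolynomial (Fin n) A) (Localization.Away (G' j)) :=
      IsLocalization.Away.finitePresentation (G' j)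
    haveI : Algebra.FinitePresentation A (Localization.Away (G' j)) :=
      Algebra.FinitePresentation.trans A (MvPolynomial (Fin n) A) _
    exact pc'_congr e.symm ((pcHom_iff _ hs).1 (hS j).1)
  refine ⟨(pcHom_iff _ hφ).2 hpc, fun H => perfectHom_of_module _ hφ ?_⟩
  refine perfect_of_away G' hG' fun j => ?_
  haveI : IsLocalization.Away (algebraMap (MvPolynomial (Fin n) A) B (G' j)) (S j) :=
    (inferInstance : IsLocalization.Away (φ (G' j)) (Localization.Away (φ (G' j))))
  obtain ⟨hs, ⟨e⟩⟩ := away_square hφ (G' j) (S j)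
  letI : Algebra (Localization.Away (G' j)) (S j) :=
    (IsLocalization.Away.map (Localization.Away (G' j)) (S j) (algebraMap (MvPolynomial (Fin n) A) B) (G' j)).toAlgebra
  haveI : IsScalarTower (MvPolynomial (Fin n) A) (Localization.Away (G' j)) (S j) :=
    IsScalarTower.of_algebraMap_eq (R := MvPolynomial (Fin n) A) (S := Localization.Away (G' j)) (A := S j) fun x => by
      rw [IsScalarTower.algebraMap_apply (MvPolynomial (Fin n) A) B (S j)]
      show _ = IsLocalization.Away.map _ _ _ _ (algebraMap (MvPolynomial (Fin n) A) _ x)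
      simp [IsLocalization.Away.map, IsLocalization.map_eq]
  haveI : IsScalarTower A (MvPolynomial (Fin n) A) (S j) := IsScalarTower.of_algebraMap_eq fun a => by
    rw [IsScalarTower.algebraMap_apply (MvPolynomial (Fin n) A) B (S j), ← IsScalarTower.algebraMap_apply A (MvPolynomial (Fin n) A) B, ← IsScalarTower.algebraMap_apply A B (S j)]
  haveI : Module.Flat (MvPolynomial (Fin n) A) (Localization.Away (G' j)) :=
    IsLocalization.flat _ (Submonoid.powers (G' j))
  obtain ⟨d, hd⟩ := ((hS j).2 H).2
  obtain ⟨e₁⟩ := away_self (G' j) (S j)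
  obtain ⟨e₂⟩ := rep_inD_baseChange (A := MvPolynomial (Fin n) A) (B := Localization.Away (G' j)) (S j)
  obtain ⟨e₃⟩ := rep_inD_baseChange (A := MvPolynomial (Fin n) A) (B := Localization.Away (G' j)) B
  refine (perfect_iff _).2 ⟨pc'_baseChange (LinearEquiv.refl _ _) hpc, -((d : ℤ) + n), 0, ?_⟩
  exact TA.of_iso (ta_map (LCI19.ta_mvPolynomial n (S j) ((hasTorDimLE_iff (S j) d).1 hd)))
    (e₂ ≪≫ inDIso (e₁.trans e.symm))

end Away

end Groth.Agent.FlatMor67.PCH
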