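import Groth.Agent.FlatMor67.PCHom
import Mathlib.AlgebraicGeometry.Morphisms.RingHomProperties
import Mathlib.AlgebraicGeometry.Morphisms.Flat
import Mathlib.AlgebraicGeometry.Morphisms.FinitePresentation
import Mathlib.AlgebraicGeometry.Morphisms.Descent
import Mathlib.RingTheory.RingHom.FinitePresentation
import Mathlib.RingTheory.Localization.BaseChange
import Mathlib.RingTheory.RingHom.FaithfullyFlat

/-! Pseudo-coherent and perfect morphisms of schemes are affine-local properties. -/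

set_option autoImplicit false
set_option backward.isDefEq.respectTransparency.types false
set_option linter.style.haveILetI false

universe u

open CategoryTheory Limits AlgebraicGeometry TensorProduct

attribute [local instance] HasDerivedCategory.standard

namespace Groth.Agent.FlatMor67.PCS

open PCH

/-- A pseudo-coherent ring homomorphism. -/
def pcH {A B : Type u} [CommRing A] [CommRing B] (f : A →+* B) : Prop :=
  letI := f.toAlgebra; MoreMor.IsPseudoCoherentHom A B

/-- A perfect ring homomorphism. -/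
def pfH {A B : Type u} [CommRing A] [CommRing B] (f : A →+* B) : Prop :=
  letI := f.toAlgebra; MoreMor.IsPerfectHom A B

variable {A B C : Type u} [CommRing A] [CommRing B] [CommRing C]

theorem pcH_algebraMap [Algebra A B] : pcH (algebraMap A B) ↔ MoreMor.IsPseudoCoherentHom A B := by
  unfold pcH; rw [toAlgebra_algebraMap]

theorem pfH_algebraMap [Algebra A B] : pfH (algebraMap A B) ↔ MoreMor.IsPerfectHom A B := by
  unfold pfH; rw [toAlgebra_algebraMap]

theorem pcH_of_pfH {f : A →+* B} (h : pfH f) : pcH f := h.1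

theorem pfH_of_flat_fp [Algebra A B] [Module.Flat A B] [Algebra.FinitePresentation A B] :
    pfH (algebraMap A B) :=
  pfH_algebraMap.2 (FlatMor68.PerfHom.t7068 A B)

theorem pcH_comp {f : A →+* B} {g : B →+* C} (hf : pcH f) (hg : pcH g) : pcH (g.comp f) := by
  letI := f.toAlgebra; letI := g.toAlgebra; letI := (g.comp f).toAlgebra
  haveI : IsScalarTower A B C := IsScalarTower.of_algebraMap_eq fun _ => rfl
  exact pcHom_comp hf hg

theorem pfH_comp {f : A →+* B} {g : B →+* C} (hf : pfH f) (hg : pfH g) : pfH (g.comp f) := by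
  letI := f.toAlgebra; letI := g.toAlgebra; letI := (g.comp f).toAlgebra
  haveI : IsScalarTower A B C := IsScalarTower.of_algebraMap_eq fun _ => rfl
  exact perfectHom_comp hf hg

theorem pcH_cancel {f : A →+* B} {g : B →+* C} (hf : pcH f) (hgf : pcH (g.comp f)) : pcH g := by
  letI := f.toAlgebra; letI := g.toAlgebra; letI := (g.comp f).toAlgebra
  haveI : IsScalarTower A B C := IsScalarTower.of_algebraMap_eq fun _ => rfl
  exact pcHom_cancel hf hgf

theorem finiteType_of_pcH {f : A →+* B} (h : pcH f) : f.FiniteType := by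
  letI := f.toAlgebra
  exact finiteType_of_pcHom h

theorem fp_of_pcH {f : A →+* B} (h : pcH f) : f.FinitePresentation := by
  letI := f.toAlgebra
  exact fp_of_pcHom h

theorem pcH_holdsAway : RingHom.HoldsForLocalizationAway @pcH := by
  intro R S _ _ _ r _
  haveI : Module.Flat R S := IsLocalization.flat S (Submonoid.powers r)
  haveI : Algebra.FinitePresentation R S := IsLocalization.Away.finitePresentation r
  exact pcH_of_pfH pfH_of_flat_fp

theorem pfH_holdsAway : RingHom.HoldsForLocalizationAway @pfH := by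
  intro R S _ _ _ r _
  haveI : Module.Flat R S := IsLocalization.flat S (Submonoid.powers r)
  haveI : Algebra.FinitePresentation R S := IsLocalization.Away.finitePresentation r
  exact pfH_of_flat_fp

/-- The pushout square of a localization. -/
theorem away_pushout {R S : Type u} [CommRing R] [CommRing S] (f : R →+* S) (r : R) (R' S' : Type u)
    [CommRing R'] [CommRing S'] [Algebra R R'] [Algebra S S'] [IsLocalization.Away r R']
    [IsLocalization.Away (f r) S'] :
    letI := f.toAlgebra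
    letI : Algebra R' S' := (IsLocalization.Away.map R' S' f r).toAlgebra
    letI : Algebra R S' := ((algebraMap S S').comp f).toAlgebra
    ∃ (_ : IsScalarTower R R' S') (_ : IsScalarTower R S S'), Algebra.IsPushout R R' S S' := by
  letI := f.toAlgebra
  letI : Algebra R' S' := (IsLocalization.Away.map R' S' f r).toAlgebra
  letI : Algebra R S' := ((algebraMap S S').comp f).toAlgebra
  haveI t₁ : IsScalarTower R S S' := IsScalarTower.of_algebraMap_eq fun _ => rfl
  haveI t₂ : IsScalarTower R R' S' := IsScalarTower.of_algebraMap_eq fun x => by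
    show algebraMap S S' (f x) = IsLocalization.Away.map R' S' f r (algebraMap R R' x)
    simp [IsLocalization.Away.map, IsLocalization.map_eq]
  haveI : IsLocalization (Algebra.algebraMapSubmonoid S (Submonoid.powers r)) S' := by
    rw [Algebra.algebraMapSubmonoid, Submonoid.map_powers]
    exact ‹IsLocalization.Away (f r) S'›
  exact ⟨t₂, t₁, (Algebra.isPushout_of_isLocalization (Submonoid.powers r) R' S S').symm⟩

theorem pcH_away : RingHom.LocalizationAwayPreserves @pcH := by
  intro R S _ _ f r R' S' _ _ _ _ _ _ h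
  obtain ⟨_, _, _⟩ := away_pushout f r R' S'
  letI := f.toAlgebra
  letI : Algebra R' S' := (IsLocalization.Away.map R' S' f r).toAlgebra
  letI : Algebra R S' := ((algebraMap S S').comp f).toAlgebra
  haveI : Module.Flat R R' := IsLocalization.flat R' (Submonoid.powers r)
  exact pcHom_baseChange (A := R) (B := S) R' S' h

theorem pfH_away : RingHom.LocalizationAwayPreserves @pfH := by
  intro R S _ _ f r R' S' _ _ _ _ _ _ h
  obtain ⟨_, _, _⟩ := away_pushout f r R' S'
  letI := f.toAlgebra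
  letI : Algebra R' S' := (IsLocalization.Away.map R' S' f r).toAlgebra
  letI : Algebra R S' := ((algebraMap S S').comp f).toAlgebra
  haveI : Module.Flat R R' := IsLocalization.flat R' (Submonoid.powers r)
  exact perfectHom_baseChange (A := R) (B := S) R' S' h

theorem span_target_aux {R S : Type u} [CommRing R] [CommRing S] (f : R →+* S) (s : Finset S)
    (hs : Ideal.span (s : Set S) = ⊤)
    (h : ∀ r : s, pcH ((algebraMap S (Localization.Away (r : S))).comp f)) :
    pcH f ∧ ((∀ r : s, pfH ((algebraMap S (Localization.Away (r : S))).comp f)) → pfH f) := by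
  have hft : f.FiniteType :=
    RingHom.finiteType_ofLocalizationSpanTarget f s hs fun r => finiteType_of_pcH (h r)
  letI := f.toAlgebra
  haveI : Algebra.FiniteType R S := hft
  let g : Fin s.card → S := fun i => (s.equivFin.symm i : S)
  have hg : Ideal.span (Set.range g) = ⊤ := by
    rw [eq_top_iff, ← hs]
    exact Ideal.span_mono fun x hx => ⟨s.equivFin ⟨x, hx⟩, by simp [g]⟩
  have key : ∀ i, (algebraMap R (Localization.Away (g i))) = (algebraMap S (Localization.Away (g i))).comp f :=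
    fun i => IsScalarTower.algebraMap_eq R S (Localization.Away (g i))
  have := pcHom_of_span g hg fun i => pcH_algebraMap.1 (by rw [key i]; exact h (s.equivFin.symm i))
  exact ⟨this.1, fun H => this.2 fun i => pfH_algebraMap.1 (by rw [key i]; exact H (s.equivFin.symm i))⟩

theorem pcH_spanTarget : RingHom.OfLocalizationSpanTarget @pcH := by
  rw [RingHom.ofLocalizationSpanTarget_iff_finite]
  intro R S _ _ f s hs h
  exact (span_target_aux f s hs h).1

theorem pfH_spanTarget : RingHom.OfLocalizationSpanTarget @pfH := by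
  rw [RingHom.ofLocalizationSpanTarget_iff_finite]
  intro R S _ _ f s hs h
  exact (span_target_aux f s hs fun r => pcH_of_pfH (h r)).2 h

theorem pcH_spanSource : RingHom.OfLocalizationSpan @pcH := by
  intro R S _ _ f s hs h
  refine pcH_spanTarget f (f '' s) (by rw [← Ideal.map_span, hs, Ideal.map_top]) ?_
  rintro ⟨_, r, hr, rfl⟩
  have heq : (algebraMap S (Localization.Away (f r))).comp f =
      (Localization.awayMap f r).comp (algebraMap R (Localization.Away r)) := by
    ext x; simp [Localization.awayMap, IsLocalization.Away.map]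
  rw [heq]
  exact pcH_comp (pcH_holdsAway (Localization.Away r) r) (h ⟨r, hr⟩)

theorem pfH_spanSource : RingHom.OfLocalizationSpan @pfH := by
  intro R S _ _ f s hs h
  refine pfH_spanTarget f (f '' s) (by rw [← Ideal.map_span, hs, Ideal.map_top]) ?_
  rintro ⟨_, r, hr, rfl⟩
  have heq : (algebraMap S (Localization.Away (f r))).comp f =
      (Localization.awayMap f r).comp (algebraMap R (Localization.Away r)) := by
    ext x; simp [Localization.awayMap, IsLocalization.Away.map]
  rw [heq]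
  exact pfH_comp (pfH_holdsAway (Localization.Away r) r) (h ⟨r, hr⟩)

theorem pcH_stableComp : RingHom.StableUnderComposition @pcH := fun _ _ _ _ _ _ _ _ hf hg => pcH_comp hf hg

theorem pfH_stableComp : RingHom.StableUnderComposition @pfH := fun _ _ _ _ _ _ _ _ hf hg => pfH_comp hf hg

theorem pcH_isLocal : RingHom.PropertyIsLocal @pcH :=
  ⟨pcH_away, pcH_spanTarget, pcH_spanSource,
    (pcH_stableComp.stableUnderCompositionWithLocalizationAway pcH_holdsAway).2⟩

theorem pfH_isLocal : RingHom.PropertyIsLocal @pfH :=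
  ⟨pfH_away, pfH_spanTarget, pfH_spanSource,
    (pfH_stableComp.stableUnderCompositionWithLocalizationAway pfH_holdsAway).2⟩

/-- Pseudo-coherence as a morphism property. -/
def pcMor : MorphismProperty Scheme.{u} := fun _ _ f => MoreMor.IsPseudoCoherentMor f

/-- Perfection as a morphism property. -/
def pfMor : MorphismProperty Scheme.{u} := fun _ _ f => MoreMor.IsPerfectMor f

instance pcMor_hasRingHomProperty : HasRingHomProperty pcMor.{u} @pcH where
  isLocal_ringHomProperty := pcH_isLocal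
  eq_affineLocally' := by
    refine MorphismProperty.ext _ _ fun X Y f => ?_
    rw [affineLocally_iff_affineOpens_le]
    exact ⟨fun h V U e => h U.1 V.1 U.2 V.2 e, fun h U V hU hV e => h ⟨V, hV⟩ ⟨U, hU⟩ e⟩

instance pfMor_hasRingHomProperty : HasRingHomProperty pfMor.{u} @pfH where
  isLocal_ringHomProperty := pfH_isLocal
  eq_affineLocally' := by
    refine MorphismProperty.ext _ _ fun X Y f => ?_
    rw [affineLocally_iff_affineOpens_le]
    exact ⟨fun h V U e => h U.1 V.1 U.2 V.2 e, fun h U V hU hV e => h ⟨V, hV⟩ ⟨U, hU⟩ e⟩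

variable {X Y S : Scheme.{u}}

/-- Pseudo-coherence from one pair of affine charts around each point. -/
theorem pcMor_iff_exists (f : X ⟶ S) :
    MoreMor.IsPseudoCoherentMor f ↔ ∀ x : X, ∃ (U : X.Opens) (V : S.Opens) (hUV : U ≤ f ⁻¹ᵁ V),
      IsAffineOpen U ∧ IsAffineOpen V ∧ x ∈ U ∧ pcH (f.appLE V U hUV).hom := by
  refine (HasRingHomProperty.iff_exists_appLE (P := pcMor)
    (pcH_stableComp.stableUnderCompositionWithLocalizationAway pcH_holdsAway).1).trans ?_
  exact forall_congr' fun x =>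
    ⟨fun ⟨V, U, hx, e, h⟩ => ⟨U.1, V.1, e, U.2, V.2, hx, h⟩,
      fun ⟨U, V, e, hU, hV, hx, h⟩ => ⟨⟨V, hV⟩, ⟨U, hU⟩, hx, e, h⟩⟩

/-- Perfection from one pair of affine charts around each point. -/
theorem pfMor_iff_exists (f : X ⟶ S) :
    MoreMor.IsPerfectMor f ↔ ∀ x : X, ∃ (U : X.Opens) (V : S.Opens) (hUV : U ≤ f ⁻¹ᵁ V),
      IsAffineOpen U ∧ IsAffineOpen V ∧ x ∈ U ∧ pfH (f.appLE V U hUV).hom := by
  refine (HasRingHomProperty.iff_exists_appLE (P := pfMor)
    (pfH_stableComp.stableUnderCompositionWithLocalizationAway pfH_holdsAway).1).trans ?_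
  exact forall_congr' fun x =>
    ⟨fun ⟨V, U, hx, e, h⟩ => ⟨U.1, V.1, e, U.2, V.2, hx, h⟩,
      fun ⟨U, V, e, hU, hV, hx, h⟩ => ⟨⟨V, hV⟩, ⟨U, hU⟩, hx, e, h⟩⟩

theorem pcMor_cancel (f : X ⟶ Y) (g : Y ⟶ S) (hfg : MoreMor.IsPseudoCoherentMor (f ≫ g))
    (hg : MoreMor.IsPseudoCoherentMor g) : MoreMor.IsPseudoCoherentMor f := by
  refine (pcMor_iff_exists f).2 fun x => ?_
  obtain ⟨_, ⟨W, hW, rfl⟩, hxW, -⟩ :=
    S.isBasis_affineOpens.exists_subset_of_mem_open (Set.mem_univ (g (f x))) isOpen_univ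
  obtain ⟨_, ⟨V, hV, rfl⟩, hxV, hVW⟩ :=
    Y.isBasis_affineOpens.exists_subset_of_mem_open (show f x ∈ g ⁻¹ᵁ W from hxW) (g ⁻¹ᵁ W).isOpen
  obtain ⟨_, ⟨U, hU, rfl⟩, hxU, hUV⟩ :=
    X.isBasis_affineOpens.exists_subset_of_mem_open (show x ∈ f ⁻¹ᵁ V from hxV) (f ⁻¹ᵁ V).isOpen
  refine ⟨U, V, hUV, hU, hV, hxU, ?_⟩
  have hUW : U ≤ (f ≫ g) ⁻¹ᵁ W := hUV.trans (f.preimage_mono hVW)
  have e : (f ≫ g).appLE W U hUW = g.appLE W V hVW ≫ f.appLE V U hUV :=
    (Scheme.Hom.appLE_comp_appLE f g W V U hVW hUV).symm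
  have h : pcH ((f.appLE V U hUV).hom.comp (g.appLE W V hVW).hom) := by
    rw [← CommRingCat.hom_comp, ← e]
    exact hfg U W hU hW hUW
  exact pcH_cancel (hg V W hV hW hVW) h

section BaseChange

variable {X' S' : Scheme.{u}} (f : X ⟶ S) (f' : X' ⟶ S') (g' : X' ⟶ X) (g : S' ⟶ S)

include g g' in
theorem bc_charts (hc : IsPullback g' f' f g) [Flat g] (x' : X') :
    ∃ (U' : X'.Opens) (V' : S'.Opens) (hUV' : U' ≤ f' ⁻¹ᵁ V'), IsAffineOpen U' ∧ IsAffineOpen V' ∧ x' ∈ U' ∧
      ∃ (U : X.Opens) (V : S.Opens) (hUV : U ≤ f ⁻¹ᵁ V), IsAffineOpen U ∧ IsAffineOpen V ∧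
        ∃ (hV : V' ≤ g ⁻¹ᵁ V) (hU : U' ≤ g' ⁻¹ᵁ U), (g.appLE V V' hV).hom.Flat ∧
          IsPushout (f.appLE V U hUV) (g.appLE V V' hV) (g'.appLE U U' hU) (f'.appLE V' U' hUV') := by
  obtain ⟨_, ⟨V, hV, rfl⟩, hxV, -⟩ :=
    S.isBasis_affineOpens.exists_subset_of_mem_open (Set.mem_univ (f (g' x'))) isOpen_univ
  have hx2 : g (f' x') ∈ V := by
    rw [← Scheme.Hom.comp_apply, ← hc.w, Scheme.Hom.comp_apply]
    exact hxV
  obtain ⟨_, ⟨V', hV', rfl⟩, hxV', hV'V⟩ :=
    S'.isBasis_affineOpens.exists_subset_of_mem_open (show f' x' ∈ g ⁻¹ᵁ V from hx2) (g ⁻¹ᵁ V).isOpen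
  obtain ⟨_, ⟨U, hU, rfl⟩, hxU, hUV⟩ :=
    X.isBasis_affineOpens.exists_subset_of_mem_open (show g' x' ∈ f ⁻¹ᵁ V from hxV) (f ⁻¹ᵁ V).isOpen
  haveI := isIso_pushoutSection_of_isAffineOpen hc hV'V hUV (rfl : g' ⁻¹ᵁ U ⊓ f' ⁻¹ᵁ V' = _) hV hV' hU
  have hp := (isIso_pushoutSection_iff hc hV'V hUV (rfl : g' ⁻¹ᵁ U ⊓ f' ⁻¹ᵁ V' = _)).1 inferInstance
  have hU' : IsAffineOpen (g' ⁻¹ᵁ U ⊓ f' ⁻¹ᵁ V') := by
    have : IsAffine _ := hV
    have : IsAffine _ := hV'
    have : IsAffine _ := hU
    exact .of_isIso (Scheme.Hom.isPullback_resLE hc hV'V hUV (rfl : g' ⁻¹ᵁ U ⊓ f' ⁻¹ᵁ V' = _)).isoPullback.hom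
  exact ⟨_, V', inf_le_right, hU', hV', ⟨hxU, hxV'⟩, U, V, hUV, hU, hV, hV'V, inf_le_left,
    Flat.flat_appLE g hV hV' hV'V, hp⟩

theorem alg_pushout {A A' B B' : CommRingCat.{u}} {a : A ⟶ B} {b : A ⟶ A'} {c : B ⟶ B'} {d : A' ⟶ B'}
    (hp : IsPushout a b c d) :
    letI := a.hom.toAlgebra; letI := b.hom.toAlgebra; letI := c.hom.toAlgebra; letI := d.hom.toAlgebra
    letI : Algebra A B' := (c.hom.comp a.hom).toAlgebra
    ∃ (_ : IsScalarTower A B B') (_ : IsScalarTower A A' B'), Algebra.IsPushout A A' B B' := by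
  letI := a.hom.toAlgebra; letI := b.hom.toAlgebra; letI := c.hom.toAlgebra; letI := d.hom.toAlgebra
  letI : Algebra A B' := (c.hom.comp a.hom).toAlgebra
  haveI t₁ : IsScalarTower A B B' := IsScalarTower.of_algebraMap_eq fun _ => rfl
  haveI t₂ : IsScalarTower A A' B' := IsScalarTower.of_algebraMap_eq fun x => by
    show (a ≫ c).hom x = (b ≫ d).hom x
    rw [hp.w]
  exact ⟨t₁, t₂, CommRingCat.isPushout_iff_isPushout.1 hp.flip⟩

theorem pcMor_flat_baseChange [Flat g] (hc : IsPullback g' f' f g) (hf : MoreMor.IsPseudoCoherentMor f) :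
    MoreMor.IsPseudoCoherentMor f' := by
  refine (pcMor_iff_exists f').2 fun x' => ?_
  obtain ⟨U', V', hUV', hU', hV', hx', U, V, hUV, hU, hV, hVV, hUU, hfl, hp⟩ := bc_charts f f' g' g hc x'
  refine ⟨U', V', hUV', hU', hV', hx', ?_⟩
  obtain ⟨_, _, _⟩ := alg_pushout hp
  letI := (f.appLE V U hUV).hom.toAlgebra
  letI := (g.appLE V V' hVV).hom.toAlgebra
  letI := (g'.appLE U U' hUU).hom.toAlgebra
  letI := (f'.appLE V' U' hUV').hom.toAlgebra
  letI : Algebra Γ(S, V) Γ(X', U') := ((g'.appLE U U' hUU).hom.comp (f.appLE V U hUV).hom).toAlgebra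
  haveI : Module.Flat Γ(S, V) Γ(S', V') := hfl
  exact pcHom_baseChange (A := Γ(S, V)) (B := Γ(X, U)) Γ(S', V') Γ(X', U') (hf U V hU hV hUV)

theorem pfMor_flat_baseChange [Flat g] (hc : IsPullback g' f' f g) (hf : MoreMor.IsPerfectMor f) :
    MoreMor.IsPerfectMor f' := by
  refine (pfMor_iff_exists f').2 fun x' => ?_
  obtain ⟨U', V', hUV', hU', hV', hx', U, V, hUV, hU, hV, hVV, hUU, hfl, hp⟩ := bc_charts f f' g' g hc x'
  refine ⟨U', V', hUV', hU', hV', hx', ?_⟩
  obtain ⟨_, _, _⟩ := alg_pushout hp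
  letI := (f.appLE V U hUV).hom.toAlgebra
  letI := (g.appLE V V' hVV).hom.toAlgebra
  letI := (g'.appLE U U' hUU).hom.toAlgebra
  letI := (f'.appLE V' U' hUV').hom.toAlgebra
  letI : Algebra Γ(S, V) Γ(X', U') := ((g'.appLE U U' hUU).hom.comp (f.appLE V U hUV).hom).toAlgebra
  haveI : Module.Flat Γ(S, V) Γ(S', V') := hfl
  exact perfectHom_baseChange (A := Γ(S, V)) (B := Γ(X, U)) Γ(S', V') Γ(X', U') (hf U V hU hV hUV)

end BaseChange

theorem pcH_codescends : RingHom.CodescendsAlong @pcH RingHom.FaithfullyFlat := by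
  refine RingHom.CodescendsAlong.mk _ pcH_isLocal.respectsIso ?_
  introv h H
  rw [RingHom.faithfullyFlat_algebraMap_iff] at h
  letI : Algebra T (S ⊗[R] T) := Algebra.TensorProduct.rightAlgebra
  haveI : IsScalarTower R T (S ⊗[R] T) := Algebra.TensorProduct.right_isScalarTower
  exact pcH_algebraMap.2 (pcHom_descent S (S ⊗[R] T) (pcH_algebraMap.1 H))

theorem pfH_codescends : RingHom.CodescendsAlong @pfH RingHom.FaithfullyFlat := by
  refine RingHom.CodescendsAlong.mk _ pfH_isLocal.respectsIso ?_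
  introv h H
  rw [RingHom.faithfullyFlat_algebraMap_iff] at h
  letI : Algebra T (S ⊗[R] T) := Algebra.TensorProduct.rightAlgebra
  haveI : IsScalarTower R T (S ⊗[R] T) := Algebra.TensorProduct.right_isScalarTower
  exact pfH_algebraMap.2 (perfectHom_descent S (S ⊗[R] T) (pfH_algebraMap.1 H))

/-- Descent along flat surjective quasi-compact morphisms for a property stable under flat base change. -/
theorem descends (P : MorphismProperty Scheme.{u})
    {Q : ∀ {R S : Type u} [CommRing R] [CommRing S], (R →+* S) → Prop} [HasRingHomProperty P Q]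
    (hQ : RingHom.CodescendsAlong Q RingHom.FaithfullyFlat)
    (hbc : ∀ {X S X' S' : Scheme.{u}} (f : X ⟶ S) (f' : X' ⟶ S') (g' : X' ⟶ X) (g : S' ⟶ S),
      Flat g → IsPullback g' f' f g → P f → P f') :
    P.DescendsAlong (@Surjective ⊓ @Flat ⊓ @QuasiCompact) := by
  apply IsZariskiLocalAtTarget.descendsAlong
  intro R X Y f g hf h
  wlog hX : ∃ T, X = Spec T generalizing X
  · haveI hqc : QuasiCompact f := hf.2
    haveI hsj : Surjective f := hf.1.1
    haveI hfl : Flat f := hf.1.2
    haveI hcs : CompactSpace X := (quasiCompact_iff_compactSpace f).1 inferInstance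
    obtain ⟨Z, p, hsurj, hP', hZ⟩ := X.exists_hom_isAffine_of_isZariskiLocalAtSource @IsLocalIso
    haveI hlp : Flat p := IsLocalIso.le_of_isZariskiLocalAtSource @Flat _ _ p hP'
    refine this ((Z.isoSpec.inv ≫ p) ≫ f) ⟨⟨?_, ?_⟩, inferInstance⟩ ?_ ⟨_, rfl⟩
    · have : Surjective p := hsurj
      exact inferInstanceAs (Surjective ((Z.isoSpec.inv ≫ p) ≫ f))
    · exact inferInstanceAs (Flat ((Z.isoSpec.inv ≫ p) ≫ f))
    · rw [← pullbackRightPullbackFstIso_inv_fst f g _, P.cancel_left_of_respectsIso]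
      exact hbc (pullback.fst f g) _ _ (Z.isoSpec.inv ≫ p) inferInstance
        (IsPullback.of_hasPullback (Z.isoSpec.inv ≫ p) (pullback.fst f g)).flip h
  obtain ⟨T, rfl⟩ := hX
  obtain ⟨φ, rfl⟩ := Spec.map_surjective f
  wlog hY : ∃ S, Y = Spec S generalizing Y
  · rw [IsZariskiLocalAtSource.iff_of_openCover (P := P) Y.affineCover]
    intro i
    have heq : pullback.fst (Spec.map φ) (Y.affineCover.f i ≫ g) =
        pullback.map _ _ _ _ (𝟙 _) (Y.affineCover.f i) (𝟙 _) (by simp) (by simp) ≫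
          pullback.fst (Spec.map φ) g := (pullback.lift_fst _ _ _).symm
    exact this _ (heq ▸ IsZariskiLocalAtSource.comp h _) ⟨_, rfl⟩
  obtain ⟨S, rfl⟩ := hY
  refine of_pullback_fst_Spec_of_codescendsAlong P (P' := @Surjective ⊓ @Flat) hQ ?_
    HasRingHomProperty.Spec_iff hf.1 h
  intro R S f h
  rw [RingHom.FaithfullyFlat.iff_flat_and_comap_surjective]
  exact ⟨HasRingHomProperty.Spec_iff.1 h.2, h.1.surj⟩

theorem pcMor_descends {X S X' S' : Scheme.{u}} (f : X ⟶ S) (f' : X' ⟶ S') (g' : X' ⟶ X) (g : S' ⟶ S)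
    [Flat g] [Surjective g] [QuasiCompact g] (hc : IsPullback g' f' f g)
    (hf' : MoreMor.IsPseudoCoherentMor f') : MoreMor.IsPseudoCoherentMor f :=
  haveI := descends pcMor pcH_codescends fun f f' g' g _ hc h => pcMor_flat_baseChange f f' g' g hc h
  MorphismProperty.of_isPullback_of_descendsAlong (Q := @Surjective ⊓ @Flat ⊓ @QuasiCompact)
    (P := pcMor) hc.flip ⟨⟨inferInstance, inferInstance⟩, inferInstance⟩ hf'

theorem pfMor_descends {X S X' S' : Scheme.{u}} (f : X ⟶ S) (f' : X' ⟶ S') (g' : X' ⟶ X) (g : S' ⟶ S)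
    [Flat g] [Surjective g] [QuasiCompact g] (hc : IsPullback g' f' f g)
    (hf' : MoreMor.IsPerfectMor f') : MoreMor.IsPerfectMor f :=
  haveI := descends pfMor pfH_codescends fun f f' g' g _ hc h => pfMor_flat_baseChange f f' g' g hc h
  MorphismProperty.of_isPullback_of_descendsAlong (Q := @Surjective ⊓ @Flat ⊓ @QuasiCompact)
    (P := pfMor) hc.flip ⟨⟨inferInstance, inferInstance⟩, inferInstance⟩ hf'

end Groth.Agent.FlatMor67.PCS
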