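import Mathlib.AlgebraicGeometry.Morphisms.FormallyUnramified
import Mathlib.AlgebraicGeometry.Morphisms.ClosedImmersion
import Mathlib.RingTheory.Etale.Basic
import Groth.Prelude.Def_MoreMor

/-!
Infinitesimal lifting of morphisms of schemes along thickenings:
local existence of lifts, uniqueness, gluing.
-/

set_option linter.style.haveILetI false

universe u

namespace Groth.Agent.FlatMor67

open AlgebraicGeometry CategoryTheory Limits

variable {X Y T T' : Scheme.{u}} {f : X ⟶ Y} {t : T ⟶ T'} {a : T ⟶ X} {b : T' ⟶ Y}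

lemma isNilpotent_ker_app [IsClosedImmersion t] (ht : IsNilpotent t.ker) {W : T'.Opens}
    (hW : IsAffineOpen W) : IsNilpotent (RingHom.ker (t.app W).hom) := by
  obtain ⟨n, hn⟩ := ht
  exact ⟨n, by simpa [Scheme.Hom.ker_apply] using congr(($hn).ideal ⟨W, hW⟩)⟩

/-- Local lift: over an affine open `W` of `T'` landing in affine charts `U → V`. -/
lemma exists_local_lift [IsClosedImmersion t] (ht : IsNilpotent t.ker) (w : t ≫ b = a ≫ f)
    {U : X.Opens} {V : Y.Opens} (hU : IsAffineOpen U) (hV : IsAffineOpen V) (hUV : U ≤ f ⁻¹ᵁ V)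
    (hfs : letI := (f.appLE V U hUV).hom.toAlgebra
      Algebra.FormallySmooth Γ(Y, V) Γ(X, U))
    {W : T'.Opens} (hW : IsAffineOpen W) (hWU : t ⁻¹ᵁ W ≤ a ⁻¹ᵁ U) (hWV : W ≤ b ⁻¹ᵁ V) :
    ∃ l : (W : Scheme.{u}) ⟶ X, l ≫ f = W.ι ≫ b ∧ (t ∣_ W) ≫ l = (t ⁻¹ᵁ W).ι ≫ a := by
  have htW : IsAffineOpen (t ⁻¹ᵁ W) := hW.preimage t
  have e0 : f.appLE V U hUV ≫ a.appLE U (t ⁻¹ᵁ W) hWU =
      b.appLE V W hWV ≫ t.appLE W (t ⁻¹ᵁ W) le_rfl := by
    simp [Scheme.Hom.appLE_comp_appLE, w]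
  letI := (f.appLE V U hUV).hom.toAlgebra
  letI := (b.appLE V W hWV).hom.toAlgebra
  letI := ((b.appLE V W hWV) ≫ t.appLE W (t ⁻¹ᵁ W) le_rfl).hom.toAlgebra
  let φ : Γ(X, U) →ₐ[Γ(Y, V)] Γ(T, t ⁻¹ᵁ W) :=
    ⟨(a.appLE U (t ⁻¹ᵁ W) hWU).hom, fun r => congr($e0 r)⟩
  let q : Γ(T', W) →ₐ[Γ(Y, V)] Γ(T, t ⁻¹ᵁ W) :=
    ⟨(t.appLE W (t ⁻¹ᵁ W) le_rfl).hom, fun r => rfl⟩
  have hq : Function.Surjective q := by
    change Function.Surjective (t.appLE W (t ⁻¹ᵁ W) le_rfl)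
    rw [← Scheme.Hom.app_eq_appLE]
    exact t.app_surjective W hW
  have hq' : IsNilpotent (RingHom.ker (q : Γ(T', W) →+* Γ(T, t ⁻¹ᵁ W))) := by
    change IsNilpotent (RingHom.ker (t.appLE W (t ⁻¹ᵁ W) le_rfl).hom)
    rw [← Scheme.Hom.app_eq_appLE]
    exact isNilpotent_ker_app ht hW
  let ψ := Algebra.FormallySmooth.liftOfSurjective φ q hq hq'
  have hψ₁ : CommRingCat.ofHom ψ.toRingHom ≫ t.appLE W (t ⁻¹ᵁ W) le_rfl =
      a.appLE U (t ⁻¹ᵁ W) hWU :=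
    CommRingCat.hom_ext (RingHom.ext fun x =>
      Algebra.FormallySmooth.liftOfSurjective_apply φ q hq hq' x)
  have hψ₂ : f.appLE V U hUV ≫ CommRingCat.ofHom ψ.toRingHom = b.appLE V W hWV :=
    CommRingCat.hom_ext (RingHom.ext fun x => ψ.commutes x)
  refine ⟨W.toSpecΓ ≫ Spec.map (CommRingCat.ofHom ψ.toRingHom) ≫ hU.fromSpec, ?_, ?_⟩
  · rw [Category.assoc, Category.assoc, ← hV.SpecMap_appLE_fromSpec f hU hUV,
      ← Spec.map_comp_assoc, hψ₂, hV.SpecMap_appLE_fromSpec b hW hWV,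
      IsAffineOpen.toSpecΓ_fromSpec_assoc]
  · have : (t ∣_ W) ≫ W.toSpecΓ =
        (t ⁻¹ᵁ W).toSpecΓ ≫ Spec.map (t.appLE W (t ⁻¹ᵁ W) le_rfl) := by
      rw [← cancel_mono hW.fromSpec]
      simp [morphismRestrict_ι]
    rw [reassoc_of% this, ← Spec.map_comp_assoc, hψ₁,
      hU.SpecMap_appLE_fromSpec a htW hWU, IsAffineOpen.toSpecΓ_fromSpec_assoc]

/-- Charts around every point of a thickening. -/
lemma exists_charts [IsClosedImmersion t] [Surjective t] (w : t ≫ b = a ≫ f) (y : T') :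
    ∃ (U : X.Opens) (V : Y.Opens) (W : T'.Opens), IsAffineOpen U ∧ IsAffineOpen V ∧
      IsAffineOpen W ∧ U ≤ f ⁻¹ᵁ V ∧ y ∈ W ∧ t ⁻¹ᵁ W ≤ a ⁻¹ᵁ U ∧ W ≤ b ⁻¹ᵁ V := by
  obtain ⟨x, rfl⟩ := t.surjective y
  obtain ⟨_, ⟨V, hV, rfl⟩, hxV, -⟩ :=
    Y.isBasis_affineOpens.exists_subset_of_mem_open (Set.mem_univ (b (t x))) isOpen_univ
  have hax : a x ∈ f ⁻¹ᵁ V := by
    change f (a x) ∈ V
    rw [← Scheme.Hom.comp_apply, ← w, Scheme.Hom.comp_apply]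
    exact hxV
  obtain ⟨_, ⟨U, hU, rfl⟩, hxU, hUV⟩ :=
    X.isBasis_affineOpens.exists_subset_of_mem_open hax (f ⁻¹ᵁ V).isOpen
  obtain ⟨W₀, hW₀, hW₀'⟩ :=
    t.isClosedEmbedding.isInducing.isOpen_iff.mp (a ⁻¹ᵁ U).isOpen
  have hxW₀ : t x ∈ W₀ := by
    change x ∈ (t.base ⁻¹' W₀ : Set T)
    rw [hW₀']; exact hxU
  obtain ⟨_, ⟨W, hW, rfl⟩, hxW, hWsub⟩ :=
    T'.isBasis_affineOpens.exists_subset_of_mem_open (And.intro hxW₀ (hxV : t x ∈ b ⁻¹ᵁ V))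
      (hW₀.inter (b ⁻¹ᵁ V).isOpen)
  refine ⟨U, V, W, hU, hV, hW, hUV, hxW, fun z hz => ?_, fun z hz => (hWsub hz).2⟩
  have : z ∈ (t.base ⁻¹' W₀ : Set T) := (hWsub hz).1
  rw [hW₀'] at this
  exact this

lemma isNilpotent_ker_restrict [IsClosedImmersion t] (ht : IsNilpotent t.ker) (W : T'.Opens) :
    IsNilpotent (t ∣_ W).ker := by
  obtain ⟨n, hn⟩ := ht
  refine ⟨n, Scheme.IdealSheafData.ext ?_⟩
  funext U
  have hU : IsAffineOpen (W.ι ''ᵁ U.1) := U.2.image_of_isOpenImmersion W.ι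
  have h := congr(($hn).ideal ⟨_, hU⟩)
  simp only [Scheme.IdealSheafData.ideal_pow, Pi.pow_apply, Scheme.Hom.ker_apply] at h ⊢
  have e : RingHom.ker ((t ∣_ W).app U.1).hom = RingHom.ker (t.app (W.ι ''ᵁ U.1)).hom := by
    rw [morphismRestrict_app]
    refine RingHom.ker_comp_of_injective (t.app (W.ι ''ᵁ U.1)).hom ?_
    exact (ConcreteCategory.bijective_of_isIso (C := CommRingCat) _).1
  rw [e]
  exact h

/-- Two lifts over an open `W` of `T'` agree when `f` is formally unramified. -/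
lemma local_lift_unique [IsClosedImmersion t] (ht : IsNilpotent t.ker)
    [FormallyUnramified f] {W : T'.Opens} {g₁ g₂ : (W : Scheme.{u}) ⟶ X}
    (h : (t ∣_ W) ≫ g₁ = (t ∣_ W) ≫ g₂) (h' : g₁ ≫ f = g₂ ≫ f) : g₁ = g₂ :=
  FormallyUnramified.hom_ext (t ∣_ W) (isNilpotent_ker_restrict ht W) f h h'

/-- The global lift for an affine-locally formally étale morphism. -/
lemma existsUnique_lift [IsClosedImmersion t] [Surjective t] (ht : IsNilpotent t.ker)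
    (w : t ≫ b = a ≫ f)
    (hf : ∀ (U : X.Opens) (V : Y.Opens) (_ : IsAffineOpen U) (_ : IsAffineOpen V)
      (hUV : U ≤ f ⁻¹ᵁ V), letI := (f.appLE V U hUV).hom.toAlgebra
      Algebra.FormallyEtale Γ(Y, V) Γ(X, U)) :
    ∃! l : T' ⟶ X, t ≫ l = a ∧ l ≫ f = b := by
  haveI : FormallyUnramified f := by
    refine ⟨fun {V hV U hU hUV} => ?_⟩
    letI := (f.appLE V U hUV).hom.toAlgebra
    haveI := hf U V hU hV hUV
    show Algebra.FormallyUnramified Γ(Y, V) Γ(X, U)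
    infer_instance
  choose U V W hU hV hW hUV hyW hWU hWV using exists_charts w
  have key : ∀ y, ∃ l : (W y : Scheme.{u}) ⟶ X,
      l ≫ f = (W y).ι ≫ b ∧ (t ∣_ W y) ≫ l = (t ⁻¹ᵁ W y).ι ≫ a := fun y => by
    refine exists_local_lift ht w (hU y) (hV y) (hUV y) ?_ (hW y) (hWU y) (hWV y)
    letI := (f.appLE (V y) (U y) (hUV y)).hom.toAlgebra
    haveI := hf (U y) (V y) (hU y) (hV y) (hUV y)
    infer_instance
  choose l hl₁ hl₂ using key
  have hcov : iSup W = ⊤ := by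
    ext z
    simpa using ⟨z, hyW z⟩
  let 𝒰 := T'.openCoverOfIsOpenCover W (.mk hcov)
  refine ⟨𝒰.glueMorphisms l fun (i j : T') => ?_, ⟨?_, ?_⟩, fun m hm => ?_⟩
  · have hP := isPullback_opens_inf (W i) (W j)
    change pullback.fst (W i).ι (W j).ι ≫ l i = pullback.snd (W i).ι (W j).ι ≫ l j
    rw [← cancel_epi hP.isoPullback.hom, hP.isoPullback_hom_fst_assoc,
      hP.isoPullback_hom_snd_assoc]
    refine local_lift_unique (f := f) ht ?_ ?_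
    · rw [← cancel_mono (𝟙 X)]
      simp only [Category.comp_id]
      trans (t ⁻¹ᵁ (W i ⊓ W j)).ι ≫ a
      · rw [← T.homOfLE_ι (show t ⁻¹ᵁ (W i ⊓ W j) ≤ t ⁻¹ᵁ W i from fun z hz => hz.1),
          Category.assoc, ← hl₂ i, morphismRestrict_homOfLE_assoc]
      · rw [← T.homOfLE_ι (show t ⁻¹ᵁ (W i ⊓ W j) ≤ t ⁻¹ᵁ W j from fun z hz => hz.2),
          Category.assoc, ← hl₂ j, morphismRestrict_homOfLE_assoc]
    · rw [Category.assoc, Category.assoc, hl₁, hl₁, Scheme.homOfLE_ι_assoc,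
        Scheme.homOfLE_ι_assoc]
  · refine Scheme.hom_ext_of_forall _ _ fun x => ⟨t ⁻¹ᵁ W (t x), hyW (t x), ?_⟩
    rw [← morphismRestrict_ι_assoc, ← hl₂ (t x)]
    exact congrArg ((t ∣_ W (t x)) ≫ ·) (𝒰.ι_glueMorphisms l _ (t x))
  · refine 𝒰.hom_ext _ _ fun (y : T') => ?_
    exact ((Category.assoc _ _ _).symm.trans
      (congrArg (· ≫ f) (𝒰.ι_glueMorphisms l _ y))).trans (hl₁ y)
  · refine 𝒰.hom_ext _ _ fun (y : T') => ?_
    refine Eq.trans ?_ (𝒰.ι_glueMorphisms l _ y).symm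
    refine local_lift_unique (f := f) (g₁ := (W y).ι ≫ m) ht ?_ ?_
    · rw [hl₂, morphismRestrict_ι_assoc, hm.1]
    · rw [hl₁, Category.assoc, hm.2]

end Groth.Agent.FlatMor67
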