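import Groth.Agent.CAlg6.FiberMod
import Groth.Agent.FlatCrit65.FinitePure
import Mathlib.RingTheory.IsTensorProduct

/-! Impurities and push forward along a closed immersion. -/

set_option autoImplicit false

universe u

open TensorProduct

attribute [local instance] Algebra.TensorProduct.rightAlgebra

namespace Groth.Agent.FlatMor67.PurePush

section Criterion

variable {R S : Type u} [CommRing R] [CommRing S] [Algebra R S] (p : Ideal R) [p.IsPrime]

theorem comap_fiberIdeal (P : Ideal S) [P.IsPrime] [P.LiesOver p] :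
    (FlatCA.fiberIdeal p P).comap
      (Algebra.TensorProduct.includeRight (R := R) (A := p.ResidueField) (B := S)).toRingHom = P :=
  le_antisymm (fun _ hb => Groth.Agent.FlatCrit65.le_of_fiberIdeal_le p P hb) Ideal.le_comap_map

theorem fiberIdeal_comap (Q : Ideal (p.Fiber S)) :
    FlatCA.fiberIdeal p (Q.comap
      (Algebra.TensorProduct.includeRight (R := R) (A := p.ResidueField) (B := S)).toRingHom) = Q := by
  refine le_antisymm Ideal.map_comap_le fun z hz => ?_
  obtain ⟨r, hr, s, h⟩ := Ideal.Fiber.exists_smul_eq_one_tmul (p := p) z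
  have h' : (Algebra.TensorProduct.includeRight (R := R) (A := p.ResidueField) (B := S)) (algebraMap R S r) * z =
      (Algebra.TensorProduct.includeRight (R := R) (A := p.ResidueField) (B := S)) s := by
    rw [AlgHom.commutes, ← Algebra.smul_def, h]; rfl
  rw [← Ideal.unit_mul_mem_iff_mem _ (CAlg6.isUnit_includeRight_algebraMap (S := S) hr), h']
  refine Ideal.mem_map_of_mem _ ?_
  rw [Ideal.mem_comap]
  show (Algebra.TensorProduct.includeRight (R := R) (A := p.ResidueField) (B := S)) s ∈ Q
  rw [← h']
  exact Q.mul_mem_left _ hz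

variable {N : Type u} [AddCommGroup N] [Module S N] [Module R N] [IsScalarTower R S N]

theorem ass_fiber_iff (P : Ideal S) [P.IsPrime] [P.LiesOver p] :
    FlatCA.fiberIdeal p P ∈ associatedPrimes (p.Fiber S) (FlatCA.fiberMod p S N) ↔
      ∃ y : N ⊗[R] p.ResidueField, ∀ b : S, b ∈ P ↔ ∃ k : ℕ, b ^ k • y = 0 := by
  obtain ⟨e, -⟩ := CAlg6.exists_fiberEquiv (p := p) (S := S) (N := N)
  have key : ∀ (x : FlatCA.fiberMod p S N) (b : S),
      (Algebra.TensorProduct.includeRight (R := R) (A := p.ResidueField) (B := S)) b ∈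
        (Submodule.colon (⊥ : Submodule (p.Fiber S) (FlatCA.fiberMod p S N)) {x}).radical ↔
      ∃ k : ℕ, b ^ k • e x = 0 := fun x b => by
    refine exists_congr fun k => ?_
    rw [Submodule.mem_colon_singleton, Submodule.mem_bot, ← map_pow, CAlg6.includeRight_smul,
      ← map_smul, e.map_eq_zero_iff]
  constructor
  · rintro ⟨-, x, hx⟩
    refine ⟨e x, fun b => ?_⟩
    rw [← key, ← hx]
    conv_lhs => rw [← comap_fiberIdeal p P]
    rfl
  · rintro ⟨y, hy⟩
    have hQ : FlatCA.fiberIdeal p P =
        (Submodule.colon (⊥ : Submodule (p.Fiber S) (FlatCA.fiberMod p S N)) {e.symm y}).radical := by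
      refine Eq.trans (congrArg (FlatCA.fiberIdeal p) ?_) (fiberIdeal_comap p _)
      ext b
      rw [hy, Ideal.mem_comap]
      refine Iff.trans ?_ (key _ _).symm
      rw [e.apply_symm_apply]
    refine ⟨⟨fun htop => ?_, fun {a b} hab => ?_⟩, e.symm y, hQ⟩
    · refine Ideal.IsPrime.ne_top ‹P.IsPrime› ?_
      rw [← comap_fiberIdeal p P, htop, Ideal.comap_top]
    · obtain ⟨r, hr, s, hs⟩ := Ideal.Fiber.exists_smul_eq_one_tmul (p := p) a
      obtain ⟨r', hr', s', hs'⟩ := Ideal.Fiber.exists_smul_eq_one_tmul (p := p) b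
      let ι := Algebra.TensorProduct.includeRight (R := R) (A := p.ResidueField) (B := S)
      have ha : ι (algebraMap R S r) * a = ι s := by rw [AlgHom.commutes, ← Algebra.smul_def, hs]; rfl
      have hb : ι (algebraMap R S r') * b = ι s' := by rw [AlgHom.commutes, ← Algebra.smul_def, hs']; rfl
      have hmem : s * s' ∈ P := by
        rw [← comap_fiberIdeal p P, Ideal.mem_comap]
        show ι (s * s') ∈ _
        rw [map_mul, ← ha, ← hb, mul_mul_mul_comm]
        exact Ideal.mul_mem_left _ _ hab
      rcases Ideal.IsPrime.mem_or_mem ‹P.IsPrime› hmem with h | h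
      · refine Or.inl ((Ideal.unit_mul_mem_iff_mem _ (CAlg6.isUnit_includeRight_algebraMap (S := S) hr)).1 ?_)
        exact ha.symm ▸ Ideal.mem_map_of_mem _ h
      · refine Or.inr ((Ideal.unit_mul_mem_iff_mem _ (CAlg6.isUnit_includeRight_algebraMap (S := S) hr')).1 ?_)
        exact hb.symm ▸ Ideal.mem_map_of_mem _ h

variable {T : Type u} [CommRing T] [Algebra R T] [Algebra S T] [IsScalarTower R S T]
  {M : Type u} [AddCommGroup M] [Module T M] [Module S M] [IsScalarTower S T M] [Module R M]
  [IsScalarTower R T M] [IsScalarTower R S M]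

theorem ass_fiber_comap_iff (hST : Function.Surjective (algebraMap S T)) (e : N ≃ₗ[S] M)
    (P : Ideal T) [P.IsPrime] [P.LiesOver p] [(P.comap (algebraMap S T)).LiesOver p] :
    FlatCA.fiberIdeal p (P.comap (algebraMap S T)) ∈ associatedPrimes (p.Fiber S) (FlatCA.fiberMod p S N) ↔
      FlatCA.fiberIdeal p P ∈ associatedPrimes (p.Fiber T) (FlatCA.fiberMod p T M) := by
  rw [ass_fiber_iff, ass_fiber_iff]
  let E : N ⊗[R] p.ResidueField ≃ₗ[S] M ⊗[R] p.ResidueField :=
    TensorProduct.AlgebraTensorModule.congr e (LinearEquiv.refl R p.ResidueField)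
  have hact : ∀ (b : S) (k : ℕ) (y : N ⊗[R] p.ResidueField),
      b ^ k • y = 0 ↔ algebraMap S T b ^ k • E y = 0 := fun b k y => by
    rw [← E.map_eq_zero_iff, map_smul, ← map_pow, algebraMap_smul]
  constructor
  · rintro ⟨y, hy⟩
    refine ⟨E y, fun c => ?_⟩
    obtain ⟨b, rfl⟩ := hST c
    refine Iff.trans ?_ (exists_congr fun k => hact b k y)
    exact hy b
  · rintro ⟨y, hy⟩
    refine ⟨E.symm y, fun b => ?_⟩
    refine Iff.trans ?_ (exists_congr fun k => (hact b k _).symm)
    simp only [E.apply_symm_apply]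
    exact hy _

end Criterion

variable {A B C : Type u} [CommRing A] [CommRing B] [CommRing C] [Algebra A B] [Algebra B C]
  [Algebra A C] [IsScalarTower A B C] (N : Type u) [AddCommGroup N] [Module C N] [Module B N]
  [IsScalarTower B C N] (p : Ideal A) [p.IsPrime]

theorem surjective_pushout {B' C' : Type u} [CommRing B'] [CommRing C'] [Algebra B B'] [Algebra C C']
    [Algebra B C'] [Algebra B' C'] [IsScalarTower B B' C'] [IsScalarTower B C C']
    [Algebra.IsPushout B C B' C'] (hBC : Function.Surjective (algebraMap B C)) :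
    Function.Surjective (algebraMap B' C') := by
  intro x
  induction x using (Algebra.IsPushout.symm ‹Algebra.IsPushout B C B' C'›).out.inductionOn with
  | zero => exact ⟨0, map_zero _⟩
  | tmul c =>
    obtain ⟨b, rfl⟩ := hBC c
    refine ⟨algebraMap B B' b, ?_⟩
    show _ = algebraMap C C' (algebraMap B C b)
    rw [← IsScalarTower.algebraMap_apply, ← IsScalarTower.algebraMap_apply]
  | smul s x ih =>
    obtain ⟨b, rfl⟩ := ih
    exact ⟨s * b, by rw [map_mul, Algebra.smul_def]⟩
  | add x y hx hy =>
    obtain ⟨a, rfl⟩ := hx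
    obtain ⟨b, rfl⟩ := hy
    exact ⟨a + b, map_add _ _ _⟩

variable (Q : ∀ (A' : Type u) [CommRing A'] [Algebra A A'], Ideal A' → Prop)

theorem hasImpurity_of_closedImmersion (hBC : Function.Surjective (algebraMap B C))
    (h : FlatCA.HasImpurity A C N p Q) : FlatCA.HasImpurity A B N p Q := by
  obtain ⟨A', C', N', iA, iC, aA, aC, aA'C, aAC, _, _, iN, mC', mC, _, mA, _, f, t', t, _, _, P, _,
    ⟨hpush, hf, hle, hto, hPo, hass, hmiss⟩, hQ⟩ := h
  have := hpush
  let B' := A' ⊗[A] B
  let _ : Algebra B C' := ((algebraMap C C').comp (algebraMap B C)).toAlgebra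
  have : IsScalarTower B C C' := IsScalarTower.of_algebraMap_eq' rfl
  have : IsScalarTower A B C' := IsScalarTower.of_algebraMap_eq fun a => by
    rw [IsScalarTower.algebraMap_apply A C C', IsScalarTower.algebraMap_apply A B C]
    rfl
  let ψ : B' →ₐ[A'] C' :=
    Algebra.TensorProduct.lift (Algebra.ofId A' C') (IsScalarTower.toAlgHom A B C') fun _ _ => Commute.all _ _
  let _ : Algebra B' C' := ψ.toRingHom.toAlgebra
  have : IsScalarTower A' B' C' := IsScalarTower.of_algebraMap_eq' ψ.comp_algebraMap.symm
  have : IsScalarTower B B' C' := IsScalarTower.of_algebraMap_eq fun b => by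
    show _ = ψ ((1 : A') ⊗ₜ[A] b)
    rw [Algebra.TensorProduct.lift_tmul, map_one, one_mul]
    rfl
  have : Algebra.IsPushout A B A' B' := .symm inferInstance
  have : Algebra.IsPushout A C A' C' := hpush
  have : IsScalarTower A B' C' := IsScalarTower.of_algebraMap_eq fun a => by
    rw [IsScalarTower.algebraMap_apply A A' B', ← IsScalarTower.algebraMap_apply A' B' C',
      ← IsScalarTower.algebraMap_apply A A' C']
  have hP2 := (Algebra.IsPushout.comp_iff A B A' B' (T := C) (T' := C')).1 inferInstance
  have hP2' := hP2.symm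
  let _ : Module B' N' := Module.compHom N' (algebraMap B' C')
  have : IsScalarTower B' C' N' := IsScalarTower.of_algebraMap_smul fun _ _ => rfl
  let _ : Module B N' := Module.compHom N' (algebraMap B C)
  have : IsScalarTower B C N' := IsScalarTower.of_algebraMap_smul fun _ _ => rfl
  have : IsScalarTower B B' N' := IsScalarTower.of_algebraMap_smul fun b n => by
    show algebraMap B' C' (algebraMap B B' b) • n = algebraMap B C b • n
    rw [← IsScalarTower.algebraMap_apply B B' C', IsScalarTower.algebraMap_apply B C C', algebraMap_smul]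
  have : IsScalarTower A' B' N' := IsScalarTower.of_algebraMap_smul fun a n => by
    rw [← algebraMap_smul C' (algebraMap A' B' a) n, ← IsScalarTower.algebraMap_apply, algebraMap_smul]
  have hbc : IsBaseChange B' (f.restrictScalars B) := by
    refine IsBaseChange.of_equiv
      ((Algebra.IsPushout.cancelBaseChange B B' C C' N).symm ≪≫ₗ hf.equiv.restrictScalars B') fun x => ?_
    rw [LinearEquiv.trans_apply, Algebra.IsPushout.cancelBaseChange_symm_tmul, map_one]
    show hf.equiv ((1 : C') ⊗ₜ[C] x) = f x
    rw [hf.equiv_tmul, one_smul]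
  have hsurj : Function.Surjective (algebraMap B' C') := surjective_pushout (B := B) (C := C) hBC
  have hlo : (P.comap (algebraMap B' C')).LiesOver t' := ⟨by
    rw [Ideal.under, Ideal.comap_comap, ← IsScalarTower.algebraMap_eq]
    exact hPo.over⟩
  refine ⟨A', B', N', inferInstance, inferInstance, inferInstance, inferInstance, inferInstance,
    inferInstance, inferInstance, inferInstance, inferInstance, inferInstance, inferInstance,
    inferInstance, inferInstance, inferInstance, f.restrictScalars B, t', t, inferInstance, inferInstance,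
    P.comap (algebraMap B' C'), Ideal.comap_isPrime _ _,
    ⟨inferInstance, hbc, hle, hto, hlo, ?_, fun P' _ hP' hP't => ?_⟩, hQ⟩
  · exact (ass_fiber_comap_iff t' hsurj (LinearEquiv.refl B' N') P).2 hass
  · have hker : RingHom.ker (algebraMap B' C') ≤ P' :=
      le_trans (fun x hx => by simp [Ideal.mem_comap, RingHom.mem_ker.1 hx]) hP'
    have : (P'.map (algebraMap B' C')).IsPrime := Ideal.map_isPrime_of_surjective hsurj hker
    refine hmiss (P'.map (algebraMap B' C')) ?_ ⟨?_⟩
    · rw [← Ideal.map_comap_of_surjective _ hsurj P]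
      exact Ideal.map_mono hP'
    · rw [hP't.over, Ideal.under, Ideal.under, IsScalarTower.algebraMap_eq A' B' C', ← Ideal.comap_comap,
        Ideal.comap_map_of_surjective _ hsurj, ← RingHom.ker_eq_comap_bot, sup_eq_left.2 hker]

theorem hasImpurity_closedImmersion (hBC : Function.Surjective (algebraMap B C))
    (h : FlatCA.HasImpurity A B N p Q) : FlatCA.HasImpurity A C N p Q := by
  obtain ⟨A', B', N', iA, iB, aA, aB, aA'B, aAB, _, _, iN, mB', mB, _, mA, _, f, t', t, _, _, P, _,
    ⟨hpush, hf, hle, hto, hPo, hass, hmiss⟩, hQ⟩ := h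
  have := hpush
  let C' := B' ⊗[B] C
  have : IsScalarTower A' B' C' := IsScalarTower.of_algebraMap_eq fun a => rfl
  have : IsScalarTower A B' C' := IsScalarTower.of_algebraMap_eq fun a => rfl
  have : IsScalarTower A A' C' := IsScalarTower.of_algebraMap_eq fun a => by
    rw [IsScalarTower.algebraMap_apply A B' C', IsScalarTower.algebraMap_apply A A' B',
      ← IsScalarTower.algebraMap_apply A' B' C']
  have : IsScalarTower A B C' := IsScalarTower.of_algebraMap_eq fun a => by
    rw [IsScalarTower.algebraMap_apply A B' C', IsScalarTower.algebraMap_apply A B B',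
      ← IsScalarTower.algebraMap_apply B B' C']
  have : IsScalarTower A C C' := IsScalarTower.of_algebraMap_eq fun a => by
    rw [IsScalarTower.algebraMap_apply A B C', IsScalarTower.algebraMap_apply A B C,
      ← IsScalarTower.algebraMap_apply B C C']
  have hBB : Algebra.IsPushout B B' C C' := inferInstance
  have : Algebra.IsPushout B C B' C' := hBB.symm
  have : Algebra.IsPushout A B A' B' := hpush
  have hAC := (Algebra.IsPushout.comp_iff A B A' B' (T := C) (T' := C')).2 inferInstance
  let M := C' ⊗[C] N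
  let g : N →ₗ[C] M := TensorProduct.mk C C' N 1
  have hg : IsBaseChange C' g := TensorProduct.isBaseChange C N C'
  have : IsScalarTower B' C' M := inferInstanceAs (IsScalarTower B' C' (C' ⊗[C] N))
  have : IsScalarTower A' C' M := inferInstanceAs (IsScalarTower A' C' (C' ⊗[C] N))
  have : IsScalarTower A' B' M := IsScalarTower.of_algebraMap_smul fun a n => by
    rw [← algebraMap_smul C' (algebraMap A' B' a) n, ← IsScalarTower.algebraMap_apply, algebraMap_smul]
  let e : M ≃ₗ[B'] N' := Algebra.IsPushout.cancelBaseChange B B' C C' N ≪≫ₗ hf.equiv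
  have hsurj : Function.Surjective (algebraMap B' C') := surjective_pushout (B := B) (C := C) hBC
  have hker : RingHom.ker (algebraMap B' C') ≤ P := by
    refine le_trans (fun b hb => ?_) (Groth.Agent.FlatCrit65.annihilator_le N' t' P hass)
    rw [Module.mem_annihilator]
    intro n
    obtain ⟨m, rfl⟩ := e.surjective n
    rw [← map_smul, ← algebraMap_smul C' b m, RingHom.mem_ker.1 hb, zero_smul, map_zero]
  let P₂ := P.map (algebraMap B' C')
  have : P₂.IsPrime := Ideal.map_isPrime_of_surjective hsurj hker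
  have hc : P₂.comap (algebraMap B' C') = P := by
    rw [Ideal.comap_map_of_surjective _ hsurj, ← RingHom.ker_eq_comap_bot, sup_eq_left.2 hker]
  have hlo : P₂.LiesOver t' := ⟨by
    rw [Ideal.under, IsScalarTower.algebraMap_eq A' B' C', ← Ideal.comap_comap, hc]
    exact hPo.over⟩
  have : (P₂.comap (algebraMap B' C')).LiesOver t' := ⟨by rw [hc]; exact hPo.over⟩
  refine ⟨A', C', M, inferInstance, inferInstance, inferInstance, inferInstance, inferInstance,
    inferInstance, inferInstance, inferInstance, inferInstance, inferInstance, inferInstance,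
    inferInstance, inferInstance, inferInstance, g, t', t, inferInstance, inferInstance, P₂, inferInstance,
    ⟨hAC, hg, hle, hto, hlo, ?_, fun P' _ hP' hP't => ?_⟩, hQ⟩
  · refine (ass_fiber_comap_iff t' hsurj e.symm P₂).1 ?_
    convert hass
  · refine hmiss (P'.comap (algebraMap B' C')) ?_ ⟨?_⟩
    · exact hc ▸ Ideal.comap_mono hP'
    · rw [hP't.over, Ideal.under, Ideal.under, Ideal.comap_comap, ← IsScalarTower.algebraMap_eq]

theorem hasImpurity_iff (hBC : Function.Surjective (algebraMap B C)) :
    FlatCA.HasImpurity A C N p Q ↔ FlatCA.HasImpurity A B N p Q :=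
  ⟨hasImpurity_of_closedImmersion N p Q hBC, hasImpurity_closedImmersion N p Q hBC⟩

omit [Algebra B C] [IsScalarTower A B C] [IsScalarTower B C N] [Algebra A C] [Module C N] [p.IsPrime] in
theorem isUnivPureAlong_iff_not_hasImpurity :
    FlatCA.IsUnivPureAlong A B N p ↔ ¬ FlatCA.HasImpurity A B N p fun _ _ _ _ => True :=
  ⟨fun h ⟨A', B', N', _, _, _, _, _, _, _, _, _, _, _, _, _, _, f, t', t, _, _, P, _, hi, _⟩ =>
      h A' B' N' f t' t P hi,
    fun h A' B' N' _ _ _ _ _ _ _ _ _ _ _ _ _ _ f t' t _ _ P _ hi =>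
      h ⟨A', B', N', _, _, _, _, _, _, ‹_›, ‹_›, _, _, _, ‹_›, _, ‹_›, f, t', t, ‹_›, ‹_›, P, ‹_›, hi, trivial⟩⟩

omit [Algebra B C] [IsScalarTower A B C] [IsScalarTower B C N] [Algebra A C] [Module C N] in
theorem isPureAlong_iff_not_hasImpurity :
    FlatCA.IsPureAlong A B N p ↔ ¬ FlatCA.HasImpurity A B N p
      fun A' _ _ t => ∃ _ : t.IsPrime, FlatCA.IsEtaleNhd A A' p t :=
  ⟨fun h ⟨A', B', N', _, _, _, _, _, _, _, _, _, _, _, _, _, _, f, t', t, _, _, P, _, hi, _, het⟩ =>
      h A' B' N' f t' t P het hi,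
    fun h A' B' N' _ _ _ _ _ _ _ _ _ _ _ _ _ _ f t' t _ _ P _ het hi =>
      h ⟨A', B', N', _, _, _, _, _, _, ‹_›, ‹_›, _, _, _, ‹_›, _, ‹_›, f, t', t, ‹_›, ‹_›, P, ‹_›, hi,
        ⟨‹_›, het⟩⟩⟩

end Groth.Agent.FlatMor67.PurePush
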