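import Groth.Agent.ML3.Countable
import Groth.Agent.ML3.BaseChange
import Mathlib.RingTheory.Flat.EquationalCriterion
import Mathlib.Algebra.Module.Projective

/-! A countably generated flat Mittag-Leffler module is projective. -/

universe u

namespace Groth.Agent.FlatMor67

variable {R : Type u} [CommRing R]

section

variable {ι : Type u} [Preorder ι] [IsDirected ι (· ≤ ·)] [DecidableEq ι] [Nonempty ι]
  {G : ι → Type u} [∀ i, AddCommGroup (G i)] [∀ i, Module R (G i)]
  [∀ i, Module.FinitePresentation R (G i)]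
  (f : ∀ i j, i ≤ j → G i →ₗ[R] G j) [DirectedSystem G fun i j h => f i j h]

/-- For a flat colimit of finitely presented modules, maps out of a term through which all later
transition maps factor lift along surjections. -/
lemma exists_lift_of_stable [Module.Flat R (Module.DirectLimit G f)] {a b : ι} (hab : a ≤ b)
    (hstab : ∀ k (hk : a ≤ k), ∃ h : G k →ₗ[R] G b, f a b hab = h ∘ₗ f a k hk)
    {A B : Type u} [AddCommGroup A] [Module R A] [AddCommGroup B] [Module R B]
    (π : A →ₗ[R] B) (hπ : Function.Surjective π) (v : G b →ₗ[R] B) :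
    ∃ l : G a →ₗ[R] A, π ∘ₗ l = v ∘ₗ f a b hab := by
  obtain ⟨k, α, β, hαβ⟩ :=
    Module.Flat.exists_factorization_of_finitePresentation (Module.DirectLimit.of R ι G f a)
  obtain ⟨i, β', hβ⟩ := ML3.exists_factor_of f β
  obtain ⟨j₁, haj, hij⟩ := directed_of (α := ι) (· ≤ ·) a i
  obtain ⟨j, hj, hj0⟩ := ML3.exists_le_apply_eq_zero f
    (f a j₁ haj - f i j₁ hij ∘ₗ β' ∘ₗ α) (by
      rw [LinearMap.comp_sub, ← LinearMap.comp_assoc, ML3.of_comp, ML3.of_comp,
        ← LinearMap.comp_assoc, hβ, ← hαβ, sub_self])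
  rw [LinearMap.comp_sub, sub_eq_zero, ML3.f_comp] at hj0
  obtain ⟨h, hh⟩ := hstab j (haj.trans hj)
  obtain ⟨γ, hγ⟩ := Module.projective_lifting_property π
    (v ∘ₗ h ∘ₗ f j₁ j hj ∘ₗ f i j₁ hij ∘ₗ β') hπ
  refine ⟨γ ∘ₗ α, ?_⟩
  rw [← LinearMap.comp_assoc, hγ, hh, hj0]
  simp only [LinearMap.comp_assoc]

theorem projective_colimit [Module.Flat R (Module.DirectLimit G f)]
    (hML : CAlg.IsMittagLeffler R (Module.DirectLimit G f))
    (hc : CAlg.IsCountablyGenerated R (Module.DirectLimit G f)) :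
    Module.Projective R (Module.DirectLimit G f) := by
  obtain ⟨i₀⟩ := ‹Nonempty ι›
  obtain ⟨c, hmono, -, hstab, hspan⟩ := ML3.exists_chain f hML hc i₀
  refine Module.Projective.of_lifting_property fun {A B} _ _ _ _ π u hπ => ?_
  let o := fun n => Module.DirectLimit.of R ι G f (c n)
  let fs := fun n => f (c n) (c (n + 1)) (hmono n.le_succ)
  have hu : ∀ n, ∃ l : G (c n) →ₗ[R] A, π ∘ₗ l = u ∘ₗ o n := fun n => by
    obtain ⟨l, hl⟩ := exists_lift_of_stable f (hmono n.le_succ) (hstab n) π hπ (u ∘ₗ o (n + 1))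
    exact ⟨l, by rw [hl, LinearMap.comp_assoc, ML3.of_comp]⟩
  choose l hl using hu
  choose h hh using fun n => hstab n (c (n + 2)) (hmono (by omega))
  have hstep : ∀ n, fs n = h n ∘ₗ fs (n + 1) ∘ₗ fs n := fun n => by
    rw [ML3.f_comp]; exact hh n
  let b : ∀ n, G (c (n + 1)) →ₗ[R] A := fun n =>
    n.rec (l 1) fun n bn => l (n + 2) + (bn - l (n + 2) ∘ₗ fs (n + 1)) ∘ₗ h n
  have hπb : ∀ n, π ∘ₗ b n = u ∘ₗ o (n + 1) := by
    intro n
    induction n with
    | zero => exact hl 1
    | succ n ih =>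
      show π ∘ₗ (l (n + 2) + (b n - l (n + 2) ∘ₗ fs (n + 1)) ∘ₗ h n) = _
      have hof : o (n + 2) ∘ₗ fs (n + 1) = o (n + 1) := ML3.of_comp f _
      rw [LinearMap.comp_add, ← LinearMap.comp_assoc, LinearMap.comp_sub, ← LinearMap.comp_assoc,
        hl, ih, LinearMap.comp_assoc (fs (n + 1)) (o (n + 2)) u, hof, sub_self, LinearMap.zero_comp,
        add_zero]
  let w : ∀ n, G (c n) →ₗ[R] A := fun n => b n ∘ₗ fs n
  have hwstep : ∀ n, w (n + 1) ∘ₗ fs n = w n := by
    intro n
    ext x
    show (l (n + 2) + (b n - l (n + 2) ∘ₗ fs (n + 1)) ∘ₗ h n) (fs (n + 1) (fs n x)) = b n (fs n x)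
    have hx : fs n x = h n (fs (n + 1) (fs n x)) := congr($(hstep n) x)
    simp only [LinearMap.add_apply, LinearMap.comp_apply, LinearMap.sub_apply, ← hx]
    abel
  have hπw : ∀ n, π ∘ₗ w n = u ∘ₗ o n := fun n => by
    rw [← LinearMap.comp_assoc, hπb, LinearMap.comp_assoc, ML3.of_comp]
  clear_value w
  have hw : ∀ n m (hnm : n ≤ m), w m ∘ₗ f (c n) (c m) (hmono hnm) = w n := by
    intro n m hnm
    induction m, hnm using Nat.le_induction with
    | base => exact LinearMap.ext fun x => congrArg (w n) (DirectedSystem.map_self' f x)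
    | succ m hnm ih =>
      rw [← ML3.f_comp f (hmono hnm) (hmono m.le_succ), ← LinearMap.comp_assoc]
      exact (congrArg (· ∘ₗ _) (hwstep m)).trans ih
  have hzero : ∀ n x, o n x = 0 → w n x = 0 := by
    intro n x hx
    obtain ⟨k, hk, hk0⟩ := Module.DirectLimit.of.zero_exact hx
    obtain ⟨h', hh'⟩ := hstab n k hk
    rw [← hwstep n, LinearMap.comp_apply]
    show w (n + 1) (f _ _ _ x) = 0
    rw [hh', LinearMap.comp_apply, hk0, map_zero, map_zero]
  have hsurj : ∀ m : Module.DirectLimit G f, ∃ n x, o n x = m := by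
    intro m
    have hm : m ∈ Submodule.span R (⋃ n, Set.range (o n)) := hspan ▸ Submodule.mem_top
    have hle : Submodule.span R (⋃ n, Set.range (o n)) ≤ ⨆ n, LinearMap.range (o n) :=
      Submodule.span_le.mpr (Set.iUnion_subset fun n => (le_iSup (fun n => LinearMap.range (o n)) n :))
    have hdir : Monotone fun n => LinearMap.range (o n) := fun n k hnk => by
      rintro _ ⟨x, rfl⟩
      exact ⟨f (c n) (c k) (hmono hnk) x, Module.DirectLimit.of_f⟩
    obtain ⟨n, x, hx⟩ := (Submodule.mem_iSup_of_directed _ hdir.directed_le).mp (hle hm)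
    exact ⟨n, x, hx⟩
  choose N X hX using hsurj
  have hwell : ∀ n x, w (N (o n x)) (X (o n x)) = w n x := by
    intro n x
    set k := N (o n x)
    set y := X (o n x)
    rw [← hw k (max k n) (le_max_left _ _), ← hw n (max k n) (le_max_right _ _),
      LinearMap.comp_apply, LinearMap.comp_apply, ← sub_eq_zero, ← map_sub]
    apply hzero
    rw [map_sub]
    show Module.DirectLimit.of R ι G f _ _ - Module.DirectLimit.of R ι G f _ _ = 0
    rw [Module.DirectLimit.of_f, Module.DirectLimit.of_f, sub_eq_zero]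
    exact hX _
  refine ⟨{ toFun := fun m => w (N m) (X m)
            map_add' := fun m₁ m₂ => ?_
            map_smul' := fun r m => ?_ }, LinearMap.ext fun m => ?_⟩
  · set k := max (N m₁) (N m₂)
    have e : m₁ + m₂ = o k (f _ _ (hmono (le_max_left (N m₁) (N m₂))) (X m₁) +
        f _ _ (hmono (le_max_right (N m₁) (N m₂))) (X m₂)) := by
      rw [map_add]
      show _ = Module.DirectLimit.of R ι G f _ _ + Module.DirectLimit.of R ι G f _ _
      rw [Module.DirectLimit.of_f, Module.DirectLimit.of_f]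
      exact (congrArg₂ (· + ·) (hX m₁) (hX m₂)).symm
    calc w (N (m₁ + m₂)) (X (m₁ + m₂)) = w k (f _ _ _ (X m₁) + f _ _ _ (X m₂)) := by
          rw [e, hwell]
      _ = _ := by
        rw [map_add, ← LinearMap.comp_apply, hw _ _ (le_max_left _ _), ← LinearMap.comp_apply,
          hw _ _ (le_max_right _ _)]
  · have e : r • m = o (N m) (r • X m) := by rw [map_smul, hX]
    show w (N (r • m)) (X (r • m)) = r • w (N m) (X m)
    rw [e, hwell, map_smul]
  · show π (w (N m) (X m)) = u m
    rw [← LinearMap.comp_apply, hπw, LinearMap.comp_apply, hX]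

end

/-- A countably generated flat Mittag-Leffler module is projective. -/
theorem projective_of_flat_ml_countable (M : Type u) [AddCommGroup M] [Module R M] [Module.Flat R M]
    (hML : CAlg.IsMittagLeffler R M) (hc : CAlg.IsCountablyGenerated R M) :
    Module.Projective R M := by
  obtain ⟨ι, _, _, _, _, G, _, _, f, _, hfp, ⟨e⟩⟩ := ML3.exists_fp_system (R := R) M
  haveI := hfp
  haveI : Module.Flat R (Module.DirectLimit G f) := Module.Flat.of_linearEquiv e
  obtain ⟨s, hs, hspan⟩ := hc
  have := projective_colimit f (ML3.ml_of_linearEquiv e hML) ⟨e.symm '' s, hs.image _, by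
    rw [← LinearEquiv.coe_coe, ← Submodule.map_span, hspan, Submodule.map_top, LinearEquiv.range]⟩
  exact Module.Projective.of_equiv e

end Groth.Agent.FlatMor67
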