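import Groth.Prelude.Def_FlatCA
import Mathlib.RingTheory.Flat.Localization
import Mathlib.RingTheory.Flat.Stability
import Mathlib.RingTheory.Localization.BaseChange
import Mathlib.RingTheory.IsTensorProduct

/-! Flatness at a prime is preserved by base change. -/

set_option autoImplicit false
set_option backward.isDefEq.respectTransparency.types false
set_option linter.style.haveILetI false

universe u

open TensorProduct

namespace Groth.Agent.FlatMor67.FlatAtBC

variable {R S R' S' : Type u} [CommRing R] [CommRing S] [CommRing R'] [CommRing S']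
  [Algebra R S] [Algebra R R'] [Algebra S S'] [Algebra R' S'] [Algebra R S'] [IsScalarTower R S S']
  [IsScalarTower R R' S'] [Algebra.IsPushout R S R' S']
  {M M' : Type u} [AddCommGroup M] [Module S M] [Module R M] [IsScalarTower R S M]
  [AddCommGroup M'] [Module S' M'] [Module R' M'] [IsScalarTower R' S' M'] [Module S M'] [IsScalarTower S S' M']

/-- `M' ⊗[R'] N = M ⊗[R] N` for a base change `M'` of `M`. -/
theorem exists_tensor_equiv (f : M →ₗ[S] M') (hf : IsBaseChange S' f) (N : Type u) [AddCommGroup N]
    [Module R' N] [Module R N] [IsScalarTower R R' N] :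
    ∃ c : M ⊗[R] N ≃+ M' ⊗[R'] N, ∀ (m : M) (n : N), c (m ⊗ₜ n) = f m ⊗ₜ n := by
  letI : Module R M' := Module.compHom M' (algebraMap R R')
  haveI : IsScalarTower R R' M' := IsScalarTower.of_algebraMap_smul fun _ _ => rfl
  haveI : Algebra.IsPushout R R' S S' := .symm inferInstance
  let e : R' ⊗[R] M ≃ₗ[R'] M' :=
    (Algebra.IsPushout.cancelBaseChange R R' S S' M).symm ≪≫ₗ hf.equiv.restrictScalars R'
  have he : ∀ m : M, e (1 ⊗ₜ m) = f m := fun m => by
    show hf.equiv ((Algebra.IsPushout.cancelBaseChange R R' S S' M).symm (1 ⊗ₜ m)) = f m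
    rw [Algebra.IsPushout.cancelBaseChange_symm_tmul, map_one, IsBaseChange.equiv_tmul, one_smul]
  refine ⟨(((TensorProduct.comm R M N).toAddEquiv.trans
      (TensorProduct.AlgebraTensorModule.cancelBaseChange R R' R' N M).symm.toAddEquiv).trans
      (TensorProduct.congr (LinearEquiv.refl R' N) e).toAddEquiv).trans
      (TensorProduct.comm R' N M').toAddEquiv, fun m n => ?_⟩
  simp [TensorProduct.AlgebraTensorModule.cancelBaseChange_symm_tmul, he]

/-- Flatness at a prime is preserved by base change. -/
theorem flatAt_baseChange (f : M →ₗ[S] M') (hf : IsBaseChange S' f) (q' : Ideal S') [q'.IsPrime]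
    (H : FlatCA.FlatAt R (q'.comap (algebraMap S S')) M) : FlatCA.FlatAt R' q' M' := by
  let q := q'.comap (algebraMap S S')
  have : Module.Flat R (LocalizedModule q.primeCompl M) := H
  show Module.Flat R' (LocalizedModule q'.primeCompl M')
  rw [Module.Flat.iff_lTensor_preserves_injective_linearMap]
  intro N P _ _ _ _ u hu
  letI : Module R N := Module.compHom N (algebraMap R R')
  haveI : IsScalarTower R R' N := IsScalarTower.of_algebraMap_smul fun _ _ => rfl
  letI : Module R P := Module.compHom P (algebraMap R R')
  haveI : IsScalarTower R R' P := IsScalarTower.of_algebraMap_smul fun _ _ => rfl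
  obtain ⟨cN, hcN⟩ := exists_tensor_equiv (R := R) (R' := R') f hf N
  obtain ⟨cP, hcP⟩ := exists_tensor_equiv (R := R) (R' := R') f hf P
  let mk' := LocalizedModule.mkLinearMap q'.primeCompl M'
  let mk := LocalizedModule.mkLinearMap q.primeCompl M
  let FN := TensorProduct.AlgebraTensorModule.rTensor R' N mk'
  let FP := TensorProduct.AlgebraTensorModule.rTensor R' P mk'
  let GN := TensorProduct.AlgebraTensorModule.rTensor R N mk
  let GP := TensorProduct.AlgebraTensorModule.rTensor R P mk
  let L := TensorProduct.AlgebraTensorModule.lTensor S' (LocalizedModule q'.primeCompl M') u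
  let L' := TensorProduct.AlgebraTensorModule.lTensor S' M' u
  let K := TensorProduct.AlgebraTensorModule.lTensor S (LocalizedModule q.primeCompl M) (u.restrictScalars R)
  let K' := TensorProduct.AlgebraTensorModule.lTensor S M (u.restrictScalars R)
  have hKinj : Function.Injective K :=
    Module.Flat.lTensor_preserves_injective_linearMap (u.restrictScalars R) hu
  have hF : ∀ x, L (FN x) = FP (L' x) := fun x => by
    induction x using TensorProduct.induction_on with
    | zero => simp
    | tmul m n => rfl
    | add x y hx hy => simp [map_add, hx, hy]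
  have hG : ∀ x, K (GN x) = GP (K' x) := fun x => by
    induction x using TensorProduct.induction_on with
    | zero => simp
    | tmul m n => rfl
    | add x y hx hy => simp [map_add, hx, hy]
  have hc : ∀ x, L' (cN x) = cP (K' x) := fun x => by
    induction x using TensorProduct.induction_on with
    | zero => simp
    | tmul m n =>
      rw [hcN]
      show f m ⊗ₜ u n = cP (m ⊗ₜ u n)
      rw [hcP]
    | add x y hx hy => simp [map_add, hx, hy]
  have hs : ∀ (s : S) x, cN (s • x) = algebraMap S S' s • cN x := fun s x => by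
    induction x using TensorProduct.induction_on with
    | zero => simp
    | tmul m n =>
      rw [TensorProduct.smul_tmul', hcN, hcN, TensorProduct.smul_tmul', map_smul, algebraMap_smul]
    | add x y hx hy => simp [map_add, smul_add, hx, hy]
  refine (injective_iff_map_eq_zero L).2 fun z hz => ?_
  obtain ⟨⟨z₀, t⟩, ht⟩ := IsLocalizedModule.surj q'.primeCompl FN z
  dsimp only at ht
  have h0 : FP (L' z₀) = 0 := by
    rw [← hF, ← ht]
    show L ((t : S') • z) = 0
    rw [map_smul, hz, smul_zero]
  obtain ⟨s, hs0⟩ := (IsLocalizedModule.eq_zero_iff q'.primeCompl FP).1 h0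
  have h1 : L' ((s : S') • z₀) = 0 := by rw [map_smul]; exact hs0
  obtain ⟨w, hw⟩ := cN.surjective ((s : S') • z₀)
  have h2 : K' w = 0 := cP.injective (by rw [← hc, hw, h1, map_zero])
  have h3 : GN w = 0 := hKinj (by rw [hG, h2, map_zero, map_zero])
  obtain ⟨s₁, hs₁⟩ := (IsLocalizedModule.eq_zero_iff q.primeCompl GN).1 h3
  have h4 : (algebraMap S S' (s₁ : S) * (s : S')) • z₀ = 0 := by
    rw [mul_smul, ← hw, ← hs]
    show cN (s₁ • w) = 0
    rw [hs₁, map_zero]
  have h5 : FN z₀ = 0 := (IsLocalizedModule.eq_zero_iff q'.primeCompl FN).2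
    ⟨⟨algebraMap S S' s₁ * s, ‹q'.IsPrime›.mul_notMem s₁.2 s.2⟩, h4⟩
  rw [h5] at ht
  exact (IsLocalizedModule.map_units FN t |> (Module.End.isUnit_iff _).1).1
    (show (t : S') • z = (t : S') • 0 by rw [smul_zero]; exact ht)

end Groth.Agent.FlatMor67.FlatAtBC
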