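import Groth.Agent.FlatMor67.PurePush

/-!
An impurity is preserved by base change along a map with a compatible pair of primes.
-/

set_option autoImplicit false
set_option linter.style.haveILetI false

universe u

open TensorProduct

attribute [local instance] Algebra.TensorProduct.rightAlgebra

namespace Groth.Agent.FlatMor67.PurePush

section Fibre

variable {R S : Type u} [CommRing R] [CommRing S] [Algebra R S] (p : Ideal R) [p.IsPrime]
  {N : Type u} [AddCommGroup N] [Module S N] [Module R N] [IsScalarTower R S N]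

/-- A nonzero element of a fibre is killed into some associated prime. -/
theorem exists_ass_of_ne_zero [Algebra.FiniteType R S] {y : N ⊗[R] p.ResidueField} (hy : y ≠ 0) :
    ∃ (P : Ideal S) (_ : P.IsPrime), P.LiesOver p ∧
      FlatCA.fiberIdeal p P ∈ associatedPrimes (p.Fiber S) (FlatCA.fiberMod p S N) ∧
      ∀ (b : S) (k : ℕ), b ^ k • y = 0 → b ∈ P := by
  obtain ⟨e, -⟩ := CAlg6.exists_fiberEquiv (p := p) (S := S) (N := N)
  haveI : IsNoetherianRing (p.Fiber S) := Algebra.FiniteType.isNoetherianRing p.ResidueField _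
  obtain ⟨Q, hQ, hle⟩ := exists_le_isAssociatedPrime_of_isNoetherianRing (p.Fiber S) (e.symm y)
    (fun h => hy (by simpa using congrArg e h))
  haveI : Q.IsPrime := hQ.isPrime
  let ι := Algebra.TensorProduct.includeRight (R := R) (A := p.ResidueField) (B := S)
  refine ⟨Q.comap ι.toRingHom, Ideal.comap_isPrime _ _, ⟨?_⟩, ?_, fun b k hb => ?_⟩
  · ext r
    constructor
    · intro hr
      show ι (algebraMap R S r) ∈ Q
      rw [AlgHom.commutes, IsScalarTower.algebraMap_apply R p.ResidueField (p.Fiber S),
        show algebraMap R p.ResidueField r = 0 from Ideal.algebraMap_residueField_eq_zero.mpr hr, map_zero]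
      exact Q.zero_mem
    · intro hr
      by_contra hn
      exact hQ.isPrime.ne_top
        (Ideal.eq_top_of_isUnit_mem _ hr (CAlg6.isUnit_includeRight_algebraMap (S := S) hn))
  · rw [fiberIdeal_comap]
    exact hQ
  · refine hQ.isPrime.mem_of_pow_mem k (hle ?_)
    rw [Submodule.mem_colon_singleton, Submodule.mem_bot, ← map_pow]
    show ι (b ^ k) • e.symm y = 0
    rw [CAlg6.includeRight_smul, ← map_smul, hb, map_zero]

end Fibre

variable {A B : Type u} [CommRing A] [CommRing B] [Algebra A B] [Algebra.FiniteType A B]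
  (N : Type u) [AddCommGroup N] [Module B N] (p : Ideal A) [p.IsPrime]

theorem isImpurity_transfer {A' B' N' : Type u} [CommRing A'] [CommRing B'] [Algebra A A'] [Algebra B B']
    [Algebra A' B'] [Algebra A B'] [IsScalarTower A B B'] [IsScalarTower A A' B']
    [AddCommGroup N'] [Module B' N'] [Module B N'] [IsScalarTower B B' N'] [Module A' N']
    [IsScalarTower A' B' N'] (f : N →ₗ[B] N') (t' t : Ideal A') [t'.IsPrime] [t.IsPrime]
    (P : Ideal B') [P.IsPrime] (himp : FlatCA.IsImpurity A B N p A' B' N' f t' t P)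
    (H : Type u) [CommRing H] [Algebra A H] [Algebra A' H] [IsScalarTower A A' H]
    (u' u : Ideal H) [u'.IsPrime] [u.IsPrime] [u'.LiesOver t'] [u.LiesOver t] (hu : u' ≤ u)
    (Q : ∀ (A' : Type u) [CommRing A'] [Algebra A A'], Ideal A' → Prop) (hQ : Q H u) :
    FlatCA.HasImpurity A B N p Q := by
  obtain ⟨hpush, hf, -, hto, hPo, hass, hmiss⟩ := himp
  haveI := hPo
  haveI := hto
  haveI : Algebra.IsPushout A A' B B' := hpush.symm
  haveI : Algebra.FiniteType A' B' := by
    haveI := hpush
    exact Algebra.FiniteType.of_surjective (Algebra.IsPushout.equiv A A' B B').toAlgHom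
      (Algebra.IsPushout.equiv A A' B B').surjective
  let B'' := H ⊗[A'] B'
  letI : Algebra B B'' := ((algebraMap B' B'').comp (algebraMap B B')).toAlgebra
  haveI : IsScalarTower B B' B'' := IsScalarTower.of_algebraMap_eq' rfl
  haveI : IsScalarTower A A' B'' := IsScalarTower.of_algebraMap_eq fun a => by
    rw [IsScalarTower.algebraMap_apply A H B'', IsScalarTower.algebraMap_apply A A' H,
      ← IsScalarTower.algebraMap_apply A' H B'']
  haveI : IsScalarTower A B' B'' := IsScalarTower.of_algebraMap_eq fun a => by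
    rw [IsScalarTower.algebraMap_apply A A' B'', IsScalarTower.algebraMap_apply A' B' B'',
      ← IsScalarTower.algebraMap_apply A A' B']
  haveI : IsScalarTower A B B'' := IsScalarTower.of_algebraMap_eq fun a => by
    rw [IsScalarTower.algebraMap_apply B B' B'', ← IsScalarTower.algebraMap_apply A B B',
      ← IsScalarTower.algebraMap_apply A B' B'']
  haveI : Algebra.IsPushout A' H B' B'' := inferInstance
  haveI hP2 : Algebra.IsPushout A H B B'' :=
    (Algebra.IsPushout.comp_iff A A' B B' (T := H) (T' := B'')).2 inferInstance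
  let N'' := B'' ⊗[B'] N'
  haveI : IsScalarTower B B' N'' := IsScalarTower.of_algebraMap_smul fun b n => by
    induction n using TensorProduct.induction_on with
    | zero => simp
    | add x y hx hy => simp only [smul_add, hx, hy]
    | tmul c m => rw [smul_tmul', smul_tmul', algebraMap_smul]
  haveI : IsScalarTower H B'' N'' := inferInstance
  let ι : N' →ₗ[B'] N'' := TensorProduct.mk B' B'' N' 1
  have hι : IsBaseChange B'' ι := TensorProduct.isBaseChange B' N' B''
  have hg : IsBaseChange B'' (ι.restrictScalars B ∘ₗ f) := hf.comp hι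
  obtain ⟨y, hy⟩ := (ass_fiber_iff t' P).1 hass
  have hy0 : y ≠ 0 := fun h =>
    (Ideal.IsPrime.ne_top ‹P.IsPrime›) ((Ideal.eq_top_iff_one P).2 ((hy 1).2 ⟨1, by rw [h, smul_zero]⟩))
  let χ : t'.ResidueField →ₐ[A'] u'.ResidueField :=
    Ideal.ResidueField.mapₐ t' u' (Algebra.ofId A' H) (Ideal.over_def u' t')
  let χl : N' ⊗[A'] t'.ResidueField →ₗ[A'] N' ⊗[A'] u'.ResidueField := χ.toLinearMap.lTensor N'
  have hχl : Function.Injective χl := by
    letI : Algebra t'.ResidueField u'.ResidueField := χ.toRingHom.toAlgebra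
    haveI : IsScalarTower A' t'.ResidueField u'.ResidueField := .of_algebraMap_eq fun a => (χ.commutes a).symm
    obtain ⟨g, hg⟩ := LinearMap.exists_leftInverse_of_injective (Algebra.linearMap t'.ResidueField u'.ResidueField)
      (LinearMap.ker_eq_bot.2 χ.toRingHom.injective)
    have hg' : (g.restrictScalars A').comp χ.toLinearMap = LinearMap.id :=
      LinearMap.ext fun x => LinearMap.congr_fun hg x
    refine Function.LeftInverse.injective (g := (g.restrictScalars A').lTensor N') fun z => ?_
    rw [← LinearMap.comp_apply, ← LinearMap.lTensor_comp, hg', LinearMap.lTensor_id, LinearMap.id_apply]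
  let e1 : N'' ≃ₗ[H] H ⊗[A'] N' := Algebra.IsPushout.cancelBaseChange A' H B' B'' N'
  let U : N'' ⊗[H] u'.ResidueField ≃+ N' ⊗[A'] u'.ResidueField :=
    ((TensorProduct.comm H N'' u'.ResidueField).toAddEquiv.trans
      ((TensorProduct.congr (LinearEquiv.refl H u'.ResidueField) e1).toAddEquiv.trans
        (AlgebraTensorModule.cancelBaseChange A' H H u'.ResidueField N').toAddEquiv)).trans
      (TensorProduct.comm A' u'.ResidueField N').toAddEquiv
  let T : N' ⊗[A'] t'.ResidueField →+ N'' ⊗[H] u'.ResidueField := U.symm.toAddMonoidHom.comp χl.toAddMonoidHom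
  have hT : ∀ (n : N') (k : t'.ResidueField), T (n ⊗ₜ k) = ι n ⊗ₜ[H] χ k := fun n k => by
    apply U.injective
    show U (U.symm (χl (n ⊗ₜ k))) = _
    rw [U.apply_symm_apply]
    show n ⊗ₜ[A'] χ k = _
    have h1 : e1 (ι n) = (1 : H) ⊗ₜ[A'] n := by
      apply e1.symm.injective
      rw [e1.symm_apply_apply, Algebra.IsPushout.cancelBaseChange_symm_tmul, map_one]
      rfl
    show n ⊗ₜ[A'] χ k = TensorProduct.comm A' u'.ResidueField N'
      (AlgebraTensorModule.cancelBaseChange A' H H u'.ResidueField N' (χ k ⊗ₜ[H] e1 (ι n)))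
    simp [h1]
  have hTinj : Function.Injective T := U.symm.injective.comp hχl
  have hTs : ∀ (b : B') (z : N' ⊗[A'] t'.ResidueField), T (b • z) = algebraMap B' B'' b • T z := fun b z => by
    induction z using TensorProduct.induction_on with
    | zero => simp
    | add x y hx hy => simp only [smul_add, map_add, hx, hy]
    | tmul n k => rw [smul_tmul', hT, hT, smul_tmul', ι.map_smul, algebraMap_smul]
  obtain ⟨P'', hP'', hlo, hass'', hkill⟩ :=
    exists_ass_of_ne_zero u' (S := B'') (N := N'') (y := T y) ((map_ne_zero_iff T hTinj).2 hy0)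
  refine ⟨H, B'', N'', inferInstance, inferInstance, inferInstance, inferInstance, inferInstance,
    inferInstance, inferInstance, inferInstance, inferInstance, inferInstance, inferInstance,
    inferInstance, inferInstance, inferInstance, ι.restrictScalars B ∘ₗ f, u', u, inferInstance, inferInstance,
    P'', hP'', ⟨hP2.symm, hg, hu, Ideal.LiesOver.trans u t p, hlo, hass'', fun P₂ _ hP₂ hP₂u => ?_⟩, hQ⟩
  haveI := hP₂u
  refine hmiss (P₂.comap (algebraMap B' B'')) (fun b hb => ?_) ⟨?_⟩
  · obtain ⟨k, hk⟩ := (hy b).1 hb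
    refine hP₂ (hkill (algebraMap B' B'' b) k ?_)
    rw [← map_pow, ← hTs, hk, map_zero]
  · rw [Ideal.under, Ideal.comap_comap, ← IsScalarTower.algebraMap_eq, IsScalarTower.algebraMap_eq A' H B'',
      ← Ideal.comap_comap]
    exact (Ideal.over_def u t).trans (congrArg (Ideal.comap (algebraMap A' H)) (Ideal.over_def P₂ u))

end Groth.Agent.FlatMor67.PurePush
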