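import Groth.Agent.CAlg6.FiberMod
import Mathlib.RingTheory.Nakayama
import Mathlib.RingTheory.Jacobson.Ideal
import Mathlib.Algebra.Module.Projective

/-! A module projective over the base has no associated point of a fibre whose closure misses a
smaller fibre. -/

set_option autoImplicit false

universe u

open TensorProduct

namespace Groth.Agent.FlatMor67.ProjPure

variable {R S N : Type u} [CommRing R] [CommRing S] [Algebra R S] [AddCommGroup N] [Module R N]
  [Module S N] [IsScalarTower R S N]

/-- The extension of a functional on `N` to `N ⊗ K`. -/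
noncomputable def ext (K : Type u) [AddCommGroup K] [Module R K] (φ : N →ₗ[R] R) :
    N ⊗[R] K →ₗ[R] K :=
  (TensorProduct.lid R K).toLinearMap ∘ₗ φ.rTensor K

omit [Module S N] [IsScalarTower R S N] in
@[simp] theorem ext_tmul (K : Type u) [AddCommGroup K] [Module R K] (φ : N →ₗ[R] R) (n : N) (k : K) :
    ext K φ (n ⊗ₜ k) = φ n • k := rfl

omit [Module S N] [IsScalarTower R S N] in
/-- Dual bases of a projective module after tensoring. -/
theorem exists_coords (K : Type u) [AddCommGroup K] [Module R K] [Module.Projective R N]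
    (y : N ⊗[R] K) :
    ∃ (J : Finset N) (e : N → N) (φ : N → N →ₗ[R] R), y = ∑ j ∈ J, e j ⊗ₜ[R] ext K (φ j) y := by
  classical
  obtain ⟨i, hi⟩ := Module.projective_def.1 (‹Module.Projective R N›)
  let φ : N → N →ₗ[R] R := fun j => Finsupp.lapply j ∘ₗ i
  suffices H : ∀ y : N ⊗[R] K, ∃ J : Finset N, ∀ J' : Finset N, J ⊆ J' →
      y = ∑ j ∈ J', j ⊗ₜ[R] ext K (φ j) y by
    obtain ⟨J, hJ⟩ := H y
    exact ⟨J, id, φ, hJ J le_rfl⟩
  intro y
  induction y using TensorProduct.induction_on with
  | zero => exact ⟨∅, fun J' _ => by simp⟩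
  | tmul n k =>
    refine ⟨(i n).support, fun J' hJ' => ?_⟩
    simp only [ext_tmul, tmul_smul, smul_tmul', ← TensorProduct.sum_tmul]
    congr 1
    calc n = Finsupp.linearCombination R id (i n) := (hi n).symm
      _ = _ := by
        rw [Finsupp.linearCombination_apply, Finsupp.sum_of_support_subset _ hJ' _ (by simp)]
        rfl
  | add a b ha hb =>
    obtain ⟨J, hJ⟩ := ha
    obtain ⟨J₂, hJ₂⟩ := hb
    refine ⟨J ∪ J₂, fun J' h => ?_⟩
    simp only [map_add, tmul_add, Finset.sum_add_distrib]
    rw [← hJ J' (Finset.union_subset_left h), ← hJ₂ J' (Finset.union_subset_right h)]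

/-- Nothing nonzero in the fibre over `t'` is torsion for an ideal whose closed set misses the
fibre over `t`, for a module projective over the base. -/
theorem eq_zero_of_torsion [Module.Projective R N] {t' t : Ideal R} [t'.IsPrime] [t.IsPrime]
    (hle : t' ≤ t) (P : Ideal S)
    (hP : ∀ (Q : Ideal S) [Q.IsPrime], P ≤ Q → ¬ Q.LiesOver t)
    (y : N ⊗[R] t'.ResidueField) (hy : ∀ b ∈ P, ∃ k : ℕ, b ^ k • y = 0) : y = 0 := by
  classical
  let K := t'.ResidueField
  let L := Localization.AtPrime t
  -- an element of the base outside `t` in `P + tS`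
  obtain ⟨s, hs, hmem⟩ : ∃ s ∉ t, algebraMap R S s ∈ P ⊔ t.map (algebraMap R S) := by
    by_contra hne
    push Not at hne
    have hd : Disjoint ((P ⊔ t.map (algebraMap R S) : Ideal S) : Set S)
        (t.primeCompl.map (algebraMap R S) : Submonoid S) := by
      rw [Set.disjoint_left]
      rintro x hx ⟨r, hr, rfl⟩
      exact hne r hr hx
    obtain ⟨Q, hQ, hPQ, hQd⟩ := Ideal.exists_le_prime_disjoint _ _ hd
    refine hP Q (le_sup_left.trans hPQ) ⟨le_antisymm (Ideal.map_le_iff_le_comap.1 (le_sup_right.trans hPQ)) ?_⟩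
    intro r hr
    by_contra hrt
    exact Set.disjoint_left.1 hQd hr ⟨r, hrt, rfl⟩
  obtain ⟨b, hb, a, ha, hsab⟩ := Submodule.mem_sup.1 hmem
  obtain ⟨k, hk⟩ := hy b hb
  let I := t.map (algebraMap R S)
  have ha' : algebraMap R S (s ^ k) - b ^ k ∈ I := by
    rw [← Ideal.Quotient.eq_zero_iff_mem, map_sub, map_pow, map_pow, map_pow, ← hsab, map_add,
      Ideal.Quotient.eq_zero_iff_mem.2 ha, add_zero, sub_self]
  -- the content
  let l : L →+* K := IsLocalization.lift (M := t.primeCompl) (g := algebraMap R K) fun r =>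
    isUnit_iff_ne_zero.2 fun h => r.2 (hle (Ideal.algebraMap_residueField_eq_zero.1 h))
  let : Algebra L K := l.toAlgebra
  have : IsScalarTower R L K := IsScalarTower.of_algebraMap_eq fun r => (IsLocalization.lift_eq _ r).symm
  obtain ⟨J, e, φ, hJ⟩ := exists_coords K y
  let c : Submodule L K := Submodule.span L (J.image fun j => ext K (φ j) y : Finset K)
  have hc : ∀ ψ : N →ₗ[R] R, ext K ψ y ∈ c := fun ψ => by
    rw [hJ, map_sum]
    refine sum_mem fun j hj => ?_
    rw [ext_tmul, ← algebraMap_smul L (ψ (e j))]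
    exact c.smul_mem _ (Submodule.subset_span (Finset.mem_image_of_mem _ hj))
  have hcomp : ∀ (x : S) (ψ : N →ₗ[R] R) (z : N ⊗[R] K),
      ext K ψ (x • z) = ext K (ψ ∘ₗ (LinearMap.lsmul S N x).restrictScalars R) z := fun x ψ z => by
    induction z using TensorProduct.induction_on with
    | zero => simp
    | tmul n k => rw [smul_tmul', ext_tmul, ext_tmul]; rfl
    | add u v hu hv => rw [smul_add, map_add, map_add, hu, hv]
  have hI : ∀ x ∈ I, ∀ ψ : N →ₗ[R] R, ext K ψ (x • y) ∈ IsLocalRing.maximalIdeal L • c := by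
    intro x hx
    induction hx using Submodule.span_induction with
    | mem x hx =>
      obtain ⟨r, hr, rfl⟩ := hx
      intro ψ
      rw [algebraMap_smul, map_smul, ← algebraMap_smul L r]
      exact Submodule.smul_mem_smul ((IsLocalization.AtPrime.to_map_mem_maximal_iff L t r).2 hr) (hc ψ)
    | zero => intro ψ; rw [zero_smul, map_zero]; exact zero_mem _
    | add u v _ _ hu hv => intro ψ; rw [add_smul, map_add]; exact add_mem (hu ψ) (hv ψ)
    | smul u v _ hv => intro ψ; rw [smul_eq_mul, mul_smul, hcomp]; exact hv _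
  have hu : IsUnit (algebraMap R L (s ^ k)) :=
    IsLocalization.map_units L (⟨s ^ k, t.primeCompl.pow_mem hs k⟩ : t.primeCompl)
  have hle' : c ≤ IsLocalRing.maximalIdeal L • c := by
    refine Submodule.span_le.2 fun z hz => ?_
    obtain ⟨j, -, rfl⟩ := Finset.mem_image.1 hz
    have := hI _ ha' (φ j)
    rw [sub_smul, hk, sub_zero, algebraMap_smul, map_smul, ← algebraMap_smul L (s ^ k)] at this
    exact (Submodule.smul_mem_iff_of_isUnit _ hu).1 this
  have hbot : c = ⊥ := Submodule.eq_bot_of_le_smul_of_le_jacobson_bot _ _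
    (Submodule.fg_span (Finset.finite_toSet _)) hle' (IsLocalRing.maximalIdeal_le_jacobson _)
  rw [hJ]
  refine Finset.sum_eq_zero fun j _ => ?_
  rw [show ext K (φ j) y = 0 from (Submodule.mem_bot L).1 (hbot ▸ hc (φ j)), tmul_zero]

attribute [local instance] Algebra.TensorProduct.rightAlgebra

/-- A module projective over the base has no such associated point. -/
theorem not_isImpurity_aux [Module.Projective R N] {t' t : Ideal R} [t'.IsPrime] [t.IsPrime]
    (hle : t' ≤ t) (P : Ideal S) [P.IsPrime]
    (hP : ∀ (Q : Ideal S) [Q.IsPrime], P ≤ Q → ¬ Q.LiesOver t) :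
    FlatCA.fiberIdeal t' P ∉ associatedPrimes (t'.Fiber S) (FlatCA.fiberMod t' S N) := by
  rintro ⟨hprime, x, hx⟩
  obtain ⟨e, -⟩ := CAlg6.exists_fiberEquiv (p := t') (S := S) (N := N)
  refine hprime.ne_top ?_
  have hx0 : x = 0 := e.map_eq_zero_iff.1 (eq_zero_of_torsion hle P hP (e x) fun b hb => by
    have hmem : Algebra.TensorProduct.includeRight (R := R) (A := t'.ResidueField) (B := S) b ∈
        FlatCA.fiberIdeal t' P := Ideal.mem_map_of_mem _ hb
    rw [hx] at hmem
    obtain ⟨k, hk⟩ := hmem
    rw [Submodule.mem_colon_singleton, Submodule.mem_bot, ← map_pow, CAlg6.includeRight_smul] at hk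
    exact ⟨k, by rw [← map_smul, hk, map_zero]⟩)
  rw [hx, hx0, Ideal.radical_eq_top, Ideal.eq_top_iff_one, Submodule.mem_colon_singleton]
  exact (Submodule.mem_bot _).2 (smul_zero _)

variable {A B : Type u} [CommRing A] [CommRing B] [Algebra A B]

/-- A finite module projective over the base is universally pure. -/
theorem isUnivPure_of_projective (M : Type u) [AddCommGroup M] [Module B M] [Module A M]
    [IsScalarTower A B M] [Module.Projective A M] : FlatCA.IsUnivPure A B M := by
  intro p _ A' B' N' _ _ _ _ _ _ _ _ _ _ _ _ _ _ f t' t _ _ P _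
  rintro ⟨hpush, hf, hle, -, -, hass, hno⟩
  have : Algebra.IsPushout A A' B B' := hpush.symm
  have : Module.Projective A' N' := Module.Projective.of_equiv
    ((Algebra.IsPushout.cancelBaseChange A A' B B' M).symm ≪≫ₗ hf.equiv.restrictScalars A')
  exact not_isImpurity_aux hle P hno hass

end Groth.Agent.FlatMor67.ProjPure
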