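import Groth.Agent.QCPull72.Support
import Mathlib.RingTheory.Flat.Equalizer
import Mathlib.RingTheory.Flat.Stability
import Mathlib.RingTheory.LocalRing.Module

/-!
A map into a module flat over the base whose base change along a local, relatively flat map is
bijective is itself bijective.
-/

set_option autoImplicit false
set_option linter.style.haveILetI false

universe u

open TensorProduct

namespace Groth.Agent.FlatMor67.BCBijective

/-- A finite module over a local ring which dies along a local map is zero. -/
theorem subsingleton_of_baseChange {B M Q : Type u} [CommRing B] [CommRing M] [Algebra B M]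
    [IsLocalRing B] [IsLocalRing M] [IsLocalHom (algebraMap B M)] [AddCommGroup Q] [Module B Q]
    [Module.Finite B Q] [Subsingleton (M ⊗[B] Q)] : Subsingleton Q := by
  by_contra hQ
  rw [not_subsingleton_iff_nontrivial] at hQ
  obtain ⟨p, hp⟩ := (Module.nonempty_support_iff (R := B)).mpr hQ
  have hcl : IsLocalRing.closedPoint B ∈ Module.support B Q :=
    Module.mem_support_mono (IsLocalRing.le_maximalIdeal p.isPrime.ne_top) hp
  rw [← IsLocalRing.comap_closedPoint (algebraMap B M), ← QCPull72.mem_support_baseChange_iff] at hcl
  rw [Module.support_eq_empty (R := M) (M := M ⊗[B] Q)] at hcl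
  exact hcl

variable {R B : Type u} [CommRing R] [CommRing B] [Algebra R B] {R' M : Type u} [CommRing R'] [CommRing M]
  [Algebra R R'] [Algebra B M] [Algebra (B ⊗[R] R') M] [IsScalarTower B (B ⊗[R] R') M]
  [Module.Flat (B ⊗[R] R') M] {K F G : Type u} [AddCommGroup K] [AddCommGroup F] [AddCommGroup G]
  [Module B K] [Module B F] [Module B G] [Module R G] [IsScalarTower R B G] [Module.Flat R G]

include R R' in
/-- A short exact sequence with flat quotient stays exact on the left after base change. -/
theorem lTensor_injective_of_flat (i : K →ₗ[B] F) (p : F →ₗ[B] G) (hi : Function.Injective i)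
    (hp : Function.Surjective p) (hex : Function.Exact i p) : Function.Injective (i.lTensor M) := by
  letI : Module R K := Module.compHom K (algebraMap R B)
  letI : Module R F := Module.compHom F (algebraMap R B)
  haveI : IsScalarTower R B K := IsScalarTower.of_algebraMap_smul fun _ _ => rfl
  haveI : IsScalarTower R B F := IsScalarTower.of_algebraMap_smul fun _ _ => rfl
  have h0 : Function.Injective ((i.restrictScalars R).lTensor R') :=
    LinearMap.lTensor_injective_of_exact_of_flat (p.restrictScalars R) hp (i.restrictScalars R) hi hex R'
  have h1 : Function.Injective ((i.restrictScalars R).rTensor R') :=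
    (LinearMap.lTensor_inj_iff_rTensor_inj _ _).mp h0
  let T := B ⊗[R] R'
  let eK := AlgebraTensorModule.cancelBaseChange R B B K R'
  let eF := AlgebraTensorModule.cancelBaseChange R B B F R'
  have key : ∀ z, eF (i.rTensor T z) = (i.restrictScalars R).rTensor R' (eK z) := by
    intro z
    induction z with
    | zero => simp
    | add a b ha hb => simp only [map_add, ha, hb]
    | tmul k t =>
      induction t using TensorProduct.induction_on with
      | zero => simp
      | add a b ha hb => simp only [TensorProduct.tmul_add, map_add, ha, hb]
      | tmul b r => exact congrArg (fun x => x ⊗ₜ[R] r) (i.map_smul b k).symm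
  have h2 : Function.Injective (i.rTensor T) := by
    intro a b hab
    have h := congrArg eF hab
    rw [key, key] at h
    exact eK.injective (h1 h)
  have h3 : Function.Injective (i.baseChange T) :=
    (LinearMap.lTensor_inj_iff_rTensor_inj (M := T) i).mpr h2
  have h4 : Function.Injective ((i.baseChange T).lTensor M) :=
    Module.Flat.lTensor_preserves_injective_linearMap _ h3
  let cK := AlgebraTensorModule.cancelBaseChange B T M M K
  let cF := AlgebraTensorModule.cancelBaseChange B T M M F
  have key2 : ∀ z, cF ((i.baseChange T).lTensor M z) = i.lTensor M (cK z) := by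
    intro z
    induction z with
    | zero => simp
    | add a b ha hb => simp only [map_add, ha, hb]
    | tmul m t =>
      induction t using TensorProduct.induction_on with
      | zero => simp
      | add a b ha hb => simp only [TensorProduct.tmul_add, map_add, ha, hb]
      | tmul b k => simp [cK, cF]
  intro a b hab
  obtain ⟨a, rfl⟩ := cK.surjective a
  obtain ⟨b, rfl⟩ := cK.surjective b
  rw [← key2, ← key2] at hab
  exact congrArg cK (h4 (cF.injective hab))

variable [IsLocalRing B] [IsLocalRing M] [IsLocalHom (algebraMap B M)] [Module.Finite B F]
  [Module.FinitePresentation B G]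

include R R' in
/-- A map into a flat module which becomes bijective along a local base change is bijective. -/
theorem bijective_of_lTensor_bijective (φ : F →ₗ[B] G) (h : Function.Bijective (φ.lTensor M)) :
    Function.Bijective φ := by
  have hs : Function.Surjective φ := by
    have : Subsingleton (M ⊗[B] (G ⧸ LinearMap.range φ)) := by
      refine subsingleton_of_forall_eq 0 fun z => ?_
      obtain ⟨z, rfl⟩ := LinearMap.lTensor_surjective M (Submodule.mkQ_surjective (LinearMap.range φ)) z
      obtain ⟨w, rfl⟩ := h.2 z
      rw [← LinearMap.comp_apply, ← LinearMap.lTensor_comp, LinearMap.range_mkQ_comp]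
      simp
    have := subsingleton_of_baseChange (B := B) (M := M) (Q := G ⧸ LinearMap.range φ)
    rw [← LinearMap.range_eq_top]
    exact Submodule.Quotient.subsingleton_iff.mp this
  refine ⟨?_, hs⟩
  have : Module.Finite B (LinearMap.ker φ) :=
    Module.Finite.iff_fg.mpr (Module.FinitePresentation.fg_ker φ hs)
  have hinj := lTensor_injective_of_flat (R := R) (R' := R') (M := M) (LinearMap.ker φ).subtype φ
    Subtype.val_injective hs (LinearMap.exact_subtype_ker_map φ)
  have : Subsingleton (M ⊗[B] LinearMap.ker φ) := by
    refine subsingleton_of_forall_eq 0 fun z => hinj (h.1 ?_)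
    rw [map_zero, map_zero, ← LinearMap.comp_apply, ← LinearMap.lTensor_comp, LinearMap.comp_ker_subtype]
    simp
  have := subsingleton_of_baseChange (B := B) (M := M) (Q := LinearMap.ker φ)
  rw [← LinearMap.ker_eq_bot]
  exact Submodule.subsingleton_iff_eq_bot.mp this

end Groth.Agent.FlatMor67.BCBijective
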