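import Groth.Agent.LimTop61.Cons
import Groth.Agent.LimTop61.BaseChange
import Groth.Agent.Cons62.ResLimit
import Mathlib.AlgebraicGeometry.Morphisms.FinitePresentation

/-! Completely decomposed morphisms descend along limits (milestone S7191). -/

set_option autoImplicit false
set_option backward.isDefEq.respectTransparency.types false
set_option linter.style.haveILetI false
universe u

open AlgebraicGeometry CategoryTheory Limits IsLocalRing Topology Opposite

namespace Groth.Agent.FlatMor67.CDLimit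

variable {X₀ Y₀ Y' : Scheme.{u}}

/-- `y` has a section of `f₀` over its residue field. -/
def RatAt (f₀ : X₀ ⟶ Y₀) (a : Y' ⟶ Y₀) (y : Y') : Prop :=
  ∃ s : Spec (Y'.residueField y) ⟶ X₀, s ≫ f₀ = Y'.fromSpecResidueField y ≫ a

theorem bijective_of_surjective {W : Scheme.{u}} (f : W ⟶ Y') (w : W) (h : Function.Surjective (f.residueFieldMap w)) :
    Function.Bijective (f.residueFieldMap w) :=
  ⟨(f.residueFieldMap w).hom.injective, h⟩

theorem ratAt_of_bijective (f₀ : X₀ ⟶ Y₀) (a : Y' ⟶ Y₀) {W : Scheme.{u}} (f : W ⟶ Y') (w : W)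
    (hb : Function.Bijective (f.residueFieldMap w)) (s : W ⟶ X₀) (hs : s ≫ f₀ = f ≫ a) {y : Y'} (hy : f w = y) :
    RatAt f₀ a y := by
  subst hy
  haveI : IsIso (f.residueFieldMap w) := (ConcreteCategory.isIso_iff_bijective _).mpr hb
  refine ⟨Spec.map (inv (f.residueFieldMap w)) ≫ W.fromSpecResidueField w ≫ s, ?_⟩
  rw [Category.assoc, Category.assoc, hs, ← Scheme.Hom.SpecMap_residueFieldMap_fromSpecResidueField_assoc,
    ← Spec.map_comp_assoc, IsIso.hom_inv_id, Spec.map_id, Category.id_comp]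

theorem RatAt.over_field {f₀ : X₀ ⟶ Y₀} {a : Y' ⟶ Y₀} {y : Y'} (h : RatAt f₀ a y) {K : Type u} [Field K]
    (q : Spec (CommRingCat.of K) ⟶ Y') (hq : q (closedPoint K) = y) :
    ∃ s : Spec (CommRingCat.of K) ⟶ X₀, s ≫ f₀ = q ≫ a := by
  subst hq
  obtain ⟨s, hs⟩ := h
  refine ⟨Spec.map (Y'.descResidueField (Scheme.stalkClosedPointTo q)) ≫ s, ?_⟩
  rw [Category.assoc, hs, ← Category.assoc, Scheme.descResidueField_stalkClosedPointTo_fromSpecResidueField]

theorem exists_bijective_of_section {W : Scheme.{u}} (f : W ⟶ Y') (y : Y') (t : Spec (Y'.residueField y) ⟶ W)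
    (ht : t ≫ f = Y'.fromSpecResidueField y) :
    ∃ x : W, f x = y ∧ Function.Bijective (f.residueFieldMap x) := by
  let q : Spec (CommRingCat.of (Y'.residueField y)) ⟶ W := t
  let x := q (closedPoint _)
  have hx : f x = y := by
    show f (t _) = y
    rw [← Scheme.Hom.comp_apply, ht, Scheme.fromSpecResidueField_apply]
  refine ⟨x, hx, bijective_of_surjective f x fun e => ?_⟩
  let δ := W.descResidueField (Scheme.stalkClosedPointTo q)
  have hδ : Spec.map δ ≫ W.fromSpecResidueField x = t :=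
    W.descResidueField_stalkClosedPointTo_fromSpecResidueField _ q
  have key : f.residueFieldMap x ≫ δ = (Y'.residueFieldCongr hx).hom := by
    apply Spec.map_injective
    rw [← cancel_mono (Y'.fromSpecResidueField (f x)), Spec.map_comp, Category.assoc,
      Scheme.Hom.SpecMap_residueFieldMap_fromSpecResidueField, ← Category.assoc, hδ,
      Scheme.residueFieldCongr_fromSpecResidueField]
    exact ht
  obtain ⟨c, hc⟩ := (ConcreteCategory.bijective_of_isIso (Y'.residueFieldCongr hx).hom).2 (δ e)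
  refine ⟨c, δ.hom.injective ?_⟩
  have := congr($(key) c)
  rw [hc] at this
  exact this

theorem residueFieldMap_surjective_of_preimmersion {W : Scheme.{u}} (j : W ⟶ Y') [IsPreimmersion j] (w : W) :
    Function.Surjective (j.residueFieldMap w) := by
  intro e
  obtain ⟨b, rfl⟩ := W.residue_surjective w e
  obtain ⟨c, rfl⟩ := j.stalkMap_surjective w b
  exact ⟨Y'.residue (j w) c, congr($(Scheme.residue_residueFieldMap j w) c)⟩

/-- Rationality spreads to a constructible neighbourhood. -/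
theorem exists_nhd (f₀ : X₀ ⟶ Y₀) [LocallyOfFinitePresentation f₀] (a : Y' ⟶ Y₀) [IsAffine Y'] (y : Y')
    (h : RatAt f₀ a y) : ∃ C : Set Y', IsConstructible C ∧ y ∈ C ∧ ∀ z ∈ C, RatAt f₀ a z := by
  classical
  let A := Γ(Y', ⊤)
  let e : Spec A ⟶ Y' := Y'.isoSpec.inv
  let p : PrimeSpectrum A := Y'.isoSpec.hom y
  have hep : e p = y := by
    show Y'.isoSpec.inv (Y'.isoSpec.hom y) = y
    rw [← Scheme.Hom.comp_apply, Iso.hom_inv_id]; rfl
  let q : Spec (CommRingCat.of p.asIdeal.ResidueField) ⟶ Y' :=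
    Spec.map (CommRingCat.ofHom (algebraMap A p.asIdeal.ResidueField)) ≫ e
  have hq : q (closedPoint _) = y := by
    show (Spec.map _ ≫ e) (closedPoint _) = y
    rw [Scheme.Hom.comp_apply, ← hep]
    congr 1
    refine PrimeSpectrum.ext ?_
    show Ideal.comap (algebraMap A p.asIdeal.ResidueField) (closedPoint p.asIdeal.ResidueField).asIdeal = p.asIdeal
    rw [show (closedPoint p.asIdeal.ResidueField).asIdeal = ⊥ from maximalIdeal_eq_bot]
    exact Ideal.ker_algebraMap_residueField p.asIdeal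
  obtain ⟨s, hs⟩ := h.over_field q hq
  let D := Cons62.ResLimit.D p.asIdeal
  let c := Cons62.ResLimit.c p.asIdeal
  let t : D ⟶ (Functor.const _).obj Y₀ :=
    { app := fun i => Cons62.ResLimit.toBase p.asIdeal i ≫ e ≫ a
      naturality := fun i j φ => by
        rw [← Category.assoc, Cons62.ResLimit.map_toBase]
        exact (Category.comp_id _).symm }
  have ha : c.π ≫ t = (Functor.const _).map (s ≫ f₀) := by
    refine NatTrans.ext (funext fun i => ?_)
    show c.π.app i ≫ Cons62.ResLimit.toBase p.asIdeal i ≫ e ≫ a = s ≫ f₀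
    rw [← Category.assoc, Cons62.ResLimit.π_toBase, hs]
    exact (Category.assoc _ _ _).symm
  haveI : ∀ i, CompactSpace (D.obj i) := fun i => inferInstance
  haveI : ∀ i, QuasiSeparatedSpace (D.obj i) := fun i => inferInstance
  obtain ⟨i, g, hg1, hg2⟩ := Scheme.exists_π_app_comp_eq_of_locallyOfFinitePresentation D t f₀ c
    (Cons62.ResLimit.isLimit p.asIdeal) s ha
  let R := Cons62.ResLimit.R i.unop
  haveI : Algebra.FinitePresentation A R :=
    haveI : Algebra.FinitePresentation A (Localization.Away (∏ a ∈ i.unop.F, a)) :=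
      IsLocalization.Away.finitePresentation (∏ a ∈ i.unop.F, a)
    Algebra.FinitePresentation.quotient (Submodule.fg_span (i.unop.J.finite_toSet.image _))
  let j : D.obj i ⟶ Y' := Cons62.ResLimit.toBase p.asIdeal i ≫ e
  haveI : LocallyOfFinitePresentation (Cons62.ResLimit.toBase p.asIdeal i) := by
    show LocallyOfFinitePresentation (Spec.map _)
    rw [HasRingHomProperty.Spec_iff (P := @LocallyOfFinitePresentation)]
    exact RingHom.finitePresentation_algebraMap.mpr ‹Algebra.FinitePresentation A R›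
  haveI : IsPreimmersion (Cons62.ResLimit.toBase p.asIdeal i) := by
    haveI : IsOpenImmersion (Spec.map (CommRingCat.ofHom
        (algebraMap A (Localization.Away (∏ a ∈ i.unop.F, a))))) := IsOpenImmersion.of_isLocalization (∏ a ∈ i.unop.F, a)
    haveI : IsClosedImmersion (Spec.map (CommRingCat.ofHom (algebraMap (Localization.Away (∏ a ∈ i.unop.F, a)) R))) :=
      IsClosedImmersion.spec_of_surjective _ Ideal.Quotient.mk_surjective
    show IsPreimmersion (Spec.map (CommRingCat.ofHom (algebraMap A R)))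
    rw [IsScalarTower.algebraMap_eq A (Localization.Away (∏ a ∈ i.unop.F, a)) R, CommRingCat.ofHom_comp, Spec.map_comp]
    infer_instance
  haveI : IsAffine (D.obj i) := inferInstance
  refine ⟨⇑j '' Set.univ, j.isConstructible_image IsConstructible.univ, ?_, ?_⟩
  · refine ⟨c.π.app i (closedPoint p.asIdeal.ResidueField), trivial, ?_⟩
    have e1 : c.π.app i ≫ j = q := by
      show c.π.app i ≫ Cons62.ResLimit.toBase p.asIdeal i ≫ e = _
      rw [← Category.assoc, Cons62.ResLimit.π_toBase]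
      rfl
    exact ((Scheme.Hom.comp_apply _ _ _).symm.trans
      (congrArg (fun k : Spec (CommRingCat.of p.asIdeal.ResidueField) ⟶ Y' => k (closedPoint _)) e1)).trans hq
  · rintro _ ⟨w, -, rfl⟩
    haveI : IsPreimmersion j := inferInstanceAs (IsPreimmersion (Cons62.ResLimit.toBase p.asIdeal i ≫ e))
    exact ratAt_of_bijective f₀ a j w (bijective_of_surjective j w (residueFieldMap_surjective_of_preimmersion j w)) g
      (hg2.trans (Category.assoc _ _ _).symm) rfl

theorem isConsClosed_not_ratAt (f₀ : X₀ ⟶ Y₀) [LocallyOfFinitePresentation f₀] (a : Y' ⟶ Y₀) :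
    LimTop61.IsConsClosed {y : Y' | ¬ RatAt f₀ a y} := by
  intro U hU
  haveI : IsAffine (U : Scheme.{u}) := hU
  have hiff : ∀ u : (U : Scheme.{u}), RatAt f₀ a (U.ι u) ↔ RatAt f₀ (U.ι ≫ a) u := by
    intro u
    constructor
    · intro h
      obtain ⟨s, hs⟩ := h.over_field (K := U.toScheme.residueField u) (U.toScheme.fromSpecResidueField u ≫ U.ι)
        (by rw [Scheme.Hom.comp_apply, Scheme.fromSpecResidueField_apply])
      exact ⟨s, hs.trans (Category.assoc _ _ _)⟩
    · rintro ⟨s, hs⟩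
      have hb : Function.Bijective (U.ι.residueFieldMap u) :=
        bijective_of_surjective _ u (residueFieldMap_surjective_of_preimmersion _ u)
      haveI : IsIso (U.ι.residueFieldMap u) := (ConcreteCategory.isIso_iff_bijective _).mpr hb
      refine ⟨Spec.map (inv (U.ι.residueFieldMap u)) ≫ s, ?_⟩
      rw [Category.assoc, hs, ← Scheme.Hom.SpecMap_residueFieldMap_fromSpecResidueField_assoc,
        ← Spec.map_comp_assoc, IsIso.hom_inv_id, Spec.map_id, Category.id_comp]
  refine @IsClosed.mk _ (constructibleTopology (U : Scheme.{u})) _ ?_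
  rw [@isOpen_iff_forall_mem_open _ (constructibleTopology (U : Scheme.{u}))]
  intro u hu
  have hu' : RatAt f₀ (U.ι ≫ a) u := (hiff u).mp (not_not.mp hu)
  obtain ⟨C, hC, huC, hCr⟩ := exists_nhd f₀ (U.ι ≫ a) u hu'
  refine ⟨C, fun z hz hz' => hz' ((hiff z).mpr (hCr z hz)), ?_, huC⟩
  have := LimTop61.spectralSpace_of_isAffineOpen hU
  exact (SpecSp50.isConstructible_cons_isClopen hC).2

theorem exists_mem_range_residueFieldMap {I : Type u} [SmallCategory I] [IsCofiltered I] (D : I ⥤ Scheme.{u})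
    (c : Cone D) (hc : IsLimit c) [∀ i, IsAffine (D.obj i)] (y : c.pt) (e : c.pt.residueField y) :
    ∃ i, e ∈ Set.range ((c.π.app i).residueFieldMap y) := by
  obtain ⟨i₀⟩ := IsCofiltered.nonempty (C := I)
  haveI : ∀ {i j : I} (a : i ⟶ j), IsAffineHom (D.map a) := fun a => isAffineHom_of_isAffine _
  haveI : IsAffineHom (c.π.app i₀) := isAffineHom_π_app D c hc i₀
  haveI : IsAffine c.pt := isAffine_of_isAffineHom (c.π.app i₀)
  obtain ⟨b, rfl⟩ := c.pt.residue_surjective y e
  let hU := isAffineOpen_top c.pt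
  letI := TopCat.Presheaf.algebra_section_stalk c.pt.presheaf (⟨y, trivial⟩ : (⊤ : c.pt.Opens))
  haveI := hU.isLocalization_stalk ⟨y, trivial⟩
  obtain ⟨⟨a, ⟨s, hs⟩⟩, has⟩ := IsLocalization.surj (hU.primeIdealOf ⟨y, trivial⟩).asIdeal.primeCompl b
  obtain ⟨i, a', ha'⟩ := exists_appTop_π_eq_of_isAffine_of_isLimit D c hc a
  obtain ⟨j, s', hs'⟩ := exists_appTop_π_eq_of_isAffine_of_isLimit D c hc s
  obtain ⟨m, α, β, -⟩ := IsCofilteredOrEmpty.cone_objs i j
  refine ⟨m, ?_⟩
  let φ : (D.obj m).residueField (c.π.app m y) ⟶ c.pt.residueField y := (c.π.app m).residueFieldMap y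
  show _ ∈ Set.range φ
  have hev : ∀ (k : I) (γ : m ⟶ k) (x : Γ(D.obj k, ⊤)),
      c.pt.residue y (c.pt.presheaf.germ ⊤ y trivial ((c.π.app k).appTop x)) ∈
        Set.range ((c.π.app m).residueFieldMap y) := by
    intro k γ x
    refine ⟨(D.obj m).Γevaluation (c.π.app m y) ((D.map γ).appTop x), ?_⟩
    rw [Scheme.Γevaluation_naturality_apply]
    show c.pt.residue y (c.pt.presheaf.germ ⊤ y trivial _) = _
    congr 2
    rw [← c.w γ]
    rfl
  obtain ⟨A', hA'⟩ := hev i α a'
  obtain ⟨S', hS'⟩ := hev j β s'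
  rw [ha'] at hA'
  rw [hs'] at hS'
  change φ A' = _ at hA'
  change φ S' = _ at hS'
  have hmul : (c.pt.residue y b : c.pt.residueField y) * φ S' = φ A' := by
    rw [hA', hS', ← map_mul]
    exact congrArg _ has
  have hne : φ S' ≠ 0 := by
    rw [hS']
    intro h0
    have hunit : IsUnit (c.pt.presheaf.germ ⊤ y trivial s) :=
      IsLocalization.map_units (c.pt.presheaf.stalk y) (⟨s, hs⟩ : (hU.primeIdealOf ⟨y, trivial⟩).asIdeal.primeCompl)
    exact (hunit.map (c.pt.residue y).hom).ne_zero h0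
  refine ⟨A' / S', ?_⟩
  rw [map_div₀, ← hmul, mul_div_assoc, div_self hne, mul_one]

/-- A point rational in the limit is rational at some stage. -/
theorem exists_ratAt_stage {I : Type u} [SmallCategory I] [IsCofiltered I] (D : I ⥤ Scheme.{u}) (c : Cone D)
    (hc : IsLimit c) [∀ i, IsAffine (D.obj i)] (f₀ : X₀ ⟶ Y₀) [LocallyOfFiniteType f₀]
    (a : ∀ i, D.obj i ⟶ Y₀) (ha : ∀ {i j : I} (φ : i ⟶ j), D.map φ ≫ a j = a i) (r : I) (y : c.pt)
    (h : RatAt f₀ (c.π.app r ≫ a r) y) : ∃ i, RatAt f₀ (a i) (c.π.app i y) := by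
  classical
  obtain ⟨s, hs⟩ := h
  let K := c.pt.residueField y
  let q : Spec (CommRingCat.of K) ⟶ X₀ := s
  let x := q (closedPoint K)
  obtain ⟨_, ⟨V, hV, rfl⟩, hxV, -⟩ :=
    Y₀.isBasis_affineOpens.exists_subset_of_mem_open (Set.mem_univ (f₀ x)) isOpen_univ
  obtain ⟨_, ⟨U, hU, rfl⟩, hxU, hUV⟩ :=
    X₀.isBasis_affineOpens.exists_subset_of_mem_open (show x ∈ f₀ ⁻¹ᵁ V from hxV) (f₀ ⁻¹ᵁ V).2
  have hrange : Set.range q ⊆ Set.range hU.fromSpec := by
    rintro _ ⟨z, rfl⟩
    rw [hU.range_fromSpec, show z = closedPoint K from Subsingleton.elim _ _]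
    exact hxU
  obtain ⟨θ, hθ'⟩ := Spec.map_surjective (IsOpenImmersion.lift hU.fromSpec q hrange)
  have hθ : Spec.map θ ≫ hU.fromSpec = q := by rw [hθ', IsOpenImmersion.lift_fac]
  have hF : (f₀.appLE V U hUV).hom.FiniteType := f₀.finiteType_appLE hV hU hUV
  letI := (f₀.appLE V U hUV).hom.toAlgebra
  obtain ⟨G, hG⟩ := (hF : Algebra.FiniteType Γ(Y₀, V) Γ(X₀, U)).out
  choose ig hg using fun g : G => exists_mem_range_residueFieldMap D c hc y (θ g.1)
  obtain ⟨m, hm⟩ := IsCofiltered.inf_objs_exists (insert r (Finset.univ.image ig))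
  refine ⟨m, ?_⟩
  let φ : (D.obj m).residueField (c.π.app m y) ⟶ c.pt.residueField y := (c.π.app m).residueFieldMap y
  have hmono : ∀ (k : I) (γ : m ⟶ k), Set.range ((c.π.app k).residueFieldMap y) ⊆ Set.range φ := by
    intro k γ
    rintro _ ⟨e, rfl⟩
    have hp : c.π.app m ≫ D.map γ = c.π.app k := c.w γ
    refine ⟨(D.map γ).residueFieldMap (c.π.app m y)
      (((D.obj k).residueFieldCongr (congrArg (fun h : c.pt ⟶ D.obj k => h y) hp.symm)).hom e), ?_⟩
    rw [Scheme.Hom.residueFieldMap_congr hp.symm y, Scheme.residueFieldMap_comp]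
    rfl
  let p : Spec ((D.obj m).residueField (c.π.app m y)) ⟶ Y₀ := (D.obj m).fromSpecResidueField (c.π.app m y) ≫ a m
  have hp : Spec.map φ ≫ p = s ≫ f₀ := by
    rw [hs, ← Category.assoc, Scheme.Hom.SpecMap_residueFieldMap_fromSpecResidueField, Category.assoc]
    congr 1
    obtain ⟨γ⟩ := hm (Finset.mem_insert_self r _)
    rw [← c.w γ, Category.assoc, ha γ]
  have hrange' : Set.range p ⊆ Set.range hV.fromSpec := by
    have hpt : p ((Spec.map φ) (closedPoint K)) = f₀ x := by
      show (Spec.map φ ≫ p) (closedPoint K) = f₀ (q (closedPoint K))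
      rw [hp]; exact Scheme.Hom.comp_apply _ _ _
    rintro _ ⟨z, rfl⟩
    haveI : Subsingleton ↥(Spec ((D.obj m).residueField (c.π.app m y))) :=
      inferInstanceAs (Subsingleton (PrimeSpectrum _))
    rw [hV.range_fromSpec, show z = (Spec.map φ) (closedPoint K) from Subsingleton.elim _ _, hpt]
    exact hxV
  obtain ⟨ρ, hρ'⟩ := Spec.map_surjective (IsOpenImmersion.lift hV.fromSpec p hrange')
  have hρ : Spec.map ρ ≫ hV.fromSpec = p := by rw [hρ', IsOpenImmersion.lift_fac]
  have hcomp : f₀.appLE V U hUV ≫ θ = ρ ≫ φ := by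
    apply Spec.map_injective
    rw [← cancel_mono hV.fromSpec, Spec.map_comp, Spec.map_comp, Category.assoc, Category.assoc,
      IsAffineOpen.SpecMap_appLE_fromSpec f₀ hV hU hUV, hρ, ← Category.assoc, hθ]
    exact hp.symm
  have hrngθ : ∀ u : Γ(X₀, U), θ u ∈ φ.hom.range := by
    intro u
    have hu : u ∈ Algebra.adjoin Γ(Y₀, V) (G : Set Γ(X₀, U)) := by rw [hG]; trivial
    induction hu using Algebra.adjoin_induction with
    | mem v hv =>
      obtain ⟨γ⟩ := hm (Finset.mem_insert_of_mem (Finset.mem_image.mpr ⟨⟨v, hv⟩, Finset.mem_univ _, rfl⟩))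
      obtain ⟨w, hw⟩ := hmono _ γ (hg ⟨v, hv⟩)
      exact ⟨w, hw⟩
    | algebraMap v => exact ⟨ρ v, (congr($(hcomp) v)).symm⟩
    | add a b _ _ iha ihb => rw [map_add]; exact φ.hom.range.add_mem iha ihb
    | mul a b _ _ iha ihb => rw [map_mul]; exact φ.hom.range.mul_mem iha ihb
  have hbij : Function.Bijective φ.hom.rangeRestrict :=
    ⟨fun a b hab => φ.hom.injective (congrArg Subtype.val hab), φ.hom.rangeRestrict_surjective⟩
  let θ' : Γ(X₀, U) ⟶ (D.obj m).residueField (c.π.app m y) :=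
    CommRingCat.ofHom ((RingEquiv.ofBijective _ hbij).symm.toRingHom.comp (θ.hom.codRestrict φ.hom.range hrngθ))
  have hθφ : θ' ≫ φ = θ := by
    refine CommRingCat.hom_ext (RingHom.ext fun u => ?_)
    exact congrArg Subtype.val ((RingEquiv.ofBijective _ hbij).apply_symm_apply ⟨θ u, hrngθ u⟩)
  refine ⟨Spec.map θ' ≫ hU.fromSpec, ?_⟩
  have hθρ : f₀.appLE V U hUV ≫ θ' = ρ := by
    refine CommRingCat.hom_ext (RingHom.ext fun u => φ.hom.injective ?_)
    have h1 := congr($(hcomp) u)
    have h2 := congr($(hθφ) (f₀.appLE V U hUV u))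
    exact h2.trans h1
  rw [Category.assoc, ← IsAffineOpen.SpecMap_appLE_fromSpec f₀ hV hU hUV, ← Spec.map_comp_assoc, hθρ, hρ]

end Groth.Agent.FlatMor67.CDLimit
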