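import Groth.Agent.FlatMor67.CDLimit

/-! Assembly of the descent of completely decomposed morphisms (milestone S7191). -/

set_option autoImplicit false
set_option backward.isDefEq.respectTransparency.types false
set_option linter.style.haveILetI false
universe u

open AlgebraicGeometry CategoryTheory Limits IsLocalRing Topology Opposite

namespace Groth.Agent.FlatMor67.CDLimit

variable {X₀ Y₀ Y' : Scheme.{u}}

theorem RatAt.comap {f₀ : X₀ ⟶ Y₀} {a : Y' ⟶ Y₀} {Y'' : Scheme.{u}} {g : Y'' ⟶ Y'} {a' : Y'' ⟶ Y₀}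
    (hg : g ≫ a = a') {y : Y''} (h : RatAt f₀ a (g y)) : RatAt f₀ a' y := by
  obtain ⟨s, hs⟩ := h.over_field (K := Y''.residueField y) (Y''.fromSpecResidueField y ≫ g)
    (by rw [Scheme.Hom.comp_apply, Scheme.fromSpecResidueField_apply])
  exact ⟨s, by rw [hs, Category.assoc, hg]⟩

theorem RatAt.map_of_immersion {f₀ : X₀ ⟶ Y₀} {a : Y' ⟶ Y₀} {W : Scheme.{u}} (j : W ⟶ Y') [IsPreimmersion j]
    {w : W} (h : RatAt f₀ (j ≫ a) w) : RatAt f₀ a (j w) := by
  obtain ⟨s, hs⟩ := h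
  haveI : IsIso (j.residueFieldMap w) := (ConcreteCategory.isIso_iff_bijective _).mpr
    (bijective_of_surjective _ w (residueFieldMap_surjective_of_preimmersion _ w))
  refine ⟨Spec.map (inv (j.residueFieldMap w)) ≫ s, ?_⟩
  rw [Category.assoc, hs, ← Scheme.Hom.SpecMap_residueFieldMap_fromSpecResidueField_assoc,
    ← Spec.map_comp_assoc, IsIso.hom_inv_id, Spec.map_id, Category.id_comp]

theorem exists_ratAt_stage_of_limit {I : Type u} [SmallCategory I] [IsCofiltered I] (D : I ⥤ Scheme.{u})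
    (c : Cone D) (hc : IsLimit c) [∀ (i j : I) (φ : i ⟶ j), IsAffineHom (D.map φ)] (f₀ : X₀ ⟶ Y₀)
    [LocallyOfFiniteType f₀] (a : ∀ i, D.obj i ⟶ Y₀) (ha : ∀ {i j : I} (φ : i ⟶ j), D.map φ ≫ a j = a i)
    (r : I) (y : c.pt) (h : RatAt f₀ (c.π.app r ≫ a r) y) : ∃ i, RatAt f₀ (a i) (c.π.app i y) := by
  obtain ⟨_, ⟨W, hW, rfl⟩, hyW, -⟩ :=
    (D.obj r).isBasis_affineOpens.exists_subset_of_mem_open (Set.mem_univ (c.π.app r y)) isOpen_univ
  haveI : ∀ j, IsAffine ((opensDiagram D r W).obj j) := fun j => IsAffineOpen.preimage hW (D.map j.hom)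
  let y' : (opensCone D c r W).pt := ⟨y, hyW⟩
  have hy : RatAt f₀ (((opensCone D c r W).π.app (Over.mk (𝟙 r))) ≫
      ((opensDiagramι D r W).app (Over.mk (𝟙 r)) ≫ a r)) y' := by
    refine RatAt.comap (g := Scheme.Opens.ι (c.π.app r ⁻¹ᵁ W)) (a := c.π.app r ≫ a r) ?_ (y := y') h
    show _ = Scheme.Hom.resLE _ _ _ _ ≫ Scheme.Opens.ι _ ≫ a r
    rw [Scheme.Hom.resLE_comp_ι_assoc]
    rfl
  obtain ⟨j, hj⟩ := exists_ratAt_stage (opensDiagram D r W) (opensCone D c r W) (isLimitOpensCone D c hc r W) f₀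
    (fun j => (opensDiagramι D r W).app j ≫ a j.left)
    (fun φ => by
      show Scheme.Hom.resLE _ _ _ _ ≫ Scheme.Opens.ι _ ≫ _ = _
      rw [Scheme.Hom.resLE_comp_ι_assoc, ha]
      rfl) (Over.mk (𝟙 r)) y' hy
  refine ⟨j.left, ?_⟩
  haveI : IsPreimmersion ((opensDiagramι D r W).app j) := inferInstance
  have := RatAt.map_of_immersion ((opensDiagramι D r W).app j) hj
  have e : (opensDiagramι D r W).app j ((opensCone D c r W).π.app j y') = c.π.app j.left y := by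
    show Scheme.Opens.ι _ (Scheme.Hom.resLE _ _ _ _ y') = _
    rw [← Scheme.Hom.comp_apply, Scheme.Hom.resLE_comp_ι, Scheme.Hom.comp_apply]
    rfl
  rw [e] at this
  exact this

theorem completelyDecomposed_descends {I : Type u} [SmallCategory I] [IsCofiltered I]
    (D : I ⥤ Scheme.{u}) (c : Limits.Cone D) (hc : Limits.IsLimit c)
    [∀ (i j : I) (a : i ⟶ j), IsAffineHom (D.map a)]
    (i0 : I) {X0 Y0 X Y : Scheme.{u}} (f0 : X0 ⟶ Y0) (q0 : Y0 ⟶ D.obj i0) [CompactSpace ↥Y0]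
    [LocallyOfFinitePresentation f0]
    (f : X ⟶ Y) (q : Y ⟶ c.pt) (pY : Y ⟶ Y0) (pX : X ⟶ X0)
    (hY : IsPullback pY q q0 (c.π.app i0)) (hX : IsPullback pX f f0 pY)
    (hcd : ∀ y : Y, ∃ x : X, f x = y ∧ Function.Bijective (f.residueFieldMap x)) :
    ∃ (i : I) (a : i ⟶ i0) (Xi Yi : Scheme.{u}) (fi : Xi ⟶ Yi) (qi : Yi ⟶ D.obj i) (pYi : Yi ⟶ Y0) (pXi : Xi ⟶ X0),
      IsPullback pYi qi q0 (D.map a) ∧ IsPullback pXi fi f0 pYi ∧
      ∀ y : Yi, ∃ x : Xi, fi x = y ∧ Function.Bijective (fi.residueFieldMap x) := by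
  let D' := LimTop61.bcDiagram D q0
  let c' := LimTop61.bcCone D c q0 pY q hY.w
  have hc' : IsLimit c' := LimTop61.isLimitBcCone D c hc q0 pY q hY
  let r : Over i0 := Over.mk (𝟙 i0)
  haveI : CompactSpace (D'.obj r) := LimTop61.bcDiagram_compactSpace D q0 r
  haveI : ∀ (i j : Over i0) (φ : i ⟶ j), IsAffineHom (D'.map φ) := fun i j φ => LimTop61.bcDiagram_isAffineHom D q0 φ
  let a : ∀ j : Over i0, D'.obj j ⟶ Y0 := fun j => pullback.fst q0 (D.map j.hom)
  have ha : ∀ {i j : Over i0} (φ : i ⟶ j), D'.map φ ≫ a j = a i := fun φ => pullback.lift_fst _ _ _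
  obtain ⟨j, hj⟩ : ∃ j : Over r, ∀ z, RatAt f0 (a j.left) z := by
    by_contra! H
    obtain ⟨s, hs⟩ := LimTop61.exists_mem_of_isConsClosed D' c' hc' (i₀ := r)
      (fun j => {z | ¬ RatAt f0 (a j.left) z}) (fun j => isConsClosed_not_ratAt f0 (a j.left)) (fun j => H j)
      (fun {j k} φ z hz hz' => hz (RatAt.comap (ha φ.left) hz'))
    obtain ⟨x, hxs, hxb⟩ := hcd s
    have hrat : RatAt f0 (c'.π.app r ≫ a r) s := by
      have e : c'.π.app r ≫ a r = pY := pullback.lift_fst _ _ _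
      rw [e]
      exact ratAt_of_bijective f0 pY f x hxb pX hX.w hxs
    obtain ⟨i, hi⟩ := exists_ratAt_stage_of_limit D' c' hc' f0 a ha r s hrat
    exact hs (Over.mk (Over.mkIdTerminal.from i)) hi
  refine ⟨j.left.left, j.left.hom, pullback f0 (a j.left), D'.obj j.left, pullback.snd f0 (a j.left),
    pullback.snd q0 (D.map j.left.hom), a j.left, pullback.fst f0 (a j.left),
    IsPullback.of_hasPullback q0 (D.map j.left.hom), IsPullback.of_hasPullback f0 (a j.left), fun y => ?_⟩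
  obtain ⟨t, ht⟩ := hj y
  exact exists_bijective_of_section _ y (pullback.lift t ((D'.obj j.left).fromSpecResidueField y) ht)
    (pullback.lift_snd _ _ _)

end Groth.Agent.FlatMor67.CDLimit
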