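import Groth.Agent.FlatMor67.ConormalMap
import Groth.Agent.Omega57.Sect

/-!
# The conormal sheaf of a quasi-compact immersion is `H^{-1}` of the naive cotangent complex
-/

set_option autoImplicit false
set_option backward.isDefEq.respectTransparency.types false

universe u

open CategoryTheory Limits AlgebraicGeometry Opposite TopologicalSpace
open Groth.Agent.QC70 Groth.Agent.Omega57

namespace Groth.Agent.FlatMor67

variable {Z X : Scheme.{u}} (i : Z ⟶ X)

/-- an immersion is, locally on both sides, a closed immersion of affines -/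
lemma exists_closed_chart [IsImmersion i] {z : Z} (O : Z.Opens) (hz : z ∈ O) :
    ∃ W : X.Opens, IsAffineOpen W ∧ IsAffineOpen (i ⁻¹ᵁ W) ∧ z ∈ i ⁻¹ᵁ W ∧ i ⁻¹ᵁ W ≤ O ∧
      Function.Surjective (i.app W) := by
  obtain ⟨T, hT, hTO⟩ := i.isEmbedding.isInducing.isOpen_iff.1 O.2
  have hzT : i z ∈ T := hTO.ge hz
  have hzC : i z ∈ i.coborderRange := subset_coborder ⟨z, rfl⟩
  obtain ⟨_, ⟨W, hW, rfl⟩, hzW, hWle⟩ := X.isBasis_affineOpens.exists_subset_of_mem_open
    (show i z ∈ T ∩ (i.coborderRange : Set X) from ⟨hzT, hzC⟩) (hT.inter i.coborderRange.2)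
  have hWC : W ≤ i.coborderRange := fun y hy => (hWle hy).2
  have himg : i.coborderRange.ι ''ᵁ (i.coborderRange.ι ⁻¹ᵁ W) = W := by
    rw [Scheme.Hom.image_preimage_eq_opensRange_inf, Scheme.Opens.opensRange_ι, inf_eq_right.2 hWC]
  have hpre : i.liftCoborder ⁻¹ᵁ (i.coborderRange.ι ⁻¹ᵁ W) = i ⁻¹ᵁ W := by
    rw [i.liftCoborder_preimage, himg]
  have hW' : IsAffineOpen (i.coborderRange.ι ⁻¹ᵁ W) :=
    (i.coborderRange.ι.isAffineOpen_iff_of_isOpenImmersion).1 (by rwa [himg])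
  have hclosed : IsClosedImmersion (i ∣_ W) := by
    have : IsPreimmersion (i ∣_ W) := IsZariskiLocalAtTarget.restrict (inferInstance : IsPreimmersion i) W
    refine IsClosedImmersion.of_isPreimmersion _ ?_
    rw [show Set.range (i ∣_ W) = (Scheme.Opens.ι W) ⁻¹' Set.range i by
      ext y
      constructor
      · rintro ⟨x, rfl⟩
        exact ⟨(i ⁻¹ᵁ W).ι x, congr($((morphismRestrict_ι i W).symm) x)⟩
      · rintro ⟨x, hx⟩
        refine ⟨⟨x, show i x ∈ W from hx ▸ y.2⟩, (Scheme.Opens.ι W).isOpenEmbedding.injective ?_⟩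
        exact (congr($(morphismRestrict_ι i W) ⟨x, _⟩)).trans hx]
    have hlc : IsClosed ((Subtype.val : ↥(i.coborderRange : Set X) → X) ⁻¹' Set.range i) :=
      isClosed_preimage_val.2 fun y hy => by
        have h1 : y ∈ coborder (Set.range i) ∩ closure (Set.range i) :=
          ⟨hy.1, closure_mono Set.inter_subset_right hy.2⟩
        rwa [coborder_inter_closure] at h1
    refine (hlc.preimage (f := fun y : Scheme.Opens.toScheme W => (⟨(Scheme.Opens.ι W) y, hWC y.2⟩ : (i.coborderRange : Set X)))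
      (Continuous.subtype_mk (Scheme.Opens.ι W).continuous _))
  refine ⟨W, hW, hpre ▸ hW'.preimage i.liftCoborder, hzW, fun y hy => hTO.le ((hWle hy).1), ?_⟩
  have : IsAffine (W : Scheme.{u}) := hW
  have h1 := (i ∣_ W).app_surjective ⊤ (isAffineOpen_top _)
  rw [morphismRestrict_app] at h1
  have h2 : Function.Surjective (i.app ((Scheme.Opens.ι W) ''ᵁ ⊤)) := by
    have := (ConcreteCategory.bijective_of_isIso
      (Z.presheaf.map (eqToHom (image_morphismRestrict_preimage i W ⊤)).op)).1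
    intro y
    obtain ⟨x, hx⟩ := h1 _
    exact ⟨x, this hx⟩
  rwa [Scheme.Opens.ι_image_top] at h2

lemma app_eq_zero_of_app [QuasiCompact i] {W : X.Opens} (hW : IsAffineOpen W) (x : Γ(X, W))
    (hx : i.app W x = 0) : i.ker.subschemeι.app W x = 0 := by
  have h1 := Scheme.IdealSheafData.ker_subschemeι_app i.ker ⟨W, hW⟩
  rw [Scheme.Hom.ker_apply] at h1
  exact (SetLike.ext_iff.1 h1 x).2 hx

lemma secEquiv_toSec {W : X.Opens} (p : ChartPair i) (hU : p.U.1 = i ⁻¹ᵁ W) (hV : p.V.1 ≤ W)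
    (m : Γ(ClSub.idealMod i.ker, W)) :
    secEquiv i p (Sec.map hU.le (toSec i m)) = p.cls (sectOn i m p hV) (appLE_sectOn i m p hV) := by
  rw [secEquiv_apply, Sec.map_apply]
  exact (ChartPair.res_refl _).symm.trans (res_toVal i m ⟨p, hU.le⟩ p le_rfl hV)

lemma bijective_app [QuasiCompact i] {W : X.Opens} (hW : IsAffineOpen W) (hU : IsAffineOpen (i ⁻¹ᵁ W))
    (hsurj : Function.Surjective (i.app W)) : Function.Bijective ((conormalToH1 i).app (i ⁻¹ᵁ W)) := by
  let p : ChartPair i := ⟨⟨i ⁻¹ᵁ W, hU⟩, ⟨W, hW⟩, le_rfl⟩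
  let := (i.appLE p.V.1 p.U.1 p.e).hom.toAlgebra
  let M := ClSub.idealMod i.ker
  let j := hU.fromSpec
  have hjW : (⊤ : (Spec Γ(Z, i ⁻¹ᵁ W)).Opens) ≤ j ⁻¹ᵁ (i ⁻¹ᵁ W) := hU.fromSpec_preimage_self.ge
  let ψ := ringHomOpen i j hjW
  have hψ : ∀ x, ψ x = i.app W x := by
    intro x
    have h3 : j.appLE (i ⁻¹ᵁ W) ⊤ hjW = (Scheme.ΓSpecIso Γ(Z, i ⁻¹ᵁ W)).inv := by
      rw [Scheme.Hom.appLE, hU.fromSpec_app_self, Category.assoc, ← Functor.map_comp]
      refine (congrArg ((Scheme.ΓSpecIso Γ(Z, i ⁻¹ᵁ W)).inv ≫ ·) ?_).trans (Category.comp_id _)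
      exact (Spec Γ(Z, i ⁻¹ᵁ W)).presheaf.map_id _
    show (Scheme.ΓSpecIso _).hom ((j ≫ i).appLE W ⊤ hjW x) = _
    rw [Scheme.Hom.comp_appLE, ConcreteCategory.comp_apply, h3, Iso.inv_hom_id_apply]
  let θ : Γ(M, W) →+ p.H1 := (secEquiv i p).toAddMonoidHom.comp ((idealToH1 i).app W).hom
  have happ : i.appLE p.V.1 p.U.1 p.e = i.app W := (Scheme.Hom.app_eq_appLE _).symm
  have hθval : ∀ m, θ m = p.cls (OmegaSh.idealSect i.ker W m) (by rw [happ]; exact app_idealSect i W m) := by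
    intro m
    refine (secEquiv_toSec i p rfl le_rfl m).trans (ChartPair.cls_congr ?_ _ _)
    exact resO_self _
  have hθsmul : ∀ r m, θ (r • m) = ψ r • θ m := fun r m => by
    rw [hψ, hθval, hθval, show i.app W r = i.appLE p.V.1 p.U.1 p.e r from (congr($happ r)).symm]
    rw [ChartPair.cls_congr (Omega57.idealSect_smul i.ker W r m) _
      (by rw [map_mul, happ, app_idealSect, mul_zero])]
    exact ChartPair.cls_smul _ _ _ _
  have hk := kerToH1_of_surjective (R := Γ(X, p.V.1)) (S := Γ(Z, p.U.1)) (by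
    show Function.Surjective (i.appLE p.V.1 p.U.1 p.e)
    rw [happ]; exact hsurj)
  have hθ : Function.Surjective θ := fun y => by
    obtain ⟨⟨a, ha⟩, rfl⟩ := hk.1 y
    obtain ⟨m, hm⟩ := exists_idealSect_eq i.ker W a (app_eq_zero_of_app i hW a (by rw [← happ]; exact ha))
    exact ⟨m, (hθval m).trans (ChartPair.cls_congr hm _ _)⟩
  have : M.IsQuasicoherent := isQuasicoherent_idealMod _
  obtain ⟨e, he⟩ := exists_restrict_pullback_iso i M j hjW hW (ModuleCat.of Γ(Z, i ⁻¹ᵁ W) p.H1)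
    θ hθsmul hθ (fun a => by obtain ⟨x, rfl⟩ := hsurj a; exact ⟨x, hψ x⟩) (by
    intro N g hg m hm
    rw [hθval] at hm
    have h1 := hk.2 ⟨_, _⟩ hm
    have key : ∀ z, z ∈ RingHom.ker (algebraMap Γ(X, p.V.1) Γ(Z, p.U.1)) ^ 2 →
        ∃ k, OmegaSh.idealSect i.ker W k = z ∧ g k = 0 := by
      intro z hz
      rw [pow_two] at hz
      induction hz using Submodule.mul_induction_on' with
      | mem_mul_mem a ha b hb =>
        obtain ⟨k, hk⟩ := exists_idealSect_eq i.ker W b (app_eq_zero_of_app i hW b (by rw [← happ]; exact hb))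
        refine ⟨(show Γ(X, W) from a) • k, by rw [Omega57.idealSect_smul, hk], ?_⟩
        rw [hg, show ψ (show Γ(X, W) from a) = 0 from (hψ _).trans (by rw [← happ]; exact ha)]
        rw [Scheme.Modules.smul_Spec_def, map_zero, map_zero]
        exact zero_smul _ (g k)
      | add a _ b _ ha hb =>
        obtain ⟨k, hk, hgk⟩ := ha
        obtain ⟨k', hk', hgk'⟩ := hb
        exact ⟨k + k', by rw [map_add, hk, hk'], by rw [map_add, hgk, hgk', add_zero]⟩
    obtain ⟨k, hk, hgk⟩ := key _ h1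
    rwa [idealSect_injective _ _ hk] at hgk)
  let F := Omega.conormal i
  have himg : j ''ᵁ ⊤ ≤ i ⁻¹ᵁ W := (fromSpec_image_top hU).le
  let ρ : Γ(F, i ⁻¹ᵁ W) → Γ(F.restrict j, ⊤) := fun x => (F.restrictAppIso j ⊤).inv (res F himg x)
  have hρb : Function.Bijective ρ :=
    (ConcreteCategory.bijective_of_isIso (F.restrictAppIso j ⊤).inv).comp
      (res_bijective F himg (fromSpec_image_top hU).ge)
  have hρ : ∀ m, pullOpen i M j hjW m = ρ (OmegaSh.conormalSect i W m) := fun m => by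
    have a1 : j ''ᵁ ⊤ ≤ j ''ᵁ (j ⁻¹ᵁ (i ⁻¹ᵁ W)) := j.image_mono hjW
    have a2 : j ''ᵁ (j ⁻¹ᵁ (i ⁻¹ᵁ W)) ≤ i ⁻¹ᵁ W := j.image_preimage_le _
    exact res_res a2 a1 (OmegaSh.pullSect i M W m)
  let T := toTop (R := Γ(Z, i ⁻¹ᵁ W)) (ModuleCat.of Γ(Z, i ⁻¹ᵁ W) p.H1)
  have hT : Function.Bijective T := ConcreteCategory.bijective_of_isIso (tilde.toOpen _ ⊤)
  have he' : Function.Injective (e.hom.app ⊤) :=
    Function.HasLeftInverse.injective ⟨e.inv.app ⊤, fun x => congr(Scheme.Modules.Hom.app $(e.hom_inv_id) ⊤ x)⟩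
  have hval : ∀ m, secEquiv i p ((conormalToH1 i).app (i ⁻¹ᵁ W) (OmegaSh.conormalSect i W m)) = θ m :=
    fun m => by rw [conormalToH1_conormalSect]; rfl
  have hgen : ∀ s, ∃ m, OmegaSh.conormalSect i W m = s := fun s => by
    obtain ⟨w, hw⟩ := hT.2 (e.hom.app ⊤ (ρ s))
    obtain ⟨m, rfl⟩ := hθ w
    exact ⟨m, hρb.1 (he' ((congrArg _ (hρ m)).symm.trans ((he m).trans hw)))⟩
  constructor
  · intro s t hst
    obtain ⟨m, rfl⟩ := hgen s
    obtain ⟨m', rfl⟩ := hgen t
    have h := congrArg (secEquiv i p) hst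
    rw [hval, hval] at h
    refine hρb.1 (he' ?_)
    rw [← hρ, ← hρ, he, he, h]
  · intro y
    obtain ⟨m, hm⟩ := hθ (secEquiv i p y)
    exact ⟨_, (secEquiv i p).injective ((hval m).trans hm)⟩

instance isIso_conormalToH1 [IsImmersion i] [QuasiCompact i] : IsIso (conormalToH1 i) := by
  let B : {W : X.Opens // IsAffineOpen W ∧ IsAffineOpen (i ⁻¹ᵁ W) ∧ Function.Surjective (i.app W)} → Z.Opens :=
    fun W => i ⁻¹ᵁ W.1
  have hB : Opens.IsBasis (Set.range B) := Opens.isBasis_iff_nbhd.2 fun {O z} hz => by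
    obtain ⟨W, h1, h2, h3, h4, h5⟩ := exists_closed_chart i O hz
    exact ⟨B ⟨W, h1, h2, h5⟩, ⟨_, rfl⟩, h3, h4⟩
  have h : IsIso (conormalToH1 i).mapPresheaf := by
    let F : TopCat.Sheaf Ab Z := ⟨(Omega.conormal i).presheaf, (Omega.conormal i).isSheaf⟩
    let G : TopCat.Sheaf Ab Z := ⟨(h1Mod i).presheaf, (h1Mod i).isSheaf⟩
    let φ : F ⟶ G := ObjectProperty.homMk (conormalToH1 i).mapPresheaf
    have hφ : IsIso φ := by
      refine TopCat.Sheaf.isIso_iff_isIso_basis hB fun W => ?_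
      rw [ConcreteCategory.isIso_iff_bijective]
      exact bijective_app i W.2.1 W.2.2.1 W.2.2.2
    exact @Functor.map_isIso _ _ _ _ _ _ (TopCat.Sheaf.forget Ab Z) φ hφ
  have : IsIso ((Scheme.Modules.toPresheaf Z).map (conormalToH1 i)) := by
    rw [Scheme.Modules.toPresheaf_map]; exact h
  exact isIso_of_reflects_iso (conormalToH1 i) (Scheme.Modules.toPresheaf Z)

/-- the conormal sheaf carries the chart identifications -/
noncomputable def h1SheafConormal [IsImmersion i] [QuasiCompact i] : NLCx.H1Sheaf i (Omega.conormal i) where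
  iso U V e := AddEquiv.trans
    ((asIso ((conormalToH1 i).app U.1)).addCommGroupIsoToAddEquiv) ((h1Sheaf i).iso U V e)
  map_smul U V e a m := by
    show (h1Sheaf i).iso U V e ((conormalToH1 i).app U.1 (a • m)) = _
    refine (congrArg ((h1Sheaf i).iso U V e) (Scheme.Modules.Hom.app_smul (conormalToH1 i) a m)).trans ?_
    exact (h1Sheaf i).map_smul U V e a _
  map_res {U U' V V'} e e' hU hV m := by
    show (h1Sheaf i).iso U' V' e' ((conormalToH1 i).app U'.1 (res (Omega.conormal i) hU m)) = _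
    rw [app_res]
    exact (h1Sheaf i).map_res e e' hU hV _

lemma onCharts_omega [IsImmersion i] :
    NLCx.OnCharts i (fun A B _ _ _ => Subsingleton (Ω[B⁄A])) := by
  intro U V e
  have : AlgebraicGeometry.FormallyUnramified i := inferInstance
  have h := i.formallyUnramified_appLE V.2 U.2 e
  exact @Algebra.FormallyUnramified.subsingleton_kaehlerDifferential _ _ _ _ _ h

end Groth.Agent.FlatMor67
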