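import Mathlib.RingTheory.Extension.Cotangent.Basic
import Mathlib.RingTheory.Extension.Generators

/-!
# The map from the kernel of `R → S` to `H^{-1}` of the naive cotangent complex
-/

set_option autoImplicit false

universe u

open MvPolynomial TensorProduct

namespace Groth.Agent.FlatMor67

variable {R S : Type u} [CommRing R] [CommRing S] [Algebra R S]

lemma C_mem_ker (r : RingHom.ker (algebraMap R S)) :
    (C (r : R) : MvPolynomial S R) ∈ (Algebra.Generators.self R S).toExtension.ker := by
  show (aeval (_root_.id : S → S)) (C (r : R)) = 0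
  rw [aeval_C]
  exact r.2

/-- the class of an element of the kernel of `R → S` -/
noncomputable def kerToH1 : RingHom.ker (algebraMap R S) →+ Algebra.H1Cotangent R S where
  toFun r := ⟨Algebra.Extension.Cotangent.mk ⟨C (r : R), C_mem_ker r⟩,
    Algebra.Extension.Cotangent.mk_C_mem_ker_cotangentComplex _ _⟩
  map_zero' := by
    apply Subtype.ext
    show Algebra.Extension.Cotangent.mk _ = 0
    refine (congrArg _ ?_).trans (map_zero Algebra.Extension.Cotangent.mk)
    exact Subtype.ext (map_zero C)
  map_add' a b := by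
    apply Subtype.ext
    show Algebra.Extension.Cotangent.mk _ = Algebra.Extension.Cotangent.mk _ + Algebra.Extension.Cotangent.mk _
    rw [← map_add]
    exact congrArg _ (Subtype.ext (map_add C _ _))

lemma kerToH1_val (r : RingHom.ker (algebraMap R S)) :
    (kerToH1 r).1 = Algebra.Extension.Cotangent.mk ⟨C (r : R), C_mem_ker r⟩ := rfl

/-- multiples -/
lemma kerToH1_smul (a : R) (r : RingHom.ker (algebraMap R S)) :
    kerToH1 (a • r) = algebraMap R S a • kerToH1 r := by
  apply Subtype.ext
  show Algebra.Extension.Cotangent.mk _ = algebraMap R S a • Algebra.Extension.Cotangent.mk _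
  let P := (Algebra.Generators.self R S).toExtension
  have h := Algebra.Extension.Cotangent.mk.map_smul (C a : P.Ring) (⟨C (r : R), C_mem_ker r⟩ : P.ker)
  refine (congrArg Algebra.Extension.Cotangent.mk ?_).trans (h.trans ?_)
  · exact Subtype.ext (map_mul C _ _)
  · refine (algebraMap_smul (R := P.Ring) S (show P.Ring from C a)
      (Algebra.Extension.Cotangent.mk (P := P) ⟨C (r : R), C_mem_ker r⟩)).symm.trans ?_
    exact congrArg (· • _) (aeval_C (R := R) (_root_.id : S → S) a)

/-- naturality in a commutative square -/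
lemma map_kerToH1 {R' S' : Type u} [CommRing R'] [CommRing S'] [Algebra R' S'] [Algebra R R']
    [Algebra S S'] [Algebra R S'] [IsScalarTower R R' S'] [IsScalarTower R S S']
    (r : RingHom.ker (algebraMap R S)) (h : algebraMap R' S' (algebraMap R R' r) = 0) :
    Algebra.H1Cotangent.map R R' S S' (kerToH1 r) = kerToH1 ⟨algebraMap R R' r, h⟩ := by
  apply Subtype.ext
  show Algebra.Extension.Cotangent.map _ (Algebra.Extension.Cotangent.mk _) = _
  rw [Algebra.Extension.Cotangent.map_mk, kerToH1_val]
  refine congrArg _ (Subtype.ext ?_)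
  exact (Algebra.Generators.Hom.toExtensionHom _).toAlgHom.commutes (r : R)

/-- for a surjection the class map is surjective with kernel `I²` -/
lemma kerToH1_of_surjective (hs : Function.Surjective (algebraMap R S)) :
    Function.Surjective (kerToH1 (R := R) (S := S)) ∧
      ∀ r : RingHom.ker (algebraMap R S), kerToH1 r = 0 → (r : R) ∈ RingHom.ker (algebraMap R S) ^ 2 := by
  let G := Algebra.Generators.ofSurjectiveAlgebraMap.{u} hs
  let e : Algebra.H1Cotangent R S ≃ₗ[S] G.toExtension.H1Cotangent :=
    Algebra.Generators.H1Cotangent.equiv _ G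
  have hCker : ∀ r : RingHom.ker (algebraMap R S), (C (r : R) : MvPolynomial PEmpty.{u + 1} R) ∈ G.toExtension.ker :=
    fun r => by
      show (aeval G.val) (C (r : R)) = 0
      rw [aeval_C]
      exact r.2
  have he : ∀ r, (e (kerToH1 r)).1 = Algebra.Extension.Cotangent.mk ⟨C (r : R), hCker r⟩ := by
    intro r
    show Algebra.Extension.Cotangent.map _ (Algebra.Extension.Cotangent.mk _) = _
    rw [Algebra.Extension.Cotangent.map_mk]
    refine congrArg _ (Subtype.ext ?_)
    exact (Algebra.Generators.Hom.toExtensionHom _).toAlgHom.commutes (r : R)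
  have hE : ∀ q : R, (isEmptyRingEquiv R PEmpty.{u + 1}).toRingHom (C q) = q := fun q =>
    (MvPolynomial.coeff_C (0 : PEmpty.{u + 1} →₀ ℕ) q).trans (if_pos rfl)
  refine ⟨fun x => ?_, fun r hr => ?_⟩
  · obtain ⟨⟨p, hp⟩, hx⟩ := Algebra.Extension.Cotangent.mk_surjective (e x).1
    obtain ⟨r, rfl⟩ := MvPolynomial.C_surjective PEmpty.{u + 1} p
    have hr : algebraMap R S r = 0 := (aeval_C G.val r).symm.trans hp
    exact ⟨⟨r, hr⟩, e.injective (Subtype.ext ((he _).trans hx))⟩
  · have h0 := he r
    rw [hr, map_zero] at h0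
    have h1 : (C (r : R) : MvPolynomial PEmpty.{u + 1} R) ∈ G.toExtension.ker ^ 2 :=
      Algebra.Extension.Cotangent.mk_eq_zero_iff _ |>.1 h0.symm
    have h2 := Ideal.mem_map_of_mem (MvPolynomial.isEmptyRingEquiv R PEmpty.{u + 1}).toRingHom h1
    erw [Ideal.map_pow] at h2
    refine Ideal.pow_right_mono ?_ 2 (by
      rwa [show (isEmptyRingEquiv R PEmpty.{u + 1}).toRingHom (C (r : R)) = (r : R) from hE (r : R)] at h2)
    rw [Ideal.map_le_iff_le_comap]
    intro p hp
    obtain ⟨q, rfl⟩ := MvPolynomial.C_surjective PEmpty.{u + 1} p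
    have hq : algebraMap R S q = 0 := (aeval_C G.val q).symm.trans hp
    exact RingHom.mem_ker.2 ((congrArg (algebraMap R S) (hE q)).trans hq)

end Groth.Agent.FlatMor67
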