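import Groth.Agent.FlatMor67.H1Sheaf
import Groth.Agent.FlatMor67.KerToH1
import Groth.Agent.Omega57.Diag
import Groth.Agent.Omega57.PullOpen

/-!
# The map from the conormal sheaf to `H^{-1}` of the naive cotangent complex
-/

set_option autoImplicit false
set_option backward.isDefEq.respectTransparency.types false

universe u

open CategoryTheory Limits AlgebraicGeometry Opposite TopologicalSpace
open Groth.Agent.QC70

namespace Groth.Agent.FlatMor67

variable {Z X : Scheme.{u}} (i : Z ⟶ X)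

namespace ChartPair

variable {i}

/-- the class of a function on the target chart vanishing on the source chart -/
noncomputable def cls (r : ChartPair i) (a : Γ(X, r.V.1)) (ha : i.appLE r.V.1 r.U.1 r.e a = 0) : r.H1 :=
  letI := (i.appLE r.V.1 r.U.1 r.e).hom.toAlgebra
  kerToH1 (R := Γ(X, r.V.1)) (S := Γ(Z, r.U.1)) ⟨a, ha⟩

lemma cls_congr {r : ChartPair i} {a a' : Γ(X, r.V.1)} (h : a = a')
    (ha : i.appLE r.V.1 r.U.1 r.e a = 0) (ha' : i.appLE r.V.1 r.U.1 r.e a' = 0) :
    r.cls a ha = r.cls a' ha' := by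
  subst h
  rfl

lemma cls_add {r : ChartPair i} (a b : Γ(X, r.V.1)) (ha : i.appLE r.V.1 r.U.1 r.e a = 0)
    (hb : i.appLE r.V.1 r.U.1 r.e b = 0) (hab : i.appLE r.V.1 r.U.1 r.e (a + b) = 0) :
    r.cls (a + b) hab = r.cls a ha + r.cls b hb := by
  let := (i.appLE r.V.1 r.U.1 r.e).hom.toAlgebra
  exact map_add (kerToH1 (R := Γ(X, r.V.1)) (S := Γ(Z, r.U.1))) ⟨a, ha⟩ ⟨b, hb⟩

lemma cls_smul {r : ChartPair i} (c a : Γ(X, r.V.1)) (ha : i.appLE r.V.1 r.U.1 r.e a = 0)
    (hca : i.appLE r.V.1 r.U.1 r.e (c * a) = 0) :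
    r.cls (c * a) hca = i.appLE r.V.1 r.U.1 r.e c • r.cls a ha := by
  let := (i.appLE r.V.1 r.U.1 r.e).hom.toAlgebra
  exact kerToH1_smul (R := Γ(X, r.V.1)) (S := Γ(Z, r.U.1)) c ⟨a, ha⟩

lemma appLE_res {p q : ChartPair i} (h : q ≤ p) {a : Γ(X, p.V.1)} (ha : i.appLE p.V.1 p.U.1 p.e a = 0) :
    i.appLE q.V.1 q.U.1 q.e (X.presheaf.map (homOfLE h.2).op a) = 0 := by
  have h1 : X.presheaf.map (homOfLE h.2).op ≫ i.appLE q.V.1 q.U.1 q.e =
      i.appLE p.V.1 p.U.1 p.e ≫ Z.presheaf.map (homOfLE h.1).op :=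
    (Scheme.Hom.map_appLE i q.e (homOfLE h.2).op).trans (Scheme.Hom.appLE_map i p.e (homOfLE h.1).op).symm
  refine (congr($h1 a)).trans ?_
  show Z.presheaf.map (homOfLE h.1).op (i.appLE p.V.1 p.U.1 p.e a) = 0
  rw [ha, map_zero]

lemma res_cls {p q : ChartPair i} (h : q ≤ p) (a : Γ(X, p.V.1)) (ha : i.appLE p.V.1 p.U.1 p.e a = 0) :
    res h (p.cls a ha) = q.cls (X.presheaf.map (homOfLE h.2).op a) (appLE_res h ha) := by
  let := (i.appLE p.V.1 p.U.1 p.e).hom.toAlgebra
  let := (i.appLE q.V.1 q.U.1 q.e).hom.toAlgebra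
  let := (i.appLE p.V.1 q.U.1 (h.1.trans p.e)).hom.toAlgebra
  let := (Z.presheaf.map (homOfLE h.1).op).hom.toAlgebra
  let := (X.presheaf.map (homOfLE h.2).op).hom.toAlgebra
  have : IsScalarTower Γ(X, p.V.1) Γ(X, q.V.1) Γ(Z, q.U.1) :=
    IsScalarTower.of_algebraMap_eq' (tower (Scheme.Hom.map_appLE i q.e (homOfLE h.2).op))
  have : IsScalarTower Γ(X, p.V.1) Γ(Z, p.U.1) Γ(Z, q.U.1) :=
    IsScalarTower.of_algebraMap_eq' (tower (Scheme.Hom.appLE_map i p.e (homOfLE h.1).op))
  exact map_kerToH1 (R := Γ(X, p.V.1)) (R' := Γ(X, q.V.1)) (S := Γ(Z, p.U.1)) (S' := Γ(Z, q.U.1))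
    ⟨a, ha⟩ (appLE_res h ha)

end ChartPair

lemma app_idealSect (W : X.Opens) (m : Γ(ClSub.idealMod i.ker, W)) :
    i.app W (OmegaSh.idealSect i.ker W m) = 0 := by
  have h : i.toImage ≫ i.ker.subschemeι = i := i.toImage_imageι
  have h2 : i.appLE W (i ⁻¹ᵁ W) le_rfl =
      i.ker.subschemeι.app W ≫ i.toImage.appLE (i.ker.subschemeι ⁻¹ᵁ W) (i ⁻¹ᵁ W)
        (le_of_le_of_eq (le_of_eq (by conv_lhs => rw [← h])) (Scheme.Hom.comp_preimage _ _ _)) := by
    have h3 : i.appLE W (i ⁻¹ᵁ W) le_rfl =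
        (i.toImage ≫ i.ker.subschemeι).appLE W (i ⁻¹ᵁ W) (le_of_eq (by rw [h])) := by
      simp only [h]
    rw [h3, Scheme.Hom.comp_appLE]
  rw [← Scheme.Hom.app_eq_appLE] at h2
  refine (congr($h2 (OmegaSh.idealSect i.ker W m))).trans ?_
  show i.toImage.appLE _ _ _ (i.ker.subschemeι.app W (OmegaSh.idealSect i.ker W m)) = 0
  rw [Omega57.subschemeι_idealSect, map_zero]

/-- a section of the ideal as an element of a chart -/
noncomputable def sectOn {W : X.Opens} (m : Γ(ClSub.idealMod i.ker, W)) (r : ChartPair i) (hr : r.V.1 ≤ W) :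
    Γ(X, r.V.1) :=
  X.presheaf.map (homOfLE hr).op (OmegaSh.idealSect i.ker W m)

lemma appLE_sectOn {W : X.Opens} (m : Γ(ClSub.idealMod i.ker, W)) (r : ChartPair i) (hr : r.V.1 ≤ W) :
    i.appLE r.V.1 r.U.1 r.e (sectOn i m r hr) = 0 := by
  rw [sectOn, ← CommRingCat.comp_apply, Scheme.Hom.map_appLE]
  simp [Scheme.Hom.appLE, app_idealSect]

lemma exists_toSec {W : X.Opens} (m : Γ(ClSub.idealMod i.ker, W)) (q : PairsIn i (i ⁻¹ᵁ W)) :
    ∃ t : q.1.H1, ∀ (r : ChartPair i) (hr : r ≤ q.1) (hW : r.V.1 ≤ W),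
      ChartPair.res hr t = r.cls (sectOn i m r hW) (appLE_sectOn i m r hW) := by
  refine ChartPair.glue q.1 (fun r => r.V.1 ≤ W) (fun r _ hW => r.cls (sectOn i m r hW) (appLE_sectOn i m r hW))
    (fun r r' _ hW h hW' => ?_) (fun x hx => ⟨⊤, W, trivial, q.2 hx, fun r _ _ hr => hr⟩)
  rw [ChartPair.res_cls]
  refine ChartPair.cls_congr ?_ _ _
  rw [sectOn, sectOn, ← CommRingCat.comp_apply, ← Functor.map_comp]
  rfl

/-- the value of a section of the ideal on a chart pair -/
noncomputable def toVal {W : X.Opens} (m : Γ(ClSub.idealMod i.ker, W)) (q : PairsIn i (i ⁻¹ᵁ W)) : q.1.H1 :=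
  (exists_toSec i m q).choose

lemma res_toVal {W : X.Opens} (m : Γ(ClSub.idealMod i.ker, W)) (q : PairsIn i (i ⁻¹ᵁ W))
    (r : ChartPair i) (hr : r ≤ q.1) (hW : r.V.1 ≤ W) :
    ChartPair.res hr (toVal i m q) = r.cls (sectOn i m r hW) (appLE_sectOn i m r hW) :=
  (exists_toSec i m q).choose_spec r hr hW

lemma toVal_ext {W : X.Opens} (q : PairsIn i (i ⁻¹ᵁ W)) (s t : q.1.H1)
    (h : ∀ (r : ChartPair i) (hr : r ≤ q.1), r.V.1 ≤ W → ChartPair.res hr s = ChartPair.res hr t) : s = t := by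
  refine ChartPair.ext_of_local _ _ _ fun x hx => ?_
  obtain ⟨-, r, hr, -, hxr, -, hrW⟩ := q.1.exists_small hx ⊤ trivial W (q.2 hx)
  exact ⟨r, hr, hxr, h r hr hrW⟩

/-- a section of the ideal gives a section of `H^{-1}` -/
noncomputable def toSec {W : X.Opens} (m : Γ(ClSub.idealMod i.ker, W)) : Sec i (i ⁻¹ᵁ W) :=
  ⟨toVal i m, fun p q h => toVal_ext i q _ _ fun r hr hW => by
    rw [ChartPair.res_res, res_toVal i m p r _ hW, res_toVal i m q r hr hW]⟩

/-- the map `I ⟶ i_* H^{-1}` -/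
noncomputable def idealToH1 : ClSub.idealMod i.ker ⟶ (Scheme.Modules.pushforward i).obj (h1Mod i) :=
  HomOn.toHom
    { app := fun W _ =>
        { toFun := fun m => toSec i m
          map_add' := fun a b => Sec.ext fun q => toVal_ext i q _ _ fun r hr hW => by
            show ChartPair.res hr (toVal i (a + b) q) = ChartPair.res hr (toVal i a q + toVal i b q)
            rw [map_add, res_toVal i _ q r hr hW, res_toVal i _ q r hr hW, res_toVal i _ q r hr hW,
              ← ChartPair.cls_add _ _ _ _ (by rw [map_add, appLE_sectOn, appLE_sectOn, add_zero])]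
            exact ChartPair.cls_congr (by simp only [sectOn, map_add]) _ _
          map_smul' := fun c a => Sec.ext fun q => toVal_ext i q _ _ fun r hr hW => by
            show ChartPair.res hr (toVal i (c • a) q) =
              ChartPair.res hr (Z.presheaf.map (homOfLE q.2).op (i.app W c) • toVal i a q)
            rw [ChartPair.res_smul, res_toVal i _ q r hr hW, res_toVal i _ q r hr hW,
              ChartPair.cls_congr (show sectOn i (c • a) r hW =
                X.presheaf.map (homOfLE hW).op c * sectOn i a r hW by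
                  rw [sectOn, Omega57.idealSect_smul, map_mul]; rfl) _
                (by rw [map_mul, appLE_sectOn, mul_zero]), ChartPair.cls_smul _ _ (appLE_sectOn i a r hW)]
            congr 1
            rw [← CommRingCat.comp_apply, ← CommRingCat.comp_apply, ← CommRingCat.comp_apply,
              Scheme.Hom.map_appLE, ← Functor.map_comp]
            rfl }
      app_res := fun {W W'} _ hle m => Sec.ext fun q => toVal_ext i q _ _ fun r hr hW => by
        show ChartPair.res hr (toVal i (res (ClSub.idealMod i.ker) hle m) q) =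
          ChartPair.res hr (toVal i m ⟨q.1, q.2.trans (i.preimage_mono hle)⟩)
        rw [res_toVal i _ q r hr hW, res_toVal i _ ⟨q.1, q.2.trans (i.preimage_mono hle)⟩ r hr (hW.trans hle)]
        refine ChartPair.cls_congr ?_ _ _
        simp only [sectOn]
        have h1 : OmegaSh.idealSect i.ker W' (res (ClSub.idealMod i.ker) hle m) =
            X.presheaf.map (homOfLE hle).op (OmegaSh.idealSect i.ker W m) := by
          rw [OmegaSh.idealSect_apply, OmegaSh.idealModι_app_map]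
          rfl
        rw [h1, ← CommRingCat.comp_apply, ← Functor.map_comp]
        rfl }

/-- the comparison map `i^* I ⟶ H^{-1}` -/
noncomputable def conormalToH1 : Omega.conormal i ⟶ h1Mod i :=
  ((Scheme.Modules.pullbackPushforwardAdjunction i).homEquiv _ _).symm (idealToH1 i)

lemma conormalToH1_conormalSect (W : X.Opens) (m : Γ(ClSub.idealMod i.ker, W)) :
    (conormalToH1 i).app (i ⁻¹ᵁ W) (OmegaSh.conormalSect i W m) = toSec i m := by
  have h := ((Scheme.Modules.pullbackPushforwardAdjunction i).homEquiv_unit _ _ (conormalToH1 i)).symm.trans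
    (Equiv.apply_symm_apply _ (idealToH1 i))
  exact congr(Scheme.Modules.Hom.app $h W m)

end Groth.Agent.FlatMor67
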