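import Groth.Agent.FlatMor67.EmbPush
import Groth.Agent.RelPCSch41.PushPC

/-!
Pseudo-coherence and direct image along a topologically closed embedding with pseudo-coherent structure sheaf.
-/

set_option autoImplicit false
set_option backward.isDefEq.respectTransparency false
set_option linter.style.haveILetI false
set_option linter.unusedSectionVars false

noncomputable section

universe u

open CategoryTheory Limits AlgebraicGeometry TopologicalSpace DerivedCategory Pretriangulated
open Groth.Agent.DCX42 Groth.Agent.RelPCSch41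
attribute [local instance] HasDerivedCategory.standard

namespace Groth.Agent.FlatMor67.Emb

variable {W Z : Scheme.{u}}

/-- The direct image of the structure sheaf is pseudo-coherent. -/
def HasPC (s : W ⟶ Z) [CEmb s] : Prop :=
  ∀ k : ℤ, DCoh.IsPseudoCoherentD k ((pD s).obj ((singleFunctor W.Modules 0).obj (Coh.structureModule W)))

/-- Pseudo-coherence of a finite coproduct of the structure sheaf after direct image. -/
theorem HasPC.free {s : W ⟶ Z} [CEmb s] (hs : HasPC s) (n : ℕ) (b k : ℤ) :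
    DCoh.IsPseudoCoherentD k ((pD s).obj ((singleFunctor W.Modules b).obj (FlatMod.freeMod W n))) := by
  suffices H : ∀ (n : ℕ) (k : ℤ),
      DCoh.IsPseudoCoherentD k ((pD s).obj ((singleFunctor W.Modules 0).obj (FlatMod.freeMod W n))) by
    exact isPC_of_iso ((((pD s).commShiftIso (-b)).app _).symm ≪≫ (pD s).mapIso
      (((singleFunctors W.Modules).shiftIso (-b) b 0 (by omega)).app _))
      (isPC_shift (H n (k - b)) (-b) (by omega))
  clear b k n
  intro n
  induction n with
  | zero =>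
    intro k
    have hz : IsZero (FlatMod.freeMod W 0) :=
      (IsZero.iff_id_eq_zero _).2 (Sigma.hom_ext _ _ fun i => i.elim0)
    have hz' := (pD s).map_isZero ((singleFunctor W.Modules 0).map_isZero hz)
    exact isPC_of_isLE ((DerivedCategory.isLE_iff _ _).2 fun i _ => (homologyFunctor _ i).map_isZero hz')
  | succ n ih =>
    intro k
    let G := singleFunctor W.Modules 0 ⋙ pD s
    have e1 : FlatMod.freeMod W 1 ≅ Coh.structureModule W :=
      { hom := Sigma.desc fun _ => 𝟙 _
        inv := Sigma.ι (fun _ : Fin 1 => Coh.structureModule W) 0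
        hom_inv_id := Sigma.hom_ext _ _ fun i => by simp [Fin.fin_one_eq_zero i]
        inv_hom_id := by simp }
    have h1 : DCoh.IsPseudoCoherentD k (G.obj (FlatMod.freeMod W 1)) := isPC_of_iso (G.mapIso e1).symm (hs k)
    haveI : PreservesBinaryBiproducts G := preservesBinaryBiproducts_of_preservesBiproducts G
    refine isPC_of_iso ((G.mapBiprod _ _).symm ≪≫ G.mapIso (freeSum n 1)) ?_
    exact isPC₂ _ (binaryBiproductTriangle_distinguished _ _) (ih k) h1

theorem HasPC.restrict {s : W ⟶ Z} [CEmb s] (hs : HasPC s) (V : Z.Opens) :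
    HasPC (s ∣_ V) := fun k =>
  isPC_of_iso ((pDRestr s V).app _ ≪≫ (pD (s ∣_ V)).mapIso
    (((Scheme.Modules.restrictFunctor (s ⁻¹ᵁ V).ι).mapDerivedCategorySingleFunctor 0).app _ ≪≫
      (singleFunctor _ 0).mapIso (Scheme.Modules.restrictUnitIso (s ⁻¹ᵁ V).ι)))
    (isPC_restrict (hs k) V)

/-- The comparison is local on the target. -/
theorem iff_of_local (s : W ⟶ Z) [CEmb s] {m : ℤ} {K : DCoh.D W}
    (h : ∀ w : W, ∃ V : Z.Opens, s w ∈ V ∧
      (DCoh.IsPseudoCoherentD m ((pD (s ∣_ V)).obj ((resD (s ⁻¹ᵁ V).ι).obj K)) ↔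
        DCoh.IsPseudoCoherentD m ((resD (s ⁻¹ᵁ V).ι).obj K))) :
    DCoh.IsPseudoCoherentD m ((pD s).obj K) ↔ DCoh.IsPseudoCoherentD m K := by
  constructor
  · refine fun hp => isPC_of_local fun w => ?_
    obtain ⟨V, hw, hV⟩ := h w
    exact ⟨s ⁻¹ᵁ V, hw, hV.1 (isPC_of_iso ((pDRestr s V).app K) (isPC_restrict hp V))⟩
  · refine fun hK => isPC_of_local fun z => ?_
    by_cases hz : z ∈ Set.range s
    · obtain ⟨w, rfl⟩ := hz
      obtain ⟨V, hw, hV⟩ := h w
      exact ⟨V, hw, isPC_of_iso ((pDRestr s V).app K).symm (hV.2 (isPC_restrict hK _))⟩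
    · let V : Z.Opens := ⟨(Set.range s)ᶜ, (CEmb.isClosedEmbedding (s := s)).isClosed_range.isOpen_compl⟩
      refine ⟨V, hz, isPC_of_iso ((pDRestr s V).app K).symm (isPC_of_isLE ((isLE_push_iff _ _ _).2 ?_))⟩
      haveI : IsEmpty (s ⁻¹ᵁ V : W.Opens) := ⟨fun x => x.2 ⟨x.1, rfl⟩⟩
      exact (DerivedCategory.isLE_iff _ _).2 fun i _ => isZero_of_isEmpty _

theorem isPC_push_iff_of_isLE (d : ℕ) :
    ∀ {W Z : Scheme.{u}} {s : W ⟶ Z} [CEmb s], HasPC s → ∀ (m : ℤ) (K : DCoh.D W),
      K.IsLE (m - 1 + d) → (DCoh.IsPseudoCoherentD m ((pD s).obj K) ↔ DCoh.IsPseudoCoherentD m K) := by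
  induction d with
  | zero =>
    intro W Z s _ hs m K h
    exact iff_of_true (isPC_of_isLE ((isLE_push_iff _ _ _).2 (by simpa using h))) (isPC_of_isLE (by simpa using h))
  | succ d ih =>
    intro W Z s _ hs m K h
    have hb : K.IsLE (m + d) := by convert h using 1; push_cast; omega
    suffices H : CohB1.IsFT (DCoh.HD K (m + d)) →
        (DCoh.IsPseudoCoherentD m ((pD s).obj K) ↔ DCoh.IsPseudoCoherentD m K) by
      refine ⟨fun hp => (H ?_).1 hp, fun hK => (H ?_).2 hK⟩
      · exact isFT_of_push s _ (isFT_of_iso' (pHD s K _) (isFT_HD (isPC_mono (by omega) hp) fun i hi =>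
          haveI := (isLE_push_iff s K _).2 hb
          DerivedCategory.isZero_of_isLE ((pD s).obj K) _ i hi))
      · exact isFT_HD (isPC_mono (by omega) hK) fun i hi => haveI := hb; DerivedCategory.isZero_of_isLE K _ i hi
    intro hft
    refine iff_of_local s fun w => ?_
    obtain ⟨A, n, α, hw, hα⟩ := exists_top_map hb hft w
    refine ⟨big s A, show w ∈ s ⁻¹ᵁ big s A by rw [preimage_big]; exact hw, ?_⟩
    have hs' := hs.restrict (big s A)
    let g := W.homOfLE (preimage_big s A).le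
    let K' := (resD (s ⁻¹ᵁ big s A).ι).obj K
    let α' := (resD g).map α ≫ (resDComp g A.ι).hom.app K ≫ (resDCongr (W.homOfLE_ι _)).hom.app K
    obtain ⟨C, p, q, hT⟩ := distinguished_cocone_triangle α'
    obtain ⟨e⟩ := isFree_restrict (Iso.refl (FlatMod.freeMod (A : Scheme.{u}) n)) g
    let eE := ((Scheme.Modules.restrictFunctor g).mapDerivedCategorySingleFunctor (m + d)).app _ ≪≫
      (singleFunctor _ (m + d)).mapIso e
    have hE : ∀ k, DCoh.IsPseudoCoherentD k ((resD g).obj ((singleFunctor _ (m + d)).obj (FlatMod.freeMod (A : Scheme.{u}) n))) :=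
      fun k => isPC_of_iso eE.symm (isPC_of_isPerfect (isPerfect_single (QC70.isFinLocFree_freeMod _ n) _) k)
    have hE' : ∀ k, DCoh.IsPseudoCoherentD k ((pD (s ∣_ big s A)).obj
        ((resD g).obj ((singleFunctor _ (m + d)).obj (FlatMod.freeMod (A : Scheme.{u}) n)))) :=
      fun k => isPC_of_iso ((pD _).mapIso eE).symm (hs'.free n _ k)
    have hpc : PCMap (m + d) α' := PCMap.comp (PCMap.map _ ⟨fun i hi => by
        have hK : IsZero ((homologyFunctor _ i).obj ((resD A.ι).obj K)) :=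
          haveI := isLE_map (Scheme.Modules.restrictFunctor A.ι) hb
          DerivedCategory.isZero_of_isLE _ (m + d) i hi
        exact (DerivedCategory.isZero_of_isLE _ (m + d) i hi).isIso hK _, hα⟩)
      (PCMap.comp (PCMap.of_isIso _ _) (PCMap.of_isIso _ _))
    have hC := ih hs' m C (by convert (pcMap_iff_isLE hT (m + d)).1 hpc using 1; omega)
    have hT' := (pD (s ∣_ big s A)).map_distinguished _ hT
    exact ⟨fun hp => isPC₂ _ hT (hE m) (hC.1 (isPC₃ _ hT' (hE' _) hp)),
      fun hK => isPC₂ _ hT' (hE' m) (hC.2 (isPC₃ _ hT (hE _) hK))⟩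

/-- Pseudo-coherence may be tested after such a direct image. -/
theorem isPC_push_iff {s : W ⟶ Z} [CEmb s] (hs : HasPC s) (m : ℤ) (K : DCoh.D W) :
    DCoh.IsPseudoCoherentD m ((pD s).obj K) ↔ DCoh.IsPseudoCoherentD m K := by
  suffices H : ∀ w : W, (DCoh.IsPseudoCoherentD m ((pD s).obj K) ∨ DCoh.IsPseudoCoherentD m K) →
      ∃ V : Z.Opens, s w ∈ V ∧
      (DCoh.IsPseudoCoherentD m ((pD (s ∣_ V)).obj ((resD (s ⁻¹ᵁ V).ι).obj K)) ↔
        DCoh.IsPseudoCoherentD m ((resD (s ⁻¹ᵁ V).ι).obj K)) from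
    ⟨fun h => (iff_of_local s fun w => H w (Or.inl h)).1 h, fun h => (iff_of_local s fun w => H w (Or.inr h)).2 h⟩
  intro w h
  obtain ⟨V, n, hw, hmn, hn⟩ : ∃ (V : Z.Opens) (n : ℤ), s w ∈ V ∧ m ≤ n ∧ ((resD (s ⁻¹ᵁ V).ι).obj K).IsLE n := by
    rcases h with h | h
    · obtain ⟨V, n, hw, hmn, hn⟩ := exists_isLE_nhd h (s w)
      refine ⟨V, n, hw, hmn, (isLE_push_iff (s ∣_ V) _ n).1 ?_⟩
      haveI : TStructure.t.IsLE ((pD s ⋙ resD V.ι).obj K) n := hn
      exact (TStructure.t.isLE_of_iso ((pDRestr s V).app K) n)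
    · obtain ⟨A, n, hw, hmn, hn⟩ := exists_isLE_nhd h w
      refine ⟨big s A, n, show w ∈ s ⁻¹ᵁ big s A by rw [preimage_big]; exact hw, hmn, ?_⟩
      let g := W.homOfLE (preimage_big s A).le
      haveI : TStructure.t.IsLE ((resD A.ι ⋙ resD g).obj K) n := isLE_map (Scheme.Modules.restrictFunctor g) hn
      exact TStructure.t.isLE_of_iso ((resDComp g A.ι).app K ≪≫ (resDCongr (W.homOfLE_ι _)).app K) n
  refine ⟨V, hw, isPC_push_iff_of_isLE (n + 1 - m).toNat (hs.restrict V) m _ ?_⟩
  convert hn using 1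
  omega

end Groth.Agent.FlatMor67.Emb
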