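import Groth.Agent.RelPCSch41.PushD
import Mathlib.Topology.LocalAtTarget

/-!
Direct image along morphisms which are topologically closed embeddings.
-/

set_option autoImplicit false
set_option backward.isDefEq.respectTransparency false
set_option linter.style.haveILetI false
set_option linter.unusedSectionVars false

noncomputable section

universe u

open CategoryTheory Limits AlgebraicGeometry TopologicalSpace DerivedCategory Opposite
open Groth.Agent.DCX42 Groth.Agent.QC70
attribute [local instance] HasDerivedCategory.standard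

namespace Groth.Agent.FlatMor67.Emb

/-- A morphism of schemes which is topologically a closed embedding. -/
class CEmb {W Z : Scheme.{u}} (s : W ⟶ Z) : Prop where
  isClosedEmbedding : Topology.IsClosedEmbedding (s : W → Z)

variable {W Z Z' : Scheme.{u}}

instance cemb_of_isClosedImmersion (s : W ⟶ Z) [IsClosedImmersion s] : CEmb s := ⟨s.isClosedEmbedding⟩

instance cemb_comp (s : W ⟶ Z) (t : Z ⟶ Z') [CEmb s] [CEmb t] : CEmb (s ≫ t) :=
  ⟨by rw [Scheme.Hom.comp_base]; exact (CEmb.isClosedEmbedding (s := t)).comp (CEmb.isClosedEmbedding (s := s))⟩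

instance cemb_restrict (s : W ⟶ Z) [h : CEmb s] (V : Z.Opens) : CEmb (s ∣_ V) :=
  ⟨by rw [morphismRestrict_base]; exact h.isClosedEmbedding.restrictPreimage _⟩

section Basic

variable (s : W ⟶ Z) [hs : CEmb s]

/-- The largest open with given preimage. -/
def big (V : W.Opens) : Z.Opens :=
  ⟨(s '' (V : Set W)ᶜ)ᶜ, (hs.isClosedEmbedding.isClosedMap _ V.2.isClosed_compl).isOpen_compl⟩

theorem preimage_big (V : W.Opens) : s ⁻¹ᵁ big s V = V := by
  ext z
  constructor
  · intro h
    by_contra hz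
    exact h ⟨z, hz, rfl⟩
  · rintro hz ⟨y, hy, hyz⟩
    exact hy (hs.isClosedEmbedding.injective hyz ▸ hz)

/-- The complement of the image. -/
def compl : Z.Opens := ⟨(Set.range s)ᶜ, hs.isClosedEmbedding.isClosed_range.isOpen_compl⟩

theorem preimage_compl : s ⁻¹ᵁ compl s = ⊥ := eq_bot_iff.2 fun z hz => hz ⟨z, rfl⟩

theorem subsingleton_of_le_compl (M : W.Modules) {V : Z.Opens} (hV : V ≤ compl s) :
    Subsingleton Γ(M, s ⁻¹ᵁ V) :=
  ⟨fun a b => section_ext M a b fun _ hp => absurd ⟨_, rfl⟩ (hV hp)⟩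

theorem preservesEpimorphisms_push : (Scheme.Modules.pushforward s).PreservesEpimorphisms := by
  refine ⟨fun {M N} φ _ => QC70.epi_of_locally_surjective _ fun V y q hq => ?_⟩
  let y' : Γ(N, s ⁻¹ᵁ V) := y
  by_cases hr : q ∈ Set.range s
  · obtain ⟨z, rfl⟩ := hr
    obtain ⟨T, hT, hm⟩ := GSS45.exists_preimage (O := W.sheaf) φ (s ⁻¹ᵁ V) y'
    obtain ⟨A, g, hg, hzA⟩ := hT z hq
    obtain ⟨m, hm⟩ := hm g hg
    refine ⟨big s A ⊓ V, inf_le_right, ?_, ?_, ?_⟩
    · exact res (M := M) (U := A) (V := s ⁻¹ᵁ (big s A ⊓ V))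
        ((s.preimage_mono inf_le_left).trans (preimage_big s A).le) m
    · refine ⟨?_, hq⟩
      change z ∈ s ⁻¹ᵁ big s A
      rwa [preimage_big]
    · change φ.app _ (res M _ m) = res N (s.preimage_mono inf_le_right) y'
      rw [app_res]
      refine (congrArg (res N _) (show φ.app A m = res N g.le y' from hm)).trans ?_
      exact res_res _ _ _
  · refine ⟨V ⊓ compl s, inf_le_left, (0 : Γ(M, s ⁻¹ᵁ (V ⊓ compl s))), ⟨hq, hr⟩, ?_⟩
    exact @Subsingleton.elim _ (subsingleton_of_le_compl s N inf_le_right) _ _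

instance preservesFiniteColimits_push : PreservesFiniteColimits (Scheme.Modules.pushforward s) := by
  have := preservesEpimorphisms_push s
  refine (Functor.preservesFiniteColimits_iff_forall_exact_map_and_epi _).mpr fun S hS => ?_
  have := hS.epi_g
  exact ⟨(((Functor.preservesFiniteLimits_iff_forall_exact_map_and_mono _).mp inferInstance) S hS).1,
    inferInstance⟩

include hs in
theorem faithful_push : (Scheme.Modules.pushforward s).Faithful := ⟨fun {M N} φ ψ h => by
  refine Scheme.Modules.hom_ext _ _ fun V => ?_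
  ext x
  have e := preimage_big s V
  have h1 : φ.app _ (res M e.le x) = ψ.app _ (res M e.le x) :=
    congrArg (fun f : (Scheme.Modules.pushforward s).obj M ⟶ (Scheme.Modules.pushforward s).obj N =>
      f.app (big s V) (show Γ((Scheme.Modules.pushforward s).obj M, big s V) from res M e.le x)) h
  have h2 := congrArg (res N e.ge) h1
  rwa [← app_res, ← app_res, res_res, res_self] at h2⟩

include hs in
theorem isZero_of_isZero_push {M : W.Modules}
    (h : IsZero ((Scheme.Modules.pushforward s).obj M)) : IsZero M := by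
  haveI := faithful_push s
  rw [IsZero.iff_id_eq_zero] at h ⊢
  exact (Scheme.Modules.pushforward s).map_injective (by rw [CategoryTheory.Functor.map_id, h, Functor.map_zero])

include hs in
/-- Finite type is reflected by direct image. -/
theorem isFT_of_push (M : W.Modules)
    (h : CohB1.IsFT ((Scheme.Modules.pushforward s).obj M)) : CohB1.IsFT M := by
  refine RelPCSch41.isFT_of_local_epi' M fun w => ?_
  obtain ⟨V, n, π, hw, hπ⟩ := exists_local_free_epi _ h (s w)
  haveI := hπ
  let adj := Scheme.Modules.pullbackPushforwardAdjunction (s ∣_ V)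
  let π' := π ≫ (GSS45.RelExt.pushRestrictIso s V).hom.app M
  let σ := (adj.homEquiv _ _).symm π'
  haveI := faithful_push (s ∣_ V)
  haveI : Epi ((Scheme.Modules.pushforward (s ∣_ V)).map σ) := by
    have h1 : adj.unit.app _ ≫ (Scheme.Modules.pushforward (s ∣_ V)).map σ = π' :=
      ((adj.homEquiv_unit _ _ σ).symm.trans ((adj.homEquiv _ _).apply_symm_apply π'))
    haveI : Epi π' := epi_comp _ _
    exact epi_of_epi_fac h1
  exact ⟨s ⁻¹ᵁ V, _, σ, hw, isFinLocFree_pullback _ (QC70.isFinLocFree_freeMod _ n),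
    (Scheme.Modules.pushforward (s ∣_ V)).epi_of_epi_map inferInstance⟩

end Basic

/-- Direct image on derived categories. -/
abbrev pD (s : W ⟶ Z) [CEmb s] : DCoh.D W ⥤ DCoh.D Z :=
  (Scheme.Modules.pushforward s).mapDerivedCategory

/-- Direct image of complexes. -/
abbrev pC (s : W ⟶ Z) : CochainComplex W.Modules ℤ ⥤ CochainComplex Z.Modules ℤ :=
  (Scheme.Modules.pushforward s).mapHomologicalComplex (ComplexShape.up ℤ)

/-- Direct image of the image of a complex. -/
def pQ (s : W ⟶ Z) [CEmb s] (F : CochainComplex W.Modules ℤ) :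
    (pD s).obj (Q.obj F) ≅ Q.obj ((pC s).obj F) :=
  (Scheme.Modules.pushforward s).mapDerivedCategoryFactors.app F

/-- Direct image along equal morphisms. -/
def pDCongr {s t : W ⟶ Z} (h : s = t) [CEmb s] [CEmb t] : pD s ≅ pD t :=
  letI : Localization.Lifting Q (qis W) (pC s ⋙ Q) (pD s) :=
    ⟨(Scheme.Modules.pushforward s).mapDerivedCategoryFactors⟩
  letI : Localization.Lifting Q (qis W) (pC t ⋙ Q) (pD t) :=
    ⟨(Scheme.Modules.pushforward t).mapDerivedCategoryFactors⟩
  Localization.liftNatIso Q (qis W) (pC s ⋙ Q) (pC t ⋙ Q) _ _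
    (Functor.isoWhiskerRight (NatIso.mapHomologicalComplex (Scheme.Modules.pushforwardCongr h) _) Q)

/-- Direct image along a composite. -/
def pDComp (s : W ⟶ Z) (t : Z ⟶ Z') [CEmb s] [CEmb t] :
    pD s ⋙ pD t ≅ pD (s ≫ t) :=
  let e₁ := (Scheme.Modules.pushforward s).mapDerivedCategoryFactors
  let e₂ := (Scheme.Modules.pushforward t).mapDerivedCategoryFactors
  letI : Localization.Lifting Q (qis W) ((pC s ⋙ pC t) ⋙ Q) (pD s ⋙ pD t) :=
    ⟨(Functor.associator _ _ _).symm ≪≫ Functor.isoWhiskerRight e₁ _ ≪≫ Functor.associator _ _ _ ≪≫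
      Functor.isoWhiskerLeft _ e₂ ≪≫ (Functor.associator _ _ _).symm⟩
  letI : Localization.Lifting Q (qis W) (pC (s ≫ t) ⋙ Q) (pD (s ≫ t)) :=
    ⟨(Scheme.Modules.pushforward (s ≫ t)).mapDerivedCategoryFactors⟩
  Localization.liftNatIso Q (qis W) ((pC s ⋙ pC t) ⋙ Q) (pC (s ≫ t) ⋙ Q) _ _
    (Functor.isoWhiskerRight (Functor.mapHomologicalComplexCompIso (Scheme.Modules.pushforwardComp s t) _) Q)

/-- Direct image commutes with restriction to opens. -/
def pDRestr (s : W ⟶ Z) [CEmb s] (V : Z.Opens) :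
    pD s ⋙ resD V.ι ≅ resD (s ⁻¹ᵁ V).ι ⋙ pD (s ∣_ V) :=
  let e₁ := (Scheme.Modules.pushforward s).mapDerivedCategoryFactors
  let e₂ := (Scheme.Modules.restrictFunctor V.ι).mapDerivedCategoryFactors
  let e₃ := (Scheme.Modules.restrictFunctor (s ⁻¹ᵁ V).ι).mapDerivedCategoryFactors
  let e₄ := (Scheme.Modules.pushforward (s ∣_ V)).mapDerivedCategoryFactors
  letI : Localization.Lifting Q (qis W) ((pC s ⋙ resCx V.ι) ⋙ Q) (pD s ⋙ resD V.ι) :=
    ⟨(Functor.associator _ _ _).symm ≪≫ Functor.isoWhiskerRight e₁ _ ≪≫ Functor.associator _ _ _ ≪≫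
      Functor.isoWhiskerLeft _ e₂ ≪≫ (Functor.associator _ _ _).symm⟩
  letI : Localization.Lifting Q (qis W) ((resCx (s ⁻¹ᵁ V).ι ⋙ pC (s ∣_ V)) ⋙ Q)
      (resD (s ⁻¹ᵁ V).ι ⋙ pD (s ∣_ V)) :=
    ⟨(Functor.associator _ _ _).symm ≪≫ Functor.isoWhiskerRight e₃ _ ≪≫ Functor.associator _ _ _ ≪≫
      Functor.isoWhiskerLeft _ e₄ ≪≫ (Functor.associator _ _ _).symm⟩
  Localization.liftNatIso Q (qis W) ((pC s ⋙ resCx V.ι) ⋙ Q) ((resCx (s ⁻¹ᵁ V).ι ⋙ pC (s ∣_ V)) ⋙ Q) _ _
    (Functor.isoWhiskerRight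
      ((Functor.mapHomologicalComplexCompIso (Iso.refl (Scheme.Modules.pushforward s ⋙ Scheme.Modules.restrictFunctor V.ι)) _) ≪≫
        (Functor.mapHomologicalComplexCompIso (GSS45.RelExt.pushRestrictIso s V).symm _).symm) Q)

/-- Cohomology of a direct image. -/
def pHD (s : W ⟶ Z) [CEmb s] (K : DCoh.D W) (i : ℤ) :
    DCoh.HD ((pD s).obj K) i ≅ (Scheme.Modules.pushforward s).obj (DCoh.HD K i) :=
  (DerivedCategory.homologyFunctor Z.Modules i).mapIso
      ((pD s).mapIso (rep K).symm ≪≫ pQ s (Q.objPreimage K)) ≪≫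
    (DerivedCategory.homologyFunctorFactors Z.Modules i).app _ ≪≫
    ShortComplex.mapHomologyIso ((Q.objPreimage K).sc i) (Scheme.Modules.pushforward s) ≪≫
    (Scheme.Modules.pushforward s).mapIso (((DerivedCategory.homologyFunctorFactors W.Modules i).app _).symm ≪≫
      (DerivedCategory.homologyFunctor W.Modules i).mapIso (rep K))

theorem isLE_push_iff (s : W ⟶ Z) [CEmb s] (K : DCoh.D W) (n : ℤ) :
    ((pD s).obj K).IsLE n ↔ K.IsLE n := by
  rw [isLE_iff, isLE_iff]
  refine forall₂_congr fun i _ => ⟨fun h => isZero_of_isZero_push s (h.of_iso (pHD s K i).symm), fun h => ?_⟩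
  exact ((Scheme.Modules.pushforward s).map_isZero h).of_iso (pHD s K i)

/-- For exact direct images the derived direct image is the termwise one. -/
theorem nonempty_Rpush_iso (s : W ⟶ Z) [CEmb s] [DCoh.HasRpush s] (K : DCoh.D W) :
    Nonempty ((DCoh.Rpush s).obj K ≅ (pD s).obj K) := by
  haveI : ((Scheme.Modules.pushforward s).mapDerivedCategory).IsRightDerivedFunctor
      (Scheme.Modules.pushforward s).mapDerivedCategoryFactorsh.inv
      (HomotopyCategory.quasiIso W.Modules (ComplexShape.up ℤ)) :=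
    Functor.isRightDerivedFunctor_of_inverts _ (Scheme.Modules.pushforward s).mapDerivedCategory
      (Scheme.Modules.pushforward s).mapDerivedCategoryFactorsh
  exact ⟨(Functor.rightDerivedUnique (DCoh.Rpush s) (pD s)
    ((DCoh.pushKh s).totalRightDerivedUnit DerivedCategory.Qh (HomotopyCategory.quasiIso W.Modules (ComplexShape.up ℤ)))
    (Scheme.Modules.pushforward s).mapDerivedCategoryFactorsh.inv
    (HomotopyCategory.quasiIso W.Modules (ComplexShape.up ℤ))).app K⟩

end Groth.Agent.FlatMor67.Emb
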