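import Mathlib.RingTheory.AdjoinRoot
import Mathlib.RingTheory.Flat.Stability
import Mathlib.RingTheory.FinitePresentation
import Mathlib.RingTheory.Finiteness.Nilpotent

/-!
Adjoining nilpotent variables: a finite free extension with a retraction having nil kernel.
-/

set_option autoImplicit false
set_option linter.style.haveILetI false

universe u

namespace Groth.Agent.FlatMor67.NilExt

open Polynomial

theorem exists_nil_ext {R Q B : Type u} [CommRing R] [CommRing Q] [CommRing B] [Algebra R Q] [Algebra R B]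
    [Module.Flat R Q] [Algebra.FinitePresentation R Q] (φ : Q →ₐ[R] B) (s : Finset B)
    (hs : ∀ b ∈ s, IsNilpotent b) :
    ∃ (P : Type u) (_ : CommRing P) (_ : Algebra R P) (_ : Algebra Q P) (_ : IsScalarTower R Q P) (ψ : P →ₐ[R] B),
      Module.Flat R P ∧ Algebra.FinitePresentation R P ∧ Module.Finite Q P ∧ Module.Free Q P ∧
      ψ.toRingHom.comp (algebraMap Q P) = φ.toRingHom ∧ (∀ b ∈ s, b ∈ ψ.range) ∧
      ∃ r : P →+* Q, r.comp (algebraMap Q P) = RingHom.id Q ∧ ∀ x, r x = 0 → IsNilpotent x := by
  classical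
  induction s using Finset.induction_on with
  | empty =>
    exact ⟨Q, inferInstance, inferInstance, Algebra.id Q, IsScalarTower.right, φ, inferInstance, inferInstance,
      inferInstance, inferInstance, RingHom.comp_id _, fun b hb => absurd hb (Finset.notMem_empty b),
      RingHom.id Q, RingHom.comp_id _, fun x hx => by rw [RingHom.id_apply] at hx; exact hx ▸ IsNilpotent.zero⟩
  | insert b t hbt ih =>
    obtain ⟨P, iP, iRP, iQP, iT, ψ, hfl, hfp, hfin, hfree, hψ, hrange, r, hr, hrn⟩ :=
      ih fun c hc => hs c (Finset.mem_insert_of_mem hc)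
    obtain ⟨N, hN⟩ := hs b (Finset.mem_insert_self b t)
    have hN' : b ^ (N + 1) = 0 := by rw [pow_succ, hN, zero_mul]
    let f : P[X] := X ^ (N + 1)
    have hf : f.Monic := monic_X_pow _
    haveI := hf.free_adjoinRoot
    haveI := hf.finite_adjoinRoot
    have h1 : f.eval₂ ψ.toRingHom b = 0 := by simp [f, hN']
    have h2 : f.eval₂ r 0 = 0 := by simp [f]
    refine ⟨AdjoinRoot f, inferInstance, inferInstance, inferInstance, inferInstance,
      AdjoinRoot.liftAlgHom f ψ b h1, Module.Flat.trans R P _, inferInstance, Module.Finite.trans P _,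
      Module.Free.trans (S := P), ?_, fun c hc => ?_, AdjoinRoot.lift r 0 h2, ?_, fun x hx => ?_⟩
    · refine RingHom.ext fun q => ?_
      rw [← hψ]
      simp [IsScalarTower.algebraMap_apply Q P (AdjoinRoot f), AdjoinRoot.algebraMap_eq]
    · rcases Finset.mem_insert.1 hc with rfl | hc
      · exact ⟨AdjoinRoot.root f, by simp⟩
      · obtain ⟨y, rfl⟩ := hrange c hc
        exact ⟨AdjoinRoot.of f y, by simp⟩
    · refine RingHom.ext fun q => ?_
      rw [← hr]
      simp [IsScalarTower.algebraMap_apply Q P (AdjoinRoot f), AdjoinRoot.algebraMap_eq]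
    · obtain ⟨p, rfl⟩ := AdjoinRoot.mk_surjective x
      rw [AdjoinRoot.lift_mk, eval₂_at_zero] at hx
      have hroot : IsNilpotent (AdjoinRoot.root f) := ⟨N + 1, by
        rw [← AdjoinRoot.mk_X, ← map_pow]; exact AdjoinRoot.mk_self⟩
      rw [← X_mul_divX_add p, map_add, map_mul, AdjoinRoot.mk_X, AdjoinRoot.mk_C]
      exact (Commute.all _ _).isNilpotent_add ((Commute.all _ _).isNilpotent_mul_right hroot) ((hrn _ hx).map _)

end Groth.Agent.FlatMor67.NilExt
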