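import Groth.Agent.RelPCSch41.Basic
import Groth.Agent.RelPCSch41.PCTilde
import Groth.Agent.RelPC41.Basic
import Groth.Agent.DCX42.TildeEq
import Groth.Prelude.Def_DerSch2

/-!
Direct image along a closed immersion of spectra is restriction of scalars, and the ring-level
criterion for relative pseudo-coherence.
-/

set_option autoImplicit false
set_option backward.isDefEq.respectTransparency.types false
set_option linter.style.haveILetI false
set_option linter.unusedSectionVars false
set_option maxHeartbeats 800000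

noncomputable section

universe u

open CategoryTheory Limits AlgebraicGeometry TopologicalSpace DerivedCategory Opposite
open Groth.Agent.DCX42 Groth.Agent.RelPCSch41
attribute [local instance] HasDerivedCategory.standard

namespace Groth.Agent.FlatMor67.TildePush

variable {R S : CommRingCat.{u}}

/-- Restriction of scalars followed by tilde is tilde followed by direct image. -/
def pushTildeIso (φ : R ⟶ S) [QuasiCompact (Spec.map φ)] [QuasiSeparated (Spec.map φ)] :
    ModuleCat.restrictScalars φ.hom ⋙ tilde.functor R ≅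
      tilde.functor S ⋙ Scheme.Modules.pushforward (Spec.map φ) :=
  haveI : ∀ M, IsIso ((Functor.whiskerLeft (tilde.functor S ⋙ Scheme.Modules.pushforward (Spec.map φ))
      (tilde.adjunction (R := R)).counit).app M) := fun M => by
    haveI : ((Scheme.Modules.pushforward (Spec.map φ)).obj ((tilde.functor S).obj M)).IsQuasicoherent :=
      QCqs72.isQuasicoherent_pushforward (M := tilde M) (Spec.map φ)
    exact Scheme.Modules.isIso_fromTildeΓ_of_isQuasicoherent
      ((Scheme.Modules.pushforward (Spec.map φ)).obj ((tilde.functor S).obj M))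
  haveI := NatIso.isIso_of_isIso_app (Functor.whiskerLeft (tilde.functor S ⋙ Scheme.Modules.pushforward (Spec.map φ))
      (tilde.adjunction (R := R)).counit)
  Functor.isoWhiskerRight ((Functor.leftUnitor _).symm ≪≫
      Functor.isoWhiskerRight tilde.toTildeΓNatIso _ ≪≫ Functor.associator _ _ _ ≪≫
      Functor.isoWhiskerLeft _ (TildePull72.pushforwardΓIso φ).symm ≪≫ (Functor.associator _ _ _).symm) (tilde.functor R) ≪≫
    Functor.associator _ _ _ ≪≫
    asIso (Functor.whiskerLeft (tilde.functor S ⋙ Scheme.Modules.pushforward (Spec.map φ))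
      (tilde.adjunction (R := R)).counit) ≪≫ Functor.rightUnitor _

/-- Restriction of scalars is direct image along a closed immersion of spectra. -/
def tildeDPush (φ : R ⟶ S) [IsClosedImmersion (Spec.map φ)] :
    DRing.restrictD φ.hom ⋙ tildeD R ≅ tildeD S ⋙ pushD (Spec.map φ) :=
  let e₁ := (ModuleCat.restrictScalars.{u} φ.hom).mapDerivedCategoryFactors
  let e₂ := (tilde.functor R).mapDerivedCategoryFactors
  let e₃ := (tilde.functor S).mapDerivedCategoryFactors
  let e₄ := (Scheme.Modules.pushforward (Spec.map φ)).mapDerivedCategoryFactors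
  letI : Localization.Lifting Q (HomologicalComplex.quasiIso (ModuleCat.{u} S) (ComplexShape.up ℤ))
      (((ModuleCat.restrictScalars.{u} φ.hom).mapHomologicalComplex (ComplexShape.up ℤ) ⋙
        (tilde.functor R).mapHomologicalComplex (ComplexShape.up ℤ)) ⋙ Q)
      (DRing.restrictD φ.hom ⋙ tildeD R) :=
    ⟨(Functor.associator _ _ _).symm ≪≫ Functor.isoWhiskerRight e₁ _ ≪≫ Functor.associator _ _ _ ≪≫
      Functor.isoWhiskerLeft _ e₂ ≪≫ (Functor.associator _ _ _).symm⟩
  letI : Localization.Lifting Q (HomologicalComplex.quasiIso (ModuleCat.{u} S) (ComplexShape.up ℤ))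
      (((tilde.functor S).mapHomologicalComplex (ComplexShape.up ℤ) ⋙ pushC (Spec.map φ)) ⋙ Q)
      (tildeD S ⋙ pushD (Spec.map φ)) :=
    ⟨(Functor.associator _ _ _).symm ≪≫ Functor.isoWhiskerRight e₃ _ ≪≫ Functor.associator _ _ _ ≪≫
      Functor.isoWhiskerLeft _ e₄ ≪≫ (Functor.associator _ _ _).symm⟩
  Localization.liftNatIso Q (HomologicalComplex.quasiIso (ModuleCat.{u} S) (ComplexShape.up ℤ))
    (((ModuleCat.restrictScalars.{u} φ.hom).mapHomologicalComplex (ComplexShape.up ℤ) ⋙
        (tilde.functor R).mapHomologicalComplex (ComplexShape.up ℤ)) ⋙ Q)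
    (((tilde.functor S).mapHomologicalComplex (ComplexShape.up ℤ) ⋙ pushC (Spec.map φ)) ⋙ Q) _ _
    (Functor.isoWhiskerRight (Functor.mapHomologicalComplexCompIso (pushTildeIso φ) _ ≪≫
      (Functor.mapHomologicalComplexCompIso
        (Iso.refl (tilde.functor S ⋙ Scheme.Modules.pushforward (Spec.map φ))) _).symm) Q)

variable {X Y : Scheme.{u}} {f : X ⟶ Y} {m : ℤ}

/-- Goodness on a chart, through the sections. -/
theorem good_iff_rel {U : X.Opens} {V : Y.Opens} (hU : IsAffineOpen U) (h : U ≤ f ⁻¹ᵁ V) {n : ℕ}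
    {φ : MvPolynomial (Fin n) Γ(Y, V) →+* Γ(X, U)} (hφ : DerSch.IsChart f U V h φ) (K : DCoh.D X)
    (M : Dual.D Γ(X, U))
    (e : (tildeD (CommRingCat.of Γ(X, U))).obj M ≅ (pushD hU.isoSpec.hom).obj ((resD U.ι).obj K)) :
    Good f m K U V ↔
      (letI := (f.appLE V U h).hom.toAlgebra
       DerCA.IsRelPseudoCoherent Γ(Y, V) Γ(X, U) m M) := by
  letI := (f.appLE V U h).hom.toAlgebra
  let α : MvPolynomial (Fin n) Γ(Y, V) →ₐ[Γ(Y, V)] Γ(X, U) :=
    { φ with commutes' := fun r => RingHom.congr_fun hφ.2 r }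
  haveI := isClosedImmersion_imm hU hφ.1
  haveI : IsClosedImmersion (Spec.map (CommRingCat.ofHom φ)) :=
    IsClosedImmersion.spec_of_surjective (CommRingCat.ofHom φ) hφ.1
  have hi : hU.isoSpec.hom ≫ Spec.map (CommRingCat.ofHom φ) = imm U φ := rfl
  let e' : (tildeD _).obj ((DRing.restrictD φ).obj M) ≅ (pushD (imm U φ)).obj ((resD U.ι).obj K) :=
    (tildeDPush (CommRingCat.ofHom φ)).app M ≪≫ (pushD (Spec.map (CommRingCat.ofHom φ))).mapIso e ≪≫
      (pushDComp hU.isoSpec.hom (Spec.map (CommRingCat.ofHom φ)) ≪≫ pushDCongr hi).app _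
  rw [good_iff_pc hU h hφ, RelPC41.via_iff α hφ.1]
  exact Iff.trans ⟨isPC_of_iso e'.symm, isPC_of_iso e'⟩
    (isPC_tildeD_iff (R := CommRingCat.of (MvPolynomial (Fin n) Γ(Y, V))) m _)

end Groth.Agent.FlatMor67.TildePush
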