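import Groth.Agent.FlatMor67.EmbPC
import Groth.Agent.FlatMor67.NilExt
import Groth.Agent.FlatMor67.TildePush
import Groth.Agent.S1305
import Groth.Agent.RelPCSch41.Good
import Groth.Agent.RelPCSch41.Basic

/-!
Relative pseudo-coherence and direct image along closed immersions modulo nilpotents.
-/

set_option autoImplicit false
set_option backward.isDefEq.respectTransparency.types false
set_option linter.style.haveILetI false
set_option linter.unusedSectionVars false
set_option maxHeartbeats 800000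

noncomputable section

universe u

open CategoryTheory Limits AlgebraicGeometry TopologicalSpace DerivedCategory
open Groth.Agent.DCX42 Groth.Agent.RelPCSch41 PrimeSpectrum
attribute [local instance] HasDerivedCategory.standard

namespace Groth.Agent.FlatMor67.Emb

/-- A ring map with a retraction having nil kernel induces a topologically closed embedding of spectra. -/
theorem cemb_spec {R S : CommRingCat.{u}} (φ : R ⟶ S) (r : S ⟶ R) (hr : φ ≫ r = 𝟙 R)
    (hn : ∀ x, r x = 0 → IsNilpotent x) : CEmb (Spec.map φ) := by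
  have hs : Function.Surjective r.hom := fun a => ⟨φ a, congr($hr a)⟩
  haveI : IsClosedImmersion (Spec.map r) := IsClosedImmersion.spec_of_surjective r hs
  have hsur : Function.Surjective (Spec.map r) := fun y => by
    have : y ∈ Set.range (PrimeSpectrum.comap r.hom) := by
      rw [range_comap_of_surjective _ _ hs]
      intro x hx
      exact nilradical_le_prime y.asIdeal (mem_nilradical.2 (hn x hx))
    exact this
  let h := (Spec.map r).isClosedEmbedding.isEmbedding.toHomeomorphOfSurjective hsur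
  have hi : Spec.map r ≫ Spec.map φ = 𝟙 _ := by rw [← Spec.map_comp, hr, Spec.map_id]
  have he : (Spec.map φ : Spec S → Spec R) = h.symm := funext fun y => by
    obtain ⟨x, rfl⟩ := h.surjective y
    rw [h.symm_apply_apply]
    exact congr(($hi).base x)
  exact ⟨he ▸ h.symm.isClosedEmbedding⟩

/-- Finite projective algebras give pseudo-coherent direct images. -/
theorem hasPC_spec {R S : CommRingCat.{u}} (φ : R ⟶ S) [CEmb (Spec.map φ)]
    (h1 : Module.Finite R ((ModuleCat.restrictScalars φ.hom).obj (ModuleCat.of S S)))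
    (h2 : Module.Projective R ((ModuleCat.restrictScalars φ.hom).obj (ModuleCat.of S S))) :
    HasPC (Spec.map φ) := fun k => by
  let e : tilde ((ModuleCat.restrictScalars φ.hom).obj (ModuleCat.of S S)) ≅
      (Scheme.Modules.pushforward (Spec.map φ)).obj (Coh.structureModule (Spec S)) :=
    (TildePush.pushTildeIso φ).app _ ≪≫ (Scheme.Modules.pushforward (Spec.map φ)).mapIso tildeSelf
  exact isPC_of_iso ((singleFunctor _ 0).mapIso e ≪≫
    (((Scheme.Modules.pushforward (Spec.map φ)).mapDerivedCategorySingleFunctor 0).app _).symm)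
    (isPC_of_isPerfect (isPerfect_single ((Props58.LocFree.isFinLocFree_tilde_iff _).2 ⟨h1, h2⟩) 0) k)

theorem finite_projective_restrict {Q P : Type u} [CommRing Q] [CommRing P] [Algebra Q P] [Module.Finite Q P]
    [Module.Free Q P] :
    Module.Finite Q ((ModuleCat.restrictScalars (algebraMap Q P)).obj (ModuleCat.of P P)) ∧
      Module.Projective Q ((ModuleCat.restrictScalars (algebraMap Q P)).obj (ModuleCat.of P P)) := by
  let e : P ≃ₗ[Q] (ModuleCat.restrictScalars (algebraMap Q P)).obj (ModuleCat.of P P) :=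
    { toFun := fun x => x
      invFun := fun x => x
      map_add' := fun _ _ => rfl
      map_smul' := fun a x => Algebra.smul_def a x
      left_inv := fun _ => rfl
      right_inv := fun _ => rfl }
  exact ⟨Module.Finite.equiv e, Module.Projective.of_equiv e⟩

/-- Sections vanishing on a thickening are nilpotent. -/
theorem isNilpotent_of_app_eq_zero {Z X : Scheme.{u}} (t : Z ⟶ X) [Surjective t] {U : X.Opens} (hU : IsAffineOpen U)
    (f : Γ(X, U)) (hf : t.app U f = 0) : IsNilpotent f := by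
  have hb : X.basicOpen f = ⊥ := eq_bot_iff.2 fun x hx => by
    obtain ⟨z, rfl⟩ := t.surjective x
    have h : z ∈ t ⁻¹ᵁ X.basicOpen f := hx
    rw [Scheme.preimage_basicOpen, hf, Scheme.basicOpen_zero] at h
    exact h.elim
  have h0 : (TopCat.Presheaf.restrictOpen (1 : Γ(X, U)) (X.basicOpen f) (X.basicOpen_le f)) = 0 := by
    have : Subsingleton Γ(X, X.basicOpen f) := by rw [hb]; infer_instance
    exact Subsingleton.elim _ _
  obtain ⟨n, hn⟩ := exists_pow_mul_eq_zero_of_res_basicOpen_eq_zero_of_isAffineOpen X hU 1 f h0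
  exact ⟨n, by simpa using hn⟩

theorem isAffineHom_of_thickening {Z X Y : Scheme.{u}} (t : Z ⟶ X) [IsClosedImmersion t] [Surjective t] (i : X ⟶ Y)
    [IsClosedImmersion (t ≫ i)] : IsAffineHom i :=
  S1305.isAffineHom_of_thickening t i

theorem cemb_of_thickening {Z X Y : Scheme.{u}} (t : Z ⟶ X) [IsClosedImmersion t] [Surjective t] (i : X ⟶ Y)
    [IsClosedImmersion (t ≫ i)] : CEmb i := by
  let h := t.isClosedEmbedding.isEmbedding.toHomeomorphOfSurjective t.surjective
  have he : (i : X → Y) = (t ≫ i : Z ⟶ Y) ∘ h.symm := funext fun y => by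
    obtain ⟨x, rfl⟩ := h.surjective y
    rw [Function.comp_apply, h.symm_apply_apply]
    rfl
  exact ⟨he ▸ (t ≫ i).isClosedEmbedding.comp h.symm.isClosedEmbedding⟩

theorem good_push_iff {X Y S Z : Scheme.{u}} (q : Y ⟶ S) (i : X ⟶ Y) [LocallyOfFiniteType q]
    [LocallyOfFiniteType (i ≫ q)] (t : Z ⟶ X) [IsClosedImmersion t] [Surjective t] [IsClosedImmersion (t ≫ i)]
    [CEmb i] [IsAffineHom i] (m : ℤ) (E : DCoh.D X) {U : Y.Opens} {V : S.Opens} (hU : IsAffineOpen U)
    (hV : IsAffineOpen V) (h : U ≤ q ⁻¹ᵁ V) :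
    Good (i ≫ q) m E (i ⁻¹ᵁ U) V ↔ Good q m ((pD i).obj E) U V := by
  classical
  have hU' : IsAffineOpen (i ⁻¹ᵁ U) := hU.preimage i
  have h' : i ⁻¹ᵁ U ≤ (i ≫ q) ⁻¹ᵁ V := i.preimage_mono h
  obtain ⟨n, φ, hφ⟩ := exists_chart_of_ft (f := q) hU hV h
  have hφc : φ.comp (algebraMap Γ(S, V) (MvPolynomial (Fin n) Γ(S, V))) = (q.appLE V U h).hom := by
    rw [MvPolynomial.algebraMap_eq]; exact hφ.2
  letI := ((i ≫ q).appLE V (i ⁻¹ᵁ U) h').hom.toAlgebra
  haveI : Algebra.FiniteType Γ(S, V) Γ(X, i ⁻¹ᵁ U) := (i ≫ q).finiteType_appLE hV hU' h'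
  let φB : MvPolynomial (Fin n) Γ(S, V) →ₐ[Γ(S, V)] Γ(X, i ⁻¹ᵁ U) :=
    { toRingHom := (i.app U).hom.comp φ
      commutes' := fun a => by
        change i.app U (φ.comp (algebraMap Γ(S, V) (MvPolynomial (Fin n) Γ(S, V))) a) = _
        rw [hφc]
        change (q.appLE V U h ≫ i.app U) a = (i ≫ q).appLE V (i ⁻¹ᵁ U) h' a
        rw [Scheme.Hom.app_eq_appLE, i.appLE_comp_appLE q] }
  obtain ⟨gens, hgens⟩ := Algebra.FiniteType.out (R := Γ(S, V)) (A := Γ(X, i ⁻¹ᵁ U))
  have hlift : ∀ b : Γ(X, i ⁻¹ᵁ U), ∃ p : MvPolynomial (Fin n) Γ(S, V), IsNilpotent (b - φB p) := fun b => by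
    obtain ⟨a, ha⟩ := (t ≫ i).app_surjective U hU (t.app (i ⁻¹ᵁ U) b)
    obtain ⟨p, rfl⟩ := hφ.1 a
    refine ⟨p, isNilpotent_of_app_eq_zero t hU' _ ?_⟩
    change t.app (i ⁻¹ᵁ U) (b - i.app U (φ p)) = 0
    rw [map_sub, sub_eq_zero, ← ha, Scheme.Hom.comp_app]
    rfl
  choose c hc using hlift
  obtain ⟨P, _, _, _, _, ψ, hfl, hfp, hfin, hfree, hψ, hrange, r, hr, hrn⟩ :=
    NilExt.exists_nil_ext φB (gens.image fun b => b - φB (c b)) fun b hb => by
      obtain ⟨b', -, rfl⟩ := Finset.mem_image.1 hb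
      exact hc b'
  have hψs : Function.Surjective ψ := by
    rw [← AlgHom.range_eq_top, eq_top_iff, ← hgens, Algebra.adjoin_le_iff]
    intro b hb
    have h1 : φB (c b) ∈ ψ.range := ⟨algebraMap _ P (c b), RingHom.congr_fun hψ (c b)⟩
    have h2 : b - φB (c b) ∈ ψ.range := hrange _ (Finset.mem_image_of_mem (fun b => b - φB (c b)) hb)
    simpa using add_mem h2 h1
  haveI := hfl
  haveI := hfp
  haveI := isClosedImmersion_imm hU hφ.1
  haveI := isClosedImmersion_imm hU' (ψ := ψ.toRingHom) hψs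
  rw [good_iff hU h φ hφ.1 hφc, good_iff hU' h' ψ.toRingHom hψs ψ.comp_algebraMap, pcat_iff_pc, pcat_iff_pc]
  let g : CommRingCat.of (MvPolynomial (Fin n) Γ(S, V)) ⟶ CommRingCat.of P :=
    CommRingCat.ofHom (algebraMap (MvPolynomial (Fin n) Γ(S, V)) P)
  haveI : CEmb (Spec.map g) := cemb_spec g (CommRingCat.ofHom r) (CommRingCat.hom_ext hr) hrn
  have hpc : HasPC (Spec.map g) := hasPC_spec g finite_projective_restrict.1 finite_projective_restrict.2
  have hc' : (i ∣_ U) ≫ imm U φ = imm (i ⁻¹ᵁ U) ψ.toRingHom ≫ Spec.map g := by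
    have e1 : (i ∣_ U) ≫ U.toSpecΓ = (i ⁻¹ᵁ U).toSpecΓ ≫ Spec.map (i.app U) := by
      rw [← Scheme.Hom.resLE_eq_morphismRestrict, Scheme.Hom.app_eq_appLE]
      exact (Scheme.Opens.toSpecΓ_SpecMap_appLE i U (i ⁻¹ᵁ U) le_rfl).symm
    rw [imm, imm, ← Category.assoc, e1, Category.assoc, Category.assoc, ← Spec.map_comp, ← Spec.map_comp]
    refine congrArg (fun k => _ ≫ Spec.map k) (CommRingCat.hom_ext ?_)
    exact hψ.symm
  let e : (pD (Spec.map g)).obj ((pushD (imm (i ⁻¹ᵁ U) ψ.toRingHom)).obj ((resD (i ⁻¹ᵁ U).ι).obj E)) ≅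
      (pushD (imm U φ)).obj ((resD U.ι).obj ((pD i).obj E)) :=
    (pDComp (imm (i ⁻¹ᵁ U) ψ.toRingHom) (Spec.map g) ≪≫ pDCongr hc'.symm ≪≫
      (pDComp (i ∣_ U) (imm U φ)).symm).app _ ≪≫ (pushD (imm U φ)).mapIso ((pDRestr i U).app E).symm
  rw [← isPC_push_iff hpc m]
  exact ⟨isPC_of_iso e, isPC_of_iso e.symm⟩

/-- Relative pseudo-coherence and direct image along a closed immersion modulo nilpotents. -/
theorem rel_push_iff {X Y S Z : Scheme.{u}} (q : Y ⟶ S) (i : X ⟶ Y) [LocallyOfFiniteType q]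
    [LocallyOfFiniteType (i ≫ q)] (t : Z ⟶ X) [IsClosedImmersion t] [Surjective t] [IsClosedImmersion (t ≫ i)]
    [DCoh.HasRpush i] (m : ℤ) (E : DCoh.D X) :
    DerSch.IsPseudoCoherentRel (i ≫ q) m E ↔ DerSch.IsPseudoCoherentRel q m ((DCoh.Rpush i).obj E) := by
  haveI := isAffineHom_of_thickening t i
  haveI := cemb_of_thickening t i
  obtain ⟨eR⟩ := nonempty_Rpush_iso i E
  have key : ∀ (U : Y.Opens) (V : S.Opens), IsAffineOpen U → IsAffineOpen V → U ≤ q ⁻¹ᵁ V →
      (Good (i ≫ q) m E (i ⁻¹ᵁ U) V ↔ Good q m ((DCoh.Rpush i).obj E) U V) := by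
    intro U V hU hV h
    rw [good_push_iff q i t m E hU hV h]
    constructor
    · rintro ⟨h, n, φ, hφ, hp⟩
      exact ⟨h, n, φ, hφ, pcat_congr eR.symm hp⟩
    · rintro ⟨h, n, φ, hφ, hp⟩
      exact ⟨h, n, φ, hφ, pcat_congr eR hp⟩
  constructor
  · intro H
    exact rel_iff.2 fun U V hU hV h => (key U V hU hV h).1 (good_of_rel H (hU.preimage i) hV (i.preimage_mono h))
  · intro H
    refine rel_of_good fun x => ?_
    obtain ⟨U, V, hx, hU, hV, h⟩ := exists_affine_pair q (i x)
    exact ⟨i ⁻¹ᵁ U, V, hx, hU.preimage i, hV, (key U V hU hV h).2 (good_of_rel H hU hV h)⟩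

end Groth.Agent.FlatMor67.Emb
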