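import Groth.Agent.FlatMor67.FibreProps
import Groth.Agent.FlatMor66.NoethFib
import Groth.Agent.SpPts86.Props
import Groth.Agent.S1405

/-!
# Regular and normal morphisms are fppf local on the base
-/

set_option autoImplicit false
set_option backward.isDefEq.respectTransparency.types false
set_option linter.style.haveILetI false
universe u

open AlgebraicGeometry CategoryTheory CategoryTheory.Limits TensorProduct

noncomputable section

namespace Groth.Agent.FlatMor67.FibreRing

variable {Q : ∀ (T : Type u) [CommRing T], Prop}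

section Cover

variable {X Y : Scheme.{u}} (f : X ⟶ Y)

/-- A geometric property of an affine open of a fibre may be checked on an affine cover. -/
theorem geo_of_cover (hQ : IsLocalProp Q) (y : Y) [IsLocallyNoetherian (f.fiber y)] {W : (f.fiber y).Opens}
    (hW : IsAffineOpen W)
    (h : ∀ z ∈ W, ∃ (W₀ : (f.fiber y).Opens) (_ : IsAffineOpen W₀), z ∈ W₀ ∧
      (letI := algFib f y W₀; Geo Q (Y.residueField y) Γ(f.fiber y, W₀))) :
    letI := algFib f y W
    Geo Q (Y.residueField y) Γ(f.fiber y, W) := by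
  letI := algFib f y W
  haveI : IsNoetherianRing Γ(f.fiber y, W) := IsLocallyNoetherian.component_noetherian ⟨W, hW⟩
  refine geo_glue hQ fun P => ?_
  let z : f.fiber y := hW.fromSpec P
  have hzW : z ∈ W := hW.range_fromSpec.le ⟨P, rfl⟩
  obtain ⟨W₀, hW₀, hzW₀, hpiece⟩ := h z hzW
  obtain ⟨g, g', hgg, hzg⟩ := exists_basicOpen_le_affine_inter hW hW₀ z ⟨hzW, hzW₀⟩
  refine ⟨g, ?_, ?_⟩
  · have h2 : P ∈ hW.fromSpec ⁻¹ᵁ (f.fiber y).basicOpen g := hzg
    rwa [hW.fromSpec_preimage_basicOpen] at h2
  · have h3 := geo_fibre_basicOpen f hQ y hW₀ g' hpiece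
    rw [← hgg] at h3
    letI := algFib f y ((f.fiber y).basicOpen g)
    haveI := hW.isLocalization_basicOpen g
    haveI : IsScalarTower (Y.residueField y) Γ(f.fiber y, W) Γ(f.fiber y, (f.fiber y).basicOpen g) := by
      refine .of_algebraMap_eq' ?_
      show _ = ((f.fiber y).presheaf.map (homOfLE ((f.fiber y).basicOpen_le g)).op).hom.comp _
      rw [RingHom.algebraMap_toAlgebra, RingHom.algebraMap_toAlgebra, ← CommRingCat.hom_comp]
      simp only [Category.assoc, ← Functor.map_comp]
      rfl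
    exact geo_of_algEquiv hQ ((IsLocalization.algEquiv (Submonoid.powers g) Γ(f.fiber y, (f.fiber y).basicOpen g)
      (Localization.Away g)).restrictScalars (Y.residueField y)) h3

end Cover

/-- The property is compatible with finitely generated extensions of the ground field. -/
def BaseChangeProp (Q : ∀ (T : Type u) [CommRing T], Prop) : Prop :=
  ∀ (k S : Type u) [Field k] [CommRing S] [Algebra k S] [IsNoetherianRing S] (K : Type u) [Field K] [Algebra k K]
    [Algebra.EssFiniteType k K], Geo Q k S ↔ Geo Q K (K ⊗[k] S)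

variable {X Y X' Y' : Scheme.{u}} {f : X ⟶ Y} {f' : X' ⟶ Y'} {g' : X' ⟶ X} {g : Y' ⟶ Y}

/-- An affine piece of a fibre and its preimage in the base-changed fibre. -/
theorem geo_piece_baseChange [LocallyOfFiniteType g] (hQ : IsLocalProp Q) (hbc : BaseChangeProp Q) (y' : Y')
    [IsLocallyNoetherian (f.fiber (g y'))] (m : f'.fiber y' ⟶ f.fiber (g y'))
    (h2 : IsPullback m (f'.fiberToSpecResidueField y') (f.fiberToSpecResidueField (g y'))
      (Spec.map (g.residueFieldMap y')))
    {W : (f.fiber (g y')).Opens} (hW : IsAffineOpen W) :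
    IsAffineOpen (m ⁻¹ᵁ W) ∧
      ((letI := algFib f (g y') W; Geo Q (Y.residueField (g y')) Γ(f.fiber (g y'), W)) ↔
        (letI := algFib f' y' (m ⁻¹ᵁ W); Geo Q (Y'.residueField y') Γ(f'.fiber y', m ⁻¹ᵁ W))) := by
  let φ := g.residueFieldMap y'
  let q := Spec.map φ
  obtain ⟨hW', hpo⟩ := KoszulLocus.isPushout_sections h2 hW (isAffineOpen_top _) (isAffineOpen_top _)
    (show (⊤ : (Spec (Y'.residueField y')).Opens) ≤ q ⁻¹ᵁ ⊤ from fun _ _ => trivial)
    (show W ≤ f.fiberToSpecResidueField (g y') ⁻¹ᵁ ⊤ from fun _ _ => trivial)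
  have hinf : m ⁻¹ᵁ W ⊓ f'.fiberToSpecResidueField y' ⁻¹ᵁ ⊤ = m ⁻¹ᵁ W := inf_eq_left.2 fun z _ => trivial
  rw [← hinf]
  refine ⟨hW', ?_⟩
  set W' := m ⁻¹ᵁ W ⊓ f'.fiberToSpecResidueField y' ⁻¹ᵁ ⊤ with hW'def
  letI aKK := (q.appLE ⊤ ⊤ (fun _ _ => trivial)).hom.toAlgebra
  letI aKS := ((f.fiberToSpecResidueField (g y')).appLE ⊤ W (fun _ _ => trivial)).hom.toAlgebra
  letI aK'T := ((f'.fiberToSpecResidueField y').appLE ⊤ W' inf_le_right).hom.toAlgebra
  letI aST := (m.appLE W W' inf_le_left).hom.toAlgebra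
  letI aKT := ((q.appLE ⊤ ⊤ (fun _ _ => trivial)) ≫
    (f'.fiberToSpecResidueField y').appLE ⊤ W' inf_le_right).hom.toAlgebra
  obtain ⟨_, _, hpo⟩ := hpo
  let k := Γ(Spec (Y.residueField (g y')), ⊤)
  let K := Γ(Spec (Y'.residueField y'), ⊤)
  letI : Field k := ((Scheme.ΓSpecIso (Y.residueField (g y'))).commRingCatIsoToRingEquiv.toMulEquiv.isField
    (Field.toIsField _)).toField
  letI : Field K := ((Scheme.ΓSpecIso (Y'.residueField y')).commRingCatIsoToRingEquiv.toMulEquiv.isField
    (Field.toIsField _)).toField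
  letI : Algebra (Y.residueField (g y')) k := (Scheme.ΓSpecIso (Y.residueField (g y'))).inv.hom.toAlgebra
  letI : Algebra (Y'.residueField y') K := (Scheme.ΓSpecIso (Y'.residueField y')).inv.hom.toAlgebra
  letI := algFib f (g y') W
  letI := algFib f' y' W'
  haveI : IsScalarTower (Y.residueField (g y')) k Γ(f.fiber (g y'), W) := .of_algebraMap_eq' rfl
  haveI : IsScalarTower (Y'.residueField y') K Γ(f'.fiber y', W') := .of_algebraMap_eq' rfl
  rw [geo_of_field_surjective hQ (k := Y.residueField (g y')) (l := k) (S := Γ(f.fiber (g y'), W))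
    (ConcreteCategory.bijective_of_isIso (Scheme.ΓSpecIso (Y.residueField (g y'))).inv).2,
    geo_of_field_surjective hQ (k := Y'.residueField y') (l := K) (S := Γ(f'.fiber y', W'))
    (ConcreteCategory.bijective_of_isIso (Scheme.ΓSpecIso (Y'.residueField y')).inv).2]
  haveI : IsNoetherianRing Γ(f.fiber (g y'), W) := IsLocallyNoetherian.component_noetherian ⟨W, hW⟩
  haveI : Algebra.EssFiniteType k K := by
    have hφ : φ.hom.EssFiniteType := RingHom.EssFiniteType.residueFieldMap (LocallyOfFiniteType.stalkMap g y')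
    have hq : q.appLE ⊤ ⊤ (fun _ _ => trivial) =
        ((Scheme.ΓSpecIso (Y.residueField (g y'))).hom ≫ φ) ≫ (Scheme.ΓSpecIso (Y'.residueField y')).inv := by
      rw [← Scheme.ΓSpecIso_naturality φ]
      simp [Scheme.Hom.appLE, q]
    show RingHom.EssFiniteType (q.appLE ⊤ ⊤ (fun _ _ => trivial)).hom
    rw [hq, CommRingCat.hom_comp, CommRingCat.hom_comp]
    exact ((RingHom.FiniteType.of_surjective _
        (ConcreteCategory.bijective_of_isIso (Scheme.ΓSpecIso (Y.residueField (g y'))).hom).surjective).essFiniteType.comp hφ).comp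
      (RingHom.FiniteType.of_surjective _
        (ConcreteCategory.bijective_of_isIso (Scheme.ΓSpecIso (Y'.residueField y')).inv).surjective).essFiniteType
  rw [hbc k Γ(f.fiber (g y'), W) K]
  have e := Algebra.IsPushout.equiv k K Γ(f.fiber (g y'), W) Γ(f'.fiber y', W')
  exact ⟨geo_of_algEquiv hQ e, geo_of_algEquiv hQ e.symm⟩

/-- A geometric property of fibres is insensitive to surjective base change of finite type. -/
theorem onFibres_baseChange_iff [LocallyOfFiniteType g] [Surjective g] (hQ : IsLocalProp Q)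
    (hbc : BaseChangeProp Q) (hc : IsPullback g' f' f g) (hN : ∀ y : Y, IsLocallyNoetherian (f.fiber y))
    (hN' : ∀ y' : Y', IsLocallyNoetherian (f'.fiber y')) : OnFibres f Q ↔ OnFibres f' Q := by
  have hm : ∀ y' : Y', ∃ m : f'.fiber y' ⟶ f.fiber (g y'),
      IsPullback m (f'.fiberToSpecResidueField y') (f.fiberToSpecResidueField (g y'))
        (Spec.map (g.residueFieldMap y')) := by
    intro y'
    have h1 : IsPullback (f'.fiberι y' ≫ g') (f'.fiberToSpecResidueField y') f
        (Spec.map (g.residueFieldMap y') ≫ Y.fromSpecResidueField (g y')) := by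
      rw [Scheme.Hom.SpecMap_residueFieldMap_fromSpecResidueField g y']
      exact (IsPullback.of_hasPullback f' (Y'.fromSpecResidueField y')).paste_horiz hc
    have hF : IsPullback (f.fiberι (g y')) (f.fiberToSpecResidueField (g y')) f (Y.fromSpecResidueField (g y')) :=
      IsPullback.of_hasPullback _ _
    exact ⟨hF.lift (f'.fiberι y' ≫ g') (f'.fiberToSpecResidueField y' ≫ Spec.map (g.residueFieldMap y'))
      (by rw [h1.w, Category.assoc]), IsPullback.of_right (by rw [hF.lift_fst]; exact h1) (hF.lift_snd _ _ _) hF⟩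
  constructor
  · intro h y' W' hW'
    haveI := hN' y'
    haveI := hN (g y')
    obtain ⟨m, h2⟩ := hm y'
    refine geo_of_cover f' hQ y' hW' fun z _ => ?_
    obtain ⟨_, ⟨W, hW, rfl⟩, hzW, -⟩ :=
      (f.fiber (g y')).isBasis_affineOpens.exists_subset_of_mem_open (Set.mem_univ (m z)) isOpen_univ
    obtain ⟨hW₀, hiff⟩ := geo_piece_baseChange hQ hbc y' m h2 hW
    exact ⟨_, hW₀, hzW, hiff.1 (h (g y') W hW)⟩
  · intro h y W hW
    obtain ⟨y', rfl⟩ := g.surjective y
    haveI := hN (g y')
    obtain ⟨m, h2⟩ := hm y'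
    obtain ⟨hW₀, hiff⟩ := geo_piece_baseChange hQ hbc y' m h2 hW
    exact hiff.2 (h y' _ hW₀)

theorem flat_baseChange_iff [Flat g] [LocallyOfFinitePresentation g] [Surjective g] (hc : IsPullback g' f' f g) :
    Flat f ↔ Flat f' := by
  refine ⟨fun h => MorphismProperty.of_isPullback (P := @Flat) hc h, fun h => ?_⟩
  haveI := SpPts86.flat_descends.{u}
  exact MorphismProperty.of_isPullback_of_descendsAlong (P := @Flat) (Q := SpFP87.fppfSurj) hc.flip
    (by exact ⟨⟨inferInstance, inferInstance⟩, inferInstance⟩) h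

end Groth.Agent.FlatMor67.FibreRing
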