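import Mathlib.RingTheory.LocalRing.ResidueField.Ideal
import Mathlib.RingTheory.Flat.EquationalCriterion
import Mathlib.RingTheory.Localization.BaseChange
import Mathlib.RingTheory.Noetherian.Basic
import Mathlib.LinearAlgebra.TensorProduct.Quotient
import Mathlib.LinearAlgebra.Matrix.NonsingularInverse
import Mathlib.RingTheory.FiniteType

/-!
# Lifting a basis of a finite fibre of a flat module modulo powers of the prime
-/

set_option autoImplicit false

universe u

open TensorProduct

namespace Groth.Agent.FlatMor67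

section Fibre

variable {D M : Type u} [CommRing D] [AddCommGroup M] [Module D M] (p : Ideal D) [p.IsPrime]

/-- the kernel of `M → κ(p) ⊗ M` -/
lemma exists_smul_mem_of_fibre_eq_zero (z : M) (hz : (1 : p.ResidueField) ⊗ₜ[D] z = 0) :
    ∃ s : D, s ∉ p ∧ s • z ∈ p • (⊤ : Submodule D M) := by
  let E := AlgebraTensorModule.cancelBaseChange D (D ⧸ p) (D ⧸ p) p.ResidueField M
  have h1 : TensorProduct.mk (D ⧸ p) p.ResidueField ((D ⧸ p) ⊗[D] M) 1 (1 ⊗ₜ[D] z) = 0 := by
    apply E.injective
    rw [map_zero]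
    simpa [E] using hz
  obtain ⟨⟨c, hc⟩, hcz⟩ := (IsLocalizedModule.eq_zero_iff (nonZeroDivisors (D ⧸ p))
    (TensorProduct.mk (D ⧸ p) p.ResidueField ((D ⧸ p) ⊗[D] M) 1)).1 h1
  obtain ⟨s, rfl⟩ := Ideal.Quotient.mk_surjective c
  refine ⟨s, fun hs => nonZeroDivisors.ne_zero hc (Ideal.Quotient.eq_zero_iff_mem.2 hs), ?_⟩
  have h2 : (1 : D ⧸ p) ⊗ₜ[D] (s • z) = 0 := by
    rw [TensorProduct.tmul_smul, ← hcz, ← IsScalarTower.algebraMap_smul (D ⧸ p) s ((1 : D ⧸ p) ⊗ₜ[D] z)]
    rfl
  have h3 := congrArg (TensorProduct.quotTensorEquivQuotSMul M p) h2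
  rw [map_zero, show (1 : D ⧸ p) = Ideal.Quotient.mk p 1 from rfl,
    TensorProduct.quotTensorEquivQuotSMul_mk_tmul, one_smul] at h3
  exact (Submodule.Quotient.mk_eq_zero _).1 h3

variable [Module.Finite p.ResidueField (p.ResidueField ⊗[D] M)]

/-- a basis of the fibre, lifted to the module -/
lemma exists_fibre_basis :
    ∃ (r : ℕ) (e : Fin r → M), LinearIndependent p.ResidueField (fun k => (1 : p.ResidueField) ⊗ₜ[D] e k) ∧
      ∀ c : M, ∃ (s : D) (a : Fin r → D), s ∉ p ∧ s • c - ∑ k, a k • e k ∈ p • (⊤ : Submodule D M) := by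
  classical
  have hspan : Submodule.span p.ResidueField (Set.range fun c : M => (1 : p.ResidueField) ⊗ₜ[D] c) = ⊤ := by
    rw [eq_top_iff]
    rintro x -
    induction x using TensorProduct.induction_on with
    | zero => exact zero_mem _
    | add x y hx hy => exact add_mem hx hy
    | tmul l c =>
      rw [show l ⊗ₜ[D] c = l • ((1 : p.ResidueField) ⊗ₜ[D] c) by rw [smul_tmul', smul_eq_mul, mul_one]]
      exact Submodule.smul_mem _ _ (Submodule.subset_span ⟨c, rfl⟩)
  obtain ⟨f, hf, hfspan, hli⟩ := Submodule.exists_fun_fin_finrank_span_eq p.ResidueField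
    (Set.range fun c : M => (1 : p.ResidueField) ⊗ₜ[D] c)
  choose e he using hf
  replace he : ∀ k, (1 : p.ResidueField) ⊗ₜ[D] e k = f k := he
  refine ⟨_, e, by simpa only [he] using hli, fun c => ?_⟩
  have hc : (1 : p.ResidueField) ⊗ₜ[D] c ∈ Submodule.span p.ResidueField (Set.range f) := by
    rw [hfspan, hspan]; trivial
  obtain ⟨l, hl⟩ := Submodule.mem_span_range_iff_exists_fun _ |>.1 hc
  obtain ⟨⟨b, hb⟩, hbl⟩ := IsLocalization.exist_integer_multiples_of_finite (nonZeroDivisors (D ⧸ p)) l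
  choose a' ha' using hbl
  obtain ⟨t, rfl⟩ := Ideal.Quotient.mk_surjective b
  choose a ha using fun k => Ideal.Quotient.mk_surjective (a' k)
  have key : (1 : p.ResidueField) ⊗ₜ[D] (t • c - ∑ k, a k • e k) = 0 := by
    rw [tmul_sub, tmul_sum, tmul_smul, ← hl, Finset.smul_sum, ← Finset.sum_sub_distrib]
    refine Finset.sum_eq_zero fun k _ => ?_
    rw [sub_eq_zero, tmul_smul, he, ← algebraMap_smul p.ResidueField t (l k • f k),
      ← algebraMap_smul p.ResidueField (a k) (f k), ← mul_smul]
    congr 1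
    refine ((ha' k).trans ?_).symm.trans ?_
    · show algebraMap (D ⧸ p) p.ResidueField (Ideal.Quotient.mk p t) * l k = _
      rw [← Ideal.Quotient.algebraMap_eq, ← IsScalarTower.algebraMap_apply]
    · rw [← ha k, ← Ideal.Quotient.algebraMap_eq, ← IsScalarTower.algebraMap_apply]
  obtain ⟨s, hs, hmem⟩ := exists_smul_mem_of_fibre_eq_zero p _ key
  refine ⟨s * t, fun k => s * a k, ?_, ?_⟩
  · exact fun hst => ((‹p.IsPrime›).mem_or_mem hst).elim hs
      fun ht => nonZeroDivisors.ne_zero hb (Ideal.Quotient.eq_zero_iff_mem.2 ht)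
  · simpa [smul_sub, Finset.smul_sum, mul_smul] using hmem

omit [Module.Finite p.ResidueField (p.ResidueField ⊗[D] M)]

variable {p} {r : ℕ} {e : Fin r → M}

/-- spanning modulo every power of the prime -/
lemma exists_decomp_pow (hgen : ∀ c : M, ∃ (s : D) (a : Fin r → D), s ∉ p ∧
      s • c - ∑ k, a k • e k ∈ p • (⊤ : Submodule D M)) (n : ℕ) (c : M) :
    ∃ (s : D) (a : Fin r → D), s ∉ p ∧ s • c - ∑ k, a k • e k ∈ p ^ n • (⊤ : Submodule D M) := by
  induction n generalizing c with
  | zero => exact ⟨1, 0, p.ne_top_iff_one.1 Ideal.IsPrime.ne_top', by simp⟩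
  | succ n ih =>
    obtain ⟨s, a, hs, h⟩ := hgen c
    -- elements of `p • ⊤` decompose modulo `p ^ (n + 1)`
    have hstep : ∀ x ∈ p • (⊤ : Submodule D M), ∃ (s : D) (a : Fin r → D), s ∉ p ∧
        s • x - ∑ k, a k • e k ∈ p ^ (n + 1) • (⊤ : Submodule D M) := by
      intro x hx
      induction hx using Submodule.smul_induction_on' with
      | smul π hπ m _ =>
        obtain ⟨s, a, hs, h⟩ := ih m
        refine ⟨s, fun k => π * a k, hs, ?_⟩
        have h' := Submodule.smul_mem_smul hπ h
        rw [← Submodule.mul_smul, ← pow_succ'] at h'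
        simpa [smul_sub, Finset.smul_sum, mul_smul, smul_comm s π] using h'
      | add x _ y _ hx hy =>
        obtain ⟨s, a, hs, h⟩ := hx
        obtain ⟨s', a', hs', h'⟩ := hy
        refine ⟨s' * s, fun k => s' * a k + s * a' k,
          fun hm => ((‹p.IsPrime›).mem_or_mem hm).elim hs' hs, ?_⟩
        have := add_mem (Submodule.smul_mem _ s' h) (Submodule.smul_mem _ s h')
        refine (congrArg (· ∈ _) ?_).mp this
        simp only [smul_sub, Finset.smul_sum, add_smul, Finset.sum_add_distrib, mul_smul, smul_add,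
          smul_comm s s']
        abel
    obtain ⟨s', a', hs', h'⟩ := hstep _ h
    refine ⟨s' * s, fun k => s' * a k + a' k, fun hm => ((‹p.IsPrime›).mem_or_mem hm).elim hs' hs, ?_⟩
    refine (congrArg (· ∈ _) ?_).mp h'
    simp only [smul_sub, Finset.smul_sum, add_smul, Finset.sum_add_distrib, mul_smul]
    abel

/-- independence modulo every power of the prime, from flatness -/
lemma mem_pow_of_relation [Module.Flat D M]
    (hli : LinearIndependent p.ResidueField (fun k => (1 : p.ResidueField) ⊗ₜ[D] e k)) (n : ℕ)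
    (a : Fin r → D) (h : ∑ k, a k • e k ∈ p ^ n • (⊤ : Submodule D M)) :
    ∃ s : D, s ∉ p ∧ ∀ k, s * a k ∈ p ^ n := by
  classical
  obtain ⟨L, π, m, hπ, hsum⟩ : ∃ (L : ℕ) (π : Fin L → D) (m : Fin L → M), (∀ l, π l ∈ p ^ n) ∧
      ∑ l, π l • m l = ∑ k, a k • e k := by
    generalize ∑ k, a k • e k = z at h ⊢
    induction h using Submodule.smul_induction_on' with
    | smul π hπ m _ => exact ⟨1, ![π], ![m], fun l => by fin_cases l; exact hπ, by simp⟩
    | add x _ y _ hx hy =>
      obtain ⟨L, π, m, h1, h2⟩ := hx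
      obtain ⟨L', π', m', h1', h2'⟩ := hy
      refine ⟨L + L', Fin.append π π', Fin.append m m',
        fun l => Fin.addCases (fun i => by simpa using h1 i) (fun i => by simpa using h1' i) l, ?_⟩
      simp [Fin.sum_univ_add, h2, h2']
  have hrel : ∑ i : Fin (r + L), Fin.append a (fun l => -π l) i • Fin.append e m i = 0 := by
    simp [Fin.sum_univ_add, hsum]
  obtain ⟨J, c, y, hc, hc0⟩ := Module.Flat.iff_forall_isTrivialRelation.1 ‹_› hrel
  let B : Matrix (Fin r) (Fin J) D := fun k j => c (Fin.castAdd L k) j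
  have hB : ∀ k, e k = ∑ j, B k j • y j := fun k => by simpa [B] using hc (Fin.castAdd L k)
  have haB : ∀ j, ∑ k, a k * B k j ∈ p ^ n := by
    intro j
    have h0 := hc0 j
    rw [Fin.sum_univ_add] at h0
    simp only [Fin.append_left, Fin.append_right, neg_mul, Finset.sum_neg_distrib, add_neg_eq_zero] at h0
    rw [h0]
    exact sum_mem fun l _ => Ideal.mul_mem_right _ _ (hπ l)
  let g : (Fin r → p.ResidueField) →ₗ[p.ResidueField] (Fin J → p.ResidueField) :=
    (B.map (algebraMap D p.ResidueField)).vecMulLinear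
  have hg : LinearMap.ker g = ⊥ := by
    rw [LinearMap.ker_eq_bot']
    intro v hv
    refine funext (Fintype.linearIndependent_iff.1 hli v ?_)
    have he : ∀ k, (1 : p.ResidueField) ⊗ₜ[D] e k =
        ∑ j, algebraMap D p.ResidueField (B k j) • ((1 : p.ResidueField) ⊗ₜ[D] y j) := by
      intro k
      simp [hB k, tmul_sum, tmul_smul, algebraMap_smul]
    simp_rw [he, Finset.smul_sum, ← mul_smul]
    rw [Finset.sum_comm]
    refine Finset.sum_eq_zero fun j _ => ?_
    rw [← Finset.sum_smul]
    have := congrFun hv j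
    simp only [g, Matrix.vecMulLinear_apply, Matrix.vecMul, dotProduct, Matrix.map_apply] at this
    rw [this]
    simp
  obtain ⟨h', hh'⟩ := LinearMap.exists_leftInverse_of_injective g hg
  let H : Fin J × Fin r → p.ResidueField := fun jk => h' (Pi.single jk.1 1) jk.2
  obtain ⟨⟨b, hb⟩, hbH⟩ := IsLocalization.exist_integer_multiples_of_finite (nonZeroDivisors (D ⧸ p)) H
  choose C' hC' using hbH
  obtain ⟨t, rfl⟩ := Ideal.Quotient.mk_surjective b
  choose C hC using fun jk => Ideal.Quotient.mk_surjective (C' jk)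
  let Q : Matrix (Fin r) (Fin r) D := B * Matrix.of fun j k => C (j, k)
  have hCH : ∀ jk, algebraMap D p.ResidueField (C jk) = algebraMap D p.ResidueField t * H jk := by
    intro jk
    rw [IsScalarTower.algebraMap_apply D (D ⧸ p) p.ResidueField, Ideal.Quotient.algebraMap_eq, hC, hC',
      IsScalarTower.algebraMap_apply D (D ⧸ p) p.ResidueField t]
    rfl
  have hQ : (algebraMap D p.ResidueField).mapMatrix Q =
      algebraMap D p.ResidueField t • (1 : Matrix (Fin r) (Fin r) p.ResidueField) := by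
    ext k k'
    have h1 := congrFun (LinearMap.congr_fun hh' (Pi.single k 1)) k'
    have h2 : h' (g (Pi.single k 1)) = ∑ j, g (Pi.single k 1) j • h' (Pi.single j 1) := by
      conv_lhs => rw [pi_eq_sum_univ' (g (Pi.single k 1))]
      simp [map_sum, map_smul]
    rw [LinearMap.comp_apply, h2] at h1
    simp only [g, Matrix.vecMulLinear_apply, Matrix.single_one_vecMul, Finset.sum_apply, Pi.smul_apply,
      smul_eq_mul, LinearMap.id_apply] at h1
    simp only [Q, RingHom.mapMatrix_apply, Matrix.map_apply, Matrix.mul_apply, Matrix.of_apply, map_sum,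
      map_mul, hCH, Matrix.smul_apply, smul_eq_mul, Matrix.one_apply]
    rw [show (if k = k' then (1 : p.ResidueField) else 0) = (Pi.single k 1 : Fin r → p.ResidueField) k' by
      simp [Pi.single_apply, eq_comm], ← h1, Finset.mul_sum]
    exact Finset.sum_congr rfl fun j _ => by simp [H]; ring
  refine ⟨Q.det, ?_, fun k => ?_⟩
  · intro hdet
    have h1 : algebraMap D p.ResidueField Q.det = 0 := by
      rwa [← Ideal.algebraMap_residueField_eq_zero] at hdet
    rw [RingHom.map_det, hQ, Matrix.det_smul, Matrix.det_one, mul_one] at h1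
    exact nonZeroDivisors.ne_zero hb (Ideal.Quotient.eq_zero_iff_mem.2
      (Ideal.algebraMap_residueField_eq_zero.1 (pow_eq_zero_iff'.1 h1).1))
  · have h1 : (Matrix.vecMul (Matrix.vecMul a Q) Q.adjugate) k = Q.det * a k := by
      rw [Matrix.vecMul_vecMul, Matrix.mul_adjugate, Matrix.vecMul_smul, Matrix.vecMul_one, Pi.smul_apply,
        smul_eq_mul]
    rw [← h1]
    show ∑ k' : Fin r, Matrix.vecMul a Q k' * Q.adjugate k' k ∈ p ^ n
    refine sum_mem fun k' _ => Ideal.mul_mem_right _ (p ^ n) ?_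
    rw [show Matrix.vecMul a Q = Matrix.vecMul (Matrix.vecMul a B) (Matrix.of fun j k => C (j, k)) from
      (Matrix.vecMul_vecMul _ _ _).symm]
    show ∑ j : Fin J, (∑ k, a k * B k j) * C (j, k') ∈ p ^ n
    exact sum_mem fun j _ => Ideal.mul_mem_right _ (p ^ n) (haB j)

end Fibre

/-- **Local structure of a flat algebra near a prime of the base with finite fibre.** -/
theorem exists_basis_mod_pow {D C : Type u} [CommRing D] [IsNoetherianRing D] [CommRing C] [Algebra D C]
    [Algebra.FiniteType D C] [Module.Flat D C] (p : Ideal D) [p.IsPrime]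
    [Module.Finite p.ResidueField (p.ResidueField ⊗[D] C)] (n : ℕ) :
    ∃ (s : D) (r : ℕ) (e : Fin r → C), s ∉ p ∧
      (∀ c : C, ∃ (m : ℕ) (a : Fin r → D), s ^ m • c - ∑ k, a k • e k ∈ p ^ n • (⊤ : Submodule D C)) ∧
      (∀ a : Fin r → D, ∑ k, a k • e k ∈ p ^ n • (⊤ : Submodule D C) → ∀ k, s * a k ∈ p ^ n) := by
  classical
  obtain ⟨r, e, hli, hgen⟩ := exists_fibre_basis (M := C) p
  obtain ⟨X, hX⟩ := Algebra.FiniteType.out (R := D) (A := C)
  have hdec := exists_decomp_pow (p := p) (e := e) hgen n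
  choose s₀ a₀ hs₀ ha₀ using hdec
  -- independence
  let K : Submodule D (Fin r → D) :=
    (p ^ n • (⊤ : Submodule D C)).comap (Fintype.linearCombination D e)
  obtain ⟨G, hG⟩ := (IsNoetherian.noetherian K : K.FG)
  have hGrel : ∀ v : G, ∃ s : D, s ∉ p ∧ ∀ k, s * (v : Fin r → D) k ∈ p ^ n := fun v =>
    mem_pow_of_relation hli n v.1 (by
      have hv : (v : Fin r → D) ∈ K := hG ▸ Submodule.subset_span v.2
      simpa [K, Fintype.linearCombination_apply] using hv)
  choose sG hsG hsG' using hGrel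
  let s : D := s₀ 1 * (∏ x : (X : Set C), ∏ k, s₀ (x.1 * e k)) * (∏ x : (X : Set C), s₀ x.1) * ∏ v : G, sG v
  have hs : s ∉ p := by
    simp only [s, ← Ideal.mem_primeCompl_iff]
    exact mul_mem (mul_mem (mul_mem (hs₀ 1) (prod_mem fun x _ => prod_mem fun k _ => hs₀ _))
      (prod_mem fun x _ => hs₀ _)) (prod_mem fun v _ => hsG v)
  refine ⟨s, r, e, hs, ?_, fun a ha k => ?_⟩
  · -- the set of decomposable elements
    let S : Submodule D C := Submodule.span D (Set.range e) ⊔ p ^ n • (⊤ : Submodule D C)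
    have hS : ∀ c, (∃ (m : ℕ) (a : Fin r → D), s ^ m • c - ∑ k, a k • e k ∈ p ^ n • (⊤ : Submodule D C)) ↔
        ∃ m, s ^ m • c ∈ S := by
      intro c
      refine exists_congr fun m => ⟨fun ⟨a, ha⟩ => Submodule.mem_sup.2 ⟨_,
        Submodule.sum_mem _ fun k _ => Submodule.smul_mem _ (a k) (Submodule.subset_span ⟨k, rfl⟩), _, ha,
        add_sub_cancel _ _⟩, fun hm => ?_⟩
      obtain ⟨u, hu, v, hv, huv⟩ := Submodule.mem_sup.1 hm
      obtain ⟨a, rfl⟩ := (Submodule.mem_span_range_iff_exists_fun D).1 hu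
      exact ⟨a, by rwa [← huv, add_sub_cancel_left]⟩
    simp only [hS]
    have hbase : ∀ c, s₀ c ∣ s → s • c ∈ S := by
      rintro c ⟨w, hw⟩
      have : s₀ c • c ∈ S := Submodule.mem_sup.2 ⟨_, Submodule.sum_mem _ fun k _ =>
        Submodule.smul_mem _ (a₀ c k) (Submodule.subset_span ⟨k, rfl⟩), _, ha₀ c, add_sub_cancel _ _⟩
      rw [hw, mul_comm, mul_smul]
      exact S.smul_mem _ this
    have hmulX : ∀ x ∈ X, ∀ c ∈ S, s • (x * c) ∈ S := by
      intro x hx c hc
      obtain ⟨u, hu, v, hv, rfl⟩ := Submodule.mem_sup.1 hc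
      rw [mul_add, smul_add]
      refine add_mem ?_ (S.smul_mem _ (Submodule.mem_sup_right ?_))
      · obtain ⟨a, rfl⟩ := (Submodule.mem_span_range_iff_exists_fun D).1 hu
        rw [Finset.mul_sum, Finset.smul_sum]
        refine Submodule.sum_mem _ fun k _ => ?_
        rw [mul_smul_comm, smul_comm]
        exact S.smul_mem _ (hbase _ (dvd_mul_of_dvd_left (dvd_mul_of_dvd_left (dvd_mul_of_dvd_right
          ((Finset.dvd_prod_of_mem _ (Finset.mem_univ k)).trans
            (Finset.dvd_prod_of_mem (fun x : (X : Set C) => ∏ k, s₀ (x.1 * e k))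
              (Finset.mem_univ (⟨x, hx⟩ : (X : Set C))))) _) _) _))
      · refine Submodule.smul_induction_on hv (fun π hπ m _ => ?_) (fun y z hy hz => ?_)
        · rw [mul_smul_comm]
          exact Submodule.smul_mem_smul hπ trivial
        · rw [mul_add]
          exact add_mem hy hz
    intro c
    have hc : c ∈ Algebra.adjoin D (X : Set C) := by rw [hX]; trivial
    suffices ∀ d, (∃ m, s ^ m • d ∈ S) → ∃ m, s ^ m • (c * d) ∈ S by
      obtain ⟨m, hm⟩ := this 1 ⟨1, by
        rw [pow_one]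
        exact hbase 1 (dvd_mul_of_dvd_left (dvd_mul_of_dvd_left (dvd_mul_right _ _) _) _)⟩
      exact ⟨m, by rwa [mul_one] at hm⟩
    induction hc using Algebra.adjoin_induction with
    | mem x hx =>
      rintro d ⟨m, hm⟩
      refine ⟨m + 1, ?_⟩
      rw [pow_succ', mul_smul, ← mul_smul_comm]
      exact hmulX x hx _ hm
    | algebraMap w =>
      rintro d ⟨m, hm⟩
      refine ⟨m, ?_⟩
      rw [← Algebra.smul_def, smul_comm]
      exact S.smul_mem _ hm
    | add x y _ _ hx hy =>
      intro d hd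
      obtain ⟨m, hm⟩ := hx d hd
      obtain ⟨m', hm'⟩ := hy d hd
      refine ⟨m + m', ?_⟩
      rw [add_mul, smul_add]
      refine add_mem ?_ ?_
      · rw [pow_add, mul_comm, mul_smul]; exact S.smul_mem _ hm
      · rw [pow_add, mul_smul]; exact S.smul_mem _ hm'
    | mul x y _ _ hx hy =>
      intro d hd
      rw [mul_assoc]
      exact hx _ (hy d hd)
  · have hak : a ∈ K := by simpa [K, Fintype.linearCombination_apply] using ha
    let T : Submodule D (Fin r → D) :=
      { carrier := {v | ∀ k, s * v k ∈ p ^ n}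
        zero_mem' := fun k => by simp
        add_mem' := fun hx hy k => by rw [Pi.add_apply, mul_add]; exact add_mem (hx k) (hy k)
        smul_mem' := fun d v hv k => by
          rw [Pi.smul_apply, smul_eq_mul, mul_left_comm]; exact Ideal.mul_mem_left _ _ (hv k) }
    have : K ≤ T := by
      rw [← hG, Submodule.span_le]
      intro v hv k
      obtain ⟨w, hw⟩ : sG ⟨v, hv⟩ ∣ s :=
        dvd_mul_of_dvd_right (Finset.dvd_prod_of_mem _ (Finset.mem_univ (⟨v, hv⟩ : G))) _
      rw [hw, mul_right_comm]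
      exact Ideal.mul_mem_right _ _ (hsG' ⟨v, hv⟩ k)
    exact this hak k

end Groth.Agent.FlatMor67
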