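import Groth.Agent.FlatCrit65.Point.Global
import Groth.Agent.FlatCrit65.Assassin.Beta
import Groth.Agent.CAlg6.FiberMod
import Groth.Agent.FlatMor67.StalkEssFP
import Groth.Agent.FlatMor67.PurePush
import Mathlib.RingTheory.Ideal.AssociatedPrime.Localization
import Mathlib.RingTheory.Ideal.AssociatedPrime.Finiteness

/-!
The flat locus of a finite module meets each fibre in an open set.
-/

set_option autoImplicit false
set_option linter.style.haveILetI false

universe u

open TensorProduct

attribute [local instance] Algebra.TensorProduct.rightAlgebra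

namespace Groth.Agent.FlatMor67

section Assoc

variable {T F : Type u} [CommRing T] [IsNoetherianRing T] [AddCommGroup F] [Module T F]

/-- If `u * t` kills `f` with `u ∉ x` and `t` outside every associated prime inside `x`, then
something outside `x` kills `f`. -/
theorem exists_notMem_smul_eq_zero (x : Ideal T) [x.IsPrime] {u t : T} (hu : u ∉ x)
    (ht : ∀ a ∈ associatedPrimes T F, a ≤ x → t ∉ a) {f : F} (h : (u * t) • f = 0) :
    ∃ z ∉ x, z • f = 0 := by
  by_contra hne
  push Not at hne
  let C : Submodule T F := Submodule.span T {f}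
  have hf : f ∈ C := Submodule.mem_span_singleton_self f
  have hle : Module.annihilator T C ≤ x := fun z hz => by
    by_contra hzx
    exact hne z hzx (congrArg Subtype.val (Module.mem_annihilator.mp hz ⟨f, hf⟩))
  obtain ⟨a, ha, hax⟩ := Ideal.exists_minimalPrimes_le hle
  have hann : u * t ∈ Module.annihilator T C := Module.mem_annihilator.mpr fun ⟨c, hc⟩ => by
    obtain ⟨d, rfl⟩ := Submodule.mem_span_singleton.mp hc
    exact Subtype.ext (show (u * t) • d • f = 0 by rw [smul_comm, h, smul_zero])
  have hass : a ∈ associatedPrimes T F :=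
    associatedPrimes.subset_of_injective C.injective_subtype
      (Module.associatedPrimes.minimalPrimes_annihilator_subset_associatedPrimes T C ha)
  rcases ha.isPrime.mem_or_mem (ha.1.2 hann) with h' | h'
  · exact hu (hax h')
  · exact ht a hass hax h'

end Assoc

variable {R P : Type u} [CommRing R] [CommRing P] [Algebra R P] [Algebra.FinitePresentation R P]

/-- Let `N₀` be finitely presented and flat over `R` at `x`, let `t` avoid every associated prime
of the fibre that generizes `x`.  Then `t` is injective on `N₀` at `x`. -/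
theorem eq_zero_of_smul_eq_zero_at {N₀ : Type u} [AddCommGroup N₀] [Module P N₀] [Module R N₀]
    [IsScalarTower R P N₀] [Module.FinitePresentation P N₀] (x : Ideal P) [x.IsPrime]
    (hflat : Module.Flat R (LocalizedModule x.primeCompl N₀)) (p : Ideal R) [p.IsPrime] [x.LiesOver p]
    (t : P)
    (ht : ∀ a ∈ associatedPrimes (p.Fiber P) (FlatCA.fiberMod p P N₀),
      a ≤ FlatCA.fiberIdeal p x →
        (Algebra.TensorProduct.includeRight (R := R) (A := p.ResidueField) (B := P)) t ∉ a)
    (hx : (FlatCA.fiberIdeal p x).IsPrime ∧ (FlatCA.fiberIdeal p x).comap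
      (Algebra.TensorProduct.includeRight (R := R) (A := p.ResidueField) (B := P)).toRingHom = x)
    (n : N₀) (hn : t • n = 0) : ∃ u ∉ x, u • n = 0 := by
  haveI := hx.1
  let L := Localization.AtPrime x
  let Rp := Localization.AtPrime p
  let M := LocalizedModule x.primeCompl N₀
  let g := LocalizedModule.mkLinearMap x.primeCompl N₀
  letI : Algebra Rp L := Localization.AtPrime.algebraOfLiesOver p x
  haveI : IsScalarTower R Rp L := IsScalarTower.of_algebraMap_eq fun c => by
    rw [IsScalarTower.algebraMap_apply R P L]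
    exact (Localization.localRingHom_to_map p x (algebraMap R P) (Ideal.over_def x p) c).symm
  haveI : IsLocalHom (algebraMap Rp L) :=
    Localization.isLocalHom_localRingHom p x (algebraMap R P) (Ideal.over_def x p)
  letI : Module Rp M := Module.compHom M (algebraMap Rp L)
  haveI : IsScalarTower Rp L M := IsScalarTower.of_algebraMap_smul fun _ _ => rfl
  haveI : IsScalarTower R Rp M := IsScalarTower.of_algebraMap_smul fun c m => by
    rw [← algebraMap_smul L (algebraMap R Rp c) m, ← IsScalarTower.algebraMap_apply, algebraMap_smul]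
  haveI : Module.Flat Rp M := (Module.flat_iff_of_isLocalization Rp p.primeCompl M).mpr hflat
  haveI : Module.FinitePresentation L M := FinitePresentation.of_isBaseChange g
    (IsLocalizedModule.isBaseChange x.primeCompl L g)
  have hess : FlatCA.EssFinitePresentation Rp L :=
    essFP_of_localizations (C := P) p.primeCompl x.primeCompl fun a ha hax =>
      ha (by rw [Ideal.over_def x p]; exact hax)
  let ι := Algebra.TensorProduct.includeRight (R := R) (A := p.ResidueField) (B := P)
  -- `p • M` is the localization of `p • N₀`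
  have hpM : ((IsLocalRing.maximalIdeal Rp).map (algebraMap Rp L) • (⊤ : Submodule L M)) =
      ((p.map (algebraMap R P)) • (⊤ : Submodule P N₀)).localized' L x.primeCompl g := by
    rw [Submodule.localized'_smul, Submodule.localized'_top, ← Localization.AtPrime.map_eq_maximalIdeal,
      Ideal.map_map, ← IsScalarTower.algebraMap_eq, IsScalarTower.algebraMap_eq R P L, ← Ideal.map_map,
      Ideal.localized'_eq_map]
  have hkey : algebraMap P L t ∈ FlatCA.nzdFiber Rp L M := by
    rw [mem_nonZeroSMulDivisors_iff]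
    intro z hz
    obtain ⟨r, hr, m, hm⟩ := CAlg6.exists_smul_eq_toFiberMod (p := IsLocalRing.maximalIdeal Rp) z
    have hru : IsUnit r := Classical.not_not.mp fun h => hr ((IsLocalRing.mem_maximalIdeal r).mpr h)
    rw [← (hru.map (algebraMap Rp L)).smul_eq_zero, hm]
    have h1 : FlatCA.toFiberMod (IsLocalRing.maximalIdeal Rp) L M (algebraMap P L t • m) = 0 := by
      rw [map_smul, ← hm, smul_comm, hz, smul_zero]
    obtain ⟨r₁, hr₁, h2⟩ := (CAlg6.toFiberMod_eq_zero_iff _).mp h1
    have hr₁u : IsUnit r₁ := Classical.not_not.mp fun h => hr₁ ((IsLocalRing.mem_maximalIdeal r₁).mpr h)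
    rw [Submodule.smul_mem_iff_of_isUnit _ (hr₁u.map (algebraMap Rp L)), hpM] at h2
    obtain ⟨⟨n₀, s⟩, hns⟩ := IsLocalizedModule.surj x.primeCompl g m
    have h3 : g (t • n₀) ∈ (p.map (algebraMap R P) • (⊤ : Submodule P N₀)).localized' L x.primeCompl g := by
      rw [map_smul, ← hns, smul_comm, ← algebraMap_smul L t m, Submonoid.smul_def, ← algebraMap_smul L (s : P)]
      exact Submodule.smul_mem _ _ h2
    obtain ⟨v, hv, s', hs'⟩ := h3
    rw [IsLocalizedModule.mk'_eq_iff, Submonoid.smul_def, ← map_smul] at hs'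
    obtain ⟨c, hc⟩ := (IsLocalizedModule.eq_iff_exists x.primeCompl g).mp hs'
    have h4 : ((c : P) * (s' : P) * t) • n₀ ∈ p.map (algebraMap R P) • (⊤ : Submodule P N₀) := by
      rw [mul_smul, mul_smul]
      have : c • v = c • ((s' : P) • t • n₀) := hc
      rw [← show (c : P) • v = (c : P) • ((s' : P) • t • n₀) from this]
      exact Submodule.smul_mem _ _ hv
    have h5 : (ι ((c : P) * s') * ι t) • FlatCA.toFiberMod p P N₀ n₀ = 0 := by
      rw [← map_mul, CAlg6.includeRight_smul, ← map_smul]
      exact (CAlg6.toFiberMod_eq_zero_iff _).mpr ⟨1, p.primeCompl.one_mem, by rwa [map_one, one_smul]⟩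
    have hcs : ι ((c : P) * s') ∉ FlatCA.fiberIdeal p x := fun h => by
      have h' : (c : P) * s' ∈ (FlatCA.fiberIdeal p x).comap ι.toRingHom := h
      rw [hx.2] at h'
      exact (c * s').2 h'
    haveI : IsNoetherianRing (p.Fiber P) := Algebra.FiniteType.isNoetherianRing p.ResidueField _
    obtain ⟨w, hw, hw0⟩ := exists_notMem_smul_eq_zero (FlatCA.fiberIdeal p x) hcs ht h5
    obtain ⟨r₂, hr₂, w', hw'⟩ := Ideal.Fiber.exists_smul_eq_one_tmul (p := p) w
    have hw'' : w' ∉ x := fun h => hw ((Ideal.unit_mul_mem_iff_mem _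
      (CAlg6.isUnit_includeRight_algebraMap (S := P) hr₂)).mp (by
        rw [AlgHom.commutes, ← Algebra.smul_def, hw']; exact Ideal.mem_map_of_mem _ h))
    have h6 : FlatCA.toFiberMod p P N₀ (w' • n₀) = 0 := by
      rw [map_smul, ← CAlg6.includeRight_smul, show (Algebra.TensorProduct.includeRight (R := R)
        (A := p.ResidueField) (B := P)) w' = r₂ • w from hw'.symm, Algebra.smul_def, mul_smul, hw0, smul_zero]
    obtain ⟨r₃, hr₃, h7⟩ := (CAlg6.toFiberMod_eq_zero_iff _).mp h6
    rw [CAlg6.toFiberMod_eq_zero_iff]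
    refine ⟨1, (Ideal.primeCompl _).one_mem, ?_⟩
    rw [map_one, one_smul, hpM]
    refine ⟨algebraMap R P r₃ • w' • n₀, h7,
      ⟨algebraMap R P r₃ * w', x.primeCompl.mul_mem (fun h => hr₃ (by rw [Ideal.over_def x p]; exact h)) hw''⟩ * s, ?_⟩
    rw [IsLocalizedModule.mk'_eq_iff, mul_smul, hns, Submonoid.smul_def, ← map_smul, mul_smul]
  have h0 : g n ⊗ₜ[Rp] (1 : Rp) = 0 :=
    Groth.Agent.FlatCrit65.eq_zero_of_fibre_nzd hess (algebraMap P L t) hkey Rp (g n ⊗ₜ 1) (by
      rw [smul_tmul', algebraMap_smul, ← map_smul, hn, map_zero, zero_tmul])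
  have h1 : g n = 0 := by simpa using congrArg (TensorProduct.rid Rp M) h0
  obtain ⟨c, hc⟩ := (IsLocalizedModule.eq_zero_iff x.primeCompl g).mp h1
  exact ⟨c, c.2, hc⟩

theorem liesOver_comap_includeRight {S : Type u} [CommRing S] [Algebra R S] (p : Ideal R) [p.IsPrime]
    (Q : Ideal (p.Fiber S)) [Q.IsPrime] :
    (Q.comap (Algebra.TensorProduct.includeRight (R := R) (A := p.ResidueField) (B := S)).toRingHom).LiesOver p := by
  refine ⟨Ideal.ext fun r => ⟨fun hr => ?_, fun hr => ?_⟩⟩
  · show (Algebra.TensorProduct.includeRight (R := R) (A := p.ResidueField) (B := S)) (algebraMap R S r) ∈ Q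
    rw [AlgHom.commutes, IsScalarTower.algebraMap_apply R p.ResidueField (p.Fiber S),
      show algebraMap R p.ResidueField r = 0 from Ideal.algebraMap_residueField_eq_zero.mpr hr, map_zero]
    exact Q.zero_mem
  · by_contra hn
    exact Ideal.IsPrime.ne_top ‹Q.IsPrime›
      (Ideal.eq_top_of_isUnit_mem _ hr (CAlg6.isUnit_includeRight_algebraMap (S := S) hn))

/-- The flat locus of a finite module over a finitely presented algebra is open in every fibre. -/
theorem isOpen_fibre_flatLocus_fp (N : Type u) [AddCommGroup N] [Module P N] [Module R N] [IsScalarTower R P N]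
    [Module.Finite P N] (p : Ideal R) [p.IsPrime] :
    IsOpen {x : PrimeSpectrum (p.Fiber P) | FlatCA.FlatAt R
      (x.asIdeal.comap (Algebra.TensorProduct.includeRight (R := R) (A := p.ResidueField) (B := P)).toRingHom) N} := by
  classical
  let ι := (Algebra.TensorProduct.includeRight (R := R) (A := p.ResidueField) (B := P)).toRingHom
  refine isOpen_iff_forall_mem_open.mpr fun qf hqf => ?_
  let q := qf.asIdeal.comap ι
  have hqflat : Module.Flat R (LocalizedModule q.primeCompl N) := hqf
  haveI : IsNoetherianRing (p.Fiber P) := Algebra.FiniteType.isNoetherianRing p.ResidueField _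
  obtain ⟨k, π, hπ⟩ := Module.Finite.exists_fin' P N
  haveI : Module.Finite (Localization.AtPrime q) (LocalizedModule q.primeCompl N) :=
    Module.Finite.of_isLocalizedModule q.primeCompl (LocalizedModule.mkLinearMap q.primeCompl N)
  haveI : Module.FinitePresentation (Localization.AtPrime q) (LocalizedModule q.primeCompl N) :=
    Groth.Agent.FlatCrit65.finitePresentation_of_flat_local (R := R) q
  obtain ⟨K₀, hK₀fg, hK₀le, hK₀⟩ :=
    Groth.Agent.FlatCrit65.exists_fg_le_ker_at π hπ q.primeCompl
  let N₀ := (Fin k → P) ⧸ K₀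
  haveI : Module.FinitePresentation P N₀ :=
    Module.finitePresentation_of_surjective K₀.mkQ K₀.mkQ_surjective (by rwa [Submodule.ker_mkQ])
  let ρ : N₀ →ₗ[P] N := K₀.liftQ π hK₀le
  have hρ : Function.Surjective ρ := fun n => by
    obtain ⟨v, rfl⟩ := hπ n
    exact ⟨K₀.mkQ v, rfl⟩
  have hρq : ∀ m : N₀, ρ m = 0 → ∃ s ∉ q, s • m = 0 := fun m hm => by
    obtain ⟨v, rfl⟩ := K₀.mkQ_surjective m
    obtain ⟨s, hs, hsv⟩ := hK₀ v hm
    exact ⟨s, hs, by rw [← map_smul]; exact (Submodule.Quotient.mk_eq_zero _).mpr hsv⟩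
  have hequiv : ∀ (y : Ideal P) [y.IsPrime], (∀ m : N₀, ρ m = 0 → ∃ s ∉ y, s • m = 0) →
      (Module.Flat R (LocalizedModule y.primeCompl N₀) ↔ Module.Flat R (LocalizedModule y.primeCompl N)) := by
    intro y _ hy
    have hbij : Function.Bijective (LocalizedModule.map y.primeCompl ρ) := by
      refine ⟨(injective_iff_map_eq_zero _).mpr fun v hv => ?_, LocalizedModule.map_surjective _ ρ hρ⟩
      induction v using LocalizedModule.induction_on with
      | h m s =>
        rw [LocalizedModule.map_mk, Groth.Agent.FlatCrit65.localized_mk_eq_zero_iff] at hv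
        obtain ⟨u, hu, hum⟩ := hv
        obtain ⟨s', hs', hsm⟩ := hy (u • m) (by rw [map_smul, hum])
        rw [Groth.Agent.FlatCrit65.localized_mk_eq_zero_iff]
        exact ⟨s' * u, y.primeCompl.mul_mem hs' hu, by rw [mul_smul, hsm]⟩
    exact Module.Flat.equiv_iff ((LinearEquiv.ofBijective _ hbij).restrictScalars R)
  let bad : Set (Ideal (p.Fiber P)) :=
    {a | a ∈ associatedPrimes (p.Fiber P) (FlatCA.fiberMod p P N₀) ∧ ¬ a ≤ qf.asIdeal}
  haveI : Module.Finite (p.Fiber P) (FlatCA.fiberMod p P N₀) :=
    inferInstanceAs (Module.Finite (p.Fiber P) ((p.Fiber P) ⊗[P] N₀))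
  have hbad : bad.Finite := (associatedPrimes.finite _ _).subset fun a ha => ha.1
  let Z : Set (PrimeSpectrum (p.Fiber P)) := ⋃ a ∈ bad, PrimeSpectrum.zeroLocus (a : Set (p.Fiber P))
  let U : Set (PrimeSpectrum P) := {y | Module.Flat R (LocalizedModule y.asIdeal.primeCompl N₀)}
  have hU : IsOpen U := Groth.Agent.FlatCrit65.isOpen_flat_locus_module
  refine ⟨PrimeSpectrum.comap ι ⁻¹' U ∩ Zᶜ, fun x hx => ?_,
    (hU.preimage (PrimeSpectrum.continuous_comap ι)).inter
      (hbad.isClosed_biUnion fun a _ => PrimeSpectrum.isClosed_zeroLocus _).isOpen_compl,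
    (hequiv q hρq).mpr hqflat, ?_⟩
  · haveI := liesOver_comap_includeRight (R := R) (S := P) p x.asIdeal
    have hfx : FlatCA.fiberIdeal p (x.asIdeal.comap ι) = x.asIdeal := PurePush.fiberIdeal_comap p _
    refine (hequiv (x.asIdeal.comap ι) fun m hm => ?_).mp hx.1
    obtain ⟨t, ht, htm⟩ := hρq m hm
    refine eq_zero_of_smul_eq_zero_at (x.asIdeal.comap ι) hx.1 p t (fun a ha hax hta => ht ?_)
      ⟨hfx.symm ▸ x.isPrime, by rw [hfx]⟩ m htm
    rw [hfx] at hax
    refine (not_not.mp fun hn => hx.2 ?_ : a ≤ qf.asIdeal) hta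
    exact Set.mem_biUnion (show a ∈ bad from ⟨ha, hn⟩) hax
  · intro hz
    obtain ⟨a, ha, haq⟩ := Set.mem_iUnion₂.mp hz
    exact ha.2 haq

omit [Algebra.FinitePresentation R P] in
/-- Localizations at corresponding primes along a surjection agree. -/
theorem flat_localized_surjective {S : Type u} [CommRing S] [Algebra R S] [Algebra P S] [IsScalarTower R P S]
    (hs : Function.Surjective (algebraMap P S)) (N : Type u) [AddCommGroup N] [Module S N] [Module P N]
    [IsScalarTower P S N] [Module R N] [IsScalarTower R S N] [IsScalarTower R P N] (Q : Ideal S) [Q.IsPrime] :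
    FlatCA.FlatAt R Q N ↔ FlatCA.FlatAt R (Q.comap (algebraMap P S)) N := by
  have hM : Algebra.algebraMapSubmonoid S (Q.comap (algebraMap P S)).primeCompl = Q.primeCompl := by
    ext s
    constructor
    · rintro ⟨a, ha, rfl⟩
      exact ha
    · intro h
      obtain ⟨a, rfl⟩ := hs s
      exact ⟨a, h, rfl⟩
  let g := LocalizedModule.mkLinearMap Q.primeCompl N
  haveI : IsLocalizedModule (Algebra.algebraMapSubmonoid S (Q.comap (algebraMap P S)).primeCompl) g := by
    rw [hM]; infer_instance
  haveI := IsLocalizedModule.restrictScalars (R := P) (Q.comap (algebraMap P S)).primeCompl g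
  exact Module.Flat.equiv_iff ((IsLocalizedModule.linearEquiv (Q.comap (algebraMap P S)).primeCompl
    (g.restrictScalars P) (LocalizedModule.mkLinearMap (Q.comap (algebraMap P S)).primeCompl N)).restrictScalars R)

omit [Algebra R P] [Algebra.FinitePresentation R P] in
/-- The flat locus of a finite module over a finite type algebra is open in every fibre. -/
theorem isOpen_fibre_flatLocus {S : Type u} [CommRing S] [Algebra R S] [Algebra.FiniteType R S]
    (N : Type u) [AddCommGroup N] [Module S N] [Module R N] [IsScalarTower R S N] [Module.Finite S N]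
    (p : Ideal R) [p.IsPrime] :
    IsOpen {x : PrimeSpectrum (p.Fiber S) | FlatCA.FlatAt R
      (x.asIdeal.comap (Algebra.TensorProduct.includeRight (R := R) (A := p.ResidueField) (B := S)).toRingHom) N} := by
  obtain ⟨k, φ, hφ⟩ := Algebra.FiniteType.iff_quotient_mvPolynomial''.mp ‹Algebra.FiniteType R S›
  letI : Algebra (MvPolynomial (Fin k) R) S := φ.toRingHom.toAlgebra
  haveI : IsScalarTower R (MvPolynomial (Fin k) R) S := .of_algebraMap_eq fun r => (φ.commutes r).symm
  letI : Module (MvPolynomial (Fin k) R) N := Module.compHom N φ.toRingHom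
  haveI : IsScalarTower (MvPolynomial (Fin k) R) S N := .of_algebraMap_smul fun _ _ => rfl
  haveI : IsScalarTower R (MvPolynomial (Fin k) R) N := .of_algebraMap_smul fun r n => by
    rw [← algebraMap_smul S (algebraMap R (MvPolynomial (Fin k) R) r) n, ← IsScalarTower.algebraMap_apply,
      algebraMap_smul]
  haveI : Module.Finite (MvPolynomial (Fin k) R) S :=
    Module.Finite.of_surjective (Algebra.linearMap (MvPolynomial (Fin k) R) S) hφ
  haveI : Module.Finite (MvPolynomial (Fin k) R) N := Module.Finite.trans S N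
  let ψ : p.Fiber (MvPolynomial (Fin k) R) →ₐ[R] p.Fiber S :=
    Algebra.TensorProduct.map (AlgHom.id R p.ResidueField) φ
  have h := (isOpen_fibre_flatLocus_fp (P := MvPolynomial (Fin k) R) N p).preimage
    (PrimeSpectrum.continuous_comap ψ.toRingHom)
  convert h using 1
  ext x
  show FlatCA.FlatAt R (x.asIdeal.comap _) N ↔ FlatCA.FlatAt R ((x.asIdeal.comap ψ.toRingHom).comap _) N
  rw [flat_localized_surjective (P := MvPolynomial (Fin k) R) hφ]
  have hcc : (x.asIdeal.comap
      (Algebra.TensorProduct.includeRight (R := R) (A := p.ResidueField) (B := S)).toRingHom).comap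
        (algebraMap (MvPolynomial (Fin k) R) S) = (x.asIdeal.comap ψ.toRingHom).comap
      (Algebra.TensorProduct.includeRight (R := R) (A := p.ResidueField) (B := MvPolynomial (Fin k) R)).toRingHom := by
    rw [Ideal.comap_comap, Ideal.comap_comap]
    congr 1
  simp only [hcc]

end Groth.Agent.FlatMor67
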