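import Groth.Agent.FlatMor67.RelH0
import Groth.Agent.FlatMor67.SpreadBasis
import Groth.Agent.Mum71.Approx
import Groth.Agent.RB70.FibreCrit
import Groth.Agent.DCX42.LpullLoc
import Groth.Agent.LimTop61.LocFreeStage
import Groth.Agent.Props58.LocFree.Affine

/-!
Over a reduced base, a finite locally free module on a proper flat scheme which is free on every fibre has a basis
of sections over the preimage of a neighbourhood of every point.
-/

set_option autoImplicit false
set_option maxSynthPendingDepth 6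
set_option synthInstance.maxHeartbeats 200000
set_option maxHeartbeats 800000
set_option linter.style.haveILetI false
set_option backward.isDefEq.respectTransparency.types false

universe u

noncomputable section

open CategoryTheory CategoryTheory.Limits AlgebraicGeometry TopologicalSpace Opposite TensorProduct
open Groth.Agent.QC70 Groth.Agent.Props58.LocFree Groth.Agent.DCK91 Groth.Agent.Amp73 Groth.Agent.FF71
  Groth.Agent.Mum71

namespace Groth.Agent.FlatMor67.FibreFree

/-- A basis of a stalk is carried to a basis by an isomorphism. -/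
theorem germComb_iso {Y : Scheme.{u}} {M N : Y.Modules} (α : M ≅ N) {U : Y.Opens} {n : ℕ} (s : Fin n → Γ(M, U))
    (y : Y) (hy : y ∈ U) :
    Function.Bijective (germComb s y hy) ↔ Function.Bijective (germComb (fun i => α.hom.app U (s i)) y hy) := by
  have hb : Function.Bijective (stalkMapM α.hom y) :=
    ⟨injective_stalkMapM_of_mono α.hom y, surjective_stalkMapM_of_epi α.hom y⟩
  have e : germComb (fun i => α.hom.app U (s i)) y hy = stalkMapM α.hom y ∘ germComb s y hy := by
    funext c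
    simp only [germComb, Function.comp_apply]
    refine ((map_sum (stalkLinear α.hom y) _ _).trans (Finset.sum_congr rfl fun i _ => ?_)).symm
    exact ((stalkLinear α.hom y).map_smul (c i) _).trans (congrArg (c i • ·) (stalkMapM_germ α.hom hy (s i)))
  rw [e, Function.Bijective.of_comp_iff' hb]

section Local

variable {R S : Type u} [CommRing R] [CommRing S] [Algebra R S]

/-- A family in a finite free module over a local ring is a basis if it is one after a local base change. -/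
theorem bijective_of_bijective_lTensor [IsLocalRing R] [IsLocalRing S] [IsLocalHom (algebraMap R S)]
    {N : Type u} [AddCommGroup N] [Module R N] [Module.Free R N] [Module.Finite R N] {n : ℕ}
    (φ : (Fin n → R) →ₗ[R] N) (h : Function.Bijective (φ.lTensor S)) : Function.Bijective φ := by
  have hr : Module.finrank R N = n := by
    have e := (LinearEquiv.ofBijective (φ.baseChange S) h).finrank_eq
    rwa [Module.finrank_baseChange, Module.finrank_baseChange, Module.finrank_fin_fun, eq_comm] at e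
  have hs : Function.Surjective φ := by
    rw [← LinearMap.range_eq_top]
    by_contra hne
    have hsub : Subsingleton (S ⊗[R] (N ⧸ LinearMap.range φ)) := by
      refine ⟨fun a b => ?_⟩
      have h0 : ∀ z : S ⊗[R] (N ⧸ LinearMap.range φ), z = 0 := fun z => by
        obtain ⟨w, rfl⟩ := LinearMap.lTensor_surjective S (Submodule.mkQ_surjective _) z
        obtain ⟨c, rfl⟩ := h.2 w
        rw [← LinearMap.lTensor_comp_apply,
          show (LinearMap.range φ).mkQ ∘ₗ φ = 0 from LinearMap.ext fun x =>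
            (Submodule.Quotient.mk_eq_zero _).2 (LinearMap.mem_range_self φ x), LinearMap.lTensor_zero]
        rfl
      rw [h0 a, h0 b]
    let Q := N ⧸ LinearMap.range φ
    haveI : Subsingleton (IsLocalRing.ResidueField S ⊗[S] (S ⊗[R] Q)) := inferInstance
    haveI : Subsingleton (IsLocalRing.ResidueField S ⊗[R] Q) :=
      (AlgebraTensorModule.cancelBaseChange R S (IsLocalRing.ResidueField S) (IsLocalRing.ResidueField S) Q).symm.toEquiv.subsingleton
    haveI : Subsingleton (IsLocalRing.ResidueField S ⊗[IsLocalRing.ResidueField R] (IsLocalRing.ResidueField R ⊗[R] Q)) :=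
      (AlgebraTensorModule.cancelBaseChange R (IsLocalRing.ResidueField R) (IsLocalRing.ResidueField S)
        (IsLocalRing.ResidueField S) Q).toEquiv.subsingleton
    haveI : Subsingleton (IsLocalRing.ResidueField R ⊗[R] Q) :=
      Module.FaithfullyFlat.lTensor_reflects_triviality (IsLocalRing.ResidueField R) (IsLocalRing.ResidueField S) _
    exact hne (Submodule.Quotient.subsingleton_iff.mp (IsLocalRing.subsingleton_tensorProduct.1 ‹_›))
  let b : Module.Basis (Fin n) R N := Module.finBasisOfFinrankEq R N hr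
  have := OrzechProperty.injective_of_surjective_endomorphism (b.equivFun.toLinearMap ∘ₗ φ)
    (b.equivFun.surjective.comp hs)
  exact ⟨fun x y hxy => this (congrArg b.equivFun hxy), hs⟩

end Local

/-- Being a basis of a free stalk may be tested after any pullback. -/
theorem germComb_pullS_iff {X Y : Scheme.{u}} (g : X ⟶ Y) {F : Y.Modules} {U : Y.Opens} {n : ℕ}
    (s : Fin n → Γ(F, U)) (x : X) (hx : g x ∈ U) [Module.Free (Y.presheaf.stalk (g x)) (F.presheaf.stalk (g x))]
    [Module.Finite (Y.presheaf.stalk (g x)) (F.presheaf.stalk (g x))] :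
    Function.Bijective (germComb (fun i => pullS g F U (s i)) x (U := g ⁻¹ᵁ U) hx) ↔
      Function.Bijective (germComb s (g x) hx) := by
  letI := (g.stalkMap x).hom.toAlgebra
  letI := Module.compHom (((Scheme.Modules.pullback g).obj F).presheaf.stalk x) (g.stalkMap x).hom
  haveI : IsScalarTower (Y.presheaf.stalk (g x)) (X.presheaf.stalk x)
      (((Scheme.Modules.pullback g).obj F).presheaf.stalk x) :=
    IsScalarTower.of_algebraMap_smul fun r e => rfl
  haveI : IsLocalHom (algebraMap (Y.presheaf.stalk (g x)) (X.presheaf.stalk x)) := g.toLRSHom.prop x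
  let φ := Fintype.linearCombination (Y.presheaf.stalk (g x)) fun i => germM F U (g x) hx (s i)
  have hφ : ⇑φ = germComb s (g x) hx := funext fun c => by rw [Fintype.linearCombination_apply]; rfl
  let E := (isBaseChange_pullη g F x).equiv
  let P := TensorProduct.piScalarRight (Y.presheaf.stalk (g x)) (X.presheaf.stalk x) (X.presheaf.stalk x) (Fin n)
  have key : ∀ z, germComb (fun i => pullS g F U (s i)) x (U := g ⁻¹ᵁ U) hx (P z) =
      E (φ.lTensor (X.presheaf.stalk x) z) := by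
    intro z
    induction z with
    | zero => simp [germComb]
    | add a b ha hb =>
      simp only [map_add, ← ha, ← hb, germComb, Pi.add_apply, add_smul, Finset.sum_add_distrib]
    | tmul a c =>
      rw [LinearMap.lTensor_tmul, IsBaseChange.equiv_tmul, Fintype.linearCombination_apply, map_sum,
        Finset.smul_sum]
      refine Finset.sum_congr rfl fun i _ => ?_
      simp only [P, TensorProduct.piScalarRight_apply, TensorProduct.piScalarRightHom_tmul, map_smul, pullη_germ]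
      refine Eq.trans ?_ (congrArg (a • ·) (algebraMap_smul (X.presheaf.stalk x) (c i) _))
      rw [← mul_smul, mul_comm, Algebra.smul_def]
      rfl
  have h2 : Function.Bijective (φ.lTensor (X.presheaf.stalk x)) ↔
      Function.Bijective (germComb (fun i => pullS g F U (s i)) x (U := g ⁻¹ᵁ U) hx) := by
    rw [← Function.Bijective.of_comp_iff' E.bijective, ← Function.Bijective.of_comp_iff _ P.bijective]
    exact iff_of_eq (congrArg Function.Bijective (funext key).symm)
  rw [← h2, ← hφ]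
  exact ⟨bijective_of_bijective_lTensor φ, fun h => (LinearEquiv.lTensor _ (LinearEquiv.ofBijective φ h)).bijective⟩

theorem germComb_trTop {X Y Z : Scheme.{u}} (f : Y ⟶ X) (h : Z ⟶ Y) {f' : Z ⟶ X} (e : h ≫ f = f') (G : X.Modules)
    {n : ℕ} (y : Fin n → Γ((Scheme.Modules.pullback f).obj G, f ⁻¹ᵁ ⊤)) (ξ : Z)
    [Module.Free (Y.presheaf.stalk (h ξ)) (((Scheme.Modules.pullback f).obj G).presheaf.stalk (h ξ))]
    [Module.Finite (Y.presheaf.stalk (h ξ)) (((Scheme.Modules.pullback f).obj G).presheaf.stalk (h ξ))]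
    (hb : Function.Bijective (germComb (U := f' ⁻¹ᵁ ⊤) (fun i => RelH0.trTop f h e G (y i)) ξ trivial)) :
    Function.Bijective (germComb y (h ξ) trivial) := by
  have hle := LimTop61.preimage_comp_le f h e ⊤
  refine (germComb_pullS_iff h y ξ trivial).1 ?_
  rw [← funext (germComb_res (fun i => pullS h ((Scheme.Modules.pullback f).obj G) (f ⁻¹ᵁ ⊤) (y i)) hle ξ trivial)]
  exact (germComb_iso ((LimTop61.pullbackCompIso f h e).app G) (U := f' ⁻¹ᵁ ⊤) _ ξ trivial).2 hb

theorem free_finite_stalk {Y : Scheme.{u}} {M : Y.Modules} (h : FlatMod.IsFinLocFree M) (y : Y) :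
    Module.Free (Y.presheaf.stalk y) (M.presheaf.stalk y) ∧ Module.Finite (Y.presheaf.stalk y) (M.presheaf.stalk y) := by
  obtain ⟨U, n, s, hy, hs⟩ := isFinLocFree_iff.1 h y
  exact ⟨hs.free_stalk y hy, hs.finite_stalk y hy⟩

/-- The rank of a stalk with a basis of germs. -/
theorem finrank_stalk_eq {Y : Scheme.{u}} {M : Y.Modules} {U : Y.Opens} {n : ℕ} {s : Fin n → Γ(M, U)} (y : Y)
    (hy : y ∈ U) (h : Function.Bijective (germComb s y hy)) :
    Module.finrank (Y.presheaf.stalk y) (M.presheaf.stalk y) = n := by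
  let φ := Fintype.linearCombination (Y.presheaf.stalk y) fun i => germM M U y hy (s i)
  have hφ : ⇑φ = germComb s y hy := funext fun c => by rw [Fintype.linearCombination_apply]; rfl
  rw [← (LinearEquiv.ofBijective φ (by rw [hφ]; exact h)).finrank_eq, Module.finrank_fin_fun]

/-- Ranks of stalks are preserved by inverse images. -/
theorem finrank_stalk_pullback {X Y : Scheme.{u}} (g : X ⟶ Y) {F : Y.Modules} (hF : FlatMod.IsFinLocFree F) (x : X) :
    Module.finrank (X.presheaf.stalk x) (((Scheme.Modules.pullback g).obj F).presheaf.stalk x) =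
      Module.finrank (Y.presheaf.stalk (g x)) (F.presheaf.stalk (g x)) := by
  obtain ⟨U, n, s, hy, hs⟩ := isFinLocFree_iff.1 hF (g x)
  rw [finrank_stalk_eq (g x) hy (hs (g x) hy),
    finrank_stalk_eq (s := fun i => pullS g F U (s i)) (U := g ⁻¹ᵁ U) x hy (Pinch99.stalkBasis_pullS g hs x hy)]

section Rank

variable {X S : Scheme.{u}} (f : X ⟶ S) (E : X.Modules)
  (hO : ∀ (T : Scheme.{u}) (g : T ⟶ S) (U : T.Opens), IsIso ((pullback.snd f g).app U))

include hO in
theorem nonempty_fiber (s : S) : Nonempty (f.fiber s) := by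
  by_contra hne
  rw [not_nonempty_iff] at hne
  haveI : IsEmpty ↥(pullback f (S.fromSpecResidueField s)) := hne
  haveI : Subsingleton Γ(f.fiber s, (pullback.snd f (S.fromSpecResidueField s)) ⁻¹ᵁ ⊤) :=
    inferInstanceAs (Subsingleton Γ(pullback f (S.fromSpecResidueField s), ⊤))
  have h := hO _ (S.fromSpecResidueField s) ⊤
  have : Subsingleton Γ(Spec (S.residueField s), ⊤) :=
    (ConcreteCategory.bijective_of_isIso ((pullback.snd f (S.fromSpecResidueField s)).app ⊤)).1.subsingleton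
  exact false_of_nontrivial_of_subsingleton Γ(Spec (S.residueField s), ⊤)

variable (hE : FlatMod.IsFinLocFree E)
  (hfib : ∀ s : S, ∃ r : ℕ, Nonempty ((Scheme.Modules.pullback (f.fiberι s)).obj E ≅ FlatMod.freeMod (f.fiber s) r))

include hE in
theorem finrank_stalk_eq_of_fibre (s : S) {r : ℕ}
    (α : (Scheme.Modules.pullback (f.fiberι s)).obj E ≅ FlatMod.freeMod (f.fiber s) r) (x : X) (hx : f x = s) :
    Module.finrank (X.presheaf.stalk x) (E.presheaf.stalk x) = r := by
  obtain ⟨e, he⟩ := SpreadBasis.exists_stalkBasis_top α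
  obtain ⟨ξ, rfl⟩ : x ∈ Set.range (f.fiberι s) := by
    rw [Scheme.Hom.range_fiberι]
    exact hx
  rw [← finrank_stalk_pullback _ hE ξ]
  exact finrank_stalk_eq (U := ⊤) (s := e) ξ trivial (he ξ trivial)

include hE hfib hO in
theorem exists_rank [UniversallyOpen f] :
    ∃ r : S → ℕ, IsLocallyConstant r ∧
      ∀ s, Nonempty ((Scheme.Modules.pullback (f.fiberι s)).obj E ≅ FlatMod.freeMod (f.fiber s) (r s)) := by
  choose r hr using hfib
  refine ⟨r, (IsLocallyConstant.iff_exists_open _).2 fun s => ?_, hr⟩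
  obtain ⟨ξ⟩ := nonempty_fiber f hO s
  obtain ⟨α⟩ := hr s
  let x := f.fiberι s ξ
  have hx : f x = s := by
    have : x ∈ Set.range (f.fiberι s) := ⟨ξ, rfl⟩
    rw [Scheme.Hom.range_fiberι] at this
    exact this
  obtain ⟨U, n, t, hxU, ht⟩ := isFinLocFree_iff.1 hE x
  refine ⟨f '' (U : Set X), f.isOpenMap _ U.2, ⟨x, hxU, hx⟩, ?_⟩
  rintro _ ⟨y, hy, rfl⟩
  rw [← finrank_stalk_eq_of_fibre f E hE (f y) (hr (f y)).some y rfl,
    ← finrank_stalk_eq_of_fibre f E hE s α x hx, finrank_stalk_eq y hy (ht y hy), finrank_stalk_eq x hxU (ht x hxU)]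

end Rank

/-- A morphism from the spectrum of a field through a point factors through the residue field. -/
theorem exists_lift_residueField {K : Type u} [Field K] {S : Scheme.{u}} (u : Spec (CommRingCat.of K) ⟶ S) (s : S)
    (hs : ∀ z, u z = s) : ∃ a : Spec (CommRingCat.of K) ⟶ Spec (S.residueField s), a ≫ S.fromSpecResidueField s = u := by
  obtain ⟨⟨s', φ⟩, rfl⟩ := (Scheme.SpecToEquivOfField K S).symm.surjective u
  have h := hs (IsLocalRing.closedPoint K)
  rw [show (Scheme.SpecToEquivOfField K S).symm ⟨s', φ⟩ = Spec.map φ ≫ S.fromSpecResidueField s' from rfl,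
    Scheme.Hom.comp_apply, Scheme.fromSpecResidueField_apply] at h
  subst h
  exact ⟨Spec.map φ, rfl⟩

section Model

variable {A₀ : Type u} [CommRing A₀] {X₀ : Scheme.{u}} [X₀.Over (Spec (CommRingCat.of A₀))] {F₀ : X₀.Modules}

theorem rA_bijective {K : Type u} [CommRing K] [Algebra A₀ K]
    (hk : Function.Bijective ((bc A₀ X₀ K ↘ Spec (CommRingCat.of K)).appTop : _ → _)) :
    Function.Bijective (rA K (bc A₀ X₀ K) ⊤) := by
  have : ⇑(rA K (bc A₀ X₀ K) ⊤) =
      (bc A₀ X₀ K ↘ Spec (CommRingCat.of K)).appTop ∘ (Scheme.ΓSpecIso (CommRingCat.of K)).inv := by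
    funext b
    simp only [rA, homOfLE_refl, op_id, CategoryTheory.Functor.map_id, CommRingCat.hom_id, RingHom.id_comp,
      RingHom.coe_comp, Function.comp_apply]
  rw [this]
  exact hk.comp (ConcreteCategory.bijective_of_isIso _)

theorem isBasisSec_of_stalkBasis {K : Type u} [CommRing K] [Algebra A₀ K]
    (hk : Function.Bijective ((bc A₀ X₀ K ↘ Spec (CommRingCat.of K)).appTop : _ → _)) {r : ℕ}
    {e : Fin r → Γ(bcMod (A := A₀) F₀ K, ⊤)} (he : StalkBasis e) : RelH0.IsBasisSec e := by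
  have h := (he.bijective (le_refl ⊤)).comp ((rA_bijective hk).comp_left (α := Fin r))
  have heq : (fun c : Fin r → K => ∑ j, rA K (bc A₀ X₀ K) ⊤ (c j) • e j) =
      (fun a : Fin r → Γ(bc A₀ X₀ K, ⊤) => ∑ j, a j • res (bcMod (A := A₀) F₀ K) (le_refl ⊤) (e j)) ∘
        (rA K (bc A₀ X₀ K) ⊤ ∘ ·) := by
    funext c
    simp only [Function.comp_apply, QC70.res_self]
  rw [RelH0.IsBasisSec, heq]
  exact h

variable [IsNoetherianRing A₀] [F₀.IsQuasicoherent] (M : RelH0.Model A₀ F₀) {A : Type u} [CommRing A]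
  [Algebra A₀ A]

include M in
omit [F₀.IsQuasicoherent] in
/-- Over a reduced base a basis on a fibre is, up to units, pulled back from sections. -/
theorem exists_scaled_lift [_root_.IsReduced A] (r : PrimeSpectrum A → ℕ) (hr : IsLocallyConstant r)
    (hb : ∀ p, ∃ e : Fin (r p) → Γ(bcMod (A := A₀) F₀ p.asIdeal.ResidueField, ⊤), RelH0.IsBasisSec e)
    (p : PrimeSpectrum A) (e : Γ(bcMod (A := A₀) F₀ p.asIdeal.ResidueField, ⊤)) :
    ∃ (u : p.asIdeal.ResidueField) (σ : Γ(bcMod (A := A₀) F₀ A, ⊤)),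
      u ≠ 0 ∧ rA p.asIdeal.ResidueField (bc A₀ X₀ p.asIdeal.ResidueField) ⊤ u • e =
        RelH0.trBC F₀ (IsScalarTower.toAlgHom A₀ A p.asIdeal.ResidueField) σ := by
  classical
  obtain ⟨n, σ, c, hc⟩ := M.exists_lift_of_reduced r hr hb (IsScalarTower.toAlgHom A₀ A p.asIdeal.ResidueField) e
  obtain ⟨b, hb'⟩ := IsLocalization.exist_integer_multiples (nonZeroDivisors (A ⧸ p.asIdeal)) Finset.univ
    (S := p.asIdeal.ResidueField) c
  choose a ha using fun l => hb' l (Finset.mem_univ l)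
  obtain ⟨b₀, hb₀⟩ := Ideal.Quotient.mk_surjective (b : A ⧸ p.asIdeal)
  choose a₀ ha₀ using fun l => Ideal.Quotient.mk_surjective (a l)
  have hq : ∀ x : A, algebraMap (A ⧸ p.asIdeal) p.asIdeal.ResidueField (Ideal.Quotient.mk _ x) =
      IsScalarTower.toAlgHom A₀ A p.asIdeal.ResidueField x := fun x =>
    (IsScalarTower.algebraMap_apply A (A ⧸ p.asIdeal) p.asIdeal.ResidueField x).symm
  refine ⟨IsScalarTower.toAlgHom A₀ A p.asIdeal.ResidueField b₀, ∑ l, rA A (bc A₀ X₀ A) ⊤ (a₀ l) • σ l, ?_, ?_⟩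
  · rw [← hq, hb₀]
    exact fun h0 => nonZeroDivisors.ne_zero b.2
      ((IsFractionRing.injective (A ⧸ p.asIdeal) p.asIdeal.ResidueField) (h0.trans (map_zero _).symm))
  · rw [hc, Finset.smul_sum]
    refine Eq.trans ?_ (RelH0.trBC_combination F₀ _ a₀ σ (RelH0.trBC_smul F₀ _)).symm
    refine Finset.sum_congr rfl fun l _ => ?_
    rw [← mul_smul, ← map_mul, ← hq, hb₀, ← hq, ha₀, ha, Algebra.smul_def]

omit [IsNoetherianRing A₀] [F₀.IsQuasicoherent] in
/-- Sections whose images on a fibre form a basis up to units form a basis at the points of the fibre. -/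
theorem germComb_of_scaled (hG : FlatMod.IsFinLocFree (bcMod (A := A₀) F₀ A)) {K : Type u} [Field K] [Algebra A₀ K]
    (g : A →ₐ[A₀] K) {r : ℕ} (e : Fin r → Γ(bcMod (A := A₀) F₀ K, ⊤)) (he : StalkBasis e) (u : Fin r → K)
    (σ : Fin r → Γ(bcMod (A := A₀) F₀ A, ⊤)) (hu : ∀ j, u j ≠ 0)
    (hσ : ∀ j, rA K (bc A₀ X₀ K) ⊤ (u j) • e j = RelH0.trBC F₀ g (σ j))
    (z : bc A₀ X₀ A) (hz : z ∈ Set.range (RelH0.hBC (X := X₀) g)) :
    Function.Bijective (germComb σ z trivial) := by
  obtain ⟨ξ, rfl⟩ := hz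
  haveI := (free_finite_stalk hG (RelH0.hBC (X := X₀) g ξ)).1
  haveI := (free_finite_stalk hG (RelH0.hBC (X := X₀) g ξ)).2
  refine germComb_trTop (bcπ A₀ X₀ A) (RelH0.hBC g) (RelH0.hBC_fst g) F₀ σ ξ ?_
  have hb := SpreadBasis.germComb_bijective_of_units e (fun j => RelH0.trBC F₀ g (σ j)) ξ trivial
    (fun j => (bc A₀ X₀ K).presheaf.germ ⊤ ξ trivial (rA K (bc A₀ X₀ K) ⊤ (u j)))
    (fun j => (((hu j).isUnit).map _).map _) (fun j => by rw [← hσ j, germM_smul]) (he ξ trivial)
  exact hb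

end Model

section Base

variable {X S : Scheme.{u}} (f : X ⟶ S) (hO : ∀ (T : Scheme.{u}) (g : T ⟶ S) (U : T.Opens),
  IsIso ((pullback.snd f g).app U)) (E : X.Modules)

include hO in
/-- The basis on the base change of the model to a residue field. -/
theorem exists_fibre_basis {A₀ A : CommRingCat.{u}} [Algebra A₀ A] {X' X₀ : Scheme.{u}}
    [X₀.Over (Spec (CommRingCat.of A₀))] (F₀ : X₀.Modules) (g : Spec A ⟶ S) (g' : X' ⟶ X) (f' : X' ⟶ Spec A)
    (H : IsPullback g' f' f g) (q : X' ⟶ X₀) (θ : X' ≅ bc A₀ X₀ A) (hθ : θ.hom ≫ bcπ A₀ X₀ A = q)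
    (hθs : θ.hom ≫ (bc A₀ X₀ A ↘ Spec (CommRingCat.of A)) = f')
    (ψ : (Scheme.Modules.pullback q).obj F₀ ≅ (Scheme.Modules.pullback g').obj E) (p : PrimeSpectrum A) {r : ℕ}
    (α : (Scheme.Modules.pullback (f.fiberι (g p))).obj E ≅ FlatMod.freeMod (f.fiber (g p)) r) :
    ∃ e : Fin r → Γ(bcMod (A := (A₀ : Type u)) F₀ p.asIdeal.ResidueField, ⊤),
      StalkBasis e ∧ RelH0.IsBasisSec e := by
  let K := p.asIdeal.ResidueField
  let t : Spec (CommRingCat.of K) ⟶ Spec (CommRingCat.of A) :=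
    Spec.map (CommRingCat.ofHom (IsScalarTower.toAlgHom A₀ A K).toRingHom)
  have ht : ∀ z, t z = p := fun z => by
    refine PrimeSpectrum.ext ?_
    show Ideal.comap (algebraMap A K) z.asIdeal = p.asIdeal
    rw [Ideal.eq_bot_of_prime (K := K) z.asIdeal]
    exact Ideal.ker_algebraMap_residueField _
  let w : bc A₀ X₀ K ⟶ X' := RelH0.hBC (IsScalarTower.toAlgHom A₀ A K) ≫ θ.inv
  have hsq : IsPullback (w ≫ g') (bc A₀ X₀ K ↘ Spec (CommRingCat.of K)) f (t ≫ g) := by
    refine (IsPullback.paste_horiz (h₂₁ := t) ?_ H)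
    refine (RelH0.isPullback_hBC (X := X₀) (IsScalarTower.toAlgHom A₀ A K)).of_iso (Iso.refl _) θ.symm (Iso.refl _)
      (Iso.refl _) ?_ ?_ ?_ ?_
    · simp [w]
    · simp
    · rw [← hθs]; simp
    · simp [t]
  obtain ⟨a, ha⟩ := exists_lift_residueField (t ≫ g) (g p) fun z => by rw [Scheme.Hom.comp_apply, ht]
  let v : bc A₀ X₀ K ⟶ f.fiber (g p) :=
    pullback.lift (w ≫ g') ((bc A₀ X₀ K ↘ Spec (CommRingCat.of K)) ≫ a) (hsq.w.trans ((congrArg (_ ≫ ·) ha.symm).trans (Category.assoc _ _ _).symm))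
  have hv : v ≫ f.fiberι (g p) = w ≫ g' := pullback.lift_fst _ _ _
  have hwq : w ≫ q = bcπ A₀ X₀ K := by
    rw [Category.assoc, ← hθ, Iso.inv_hom_id_assoc, RelH0.hBC_fst]
  obtain ⟨e₀, he₀⟩ := SpreadBasis.exists_stalkBasis_top α
  let c : (Scheme.Modules.pullback v).obj ((Scheme.Modules.pullback (f.fiberι (g p))).obj E) ≅
      bcMod (A := (A₀ : Type u)) F₀ K :=
    (Scheme.Modules.pullbackComp v (f.fiberι (g p))).app E ≪≫ (Scheme.Modules.pullbackCongr hv).app E ≪≫
      ((Scheme.Modules.pullbackComp w g').app E).symm ≪≫ (Scheme.Modules.pullback w).mapIso ψ.symm ≪≫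
      (Scheme.Modules.pullbackComp w q).app F₀ ≪≫ (Scheme.Modules.pullbackCongr hwq).app F₀
  have he := SpreadBasis.stalkBasis_map c (Pinch99.stalkBasis_pullS v he₀)
  refine ⟨_, he, isBasisSec_of_stalkBasis ?_ he⟩
  haveI := hO _ (t ≫ g) ⊤
  rw [← hsq.isoPullback_hom_snd, Scheme.Hom.comp_appTop]
  haveI : IsIso hsq.isoPullback.hom.appTop := inferInstanceAs (IsIso (hsq.isoPullback.hom.app ⊤))
  exact (ConcreteCategory.bijective_of_isIso hsq.isoPullback.hom.appTop).comp
    (ConcreteCategory.bijective_of_isIso ((pullback.snd f (t ≫ g)).app ⊤))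

/-- Sections over the base change to an affine open come from the open. -/
theorem exists_pullS_eq [QuasiCompact f] [QuasiSeparated f] [E.IsQuasicoherent] {V : S.Opens} (hV : IsAffineOpen V)
    (s : Γ((Scheme.Modules.pullback (pullback.fst f hV.fromSpec)).obj E, ⊤)) :
    ∃ m : Γ(E, f ⁻¹ᵁ V),
      res ((Scheme.Modules.pullback (pullback.fst f hV.fromSpec)).obj E)
        (inf_le_left : pullback.fst f hV.fromSpec ⁻¹ᵁ (f ⁻¹ᵁ V) ⊓ pullback.snd f hV.fromSpec ⁻¹ᵁ ⊤ ≤ _)
        (pullS (pullback.fst f hV.fromSpec) E _ m) = res _ le_top s := by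
  let g := hV.fromSpec
  have hWV : (⊤ : (Spec Γ(S, V)).Opens) ≤ g ⁻¹ᵁ V := fun z _ => hV.range_fromSpec.le ⟨z, rfl⟩
  have hc : IsCompact ((f ⁻¹ᵁ V : X.Opens) : Set X) := f.isCompact_preimage hV.isCompact
  have hqs : IsQuasiSeparated ((f ⁻¹ᵁ V : X.Opens) : Set X) := by
    rw [isQuasiSeparated_iff_quasiSeparatedSpace _ (f ⁻¹ᵁ V).isOpen]
    haveI : IsAffine V.toScheme := hV
    exact quasiSeparatedSpace_of_quasiSeparated (f ∣_ V)
  letI := ParaF26.FlatSec.mdl f E (le_refl (f ⁻¹ᵁ V))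
  letI := (g.appLE V ⊤ hWV).hom.toAlgebra
  haveI : IsIso (g.appLE V ⊤ hWV) := by
    haveI : IsIso (g.app V) := by
      rw [IsAffineOpen.fromSpec_app_self]
      infer_instance
    rw [show g.appLE V ⊤ hWV = g.app V ≫ (Spec Γ(S, V)).presheaf.map (eqToHom hV.fromSpec_preimage_self.symm).op
      from rfl]
    infer_instance
  obtain ⟨z, hz⟩ := (ParaF26.FlatSec.μ_bijective f g (pullback.snd f g) (pullback.fst f g)
    (IsPullback.of_hasPullback f g) E hWV hV (isAffineOpen_top _) (le_refl (f ⁻¹ᵁ V)) hc hqs).2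
    (res _ le_top s)
  obtain ⟨m, hm⟩ : ∃ m : Γ(E, f ⁻¹ᵁ V), (1 : Γ(Spec Γ(S, V), ⊤)) ⊗ₜ[Γ(S, V)] m = z := by
    clear hz
    induction z with
    | zero => exact ⟨0, TensorProduct.tmul_zero _ _⟩
    | add a b ha hb =>
      obtain ⟨m, rfl⟩ := ha
      obtain ⟨m', rfl⟩ := hb
      exact ⟨m + m', TensorProduct.tmul_add _ _ _⟩
    | tmul a m =>
      obtain ⟨r, rfl⟩ := (ConcreteCategory.bijective_of_isIso (g.appLE V ⊤ hWV)).2 a
      refine ⟨r • m, ?_⟩
      rw [TensorProduct.tmul_smul, TensorProduct.smul_tmul', Algebra.smul_def, mul_one]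
      rfl
  refine ⟨m, ?_⟩
  rw [← hz, ← hm, ParaF26.FlatSec.μ_tmul, map_one, one_smul]

end Base

/-- The spreading of a basis from a fibre, over a reduced base. -/
theorem exists_nhd_stalkBasis {X S : Scheme.{u}} (f : X ⟶ S) [Flat f] [IsProper f] [LocallyOfFinitePresentation f]
    [IsReduced S] (hO : ∀ (T : Scheme.{u}) (g : T ⟶ S) (U : T.Opens), IsIso ((pullback.snd f g).app U))
    (E : X.Modules) (hE : FlatMod.IsFinLocFree E)
    (hfib : ∀ s : S, ∃ r : ℕ, Nonempty ((Scheme.Modules.pullback (f.fiberι s)).obj E ≅ FlatMod.freeMod (f.fiber s) r))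
    (s : S) : ∃ (V : S.Opens) (r : ℕ) (m : Fin r → Γ(E, f ⁻¹ᵁ V)), s ∈ V ∧ StalkBasis m := by
  classical
  obtain ⟨rk, hrk, hα⟩ := exists_rank f E hO hE hfib
  haveI := isQuasicoherent_of_isFinLocFree hE
  obtain ⟨V, hV, hsV, -⟩ := exists_isAffineOpen_mem_and_subset (X := S) (x := s) (U := ⊤) trivial
  let g := hV.fromSpec
  let g' := pullback.fst f g
  have hE' : FlatMod.IsFinLocFree ((Scheme.Modules.pullback g').obj E) := DCX42.isFinLocFree_pullback g' hE
  haveI := isQuasicoherent_of_isFinLocFree hE'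
  haveI := isFP_of_isFinLocFree hE'
  obtain ⟨A₀, hA₀, φA, X₀, f₀, hf₀, F₀, hF₀, hfl₀, q, hq, ⟨ψ⟩⟩ :=
    Mum71.exists_proper_model (A := Γ(S, V)) (pullback.snd f g) _
      (RB70.isFlatOver_of_isFinLocFree (pullback.snd f g) hE')
  letI : Algebra A₀ Γ(S, V) := φA.hom.toAlgebra
  letI : X₀.Over (Spec (CommRingCat.of A₀)) := ⟨f₀⟩
  haveI : IsProper (X₀ ↘ Spec (CommRingCat.of A₀)) := hf₀
  haveI := hF₀.1
  obtain ⟨M⟩ := RelH0.exists_model (A₀ := A₀) F₀ hF₀ hfl₀
  obtain ⟨θ, hθ, hθs⟩ : ∃ θ : pullback f g ≅ bc (A₀ : Type u) X₀ Γ(S, V), θ.hom ≫ bcπ (A₀ : Type u) X₀ Γ(S, V) = q ∧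
      θ.hom ≫ (bc (A₀ : Type u) X₀ Γ(S, V) ↘ Spec (CommRingCat.of Γ(S, V))) = pullback.snd f g :=
    ⟨hq.isoPullback, hq.isoPullback_hom_fst, hq.isoPullback_hom_snd⟩
  let γ : (Scheme.Modules.pullback θ.hom).obj (bcMod (A := (A₀ : Type u)) F₀ Γ(S, V)) ≅
      (Scheme.Modules.pullback g').obj E :=
    (Scheme.Modules.pullbackComp θ.hom _).app F₀ ≪≫ (Scheme.Modules.pullbackCongr hθ).app F₀ ≪≫ ψ
  have hG : FlatMod.IsFinLocFree (bcMod (A := (A₀ : Type u)) F₀ Γ(S, V)) :=
    LimTop61.isFinLocFree_of_iso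
      ((Scheme.Modules.pullbackCongr (show bcπ (A₀ : Type u) X₀ Γ(S, V) = θ.inv ≫ q by
          rw [← hθ, Iso.inv_hom_id_assoc])).app F₀ ≪≫
        ((Scheme.Modules.pullbackComp θ.inv q).app F₀).symm ≪≫ (Scheme.Modules.pullback θ.inv).mapIso ψ).symm
      (DCX42.isFinLocFree_pullback θ.inv hE')
  haveI : _root_.IsReduced Γ(S, V) := IsReduced.component_reduced V
  choose e he heb using fun p => exists_fibre_basis f hO E F₀ g g' (pullback.snd f g)
    (IsPullback.of_hasPullback f g) q θ hθ hθs ψ p (hα (g p)).some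
  obtain ⟨p, hp⟩ : ∃ p, g p = s := by
    have : s ∈ Set.range g := by rw [hV.range_fromSpec]; exact hsV
    exact this
  choose u σ hu hσ using fun j => exists_scaled_lift M (fun p => rk (g p))
    (hrk.comp_continuous g.continuous) (fun p => ⟨e p, heb p⟩) p (e p j)
  choose m hm using fun j => exists_pullS_eq f E hV (γ.hom.app ⊤ (pullS θ.hom _ ⊤ (σ j)))
  have hbase : ∀ (x : X) (hx : x ∈ f ⁻¹ᵁ V), f x = s → Function.Bijective (germComb m x hx) := by
    intro x hx hxs
    have hxr : x ∈ Set.range g' := by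
      rw [Scheme.Pullback.range_fst]
      exact ⟨p, hp.trans hxs.symm⟩
    obtain ⟨x', rfl⟩ := hxr
    haveI := (free_finite_stalk hE (g' x')).1
    haveI := (free_finite_stalk hE (g' x')).2
    refine (germComb_pullS_iff g' m x' hx).1 ?_
    have hxO : x' ∈ g' ⁻¹ᵁ (f ⁻¹ᵁ V) ⊓ pullback.snd f g ⁻¹ᵁ ⊤ := ⟨hx, trivial⟩
    rw [← funext (germComb_res (fun i => pullS g' E (f ⁻¹ᵁ V) (m i)) inf_le_left x' hxO)]
    refine Eq.mp (congrArg Function.Bijective ((congrArg (fun fam => germComb fam x' hxO) (funext hm)).trans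
      (funext (germComb_res (fun i => γ.hom.app ⊤ (pullS θ.hom _ ⊤ (σ i))) le_top x' hxO))).symm) ?_
    refine (germComb_iso γ (fun i => pullS θ.hom _ ⊤ (σ i)) x' trivial).1 ?_
    haveI := (free_finite_stalk hG (θ.hom x')).1
    haveI := (free_finite_stalk hG (θ.hom x')).2
    refine (germComb_pullS_iff θ.hom σ x' trivial).2 ?_
    refine germComb_of_scaled hG _ (e p) (he p) u σ hu hσ (θ.hom x') ?_
    rw [← (RelH0.isPullback_hBC (X := X₀) _).isoPullback_hom_fst, Scheme.Hom.comp_base, TopCat.coe_comp,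
      (RelH0.isPullback_hBC (X := X₀) _).isoPullback.hom.surjective.range_comp, Scheme.Pullback.range_fst]
    refine ⟨(IsLocalRing.closedPoint p.asIdeal.ResidueField : Spec (CommRingCat.of p.asIdeal.ResidueField)), ?_⟩
    rw [← Scheme.Hom.comp_apply, hθs]
    have hx'p : pullback.snd f g x' = p := by
      refine g.isOpenEmbedding.injective ?_
      rw [← Scheme.Hom.comp_apply, ← pullback.condition, Scheme.Hom.comp_apply]
      exact hxs.trans hp.symm
    rw [hx'p]
    refine PrimeSpectrum.ext ?_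
    show Ideal.comap (algebraMap _ p.asIdeal.ResidueField) (IsLocalRing.closedPoint p.asIdeal.ResidueField).asIdeal =
      p.asIdeal
    rw [Ideal.eq_bot_of_prime (K := p.asIdeal.ResidueField) (IsLocalRing.closedPoint p.asIdeal.ResidueField).asIdeal]
    exact Ideal.ker_algebraMap_residueField _
  choose W hxW hWU hW using fun (x : {x : X // f x = s}) =>
    SpreadBasis.exists_nhd_basis hE m x.1 (show f x.1 ∈ V by rw [x.2]; exact hsV) (hbase x.1 _ x.2)
  let Ω : X.Opens := ⨆ x, W x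
  let V₁ : S.Opens := V ⊓ ⟨(f '' (Ω : Set X)ᶜ)ᶜ,
    (f.isClosedMap _ Ω.2.isClosed_compl).isOpen_compl⟩
  have hsV₁ : s ∈ V₁ := ⟨hsV, fun ⟨x, hx, e⟩ => hx (Opens.mem_iSup.2 ⟨⟨x, e⟩, hxW ⟨x, e⟩⟩)⟩
  refine ⟨V₁, rk (g p), fun i => res E (f.preimage_mono inf_le_left) (m i), hsV₁, fun y hy => ?_⟩
  have hyΩ : y ∈ Ω := by
    by_contra hc
    exact hy.2 ⟨y, hc, rfl⟩
  obtain ⟨x, hx⟩ := Opens.mem_iSup.1 hyΩ
  rw [show germComb (fun i => res E (f.preimage_mono inf_le_left) (m i)) y hy = germComb m y hy.1 from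
    funext (germComb_res m _ y hy)]
  exact hW x y hy.1 hx

end Groth.Agent.FlatMor67.FibreFree
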