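import Groth.Agent.Coh69.ThickCoh
import Groth.Agent.Coh69.AffinePush
import Groth.Agent.Var76.SuppVanish
import Groth.Agent.RB70.ThickGen
import Groth.Agent.SerreD94.Duality
import Groth.Agent.Cube7.Fibre
import Groth.Agent.QC70.CohOps
import Groth.Agent.QCPull72.Closed
import Groth.Agent.Lift3.AdicLine
import Groth.Agent.FlatMor67.FibreFree
import Groth.Agent.ParaF26.Open
import Groth.Agent.Coh69.FibreAmple

/-!
Lifting of sections from the closed fibre when the fibre is at most one dimensional.
-/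

set_option autoImplicit false
set_option maxSynthPendingDepth 6
set_option synthInstance.maxHeartbeats 200000
set_option maxHeartbeats 800000
set_option linter.style.haveILetI false
set_option backward.isDefEq.respectTransparency.types false

universe u

noncomputable section

open CategoryTheory CategoryTheory.Limits AlgebraicGeometry TopologicalSpace Opposite

namespace Groth.Agent.FlatMor67.FibreLift

open Var76.LineBundle Var76.ZeroScheme

section Vanishing

variable {A : Type u} [CommRing A] [IsNoetherianRing A] [IsLocalRing A] {X : Scheme.{u}}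
  [X.Over (Spec (CommRingCat.of A))]

/-- The projection of the reduction modulo an ideal has range the closed fibre. -/
theorem range_quot (J : Ideal A) (hJ : J.radical = IsLocalRing.maximalIdeal A) :
    Set.range (pullback.fst (X ↘ Spec (CommRingCat.of A)) (Spec.map (CommRingCat.ofHom (Ideal.Quotient.mk J)))) =
      (X ↘ Spec (CommRingCat.of A)) ⁻¹' {IsLocalRing.closedPoint A} := by
  rw [Scheme.Pullback.range_fst]
  refine congrArg _ ?_
  show Set.range (PrimeSpectrum.comap (Ideal.Quotient.mk J)) = _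
  rw [range_comap_of_surjective _ _ Ideal.Quotient.mk_surjective, Ideal.mk_ker,
    ← PrimeSpectrum.zeroLocus_radical, hJ]
  exact (PrimeSpectrum.zeroLocus_eq_singleton _)

variable [IsProper (X ↘ Spec (CommRingCat.of A))]
  (hdim : topologicalKrullDim ((X ↘ Spec (CommRingCat.of A)) ⁻¹' {IsLocalRing.closedPoint A}) ≤ 1)

include hdim in
/-- With a closed fibre of dimension at most one, coherent cohomology vanishes above degree one. -/
theorem subsingleton_hh_two (L : X.Modules) (hL : Coh.IsCoh L) (q : ℕ) : Subsingleton (Coh.HH X L (q + 2)) := by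
  refine Coh69.ThickCoh.subsingleton_hh_of_thickenings (IsLocalRing.maximalIdeal A) le_rfl L hL (q + 1) fun k => ?_
  let J := IsLocalRing.maximalIdeal A ^ (k + 1)
  let π := pullback.fst (X ↘ Spec (CommRingCat.of A)) (Spec.map (CommRingCat.ofHom (Ideal.Quotient.mk J)))
  haveI : IsClosedImmersion (Spec.map (CommRingCat.ofHom (Ideal.Quotient.mk J))) :=
    IsClosedImmersion.spec_of_surjective _ Ideal.Quotient.mk_surjective
  haveI : CompactSpace X := QuasiCompact.compactSpace_of_compactSpace (X ↘ Spec (CommRingCat.of A))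
  haveI : IsLocallyNoetherian X := LocallyOfFiniteType.isLocallyNoetherian (X ↘ Spec (CommRingCat.of A))
  haveI : AlgebraicGeometry.IsNoetherian X := ⟨⟩
  haveI : NoetherianSpace ↥(pullback (X ↘ Spec (CommRingCat.of A)) (Spec.map (CommRingCat.ofHom (Ideal.Quotient.mk J)))) :=
    π.isClosedEmbedding.isInducing.noetherianSpace
  refine Var76.subsingleton_HH_of_support _ isClosed_univ (fun y hy => absurd (Set.mem_univ y) hy)
    (d := 1) ?_ _ (by omega)
  rw [(Homeomorph.Set.univ _).isHomeomorph.topologicalKrullDim_eq,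
    (π.isClosedEmbedding.isEmbedding.toHomeomorph).isHomeomorph.topologicalKrullDim_eq]
  refine le_trans (le_of_eq (congrArg (fun s : Set X => topologicalKrullDim s) ?_)) hdim
  refine range_quot J ?_
  rw [Ideal.radical_pow _ (Nat.succ_ne_zero k)]
  exact (IsLocalRing.maximalIdeal.isMaximal A).isPrime.radical

variable {Z : Scheme.{u}} (i : Z ⟶ X) [IsClosedImmersion i]
  (hker : ∀ U : X.affineOpens, i.ker.ideal U =
    (IsLocalRing.maximalIdeal A).map (Lift3.AdicLine.base (R := CommRingCat.of A) (X ↘ Spec (CommRingCat.of A)) U.1))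

include hdim hker in
/-- Sections lift from the closed fibre if the module has no first cohomology there. -/
theorem surjective_unit (L : X.Modules) (hL : Coh.IsCoh L)
    (hH1 : Subsingleton (Coh.HH Z ((Scheme.Modules.pullback i).obj L) 1)) :
    Function.Surjective ((QCPull72.pullUnit i L).app ⊤) := by
  classical
  haveI := hL.1
  haveI := hL.2
  haveI := QCPull72.isQuasicoherent_pullback i L
  haveI : IsLocallyNoetherian X := LocallyOfFiniteType.isLocallyNoetherian (X ↘ Spec (CommRingCat.of A))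
  haveI : IsLocallyNoetherian Z := LocallyOfFiniteType.isLocallyNoetherian i
  haveI := QCPull72.epi_pullUnit i L
  let N := (Scheme.Modules.pushforward i).obj ((Scheme.Modules.pullback i).obj L)
  have hN : Coh.IsCoh N := QC70.isCoh_pushforward i _ (⟨inferInstance, QCPull72.isFiniteType_pullback i L⟩ : Coh.IsCoh ((Scheme.Modules.pullback i).obj L))
  haveI hN1 : Subsingleton (Coh.HH X N 1) := RB70.subsingleton_hh_push i _ 1 hH1
  obtain ⟨r, g, hg⟩ := Submodule.fg_iff_exists_fin_generating_family.1 (IsNoetherian.noetherian (IsLocalRing.maximalIdeal A))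
  let P : X.Modules := ⨁ fun _ : Fin r => L
  let φ : P ⟶ L := biproduct.desc fun l => Formal.smulMod A L (g l)
  have hφ0 : φ ≫ QCPull72.pullUnit i L = 0 := by
    refine biproduct.hom_ext' _ _ fun l => ?_
    rw [biproduct.ι_desc_assoc, comp_zero]
    refine Scheme.Modules.hom_ext _ _ fun W => ?_
    ext x
    refine QC70.section_ext N _ _ fun p hp => ?_
    obtain ⟨_, ⟨U, hU, rfl⟩, hpU, hUW⟩ := X.isBasis_affineOpens.exists_subset_of_mem_open hp W.2
    refine ⟨U, hUW, hpU, ?_⟩
    rw [← QC70.app_res, ← QC70.app_res]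
    refine Eq.trans ?_ (show (0 : Γ(N, U)) = _ from rfl)
    show (QCPull72.pullUnit i L).app U (Lift3.AdicLine.base (R := CommRingCat.of A) (X ↘ Spec (CommRingCat.of A)) U (g l) • _) = 0
    rw [Scheme.Modules.Hom.app_smul]
    refine (QCqs72.pushforward_smul _ i _ _).trans ?_
    rw [show i.app U (Lift3.AdicLine.base (R := CommRingCat.of A) (X ↘ Spec (CommRingCat.of A)) U (g l)) = 0 from
      i.ideal_ker_le ⟨U, hU⟩ ((hker ⟨U, hU⟩).ge (Ideal.mem_map_of_mem _ (hg ▸ Submodule.subset_span ⟨l, rfl⟩))), zero_smul]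
    rfl
  let S := ShortComplex.mk (kernel.ι (QCPull72.pullUnit i L)) (QCPull72.pullUnit i L) (kernel.condition _)
  have hS : S.ShortExact :=
    { exact := ShortComplex.exact_of_f_is_kernel _ (kernelIsKernel _) }
  let ψ : P ⟶ kernel (QCPull72.pullUnit i L) := kernel.lift _ φ hφ0
  have hK : Coh.IsCoh (kernel (QCPull72.pullUnit i L)) := QC70.isCoh_kernel _ hL hN.1
  have hP : Coh.IsCoh P := QC70.isCoh_biproduct _ fun _ => hL
  haveI : Epi ψ := by
    refine QC70.epi_of_locally_surjective _ fun W z p hp => ?_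
    obtain ⟨_, ⟨U, hU, rfl⟩, hpU, hUW⟩ := X.isBasis_affineOpens.exists_subset_of_mem_open hp W.2
    let b := Lift3.AdicLine.base (R := CommRingCat.of A) (X ↘ Spec (CommRingCat.of A)) U
    let y : Γ(L, U) := (kernel.ι (QCPull72.pullUnit i L)).app U (QC70.res _ hUW z)
    have hy : (QCPull72.pullUnit i L).app U y = 0 := by
      rw [← ConcreteCategory.comp_apply, ← Scheme.Modules.Hom.comp_app, kernel.condition]
      rfl
    have hy2 := QCPull72.pullUnit_app_eq_zero i L (U := ⟨U, hU⟩) hy
    have hspan : i.ker.ideal ⟨U, hU⟩ = Ideal.span (Set.range fun l => b (g l)) := by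
      rw [hker, ← hg, ← Ideal.submodule_span_eq, Ideal.map_span, ← Set.range_comp]
      rfl
    rw [hspan] at hy2
    obtain ⟨v, hv⟩ : ∃ v : Γ(P, U), φ.app U v = y := by
      refine Submodule.smul_induction_on (p := fun m => ∃ v : Γ(P, U), φ.app U v = m) hy2 ?_ ?_
      · intro a ha m _
        obtain ⟨c, rfl⟩ := (Submodule.mem_span_range_iff_exists_fun _).1 ha
        refine ⟨∑ l, c l • (biproduct.ι (fun _ : Fin r => L) l).app U m, ?_⟩
        rw [map_sum, Finset.sum_smul]
        refine Finset.sum_congr rfl fun l _ => ?_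
        rw [Scheme.Modules.Hom.app_smul, ← ConcreteCategory.comp_apply, ← Scheme.Modules.Hom.comp_app,
          biproduct.ι_desc, smul_eq_mul, mul_smul]
        rfl
      · rintro m m' ⟨v, rfl⟩ ⟨v', rfl⟩
        exact ⟨v + v', map_add _ _ _⟩
    refine ⟨U, hUW, v, hpU, QC70.app_injective_of_mono (kernel.ι (QCPull72.pullUnit i L)) U ?_⟩
    rw [← ConcreteCategory.comp_apply, ← Scheme.Modules.Hom.comp_app, kernel.lift_ι]
    exact hv
  let S' := ShortComplex.mk (kernel.ι ψ) ψ (kernel.condition _)
  have hS' : S'.ShortExact :=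
    { exact := ShortComplex.exact_of_f_is_kernel _ (kernelIsKernel _) }
  haveI h2 : Subsingleton (Coh.HH X (kernel ψ) 2) := subsingleton_hh_two hdim _ (QC70.isCoh_kernel _ hP hK.1) 0
  have hψ : Function.Surjective (Crv77.hmap A ψ 1) := fun z =>
    ((Crv77.exact_g_δ A hS' 1 z).1 (Subsingleton.elim (α := Coh.HH X (kernel ψ) 2) _ _))
  have hι : Function.Surjective (Crv77.hmap A S.f 1) := fun z =>
    ((Crv77.exact_f_g A hS 1 z).1 (Subsingleton.elim (α := Coh.HH X N 1) _ _))
  haveI := Serre71.finite_hh_of_isProper A L hL 1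
  haveI hL1 : Subsingleton (Coh.HH X L 1) := by
    refine (Submodule.subsingleton_iff A).1 (subsingleton_of_bot_eq_top (Eq.symm ?_))
    refine Submodule.eq_bot_of_le_smul_of_le_jacobson_bot (IsLocalRing.maximalIdeal A) ⊤ Module.Finite.fg_top ?_
      (IsLocalRing.maximalIdeal_le_jacobson _)
    intro x _
    obtain ⟨z, rfl⟩ := hι x
    obtain ⟨w, rfl⟩ := hψ z
    rw [Crv77.hmap_comp, show ψ ≫ S.f = φ from kernel.lift_ι _ _ _,
      ← Crv77.hmap_id A P 1 w, ← biproduct.total, show ∀ (f : P ⟶ P), Crv77.hmap A f 1 w =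
        SerreD94.hmapHom (A := A) P P 1 w f from fun _ => rfl, map_sum, map_sum]
    refine Submodule.sum_mem _ fun l _ => ?_
    show Crv77.hmap A φ 1 (Crv77.hmap A (biproduct.π _ l ≫ biproduct.ι _ l) 1 w) ∈ _
    rw [Crv77.hmap_comp, Category.assoc, biproduct.ι_desc, ← Crv77.hmap_comp]
    exact Submodule.smul_mem_smul (hg ▸ Submodule.subset_span ⟨l, rfl⟩) (Submodule.mem_top
      (x := Crv77.hmap A (biproduct.π _ l) 1 w))
  haveI hK1 : Subsingleton (Coh.HH X (kernel (QCPull72.pullUnit i L)) 1) := by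
    refine subsingleton_of_forall_eq 0 fun z => ?_
    obtain ⟨w, rfl⟩ := hψ z
    rw [show w = 0 from ?_, map_zero]
    rw [← Crv77.hmap_id A P 1 w, ← biproduct.total, show ∀ (f : P ⟶ P), Crv77.hmap A f 1 w =
      SerreD94.hmapHom (A := A) P P 1 w f from fun _ => rfl, map_sum]
    refine Finset.sum_eq_zero fun l _ => ?_
    show Crv77.hmap A (biproduct.π _ l ≫ biproduct.ι _ l) 1 w = 0
    rw [← Crv77.hmap_comp, Subsingleton.elim (Crv77.hmap A (biproduct.π _ l) 1 w) 0, map_zero]
  intro y
  obtain ⟨z, hz⟩ := (Crv77.sec (X := X) N).surjective y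
  obtain ⟨x, rfl⟩ := (Crv77.exact_g_δ A hS 0 z).1 (Subsingleton.elim (α := Coh.HH X (kernel (QCPull72.pullUnit i L)) 1) _ _)
  exact ⟨Crv77.sec L x, (Crv77.sec_hmap A (M := L) (QCPull72.pullUnit i L) x).symm.trans hz⟩

include hdim hker in
/-- An invertible module trivial on a closed fibre without first cohomology is trivial. -/
theorem nonempty_iso_structureModule {L : X.Modules} (hL : PicF.IsInvertible L)
    (hrange : Set.range i = (X ↘ Spec (CommRingCat.of A)) ⁻¹' {IsLocalRing.closedPoint A})
    (hH1 : Subsingleton (Coh.HH Z ((Scheme.Modules.pullback i).obj L) 1))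
    (α : (Scheme.Modules.pullback i).obj L ≅ Coh.structureModule Z) :
    Nonempty (L ≅ Coh.structureModule X) := by
  haveI : IsLocallyNoetherian X := LocallyOfFiniteType.isLocallyNoetherian (X ↘ Spec (CommRingCat.of A))
  have hLf : FlatMod.IsFinLocFree L :=
    (LimTop61.isFinLocFreeOfRank_iff.mp (Mero90.isFinLocFreeOfRank_of_isInvertible hL)).1
  obtain ⟨e, he⟩ := SpreadBasis.exists_stalkBasis_top (n := 1)
    (α ≪≫ (coproductUniqueIso fun _ : Fin 1 => Coh.structureModule Z).symm)
  obtain ⟨t, ht⟩ := surjective_unit hdim i hker L (Amp73.isCoh_of_isInvertible hL) hH1 (e 0)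
  let s : Fin 1 → Γ(L, ⊤) := fun _ => t
  have hbase : ∀ z : Z, Function.Bijective (Props58.LocFree.germComb s (i z) trivial) := by
    intro z
    haveI := (FibreFree.free_finite_stalk hLf (i z)).1
    haveI := (FibreFree.free_finite_stalk hLf (i z)).2
    refine (FibreFree.germComb_pullS_iff i s z trivial).1 ?_
    rw [show (fun l => Amp73.pullS i L ⊤ (s l)) = e from funext fun l => by rw [Fin.fin_one_eq_zero l]; exact ht]
    exact he z trivial
  choose W hxW hWU hW using fun z => SpreadBasis.exists_nhd_basis hLf s (i z) trivial (hbase z)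
  have hΩ : ∀ x : X, ∃ z, x ∈ W z := by
    intro x
    by_contra hx
    let Ω : X.Opens := ⨆ z, W z
    have hc := (X ↘ Spec (CommRingCat.of A)).isClosedMap _ Ω.2.isClosed_compl
    have hmem : (X ↘ Spec (CommRingCat.of A)) x ∈ (X ↘ Spec (CommRingCat.of A)) '' (Ω : Set X)ᶜ :=
      ⟨x, fun h => hx (Opens.mem_iSup.1 h), rfl⟩
    obtain ⟨x', hx', hxc⟩ := (IsLocalRing.specializes_closedPoint
      ((X ↘ Spec (CommRingCat.of A)) x : PrimeSpectrum A)).mem_closed hc hmem
    obtain ⟨z, rfl⟩ : x' ∈ Set.range i := by rw [hrange]; exact hxc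
    exact hx' (Opens.mem_iSup.2 ⟨z, hxW z⟩)
  have hs : Props58.LocFree.StalkBasis s := fun x hx => (hΩ x).elim fun z hz => hW z x hx hz
  refine ParaF26.nonempty_iso_unit (e := t) fun V hV => ?_
  have hb := (hs.bijective hV).comp (Equiv.funUnique (Fin 1) Γ(X, V)).symm.bijective
  convert hb using 1
  funext c
  simp [s]

end Vanishing

/-- The structure sheaf pushed along an isomorphism has the cohomology of the structure sheaf. -/
theorem subsingleton_hh_of_iso {Z W : Scheme.{u}} (e : Z ⟶ W) [IsIso e] (n : ℕ)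
    (h : Subsingleton (Coh.HH W (Coh.structureModule W) n)) :
    Subsingleton (Coh.HH Z (Coh.structureModule Z) n) := by
  let φ : Coh.structureModule W ⟶ (Scheme.Modules.pushforward e).obj (Coh.structureModule Z) :=
    SheafOfModules.unitToPushforwardObjUnit e.toRingCatSheafHom
  haveI : IsIso φ := (Scheme.Modules.Hom.isIso_iff_isIso_app).2 fun U =>
    (ConcreteCategory.isIso_iff_bijective _).2 (ConcreteCategory.bijective_of_isIso (e.app U))
  haveI := Mero90.isQCoh_of_isInvertible (EGA73.isInvertible_structureModule (X := Z))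
  haveI := ValVan29.subsingleton_hh_of_iso (asIso φ) n h
  obtain ⟨η⟩ := Coh69.nonempty_hh_push e (Coh.structureModule Z) n
  exact η.toEquiv.subsingleton

/-- Over a Noetherian base, an invertible module trivial on a fibre of dimension at most one without first
cohomology has a basis over a neighbourhood. -/
theorem exists_nhd_stalkBasis {X Y : Scheme.{u}} (f : X ⟶ Y) [IsProper f] [IsLocallyNoetherian Y]
    {L : X.Modules} (hL : PicF.IsInvertible L) (y : Y) (hdim : topologicalKrullDim ↥(f.fiber y) ≤ 1)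
    (hH1 : Subsingleton (Coh.HH (f.fiber y) (Coh.structureModule (f.fiber y)) 1))
    (α : (Scheme.Modules.pullback (f.fiberι y)).obj L ≅ Coh.structureModule (f.fiber y)) :
    ∃ (V : Y.Opens) (m : Fin 1 → Γ(L, f ⁻¹ᵁ V)), y ∈ V ∧ Props58.LocFree.StalkBasis m := by
  let A : CommRingCat.{u} := Y.presheaf.stalk y
  let X₁ := pullback f (Y.fromSpecStalk y)
  let g : X₁ ⟶ X := pullback.fst f (Y.fromSpecStalk y)
  letI : X₁.Over (Spec (CommRingCat.of A)) := ⟨pullback.snd f (Y.fromSpecStalk y)⟩
  let h := X₁ ↘ Spec (CommRingCat.of A)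
  haveI : IsProper h := MorphismProperty.pullback_snd (P := @IsProper) f (Y.fromSpecStalk y) inferInstance
  let m := IsLocalRing.maximalIdeal (A : Type u)
  let i := CohB1.thickι h m 0
  haveI : IsClosedImmersion (CohB1.specQuot m 0) :=
    IsClosedImmersion.spec_of_surjective _ Ideal.Quotient.mk_surjective
  haveI : IsClosedImmersion i :=
    MorphismProperty.pullback_fst (P := @IsClosedImmersion) h (CohB1.specQuot m 0) inferInstance
  obtain ⟨e, he⟩ := Coh69.FibreAmple.exists_iso_fibre f y g h (IsPullback.of_hasPullback _ _)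
  have hrad : (m ^ (0 + 1)).radical = m := by rw [zero_add, pow_one]; exact (IsLocalRing.maximalIdeal.isMaximal _).isPrime.radical
  have hrange : Set.range i = h ⁻¹' {IsLocalRing.closedPoint A} := range_quot (A := A) _ hrad
  have hd : topologicalKrullDim (h ⁻¹' {IsLocalRing.closedPoint A}) ≤ 1 := by
    rw [← hrange, ← (i.isClosedEmbedding.isEmbedding.toHomeomorph).isHomeomorph.topologicalKrullDim_eq,
      (Scheme.homeoOfIso e).isHomeomorph.topologicalKrullDim_eq]
    exact hdim
  have hker : ∀ U : X₁.affineOpens, i.ker.ideal U =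
      m.map (Lift3.AdicLine.base (R := CommRingCat.of A) h U.1) := fun U => by
    refine (Lift3.AdicLine.ker_eq_map (R := CommRingCat.of A) (IsPullback.of_hasPullback h (CohB1.specQuot m 0))
      Ideal.Quotient.mk_surjective U).trans ?_
    exact congrArg (Ideal.map _) ((Ideal.mk_ker).trans (by rw [zero_add, pow_one]))
  have hL₁ := Amp73.isInvertible_pullback g hL
  let β : (Scheme.Modules.pullback i).obj ((Scheme.Modules.pullback g).obj L) ≅ Coh.structureModule _ :=
    (Scheme.Modules.pullbackComp i g).app L ≪≫ (Scheme.Modules.pullbackCongr he.symm).app L ≪≫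
      ((Scheme.Modules.pullbackComp e.hom (f.fiberι y)).app L).symm ≪≫
      (Scheme.Modules.pullback e.hom).mapIso α ≪≫ PicLoc.pullbackStructureIso e.hom
  have hH1' : Subsingleton (Coh.HH _ ((Scheme.Modules.pullback i).obj ((Scheme.Modules.pullback g).obj L)) 1) := by
    exact ValVan29.subsingleton_hh_of_iso β.symm 1 (subsingleton_hh_of_iso e.hom 1 hH1)
  obtain ⟨τ⟩ := nonempty_iso_structureModule hd i hker hL₁ hrange hH1' β
  have hLf : FlatMod.IsFinLocFree L :=
    (LimTop61.isFinLocFreeOfRank_iff.mp (Mero90.isFinLocFreeOfRank_of_isInvertible hL)).1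
  haveI := Props58.LocFree.isQuasicoherent_of_isFinLocFree hLf
  let τ₁ : (Scheme.Modules.pullback g).obj L ≅ FlatMod.freeMod X₁ 1 :=
    τ ≪≫ (coproductUniqueIso fun _ : Fin 1 => Coh.structureModule X₁).symm
  obtain ⟨V, hV, hyV, -⟩ := exists_isAffineOpen_mem_and_subset (X := Y) (x := y) (U := ⊤) trivial
  obtain ⟨b, hb⟩ := SpreadBasis.exists_sections_basis_fibre f L y hV hyV 1 τ₁
  choose W hxW hWU hW using fun (x : {x : X // f x = y}) =>
    SpreadBasis.exists_nhd_basis hLf b x.1 (show f x.1 ∈ V by rw [x.2]; exact hyV) (hb x.1 _ x.2)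
  let Ω : X.Opens := ⨆ x, W x
  let V₁ : Y.Opens := V ⊓ ⟨(f '' (Ω : Set X)ᶜ)ᶜ, (f.isClosedMap _ Ω.2.isClosed_compl).isOpen_compl⟩
  have hyV₁ : y ∈ V₁ := ⟨hyV, fun ⟨x, hx, e⟩ => hx (Opens.mem_iSup.2 ⟨⟨x, e⟩, hxW ⟨x, e⟩⟩)⟩
  refine ⟨V₁, fun l => QC70.res L (f.preimage_mono inf_le_left) (b l), hyV₁, fun z hz => ?_⟩
  have hzΩ : z ∈ Ω := by
    by_contra hc
    exact hz.2 ⟨z, hc, rfl⟩
  obtain ⟨x, hx⟩ := Opens.mem_iSup.1 hzΩ
  rw [show Props58.LocFree.germComb (fun l => QC70.res L (f.preimage_mono inf_le_left) (b l)) z hz =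
    Props58.LocFree.germComb b z hz.1 from funext (Props58.LocFree.germComb_res b _ z hz)]
  exact hW x z hz.1 hx

end Groth.Agent.FlatMor67.FibreLift
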