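import Groth.Agent.FlatMor67.FibreRing
import Mathlib.RingTheory.RegularLocalRing.Defs
import Mathlib.RingTheory.IntegralClosure.IntegrallyClosed

/-!
# Regularity and normality as local properties of rings; regular and normal morphisms via fibres
-/

set_option autoImplicit false
set_option backward.isDefEq.respectTransparency.types false
set_option linter.style.haveILetI false
universe u

open AlgebraicGeometry CategoryTheory CategoryTheory.Limits TensorProduct

noncomputable section

namespace Groth.Agent.FlatMor67.FibreRing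

attribute [local instance] Algebra.TensorProduct.rightAlgebra

/-- The local rings of a localisation are local rings. -/
theorem nonempty_localization_equiv {T : Type u} [CommRing T] (M : Submonoid T) (L : Type u) [CommRing L]
    [Algebra T L] [IsLocalization M L] (P : Ideal L) [P.IsPrime] :
    Nonempty (Localization.AtPrime (P.comap (algebraMap T L)) ≃+* Localization.AtPrime P) := by
  have : IsLocalization.AtPrime (Localization.AtPrime P) (P.comap (algebraMap T L)) :=
    IsLocalization.isLocalization_isLocalization_atPrime_isLocalization M _ P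
  exact ⟨(IsLocalization.algEquiv (P.comap (algebraMap T L)).primeCompl
    (Localization.AtPrime (P.comap (algebraMap T L))) (Localization.AtPrime P)).toRingEquiv⟩

theorem exists_prime_of_notMem {T : Type u} [CommRing T] (g : T) (P : Ideal T) [P.IsPrime] (hg : g ∉ P) :
    ∃ P' : Ideal (Localization.Away g), ∃ _ : P'.IsPrime, P'.comap (algebraMap T (Localization.Away g)) = P := by
  have hd : Disjoint (Submonoid.powers g : Set T) (P : Set T) := by
    rw [Set.disjoint_left]
    rintro _ ⟨k, rfl⟩ hk
    exact hg (‹P.IsPrime›.mem_of_pow_mem k hk)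
  exact ⟨P.map (algebraMap T _), IsLocalization.isPrime_of_isPrime_disjoint (Submonoid.powers g) _ P ‹_› hd,
    IsLocalization.comap_map_of_isPrime_disjoint (Submonoid.powers g) (Localization.Away g) ‹_› hd⟩

/-- Regular rings. -/
def RegQ : ∀ (T : Type u) [CommRing T], Prop := fun T _ => IsRegularRing T

/-- Normal rings. -/
def NorQ : ∀ (T : Type u) [CommRing T], Prop := fun T _ => EGA4.IsNormalRing T

theorem regQ_isLocalProp : IsLocalProp RegQ.{u} where
  iso e h := by
    have : IsRegularRing _ := h
    exact IsRegularRing.of_ringEquiv e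
  away {T _} g L _ _ _ h := by
    have : IsRegularRing T := h
    haveI : IsNoetherianRing L := IsLocalization.isNoetherianRing (Submonoid.powers g) L inferInstance
    refine isRegularRing_iff.mpr fun P _ => ?_
    obtain ⟨e⟩ := nonempty_localization_equiv (Submonoid.powers g) L P
    exact IsRegularLocalRing.of_ringEquiv e
  glue {T _ _} h := by
    refine isRegularRing_iff.mpr fun P _ => ?_
    obtain ⟨g, hg, hreg⟩ := h ⟨P, ‹_›⟩
    obtain ⟨P', _, rfl⟩ := exists_prime_of_notMem g P hg
    have : IsRegularRing (Localization.Away g) := hreg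
    obtain ⟨e⟩ := nonempty_localization_equiv (Submonoid.powers g) (Localization.Away g) P'
    exact IsRegularLocalRing.of_ringEquiv e.symm

theorem norQ_isLocalProp : IsLocalProp NorQ.{u} where
  iso {T T' _ _} e h := fun P _ => by
    obtain ⟨h1, h2⟩ := h (P.comap e.toRingHom)
    have hM : (P.comap e.toRingHom).primeCompl.map (e : T ≃+* T').toMonoidHom = P.primeCompl := by
      ext x
      constructor
      · rintro ⟨y, hy, rfl⟩; exact hy
      · intro hx; exact ⟨e.symm x, by simpa [Ideal.primeCompl] using hx, e.apply_symm_apply x⟩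
    let E : Localization.AtPrime (P.comap e.toRingHom) ≃+* Localization.AtPrime P :=
      IsLocalization.ringEquivOfRingEquiv _ _ e hM
    exact ⟨MulEquiv.isDomain _ E.symm.toMulEquiv, IsIntegrallyClosed.of_equiv E⟩
  away {T _} g L _ _ _ h := fun P _ => by
    obtain ⟨h1, h2⟩ := h (P.comap (algebraMap T L))
    obtain ⟨e⟩ := nonempty_localization_equiv (Submonoid.powers g) L P
    exact ⟨MulEquiv.isDomain _ e.symm.toMulEquiv, IsIntegrallyClosed.of_equiv e⟩
  glue {T _ _} h := fun P _ => by
    obtain ⟨g, hg, hnor⟩ := h ⟨P, ‹_›⟩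
    obtain ⟨P', _, rfl⟩ := exists_prime_of_notMem g P hg
    obtain ⟨h1, h2⟩ := hnor P'
    obtain ⟨e⟩ := nonempty_localization_equiv (Submonoid.powers g) (Localization.Away g) P'
    exact ⟨MulEquiv.isDomain _ e.toMulEquiv, IsIntegrallyClosed.of_equiv e.symm⟩

variable {X Y : Scheme.{u}} (f : X ⟶ Y)

theorem flat_iff_charts : Flat f ↔ ∀ (U : X.Opens) (V : Y.Opens) (_ : IsAffineOpen U) (_ : IsAffineOpen V)
    (e : U ≤ f ⁻¹ᵁ V), (f.appLE V U e).hom.Flat :=
  HasRingHomProperty.iff_appLE.trans
    ⟨fun h U V hU hV e => h ⟨V, hV⟩ ⟨U, hU⟩ e, fun h V U e => h U.1 V.1 U.2 V.2 e⟩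

/-- Regular ring maps on all charts: flat with geometrically regular fibres. -/
theorem regular_charts_iff (hN : ∀ y : Y, IsLocallyNoetherian (f.fiber y)) :
    (∀ (U : X.Opens) (V : Y.Opens) (hU : IsAffineOpen U) (hV : IsAffineOpen V) (hUV : U ≤ f ⁻¹ᵁ V),
        letI := (f.appLE V U hUV).hom.toAlgebra
        CAlg.IsRegularHom Γ(Y, V) Γ(X, U)) ↔ Flat f ∧ OnFibres f RegQ.{u} := by
  constructor
  · intro h
    exact ⟨(flat_iff_charts f).2 fun U V hU hV e => (h U V hU hV e).1,
      (onCharts_iff_onFibres f regQ_isLocalProp hN).1 fun U V hU hV e p _ => ((h U V hU hV e).2 p).2⟩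
  · rintro ⟨hfl, hfib⟩ U V hU hV e
    refine ⟨(flat_iff_charts f).1 hfl U V hU hV e, fun p hp => ?_⟩
    letI := (f.appLE V U e).hom.toAlgebra
    have hgeo := (onCharts_iff_onFibres f regQ_isLocalProp hN).2 hfib U V hU hV e p
    have hreg : IsRegularRing (p.ResidueField ⊗[p.ResidueField] (p.Fiber Γ(X, U))) := hgeo p.ResidueField inferInstance
    exact ⟨@isNoetherianRing_of_ringEquiv _ _ _ _
      (Algebra.TensorProduct.lid p.ResidueField (p.Fiber Γ(X, U))).toRingEquiv hreg.toIsNoetherian, hgeo⟩

/-- Normal ring maps on all charts: flat with geometrically normal fibres. -/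
theorem normal_charts_iff (hN : ∀ y : Y, IsLocallyNoetherian (f.fiber y)) :
    (∀ (U : X.Opens) (V : Y.Opens) (hU : IsAffineOpen U) (hV : IsAffineOpen V) (hUV : U ≤ f ⁻¹ᵁ V),
        letI := (f.appLE V U hUV).hom.toAlgebra
        EGA4.IsNormalHom Γ(Y, V) Γ(X, U)) ↔ Flat f ∧ OnFibres f NorQ.{u} := by
  constructor
  · intro h
    exact ⟨(flat_iff_charts f).2 fun U V hU hV e => (h U V hU hV e).1,
      (onCharts_iff_onFibres f norQ_isLocalProp hN).1 fun U V hU hV e p _ => (h U V hU hV e).2 p⟩
  · rintro ⟨hfl, hfib⟩ U V hU hV e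
    exact ⟨(flat_iff_charts f).1 hfl U V hU hV e,
      fun p _ => (onCharts_iff_onFibres f norQ_isLocalProp hN).2 hfib U V hU hV e p⟩

end Groth.Agent.FlatMor67.FibreRing
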