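import Groth.Agent.FlatMor67.KoszulLocusScheme
import Groth.Prelude.Def_Found
import Groth.Prelude.Def_EGA4b
import Mathlib.AlgebraicGeometry.Morphisms.SurjectiveOnStalks
import Mathlib.AlgebraicGeometry.Fiber

/-!
# Fibre rings of ring maps on charts and geometric properties of scheme-theoretic fibres
-/

set_option autoImplicit false
set_option backward.isDefEq.respectTransparency.types false
set_option linter.style.haveILetI false
universe u

open AlgebraicGeometry CategoryTheory CategoryTheory.Limits TensorProduct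

noncomputable section

namespace Groth.Agent.FlatMor67.FibreRing

attribute [local instance] Algebra.TensorProduct.rightAlgebra

/-- A property of rings asked of all finite extensions of the scalars. -/
def Geo (Q : ∀ (T : Type u) [CommRing T], Prop) (k S : Type u) [Field k] [CommRing S] [Algebra k S] : Prop :=
  ∀ (k' : Type u) [Field k'] [Algebra k k'], Module.Finite k k' → Q (k' ⊗[k] S)

/-- A property of rings invariant under isomorphism and local on the spectrum. -/
structure IsLocalProp (Q : ∀ (T : Type u) [CommRing T], Prop) : Prop where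
  iso : ∀ {T T' : Type u} [CommRing T] [CommRing T'], (T ≃+* T') → Q T → Q T'
  away : ∀ {T : Type u} [CommRing T] (g : T) (L : Type u) [CommRing L] [Algebra T L] [IsLocalization.Away g L],
    Q T → Q L
  glue : ∀ {T : Type u} [CommRing T] [IsNoetherianRing T],
    (∀ P : PrimeSpectrum T, ∃ g, g ∉ P.asIdeal ∧ Q (Localization.Away g)) → Q T

variable {Q : ∀ (T : Type u) [CommRing T], Prop}

theorem geo_of_algEquiv (hQ : IsLocalProp Q) {k S S' : Type u} [Field k] [CommRing S] [Algebra k S]
    [CommRing S'] [Algebra k S'] (e : S ≃ₐ[k] S') (h : Geo Q k S) : Geo Q k S' := fun k' _ _ hk =>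
  hQ.iso (Algebra.TensorProduct.congr (AlgEquiv.refl (R := k) (A₁ := k')) e).toRingEquiv (h k' hk)

/-- Transport along an isomorphism of the field. -/
theorem geo_of_field_surjective (hQ : IsLocalProp Q) {k l S : Type u} [Field k] [Field l] [CommRing S]
    [Algebra k l] [Algebra k S] [Algebra l S] [IsScalarTower k l S] (hs : Function.Surjective (algebraMap k l)) :
    Geo Q k S ↔ Geo Q l S := by
  constructor
  · intro h k' _ _ hk
    letI : Algebra k k' := ((algebraMap l k').comp (algebraMap k l)).toAlgebra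
    haveI : IsScalarTower k l k' := .of_algebraMap_eq' rfl
    haveI : Module.Finite k l := Module.Finite.of_surjective (Algebra.linearMap k l) hs
    haveI : Module.Finite k k' := Module.Finite.trans l k'
    haveI : TensorProduct.CompatibleSMul k l k' S := TensorProduct.CompatibleSMul.of_algebraMap_surjective k' S hs
    exact hQ.iso (Algebra.TensorProduct.equivOfCompatibleSMul k l k k' S).symm.toRingEquiv
      (h k' inferInstance)
  · intro h k' _ _ hk
    let σ : k ≃+* l := RingEquiv.ofBijective (algebraMap k l) ⟨(algebraMap k l).injective, hs⟩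
    letI : Algebra l k' := ((algebraMap k k').comp σ.symm.toRingHom).toAlgebra
    haveI : IsScalarTower k l k' := .of_algebraMap_eq fun x =>
      (congrArg (algebraMap k k') (σ.symm_apply_apply x)).symm
    haveI : Module.Finite l k' := Module.Finite.of_restrictScalars_finite k l k'
    haveI : TensorProduct.CompatibleSMul k l k' S := TensorProduct.CompatibleSMul.of_algebraMap_surjective k' S hs
    exact hQ.iso (Algebra.TensorProduct.equivOfCompatibleSMul k l k k' S).toRingEquiv
      (h k' inferInstance)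

theorem geo_away (hQ : IsLocalProp Q) {k S : Type u} [Field k] [CommRing S] [Algebra k S] (g : S) (L : Type u)
    [CommRing L] [Algebra S L] [Algebra k L] [IsScalarTower k S L] [IsLocalization.Away g L] (h : Geo Q k S) :
    Geo Q k L := fun k' _ _ hk =>
  hQ.iso (IsLocalization.Away.tensorProductEquivTMulRight k k' g L).symm.toRingEquiv
    (hQ.away ((1 : k') ⊗ₜ[k] g) _ (h k' hk))

theorem geo_glue (hQ : IsLocalProp Q) {k S : Type u} [Field k] [CommRing S] [Algebra k S] [IsNoetherianRing S]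
    (h : ∀ P : PrimeSpectrum S, ∃ g, g ∉ P.asIdeal ∧ Geo Q k (Localization.Away g)) : Geo Q k S := by
  intro k' _ _ hk
  haveI : IsNoetherianRing (k' ⊗[k] S) := by
    haveI : Module.Finite S (S ⊗[k] k') := inferInstance
    haveI : IsNoetherianRing (S ⊗[k] k') := isNoetherian_of_tower S (isNoetherian_of_isNoetherianRing_of_finite S _)
    exact isNoetherianRing_of_ringEquiv _ (Algebra.TensorProduct.comm k S k').toRingEquiv
  refine hQ.glue fun P => ?_
  obtain ⟨g, hg, hgeo⟩ := h (PrimeSpectrum.comap (algebraMap S (k' ⊗[k] S)) P)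
  refine ⟨(1 : k') ⊗ₜ[k] g, hg, ?_⟩
  exact hQ.iso (IsLocalization.Away.tensorProductEquivTMulRight k k' g (Localization.Away g)).toRingEquiv (hgeo k' hk)

variable {X Y : Scheme.{u}} (f : X ⟶ Y)

/-- The scalars `κ(y)` on the sections of the fibre. -/
abbrev algFib (y : Y) (W : (f.fiber y).Opens) : Algebra ↑(Y.residueField y) ↑Γ(f.fiber y, W) :=
  ((Scheme.ΓSpecIso (Y.residueField y)).inv ≫ (f.fiberToSpecResidueField y).appTop ≫
    (f.fiber y).presheaf.map (homOfLE le_top).op).hom.toAlgebra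

/-- The property for the fibre rings of the ring maps of all affine charts. -/
def OnCharts (Q : ∀ (T : Type u) [CommRing T], Prop) : Prop :=
  ∀ (U : X.Opens) (V : Y.Opens) (_ : IsAffineOpen U) (_ : IsAffineOpen V) (e : U ≤ f ⁻¹ᵁ V),
    letI := (f.appLE V U e).hom.toAlgebra
    ∀ (p : Ideal Γ(Y, V)) [p.IsPrime], Geo Q p.ResidueField (p.Fiber Γ(X, U))

/-- The property for all affine opens of all fibres. -/
def OnFibres (Q : ∀ (T : Type u) [CommRing T], Prop) : Prop :=
  ∀ (y : Y) (W : (f.fiber y).Opens), IsAffineOpen W → letI := algFib f y W; Geo Q (Y.residueField y) Γ(f.fiber y, W)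

/-- The piece of the fibre over an affine chart is the fibre ring of that chart. -/
theorem geo_fibre_piece (hQ : IsLocalProp Q) {U : X.Opens} {V : Y.Opens} (hU : IsAffineOpen U)
    (hV : IsAffineOpen V) (e : U ≤ f ⁻¹ᵁ V) {y : Y} (hy : y ∈ V) (p : Ideal Γ(Y, V)) [p.IsPrime]
    (hp : (hV.primeIdealOf ⟨y, hy⟩).asIdeal = p) :
    IsAffineOpen ((f.fiberι y) ⁻¹ᵁ U) ∧
      ((letI := (f.appLE V U e).hom.toAlgebra; Geo Q p.ResidueField (p.Fiber Γ(X, U))) ↔
        (letI := algFib f y ((f.fiberι y) ⁻¹ᵁ U); Geo Q (Y.residueField y) Γ(f.fiber y, (f.fiberι y) ⁻¹ᵁ U))) := by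
  subst hp
  set p := (hV.primeIdealOf ⟨y, hy⟩).asIdeal with hpdef
  let S' := Spec (Y.residueField y)
  let c := Y.fromSpecResidueField y
  have hc : IsPullback (f.fiberι y) (f.fiberToSpecResidueField y) f c := IsPullback.of_hasPullback _ _
  have hcV : (⊤ : S'.Opens) ≤ c ⁻¹ᵁ V := fun z _ => by
    show c z ∈ V
    rw [Scheme.fromSpecResidueField_apply]
    exact hy
  obtain ⟨hW, hpo⟩ := KoszulLocus.isPushout_sections hc hU hV (isAffineOpen_top S') hcV e
  have hinf : f.fiberι y ⁻¹ᵁ U ⊓ f.fiberToSpecResidueField y ⁻¹ᵁ ⊤ = f.fiberι y ⁻¹ᵁ U :=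
    inf_eq_left.2 fun z _ => trivial
  rw [← hinf]
  refine ⟨hW, ?_⟩
  set W := f.fiberι y ⁻¹ᵁ U ⊓ f.fiberToSpecResidueField y ⁻¹ᵁ ⊤ with hWdef
  letI aAB := (f.appLE V U e).hom.toAlgebra
  letI aAK := (c.appLE V ⊤ hcV).hom.toAlgebra
  letI aKT := ((f.fiberToSpecResidueField y).appLE ⊤ W inf_le_right).hom.toAlgebra
  letI aBT := ((f.fiberι y).appLE U W inf_le_left).hom.toAlgebra
  letI aAT := ((c.appLE V ⊤ hcV) ≫ (f.fiberToSpecResidueField y).appLE ⊤ W inf_le_right).hom.toAlgebra
  obtain ⟨_, _, hpo⟩ := hpo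
  let K := Γ(S', ⊤)
  letI : Field K := ((Scheme.ΓSpecIso (Y.residueField y)).commRingCatIsoToRingEquiv.toMulEquiv.isField
    (Field.toIsField _)).toField
  letI aκK : Algebra (Y.residueField y) K := (Scheme.ΓSpecIso (Y.residueField y)).inv.hom.toAlgebra
  letI aκT := algFib f y W
  haveI : IsScalarTower (Y.residueField y) K Γ(f.fiber y, W) := .of_algebraMap_eq' rfl
  rw [geo_of_field_surjective hQ (k := Y.residueField y) (l := K) (S := Γ(f.fiber y, W))
    (ConcreteCategory.bijective_of_isIso (Scheme.ΓSpecIso (Y.residueField y)).inv).2]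
  -- the residue field of the chart
  let pt : S' := default
  have hker : ∀ a ∈ p, algebraMap Γ(Y, V) K a = 0 := fun a ha => by
    by_contra hne
    have h1 := KoszulLocus.comap_primeIdealOf c (isAffineOpen_top S') hV hcV (x := pt) trivial
    have h2 : (⟨c pt, hcV trivial⟩ : V) = ⟨y, hy⟩ := Subtype.ext (Scheme.fromSpecResidueField_apply _ _)
    rw [h2] at h1
    have h3 : algebraMap Γ(Y, V) K a ∈ ((isAffineOpen_top S').primeIdealOf ⟨pt, trivial⟩).asIdeal :=
      (SetLike.ext_iff.1 h1 a).2 ha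
    exact ((isAffineOpen_top S').primeIdealOf ⟨pt, trivial⟩).isPrime.ne_top
      (Ideal.eq_top_of_isUnit_mem _ h3 (isUnit_iff_ne_zero.2 hne))
  have hunit : ∀ a ∉ p, IsUnit (algebraMap Γ(Y, V) K a) := fun a ha => isUnit_iff_ne_zero.2 fun h0 => by
    have h1 := KoszulLocus.comap_primeIdealOf c (isAffineOpen_top S') hV hcV (x := pt) trivial
    have h2 : (⟨c pt, hcV trivial⟩ : V) = ⟨y, hy⟩ := Subtype.ext (Scheme.fromSpecResidueField_apply _ _)
    rw [h2] at h1
    refine ha ((SetLike.ext_iff.1 h1 a).1 ?_)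
    show algebraMap Γ(Y, V) K a ∈ ((isAffineOpen_top S').primeIdealOf ⟨pt, trivial⟩).asIdeal
    rw [h0]
    exact zero_mem _
  let j : p.ResidueField →ₐ[Γ(Y, V)] K := Ideal.ResidueField.liftₐ p (Algebra.ofId _ _) (fun a ha => hker a ha) hunit
  have hj : Function.Surjective j := by
    have hsos : (c.appLE V ⊤ hcV).hom.SurjectiveOnStalks :=
      HasRingHomProperty.appLE @SurjectiveOnStalks c inferInstance ⟨V, hV⟩ ⟨⊤, isAffineOpen_top S'⟩ hcV
    intro z
    obtain ⟨a, s, d, hd, hs, heq⟩ := (RingHom.surjectiveOnStalks_iff_forall_ideal.1 hsos) ⊥ bot_ne_top z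
    refine ⟨algebraMap _ _ a / algebraMap _ _ s, ?_⟩
    rw [map_div₀, AlgHom.commutes, AlgHom.commutes]
    refine (div_eq_iff (show algebraMap Γ(Y, V) K s ≠ 0 from fun h0 => hs (Ideal.mem_bot.2 h0))).2 ?_
    have hd0 : d ≠ 0 := by simpa using hd
    rw [mul_assoc] at heq
    exact ((mul_left_cancel₀ hd0 heq).symm.trans (mul_comm _ _))
  letI : Algebra p.ResidueField K := j.toRingHom.toAlgebra
  haveI : IsScalarTower Γ(Y, V) p.ResidueField K := .of_algebraMap_eq fun a => (j.commutes a).symm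
  letI : Algebra p.ResidueField Γ(f.fiber y, W) := ((algebraMap K Γ(f.fiber y, W)).comp j.toRingHom).toAlgebra
  haveI : IsScalarTower p.ResidueField K Γ(f.fiber y, W) := .of_algebraMap_eq' rfl
  rw [← geo_of_field_surjective hQ (k := p.ResidueField) (l := K) (S := Γ(f.fiber y, W)) hj]
  let jE : p.ResidueField ≃ₐ[Γ(Y, V)] K := AlgEquiv.ofBijective j ⟨j.toRingHom.injective, hj⟩
  let E : p.Fiber Γ(X, U) ≃+* Γ(f.fiber y, W) :=
    (Algebra.TensorProduct.congr jE (AlgEquiv.refl (R := Γ(Y, V)) (A₁ := Γ(X, U)))).toRingEquiv.trans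
      (Algebra.IsPushout.equiv Γ(Y, V) K Γ(X, U) Γ(f.fiber y, W)).toRingEquiv
  have hE : ∀ z, E (algebraMap p.ResidueField (p.Fiber Γ(X, U)) z) = algebraMap p.ResidueField Γ(f.fiber y, W) z :=
    fun z => (Algebra.IsPushout.equiv Γ(Y, V) K Γ(X, U) Γ(f.fiber y, W)).commutes (j z)
  let EA : p.Fiber Γ(X, U) ≃ₐ[p.ResidueField] Γ(f.fiber y, W) := AlgEquiv.ofRingEquiv (f := E) hE
  exact ⟨geo_of_algEquiv hQ EA, geo_of_algEquiv hQ EA.symm⟩

/-- Passing to a basic open of an affine open of the fibre. -/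
theorem geo_fibre_basicOpen (hQ : IsLocalProp Q) (y : Y) {W : (f.fiber y).Opens} (hW : IsAffineOpen W)
    (g : Γ(f.fiber y, W)) (h : letI := algFib f y W; Geo Q (Y.residueField y) Γ(f.fiber y, W)) :
    letI := algFib f y ((f.fiber y).basicOpen g)
    Geo Q (Y.residueField y) Γ(f.fiber y, (f.fiber y).basicOpen g) := by
  letI := algFib f y W
  letI := algFib f y ((f.fiber y).basicOpen g)
  haveI := hW.isLocalization_basicOpen g
  haveI : IsScalarTower (Y.residueField y) Γ(f.fiber y, W) Γ(f.fiber y, (f.fiber y).basicOpen g) := by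
    refine .of_algebraMap_eq' ?_
    show _ = ((f.fiber y).presheaf.map (homOfLE ((f.fiber y).basicOpen_le g)).op).hom.comp _
    rw [RingHom.algebraMap_toAlgebra, RingHom.algebraMap_toAlgebra, ← CommRingCat.hom_comp]
    simp only [Category.assoc, ← Functor.map_comp]
    rfl
  exact geo_away hQ g _ h

/-- A geometric property of the fibre rings of charts is one of the scheme-theoretic fibres. -/
theorem onCharts_iff_onFibres (hQ : IsLocalProp Q) (hN : ∀ y : Y, IsLocallyNoetherian (f.fiber y)) :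
    OnCharts f Q ↔ OnFibres f Q := by
  constructor
  · intro h y W hW
    letI := algFib f y W
    haveI := hN y
    haveI : IsNoetherianRing Γ(f.fiber y, W) := IsLocallyNoetherian.component_noetherian ⟨W, hW⟩
    refine geo_glue hQ fun P => ?_
    let z : f.fiber y := hW.fromSpec P
    have hzW : z ∈ W := hW.range_fromSpec.le ⟨P, rfl⟩
    obtain ⟨_, ⟨V, hV, rfl⟩, hxV, -⟩ :=
      Y.isBasis_affineOpens.exists_subset_of_mem_open (Set.mem_univ (f (f.fiberι y z))) isOpen_univ
    obtain ⟨_, ⟨U, hU, rfl⟩, hxU, hUV⟩ :=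
      X.isBasis_affineOpens.exists_subset_of_mem_open (show f.fiberι y z ∈ f ⁻¹ᵁ V from hxV) (f ⁻¹ᵁ V).isOpen
    have hyV : y ∈ V := by
      have h1 : f.fiberι y z ∈ f ⁻¹' {y} := f.range_fiberι y ▸ Set.mem_range_self z
      rwa [show f (f.fiberι y z) = y from h1] at hxV
    obtain ⟨hW₀, hgeo⟩ := geo_fibre_piece f hQ hU hV hUV hyV _ rfl
    have hpiece := hgeo.1 (h U V hU hV hUV _)
    obtain ⟨g, g', hgg, hzg⟩ := exists_basicOpen_le_affine_inter hW hW₀ z ⟨hzW, hxU⟩
    refine ⟨g, ?_, ?_⟩
    · have h2 : P ∈ hW.fromSpec ⁻¹ᵁ (f.fiber y).basicOpen g := hzg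
      rwa [hW.fromSpec_preimage_basicOpen] at h2
    · have h3 := geo_fibre_basicOpen f hQ y hW₀ g' hpiece
      rw [← hgg] at h3
      letI := algFib f y ((f.fiber y).basicOpen g)
      haveI := hW.isLocalization_basicOpen g
      haveI : IsScalarTower (Y.residueField y) Γ(f.fiber y, W) Γ(f.fiber y, (f.fiber y).basicOpen g) := by
        refine .of_algebraMap_eq' ?_
        show _ = ((f.fiber y).presheaf.map (homOfLE ((f.fiber y).basicOpen_le g)).op).hom.comp _
        rw [RingHom.algebraMap_toAlgebra, RingHom.algebraMap_toAlgebra, ← CommRingCat.hom_comp]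
        simp only [Category.assoc, ← Functor.map_comp]
        rfl
      exact geo_of_algEquiv hQ ((IsLocalization.algEquiv (Submonoid.powers g) Γ(f.fiber y, (f.fiber y).basicOpen g)
        (Localization.Away g)).restrictScalars (Y.residueField y)) h3
  · intro h U V hU hV e p hp
    let y : Y := hV.fromSpec ⟨p, hp⟩
    have hy : y ∈ V := hV.range_fromSpec.le ⟨_, rfl⟩
    have hpy : (hV.primeIdealOf ⟨y, hy⟩).asIdeal = p := congrArg PrimeSpectrum.asIdeal
      (show hV.primeIdealOf ⟨y, hy⟩ = ⟨p, hp⟩ from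
        hV.fromSpec.isOpenEmbedding.injective (hV.fromSpec_primeIdealOf _))
    obtain ⟨hW₀, hgeo⟩ := geo_fibre_piece f hQ hU hV e hy p hpy
    exact hgeo.2 (h y _ hW₀)

end Groth.Agent.FlatMor67.FibreRing
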