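import Groth.Agent.Mum71.BcRows
import Groth.Agent.Mum71.ModelBC
import Groth.Agent.ValVan29.Vanish
import Groth.Agent.EGA73.Tensor

/-!
Vanishing of the cohomology of fibres of proper flat families: base change and the link with higher direct images.
-/

set_option autoImplicit false
set_option maxSynthPendingDepth 6
set_option synthInstance.maxHeartbeats 200000
set_option linter.style.haveILetI false
set_option backward.isDefEq.respectTransparency.types false
set_option maxHeartbeats 1000000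

universe u

noncomputable section

open CategoryTheory CategoryTheory.Limits AlgebraicGeometry TopologicalSpace Opposite TensorProduct

namespace Groth.Agent.FlatMor67.FibreVanish

open Groth.Agent.Mum71 Split

variable {X S : Scheme.{u}}

theorem subsingleton_fiberH_of_iso (f : X ⟶ S) {F G : X.Modules} (e : F ≅ G) (y : S) (p : ℕ)
    (h : Subsingleton (CohIII.fiberH f F y p)) : Subsingleton (CohIII.fiberH f G y p) :=
  ValVan29.subsingleton_hh_of_iso ((Scheme.Modules.pullback (f.fiberι y)).mapIso e) p h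

section Alg

variable {A : Type u} [CommRing A] {P₀ P Q : Type u} [AddCommGroup P₀] [Module A P₀] [AddCommGroup P] [Module A P]
  [AddCommGroup Q] [Module A Q] {e : P →ₗ[A] Q} {d : P₀ →ₗ[A] P}

/-- Exactness passes to base changes where the cycles split. -/
theorem exact_baseChange {a : A} (h : SplitsAt e a) (hker : ∀ v, e v = 0 → a • v ∈ LinearMap.range d)
    (B : Type u) [CommRing B] [Algebra A B] (hu : IsUnit (algebraMap A B a)) (z : B ⊗[A] P)
    (hz : e.baseChange B z = 0) : z ∈ LinearMap.range (d.baseChange B) := by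
  obtain ⟨w, rfl⟩ := Split.mem_range_of_splitsAt B h hu z hz
  clear hz
  induction w with
  | zero => rw [map_zero]; exact Submodule.zero_mem _
  | add w₁ w₂ h₁ h₂ => rw [map_add]; exact Submodule.add_mem _ h₁ h₂
  | tmul b v =>
    obtain ⟨q, hq⟩ := hker v.1 v.2
    refine ⟨((↑hu.unit⁻¹ : B) * b) ⊗ₜ q, ?_⟩
    rw [LinearMap.baseChange_tmul, hq, TensorProduct.tmul_smul, TensorProduct.smul_tmul', LinearMap.baseChange_tmul,
      Algebra.smul_def, ← mul_assoc, IsUnit.mul_val_inv, one_mul]
    rfl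

/-- Below a split exact spot the differential splits. -/
theorem splitsAt_of_exact [Module.Projective A P] (hde : e ∘ₗ d = 0) (he : SplitsAt e (1 : A))
    (hker : ∀ v, e v = 0 → v ∈ LinearMap.range d) : SplitsAt d (1 : A) := by
  obtain ⟨s, hs⟩ := he
  let d' := d.codRestrict (LinearMap.ker e) fun v => LinearMap.congr_fun hde v
  have hd' : Function.Surjective d' := fun v => by
    obtain ⟨w, hw⟩ := hker v.1 v.2
    exact ⟨w, Subtype.ext hw⟩
  obtain ⟨t, ht⟩ := Module.projective_lifting_property d' (proj hs) hd'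
  refine ⟨t, LinearMap.ext fun w => ?_⟩
  have h1 : d (t (d w)) = (proj hs (d w)).1 := congrArg Subtype.val (LinearMap.congr_fun ht (d w))
  have h2 : e (d w) = 0 := LinearMap.congr_fun hde w
  simp [h1, proj_val, h2]

end Alg

section BaseChange

variable {X' S' : Scheme.{u}} {f : X ⟶ S} {f' : X' ⟶ S'} {g' : X' ⟶ X} {g : S' ⟶ S}

/-- Vanishing on a fibre is insensitive to base change. -/
theorem fiberH_iff [IsProper f] [LocallyOfFinitePresentation f] (hX : IsPullback g' f' f g) {F : X.Modules}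
    [F.IsQuasicoherent] (hfp : CohB1.IsFP F) (hfl : FlatMod.IsFlatOver f F) (z : S') (p : ℕ) :
    Subsingleton (CohIII.fiberH f F (g z) p) ↔
      Subsingleton (CohIII.fiberH f' ((Scheme.Modules.pullback g').obj F) z p) := by
  obtain ⟨V, hV, hgz, -⟩ := exists_isAffineOpen_mem_and_subset (X := S) (x := g z) (U := ⊤) trivial
  obtain ⟨V', hV', hz, hVV'⟩ := exists_isAffineOpen_mem_and_subset (X := S') (x := z) (U := g ⁻¹ᵁ V) hgz
  obtain ⟨M, hM⟩ := exists_cohModel_bc hfp hfl hV
  letI : Algebra Γ(S, V) Γ(S', V') := (g.appLE V V' hVV').hom.toAlgebra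
  obtain ⟨M', e, he⟩ := hM g' f' g hX V' hV' hVV'
  let k := S'.residueField z
  letI : Algebra Γ(S', V') k := (S'.evaluation V' z hz).hom.toAlgebra
  letI : Algebra Γ(S, V) k := ((algebraMap Γ(S', V') k).comp (algebraMap Γ(S, V) Γ(S', V'))).toAlgebra
  haveI : IsScalarTower Γ(S, V) Γ(S', V') k := .of_algebraMap_eq' rfl
  have hne : ∀ a : Γ(S, V), algebraMap Γ(S, V) k a ≠ 0 ↔ g z ∈ S.basicOpen a := fun a => by
    refine (S'.evaluation_ne_zero_iff_mem_basicOpen z hz (g.appLE V V' hVV' a)).trans ?_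
    rw [Scheme.Hom.appLE, CommRingCat.comp_apply, Scheme.basicOpen_res, ← Scheme.preimage_basicOpen]
    exact ⟨fun h => h.2, fun h => ⟨hz, h⟩⟩
  let ψ : ∀ i, k ⊗[Γ(S', V')] M'.K.X i ≃ₗ[k] k ⊗[Γ(S, V)] M.K.X i := fun i =>
    ((e i).baseChange Γ(S', V') k (M'.K.X i) (Γ(S', V') ⊗[Γ(S, V)] M.K.X i)).trans
      (AlgebraTensorModule.cancelBaseChange Γ(S, V) Γ(S', V') k k (M.K.X i))
  have hψ : ∀ i j x, ψ j ((M'.K.d i j).hom.baseChange k x) = (M.K.d i j).hom.baseChange k (ψ i x) := by
    intro i j x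
    induction x with
    | zero => simp only [map_zero]
    | add x y hx hy => simp only [map_add, hx, hy]
    | tmul b m =>
      simp only [ψ, LinearEquiv.trans_apply, LinearEquiv.baseChange_tmul, LinearMap.baseChange_tmul, he]
      induction e i m with
      | zero => simp only [map_zero, TensorProduct.tmul_zero]
      | add x y hx hy => simp only [map_add, TensorProduct.tmul_add, hx, hy]
      | tmul c n => simp
  constructor
  · intro h
    obtain ⟨a, ha, hva⟩ := exists_vanishAt hV M p hgz h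
    obtain ⟨c, hcs, hc0, -⟩ := M'.fibre z hz p
    refine subsingleton_of_forall_eq 0 fun x => ?_
    obtain ⟨w, rfl⟩ := hcs x
    rw [hc0]
    have h0 : (M.K.d (p : ℤ) ((p : ℤ) + 1)).hom.baseChange k (ψ p w.1) = 0 := by
      rw [← hψ, w.2, map_zero]
    obtain ⟨y, hy⟩ := exact_baseChange hva.1 hva.2.2 k (Ne.isUnit ((hne a).2 ha)) _ h0
    refine ⟨(ψ _).symm y, (ψ _).injective ?_⟩
    rw [hψ, LinearEquiv.apply_symm_apply, hy]
  · intro h
    obtain ⟨c, -, hc0, -⟩ := M'.fibre z hz p
    obtain ⟨a, ha, he1, hd1, hk⟩ := Split.exists_splitsAt_of_exact_at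
      (e := (M.K.d (p : ℤ) ((p : ℤ) + 1)).hom) (d := (M.K.d ((p : ℤ) - 1) (p : ℤ)).hom)
      (d_comp M _ (p : ℤ) _) k fun x hx => by
      obtain ⟨w, hw⟩ := (hc0 ⟨(ψ p).symm x, by
        apply (ψ _).injective
        rw [hψ, LinearEquiv.apply_symm_apply, hx, map_zero]⟩).1 (@Subsingleton.elim _ h _ _)
      refine ⟨ψ _ w, ?_⟩
      rw [← hψ, hw, LinearEquiv.apply_symm_apply]
    exact subsingleton_fiberH_of_vanishAt M ⟨he1, hd1, hk⟩ ((hne a).1 ha)

end BaseChange

/-- If the higher direct images vanish, so does the higher cohomology of the fibres. -/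
theorem subsingleton_fiberH_of_rpush {f : X ⟶ S} [HasInjectiveResolutions X.Modules] [IsProper f]
    [LocallyOfFinitePresentation f] {F : X.Modules} [F.IsQuasicoherent] (hfp : CohB1.IsFP F)
    (hfl : FlatMod.IsFlatOver f F) (h0 : ∀ q : ℕ, 1 ≤ q → IsZero ((Coh.Rpush f q).obj F)) (y : S) (p : ℕ)
    (hp : 1 ≤ p) : Subsingleton (CohIII.fiberH f F y p) := by
  obtain ⟨V, hV, hy, -⟩ := exists_isAffineOpen_mem_and_subset (X := S) (x := y) (U := ⊤) trivial
  obtain ⟨M⟩ := exists_cohModel f F hfp hfl hV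
  have hex : ∀ q : ℕ, 1 ≤ q → ∀ v, (M.K.d (q : ℤ) ((q : ℤ) + 1)).hom v = 0 →
      v ∈ LinearMap.range (M.K.d ((q : ℤ) - 1) (q : ℤ)).hom := fun q hq v hv => by
    haveI := subsingleton_of_isZero' (V := V) _ (h0 q hq)
    obtain ⟨u, -, hu0⟩ := exists_secLin hV M q
    exact (hu0 ⟨v, hv⟩).1 (Subsingleton.elim _ _)
  obtain ⟨N, hN⟩ := exists_splitsAt_large M
  have hsplit : ∀ (n q : ℕ), N < (q : ℤ) + n → SplitsAt (M.K.d (q : ℤ) ((q : ℤ) + 1)).hom (1 : Γ(S, V)) := by
    intro n
    induction n with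
    | zero => exact fun q hq => hN _ (by simpa using hq)
    | succ n ih =>
      intro q hq
      have h1 := ih (q + 1) (by push_cast at hq ⊢; omega)
      exact splitsAt_d_congr M (by push_cast; omega) (by push_cast; omega)
        (splitsAt_of_exact (d_comp M _ ((q + 1 : ℕ) : ℤ) _) h1 (hex (q + 1) (by omega)))
  have h1 := hsplit (N - p + 1).toNat p (by omega)
  have h2 := hsplit (N - ((p - 1 : ℕ) : ℤ) + 1).toNat (p - 1) (by omega)
  exact subsingleton_fiberH_of_vanishAt M (a := 1)
    ⟨h1, splitsAt_d_congr M (by omega) (by omega) h2, fun v hv => by rw [one_smul]; exact hex p hp v hv⟩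
    (by rw [Scheme.basicOpen_of_isUnit S isUnit_one]; exact hy)

/-- If the higher direct images vanish, so does the cohomology over preimages of affine opens. -/
theorem subsingleton_hhon {f : X ⟶ S} [HasInjectiveResolutions X.Modules] [IsProper f]
    [LocallyOfFinitePresentation f] {F : X.Modules} [F.IsQuasicoherent] (hfp : CohB1.IsFP F)
    (hfl : FlatMod.IsFlatOver f F) (h0 : ∀ q : ℕ, 1 ≤ q → IsZero ((Coh.Rpush f q).obj F)) {V : S.Opens}
    (hV : IsAffineOpen V) (p : ℕ) (hp : 1 ≤ p) : Subsingleton (Coh.HHon X F (f ⁻¹ᵁ V) p) := by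
  obtain ⟨M⟩ := exists_cohModel f F hfp hfl hV
  haveI := subsingleton_of_isZero' (V := V) _ (h0 p hp)
  obtain ⟨u, -, hu0⟩ := exists_secLin hV M p
  refine subsingleton_of_forall_eq 0 fun x => ?_
  obtain ⟨z, rfl⟩ := M.cls_surjective p x
  exact (M.cls_eq_zero p z).2 ((hu0 z).1 (Subsingleton.elim _ _))

end Groth.Agent.FlatMor67.FibreVanish
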