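import Mathlib

/-!
Finite surjective morphisms over a basic open of an affine scheme are dominated by finite
surjective morphisms over the whole scheme.
-/

set_option autoImplicit false
set_option linter.style.haveILetI false

universe u

open CategoryTheory CategoryTheory.Limits AlgebraicGeometry TensorProduct

namespace Groth.Agent.FlatMor67.FiniteExtend

theorem exists_ring_extension {A Aa B : Type u} [CommRing A] [CommRing Aa] [CommRing B] (a : A) [Algebra A Aa]
    [IsLocalization.Away a Aa] [Algebra Aa B] [Module.Finite Aa B]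
    (hs : Function.Surjective (PrimeSpectrum.comap (algebraMap Aa B))) :
    ∃ (D : Type u) (_ : CommRing D) (_ : Algebra A D), Module.Finite A D ∧
      Function.Surjective (PrimeSpectrum.comap (algebraMap A D)) ∧
      ∃ ψ : B →+* Localization.Away (algebraMap A D a),
        ψ.comp ((algebraMap Aa B).comp (algebraMap A Aa)) =
          (algebraMap D (Localization.Away (algebraMap A D a))).comp (algebraMap A D) := by
  classical
  letI : Algebra A B := ((algebraMap Aa B).comp (algebraMap A Aa)).toAlgebra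
  haveI : IsScalarTower A Aa B := .of_algebraMap_eq fun _ => rfl
  haveI : IsLocalization (Submonoid.powers a) Aa := ‹IsLocalization.Away a Aa›
  have hua : IsUnit (algebraMap A B a) := (IsLocalization.Away.algebraMap_isUnit (S := Aa) a).map (algebraMap Aa B)
  obtain ⟨s, hs'⟩ := (Module.finite_def.mp ‹Module.Finite Aa B›)
  have hint : ∀ b : B, ∃ m : Submonoid.powers a, IsIntegral A (m • b) := fun b =>
    IsIntegral.exists_multiple_integral_of_isLocalization (Submonoid.powers a) b
      ((Algebra.IsIntegral.of_finite Aa B).isIntegral b)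
  choose m hm using hint
  let D₀ := Algebra.adjoin A (s.image fun b => m b • b : Set B)
  haveI : Module.Finite A D₀ := Module.Finite.of_fg <| fg_adjoin_of_finite (Finset.finite_toSet _) fun x hx => by
    obtain ⟨b, -, rfl⟩ := Finset.mem_image.mp (Finset.mem_coe.mp hx)
    exact hm b
  have hclear : ∀ b : B, ∃ j : ℕ, algebraMap A B a ^ j * b ∈ D₀ := by
    intro b
    have hb : b ∈ Submodule.span Aa (s : Set B) := hs' ▸ trivial
    induction hb using Submodule.span_induction with
    | mem x hx =>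
      obtain ⟨j, hj⟩ := (m x).2
      refine ⟨j, ?_⟩
      have : m x • x = algebraMap A B a ^ j * x := by
        rw [Submonoid.smul_def, ← hj, Algebra.smul_def, map_pow]
      rw [← this]
      exact Algebra.subset_adjoin (Finset.mem_coe.mpr (Finset.mem_image.mpr ⟨x, hx, rfl⟩))
    | zero => exact ⟨0, by rw [mul_zero]; exact D₀.zero_mem⟩
    | add x y _ _ hx hy =>
      obtain ⟨j, hj⟩ := hx
      obtain ⟨k, hk⟩ := hy
      refine ⟨j + k, ?_⟩
      rw [mul_add]
      refine D₀.add_mem ?_ ?_
      · rw [pow_add, mul_comm (algebraMap A B a ^ j), mul_assoc]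
        exact D₀.mul_mem (D₀.pow_mem (D₀.algebraMap_mem a) k) hj
      · rw [pow_add, mul_assoc]
        exact D₀.mul_mem (D₀.pow_mem (D₀.algebraMap_mem a) j) hk
    | smul c x _ hx =>
      obtain ⟨j, hj⟩ := hx
      obtain ⟨⟨c₀, ⟨_, i, rfl⟩⟩, hc⟩ := IsLocalization.surj (Submonoid.powers a) c
      refine ⟨i + j, ?_⟩
      have : algebraMap A B a ^ i * algebraMap Aa B c = algebraMap A B c₀ := by
        rw [IsScalarTower.algebraMap_apply A Aa B a, ← map_pow, ← map_mul, mul_comm, ← map_pow]
        exact congrArg (algebraMap Aa B) hc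
      rw [Algebra.smul_def, pow_add, mul_mul_mul_comm, this]
      exact D₀.mul_mem (D₀.algebraMap_mem c₀) hj
  haveI : IsLocalization.Away (algebraMap A D₀ a) B := by
    refine ⟨fun ⟨_, i, rfl⟩ => ?_, fun b => ?_, fun {x y} h => ⟨1, by rw [Subtype.ext (show (x : B) = y from h)]⟩⟩
    · show IsUnit (algebraMap D₀ B (algebraMap A D₀ a ^ i))
      rw [map_pow, ← IsScalarTower.algebraMap_apply]
      exact hua.pow i
    · obtain ⟨j, hj⟩ := hclear b
      refine ⟨⟨⟨_, hj⟩, ⟨algebraMap A D₀ a ^ j, j, rfl⟩⟩, ?_⟩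
      show b * algebraMap D₀ B (algebraMap A D₀ a ^ j) = algebraMap A B a ^ j * b
      rw [map_pow, ← IsScalarTower.algebraMap_apply, mul_comm]
  let D := D₀ × (A ⧸ Ideal.span {a})
  haveI : Module.Finite A D := inferInstance
  refine ⟨D, inferInstance, inferInstance, inferInstance, fun p => ?_, ?_⟩
  · by_cases hap : a ∈ p.asIdeal
    · have hle : Ideal.span {a} ≤ p.asIdeal := (Ideal.span_singleton_le_iff_mem _).mpr hap
      haveI : (p.asIdeal.map (Ideal.Quotient.mk (Ideal.span {a}))).IsPrime :=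
        Ideal.map_isPrime_of_surjective Ideal.Quotient.mk_surjective (by rwa [Ideal.mk_ker])
      refine ⟨⟨(p.asIdeal.map (Ideal.Quotient.mk (Ideal.span {a}))).comap (RingHom.snd D₀ _), inferInstance⟩,
        PrimeSpectrum.ext ?_⟩
      show ((p.asIdeal.map (Ideal.Quotient.mk (Ideal.span {a}))).comap (RingHom.snd D₀ _)).comap (algebraMap A D) = _
      rw [Ideal.comap_comap]
      show (p.asIdeal.map (Ideal.Quotient.mk (Ideal.span {a}))).comap (Ideal.Quotient.mk (Ideal.span {a})) = _
      rw [Ideal.comap_map_of_surjective _ Ideal.Quotient.mk_surjective, ← RingHom.ker_eq_comap_bot, Ideal.mk_ker,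
        sup_eq_left.2 hle]
    · obtain ⟨p', hp'⟩ : p ∈ Set.range (PrimeSpectrum.comap (algebraMap A Aa)) :=
        (PrimeSpectrum.localization_away_comap_range Aa a).symm ▸ hap
      obtain ⟨q, rfl⟩ := hs p'
      refine ⟨⟨q.asIdeal.comap ((algebraMap D₀ B).comp (RingHom.fst D₀ _)), inferInstance⟩, ?_⟩
      rw [← hp']
      exact PrimeSpectrum.ext rfl
  · let φ : D₀ →+* Localization.Away (algebraMap A D₀ a) := algebraMap _ _
    let π : D →+* D₀ := RingHom.fst D₀ _
    -- the second factor dies once `a` is inverted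
    have hu : IsUnit (algebraMap D (Localization.Away (algebraMap A D a)) (algebraMap A D a)) :=
      IsLocalization.Away.algebraMap_isUnit _
    have he : algebraMap D (Localization.Away (algebraMap A D a)) ((0 : D₀), (1 : A ⧸ Ideal.span {a})) = 0 := by
      refine hu.mul_left_cancel ?_
      rw [mul_zero, ← map_mul]
      have : (algebraMap A D a) * ((0 : D₀), (1 : A ⧸ Ideal.span {a})) = 0 := by
        refine Prod.ext (mul_zero _) ?_
        show Ideal.Quotient.mk _ a * 1 = 0
        rw [mul_one, Ideal.Quotient.eq_zero_iff_mem]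
        exact Ideal.mem_span_singleton_self a
      rw [this, map_zero]
    let χ : D₀ →+* Localization.Away (algebraMap A D a) :=
      { toFun := fun x => algebraMap D _ ((x, 0) : D)
        map_one' := by
          have h1 : ((1 : D₀), (0 : A ⧸ Ideal.span {a})) + ((0 : D₀), 1) = (1 : D) :=
            Prod.ext (add_zero 1) (zero_add 1)
          have h2 := congrArg (algebraMap D (Localization.Away (algebraMap A D a))) h1
          rw [map_add, he, add_zero, map_one] at h2
          exact h2
        map_mul' := fun x y => by rw [← map_mul]; exact congrArg _ (Prod.ext rfl (mul_zero 0).symm)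
        map_zero' := map_zero _
        map_add' := fun x y => by rw [← map_add]; exact congrArg _ (Prod.ext rfl (add_zero 0).symm) }
    have hχ : ∀ r : A, χ (algebraMap A D₀ r) = algebraMap D _ (algebraMap A D r) := fun r => by
      have h1 : algebraMap A D r = (algebraMap A D₀ r, 0) + algebraMap A D r * ((0 : D₀), (1 : A ⧸ Ideal.span {a})) := by
        refine Prod.ext ?_ ?_
        · show algebraMap A D₀ r = algebraMap A D₀ r + algebraMap A D₀ r * 0
          rw [mul_zero, add_zero]
        · show algebraMap A (A ⧸ Ideal.span {a}) r = 0 + algebraMap A (A ⧸ Ideal.span {a}) r * 1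
          rw [mul_one, zero_add]
      conv_rhs => rw [h1, map_add, map_mul, he, mul_zero, add_zero]
      rfl
    refine ⟨IsLocalization.Away.lift (algebraMap A D₀ a) (g := χ) (by rw [hχ]; exact hu), RingHom.ext fun r => ?_⟩
    refine (congrArg (IsLocalization.Away.lift (algebraMap A D₀ a) (g := χ) (by rw [hχ]; exact hu))
      (IsScalarTower.algebraMap_apply A D₀ B r)).trans ?_
    rw [IsLocalization.Away.lift_eq, hχ]
    rfl

/-- Finite surjective morphisms over a basic open extend up to domination. -/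
theorem exists_extension (A : CommRingCat.{u}) (a : A) {T : Scheme.{u}}
    (τ : T ⟶ Scheme.Opens.toScheme (X := Spec A) (PrimeSpectrum.basicOpen a)) [IsFinite τ] [Surjective τ] :
    ∃ (Y : Scheme.{u}) (π : Y ⟶ Spec A), IsFinite π ∧ Surjective π ∧
      ∃ r : (π ⁻¹ᵁ PrimeSpectrum.basicOpen a).toScheme ⟶ T,
        r ≫ τ ≫ Scheme.Opens.ι (X := Spec A) (PrimeSpectrum.basicOpen a) =
          (π ⁻¹ᵁ PrimeSpectrum.basicOpen a).ι ≫ π := by
  let Aa : Type u := Localization.Away a
  let τ₁ : T ⟶ Spec (CommRingCat.of Aa) := τ ≫ (basicOpenIsoSpecAway a).hom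
  haveI : IsAffine T := isAffine_of_isAffineHom τ₁
  let φ : CommRingCat.of Aa ⟶ Γ(T, ⊤) := Spec.preimage (T.isoSpec.inv ≫ τ₁)
  have hφ : Spec.map φ = T.isoSpec.inv ≫ τ₁ := Spec.map_preimage _
  have hfin : φ.hom.Finite := (IsFinite.SpecMap_iff φ).mp (by rw [hφ]; infer_instance)
  letI : Algebra Aa Γ(T, ⊤) := φ.hom.toAlgebra
  haveI : Module.Finite Aa Γ(T, ⊤) := hfin
  have hs : Function.Surjective (PrimeSpectrum.comap (algebraMap Aa Γ(T, ⊤))) := by
    have : Surjective (Spec.map φ) := by rw [hφ]; infer_instance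
    exact this.surj
  obtain ⟨D, _, _, hD, hDs, ψ, hψ⟩ := exists_ring_extension (Aa := Aa) a hs
  let γ : A ⟶ CommRingCat.of D := CommRingCat.ofHom (algebraMap A D)
  refine ⟨Spec (CommRingCat.of D), Spec.map γ, (IsFinite.SpecMap_iff γ).mpr (RingHom.finite_algebraMap.mpr hD),
    ⟨hDs⟩, ?_⟩
  let e : (Spec.map γ ⁻¹ᵁ PrimeSpectrum.basicOpen a).toScheme ≅
      Spec (CommRingCat.of (Localization.Away (algebraMap A D a))) :=
    basicOpenIsoSpecAway (R := CommRingCat.of D) (algebraMap A D a)
  refine ⟨e.hom ≫ Spec.map (CommRingCat.ofHom ψ) ≫ T.isoSpec.inv, ?_⟩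
  have hτ : τ ≫ Scheme.Opens.ι (X := Spec A) (PrimeSpectrum.basicOpen a) =
      T.isoSpec.hom ≫ Spec.map φ ≫ Spec.map (CommRingCat.ofHom (algebraMap A Aa)) := by
    rw [hφ]
    simp [τ₁, Aa]
  have h2 : e.hom ≫ Spec.map (CommRingCat.ofHom (algebraMap D (Localization.Away (algebraMap A D a)))) =
      (Spec.map γ ⁻¹ᵁ PrimeSpectrum.basicOpen a).ι :=
    basicOpenIsoSpecAway_hom_SpecMap (R := CommRingCat.of D) (algebraMap A D a)
  rw [hτ]
  simp only [Category.assoc, Iso.inv_hom_id_assoc]
  rw [← h2, Category.assoc, ← Spec.map_comp, ← Spec.map_comp, ← Spec.map_comp]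
  congr 2
  exact CommRingCat.hom_ext hψ

/-- Finitely many finite surjective morphisms over basic opens are dominated by a single finite
surjective morphism over the base. -/
theorem exists_common (A : CommRingCat.{u}) {ι : Type*} (t : Finset ι) (a : ι → A) (T : ι → Scheme.{u})
    (τ : ∀ k, T k ⟶ Scheme.Opens.toScheme (X := Spec A) (PrimeSpectrum.basicOpen (a k)))
    [∀ k, IsFinite (τ k)] [∀ k, Surjective (τ k)] :
    ∃ (Y : Scheme.{u}) (π : Y ⟶ Spec A), IsFinite π ∧ Surjective π ∧
      ∀ k ∈ t, ∃ r : (π ⁻¹ᵁ PrimeSpectrum.basicOpen (a k)).toScheme ⟶ T k,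
        r ≫ τ k ≫ Scheme.Opens.ι (X := Spec A) (PrimeSpectrum.basicOpen (a k)) =
          (π ⁻¹ᵁ PrimeSpectrum.basicOpen (a k)).ι ≫ π := by
  classical
  induction t using Finset.induction_on with
  | empty => exact ⟨_, 𝟙 _, inferInstance, inferInstance, fun k hk => absurd hk (Finset.notMem_empty k)⟩
  | @insert k₀ t _ ih =>
    obtain ⟨Y, π, _, _, hY⟩ := ih
    obtain ⟨Y', π', _, _, hY'⟩ := exists_extension A (a k₀) (τ k₀)
    refine ⟨pullback π π', pullback.fst π π' ≫ π, inferInstance, inferInstance, fun k hk => ?_⟩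
    rcases Finset.mem_insert.mp hk with rfl | hk
    · obtain ⟨r, hr⟩ := hY'
      have he : (pullback.fst π π' ≫ π) ⁻¹ᵁ PrimeSpectrum.basicOpen (a k) =
          pullback.snd π π' ⁻¹ᵁ (π' ⁻¹ᵁ PrimeSpectrum.basicOpen (a k)) := by
        rw [← Scheme.Hom.comp_preimage, pullback.condition]
      refine ⟨(pullback π π').homOfLE he.le ≫ (pullback.snd π π' ∣_ _) ≫ r, ?_⟩
      simp only [Category.assoc]
      rw [hr, morphismRestrict_ι_assoc, Scheme.homOfLE_ι_assoc, ← pullback.condition]
    · obtain ⟨r, hr⟩ := hY k hk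
      refine ⟨(pullback π π').homOfLE (Scheme.Hom.comp_preimage _ _ _).le ≫ (pullback.fst π π' ∣_ _) ≫ r, ?_⟩
      simp only [Category.assoc]
      rw [hr, morphismRestrict_ι_assoc, Scheme.homOfLE_ι_assoc]

end Groth.Agent.FlatMor67.FiniteExtend

namespace Groth.Agent.FlatMor67.FiniteExtend

open CategoryTheory CategoryTheory.Limits AlgebraicGeometry

/-- Zariski locally given finite surjective morphisms to an affine scheme are dominated, Zariski
locally on the source, by one finite surjective morphism. -/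
theorem exists_of_local (A : CommRingCat.{u}) (O : Spec A → (Spec A).Opens) (hO : ∀ z, z ∈ O z)
    (T : Spec A → Scheme.{u}) (τ : ∀ z, T z ⟶ O z) [∀ z, IsFinite (τ z)] [∀ z, Surjective (τ z)] :
    ∃ (Y : Scheme.{u}) (π : Y ⟶ Spec A), IsFinite π ∧ Surjective π ∧
      ∀ y : Y, ∃ (V : Y.Opens) (z : Spec A) (r : V.toScheme ⟶ T z),
        y ∈ V ∧ IsAffineOpen V ∧ r ≫ τ z ≫ (O z).ι = V.ι ≫ π := by
  classical
  have hb : ∀ z, ∃ a : A, z ∈ (PrimeSpectrum.basicOpen a : (Spec A).Opens) ∧
      (PrimeSpectrum.basicOpen a : (Spec A).Opens) ≤ O z := fun z => by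
    obtain ⟨_, ⟨a, rfl⟩, hza, hle⟩ :=
      PrimeSpectrum.isTopologicalBasis_basic_opens.exists_subset_of_mem_open (hO z) (O z).2
    exact ⟨a, hza, hle⟩
  choose a ha hle using hb
  obtain ⟨t, ht⟩ := (CompactSpace.isCompact_univ (X := Spec A)).elim_finite_subcover
    (fun z => SetLike.coe (A := (Spec A).Opens) (PrimeSpectrum.basicOpen (a z)))
    (fun z => TopologicalSpace.Opens.is_open' _) (fun z _ => Set.mem_iUnion.mpr ⟨z, ha z⟩)
  obtain ⟨Y, π, hπ, hπs, hY⟩ := exists_common A t a
    (fun z => pullback (τ z) ((Spec A).homOfLE (hle z))) (fun z => pullback.snd _ _)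
  refine ⟨Y, π, hπ, hπs, fun y => ?_⟩
  obtain ⟨z, hz, hyz⟩ := Set.mem_iUnion₂.mp (ht (Set.mem_univ (π y)))
  obtain ⟨r, hr⟩ := hY z hz
  refine ⟨π ⁻¹ᵁ PrimeSpectrum.basicOpen (a z), z, r ≫ pullback.fst _ _, hyz, ?_, ?_⟩
  · exact (IsAffineOpen.Spec_basicOpen (R := A) (a z)).preimage π
  · rw [Category.assoc, pullback.condition_assoc, Scheme.homOfLE_ι]
    exact hr

end Groth.Agent.FlatMor67.FiniteExtend
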