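import Groth.Agent.S0407
import Mathlib.RingTheory.Localization.Submodule
import Mathlib.RingTheory.Ideal.AssociatedPrime.Finiteness

/-!
# Flatness from flatness at the associated points of the closed fibre
-/

set_option autoImplicit false

universe u

open IsLocalRing TensorProduct

namespace Groth.Agent.FlatMor67

section Local

variable {A B N : Type u} [CommRing A] [IsLocalRing A] [CommRing B] [IsLocalRing B] [Algebra A B]
  [IsLocalHom (algebraMap A B)] [Algebra.EssFiniteType A B] [AddCommGroup N] [Module A N] [Module B N]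
  [IsScalarTower A B N] [Module.Finite B N]

/-- a finite module is flat if it is flat at the associated primes of the closed fibre -/
theorem flat_of_flat_at_fibre_ass
    (h : ∀ (P : Ideal B) [P.IsPrime], (maximalIdeal A).map (algebraMap A B) ≤ P →
      (∃ n : N, ∀ b : B, b ∈ P ↔ b • n ∈ ((maximalIdeal A).map (algebraMap A B) • ⊤ : Submodule B N)) →
      Module.Flat A (LocalizedModule P.primeCompl N)) : Module.Flat A N := by
  classical
  let m := maximalIdeal A
  let J := m.map (algebraMap A B)
  let K : Submodule B N := J • ⊤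
  let _ : Field (A ⧸ m) := Ideal.Quotient.field m
  have hnoeth : IsNoetherianRing (B ⧸ J) := Algebra.EssFiniteType.isNoetherianRing (A ⧸ m) (B ⧸ J)
  have hW : Module.IsTorsionBySet B (N ⧸ K) (J : Set B) := by
    intro w a
    obtain ⟨n, rfl⟩ := K.mkQ_surjective w
    show a.1 • K.mkQ n = 0
    rw [← map_smul, Submodule.mkQ_apply, Submodule.Quotient.mk_eq_zero]
    exact Submodule.smul_mem_smul a.2 trivial
  let _ : Module (B ⧸ J) (N ⧸ K) := hW.module
  have htow : IsScalarTower B (B ⧸ J) (N ⧸ K) := hW.isScalarTower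
  have : Module.Finite (B ⧸ J) (N ⧸ K) := Module.Finite.of_restrictScalars_finite B _ _
  let s : Set (Ideal B) := {P | P.IsPrime ∧ J ≤ P ∧ ∃ n : N, ∀ b : B, b ∈ P ↔ b • n ∈ K}
  have hs : s.Finite := by
    refine Set.Finite.of_finite_image (f := fun P : Ideal B => P.map (Ideal.Quotient.mk J))
      ((associatedPrimes.finite (B ⧸ J) (N ⧸ K)).subset ?_) ?_
    · rintro _ ⟨P, ⟨hP, hJP, n, hn⟩, rfl⟩
      have hprime : (P.map (Ideal.Quotient.mk J)).IsPrime :=
        Ideal.map_isPrime_of_surjective Ideal.Quotient.mk_surjective (by rwa [Ideal.mk_ker])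
      refine ⟨hprime, K.mkQ n, ?_⟩
      have hcol : (⊥ : Submodule (B ⧸ J) (N ⧸ K)).colon {K.mkQ n} = P.map (Ideal.Quotient.mk J) := by
        ext c
        obtain ⟨c, rfl⟩ := Ideal.Quotient.mk_surjective c
        rw [Submodule.mem_colon_singleton, Submodule.mem_bot, Module.IsTorsionBySet.mk_smul, ← map_smul,
          Submodule.mkQ_apply, Submodule.Quotient.mk_eq_zero, ← hn, Ideal.mem_quotient_iff_mem hJP]
      rw [hcol, hprime.radical]
    · rintro P ⟨-, hP, -⟩ P' ⟨-, hP', -⟩ he
      have := congrArg (Ideal.comap (Ideal.Quotient.mk J)) he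
      simpa only [Ideal.comap_map_of_surjective _ Ideal.Quotient.mk_surjective, ← RingHom.ker_eq_comap_bot,
        Ideal.mk_ker, sup_eq_left.2 hP, sup_eq_left.2 hP'] using this
  have : Fintype s := hs.fintype
  have hpr : ∀ P : s, P.1.IsPrime := fun P => P.2.1
  let M : Type u := Π₀ P : s, LocalizedModule P.1.primeCompl N
  have hMflat : ∀ P : s, Module.Flat A (LocalizedModule P.1.primeCompl N) := fun P => h P.1 P.2.2.1 P.2.2.2
  let u : N →ₗ[A] M := DFinsupp.linearEquivFunOnFintype.symm.toLinearMap ∘ₗ
    LinearMap.pi fun P : s => (LocalizedModule.mkLinearMap P.1.primeCompl N).restrictScalars A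
  refine (Groth.Agent.S0407.result (A := A) (B := B) u ((injective_iff_map_eq_zero _).2 fun z hz => ?_)).2.2
  obtain ⟨n, rfl⟩ : ∃ n : N, (1 : ResidueField A) ⊗ₜ[A] n = z := by
    clear hz
    induction z with
    | zero => exact ⟨0, tmul_zero _ _⟩
    | tmul c n =>
      obtain ⟨a, rfl⟩ := residue_surjective c
      exact ⟨a • n, by rw [← smul_tmul, Algebra.smul_def, mul_one]; rfl⟩
    | add x y hx hy =>
      obtain ⟨a, rfl⟩ := hx
      obtain ⟨b, rfl⟩ := hy
      exact ⟨a + b, tmul_add _ _ _⟩
  rw [LinearMap.lTensor_tmul] at hz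
  -- the reduction of each component vanishes
  have key : ∀ {L : Type u} [AddCommGroup L] [Module A L] (x : L), (1 : ResidueField A) ⊗ₜ[A] x = 0 ↔
      x ∈ (m • ⊤ : Submodule A L) := by
    intro L _ _ x
    show (Ideal.Quotient.mk m 1 : A ⧸ m) ⊗ₜ[A] x = 0 ↔ _
    rw [← (TensorProduct.quotTensorEquivQuotSMul L m).map_eq_zero_iff,
      TensorProduct.quotTensorEquivQuotSMul_mk_tmul, one_smul, Submodule.Quotient.mk_eq_zero]
  have hJ : ∀ {L : Type u} [AddCommGroup L] [Module A L] [Module B L] [IsScalarTower A B L] (x : L),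
      x ∈ (m • ⊤ : Submodule A L) ↔ x ∈ (J • ⊤ : Submodule B L) := by
    intro L _ _ _ _ x
    rw [← Submodule.restrictScalars_mem A (J • ⊤ : Submodule B L) x, Ideal.smul_restrictScalars,
      Submodule.restrictScalars_top]
  rw [key, hJ]
  by_contra hn
  -- a colon ideal maximal among the proper ones is prime
  let C : Set (Ideal (B ⧸ J)) := {I | ∃ b : B, b • n ∉ K ∧
    I = ((K.colon {b • n}) : Ideal B).map (Ideal.Quotient.mk J)}
  obtain ⟨I, ⟨b, hb, rfl⟩, hmax⟩ := set_has_maximal_iff_noetherian.2 hnoeth C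
    ⟨_, 1, by rwa [one_smul], rfl⟩
  let P : Ideal B := K.colon {b • n}
  have hPmem : ∀ c, c ∈ P ↔ c • b • n ∈ K := fun c => Submodule.mem_colon_singleton
  have hJP : J ≤ P := fun c hc => (hPmem c).2 (Submodule.smul_mem_smul hc trivial)
  have hprime : P.IsPrime := by
    refine Ideal.isPrime_iff.2 ⟨fun ht => hb ?_, fun {x y} hxy => or_iff_not_imp_right.2 fun hy => ?_⟩
    · simpa using (hPmem 1).1 (ht ▸ trivial)
    · let P' : Ideal B := K.colon {(y * b) • n}
      have hle : P ≤ P' := fun c hc => Submodule.mem_colon_singleton.2 (by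
        rw [mul_smul, smul_comm]; exact K.smul_mem y ((hPmem c).1 hc))
      have hxP' : x ∈ P' := Submodule.mem_colon_singleton.2 (by
        rw [mul_smul, ← mul_smul]; exact (hPmem _).1 hxy)
      have hmem : P'.map (Ideal.Quotient.mk J) ∈ C :=
        ⟨y * b, fun hyb => hy ((hPmem y).2 (by rwa [← mul_smul])), rfl⟩
      have heq : P'.map (Ideal.Quotient.mk J) = P.map (Ideal.Quotient.mk J) :=
        ((Ideal.map_mono hle).lt_or_eq.resolve_left (hmax _ hmem)).symm
      have := congrArg (Ideal.comap (Ideal.Quotient.mk J)) heq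
      simp only [Ideal.comap_map_of_surjective _ Ideal.Quotient.mk_surjective, ← RingHom.ker_eq_comap_bot,
        Ideal.mk_ker, sup_eq_left.2 hJP, sup_eq_left.2 (hJP.trans hle)] at this
      exact this ▸ hxP'
  let P₀ : s := ⟨P, hprime, hJP, b • n, hPmem⟩
  -- the component at `P` of `n` reduces to zero
  let π : M →ₗ[A] LocalizedModule P.primeCompl N :=
    LinearMap.proj P₀ ∘ₗ DFinsupp.linearEquivFunOnFintype.toLinearMap
  have hπ : π (u n) = LocalizedModule.mkLinearMap P.primeCompl N n := by
    simp only [π, u, LinearMap.comp_apply, LinearEquiv.coe_coe, LinearEquiv.apply_symm_apply]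
    rfl
  have hz1 : LocalizedModule.mkLinearMap P.primeCompl N n ∈
      (J • ⊤ : Submodule B (LocalizedModule P.primeCompl N)) := by
    rw [← hJ, ← key, ← hπ, ← LinearMap.lTensor_tmul, hz, map_zero]
  -- clear the denominator
  have hden : ∀ x ∈ (J • ⊤ : Submodule B (LocalizedModule P.primeCompl N)),
      ∃ t ∈ P.primeCompl, ∃ k ∈ K, t • x = LocalizedModule.mkLinearMap P.primeCompl N k := by
    intro x hx
    refine Submodule.smul_induction_on hx (fun c hc y _ => ?_) ?_
    · obtain ⟨⟨y₀, t⟩, ht⟩ := IsLocalizedModule.surj P.primeCompl (LocalizedModule.mkLinearMap P.primeCompl N) y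
      refine ⟨t, t.2, c • y₀, Submodule.smul_mem_smul hc trivial, ?_⟩
      rw [map_smul, ← ht, smul_comm]
      rfl
    · rintro x₁ x₂ ⟨t₁, ht₁, k₁, hk₁, e₁⟩ ⟨t₂, ht₂, k₂, hk₂, e₂⟩
      refine ⟨t₁ * t₂, mul_mem ht₁ ht₂, t₂ • k₁ + t₁ • k₂,
        K.add_mem (K.smul_mem _ hk₁) (K.smul_mem _ hk₂), ?_⟩
      rw [map_add, map_smul, map_smul, ← e₁, ← e₂, smul_add, mul_comm t₁ t₂, mul_smul, ← mul_comm t₁ t₂,
        mul_smul]
  obtain ⟨t, ht, k, hk, he⟩ := hden _ hz1
  rw [← map_smul] at he
  obtain ⟨⟨c, hc⟩, hce⟩ := (IsLocalizedModule.eq_iff_exists P.primeCompl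
    (LocalizedModule.mkLinearMap P.primeCompl N)).1 he
  refine (mul_mem hc ht : c * t ∈ P.primeCompl) ((hPmem _).2 ?_)
  rw [smul_comm]
  refine K.smul_mem b ?_
  rw [mul_smul]
  exact (show c • (t • n) = c • k from hce) ▸ K.smul_mem c hk

end Local

section Chart

variable {A B N : Type u} [CommRing A] [CommRing B] [Algebra A B] [Algebra.EssFiniteType A B]
  [AddCommGroup N] [Module A N] [Module B N] [IsScalarTower A B N] [Module.Finite B N]

/-- a finite module is flat at a prime if it is flat at the associated primes of the fibre below it -/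
theorem flat_localizedModule_of_flat_at_fibre_ass (q : Ideal B) [q.IsPrime]
    (h : ∀ (r : Ideal B) [r.IsPrime], r ≤ q → r.comap (algebraMap A B) = q.comap (algebraMap A B) →
      (∃ z : LocalizedModule r.primeCompl N,
        z ∉ ((q.comap (algebraMap A B)).map (algebraMap A B) • ⊤ : Submodule B (LocalizedModule r.primeCompl N)) ∧
        ∀ b ∈ r, b • z ∈
          ((q.comap (algebraMap A B)).map (algebraMap A B) • ⊤ : Submodule B (LocalizedModule r.primeCompl N))) →
      Module.Flat A (LocalizedModule r.primeCompl N)) :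
    Module.Flat A (LocalizedModule q.primeCompl N) := by
  let p := q.comap (algebraMap A B)
  have : q.LiesOver p := ⟨rfl⟩
  let Ap := Localization.AtPrime p
  let Bq := Localization.AtPrime q
  let Nq := LocalizedModule q.primeCompl N
  let _ : Algebra Ap Bq := Localization.AtPrime.algebraOfLiesOver p q
  have htAB : IsScalarTower A Ap Bq := IsScalarTower.of_algebraMap_eq fun a => by
    show _ = Localization.localRingHom p q (algebraMap A B) _ (algebraMap A Ap a)
    rw [Localization.localRingHom_to_map, ← IsScalarTower.algebraMap_apply]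
  have : IsLocalHom (algebraMap Ap Bq) := Localization.isLocalHom_localRingHom p q (algebraMap A B) rfl
  have : Algebra.EssFiniteType A Bq :=
    haveI := Algebra.EssFiniteType.of_isLocalization (S := Bq) q.primeCompl
    Algebra.EssFiniteType.comp A B Bq
  have : Algebra.EssFiniteType Ap Bq := Algebra.EssFiniteType.of_comp A Ap Bq
  let _ : Module Ap Nq := Module.compHom Nq (algebraMap Ap Bq)
  have : IsScalarTower Ap Bq Nq := IsScalarTower.of_algebraMap_smul fun a x => rfl
  have : IsScalarTower A Bq Nq := IsScalarTower.of_algebraMap_smul fun a x => by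
    rw [IsScalarTower.algebraMap_apply A B Bq, algebraMap_smul, algebraMap_smul]
  have : IsScalarTower A Ap Nq := IsScalarTower.of_algebraMap_smul fun a x => by
    show algebraMap Ap Bq (algebraMap A Ap a) • x = a • x
    rw [← IsScalarTower.algebraMap_apply, algebraMap_smul]
  have : Module.Finite Bq Nq := inferInstance
  have hmax : maximalIdeal Ap = p.map (algebraMap A Ap) := Localization.AtPrime.map_eq_maximalIdeal.symm
  have hJ : (maximalIdeal Ap).map (algebraMap Ap Bq) = (p.map (algebraMap A B)).map (algebraMap B Bq) := by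
    rw [hmax, Ideal.map_map, ← IsScalarTower.algebraMap_eq, Ideal.map_map, ← IsScalarTower.algebraMap_eq]
  refine (?_ : Module.Flat Ap Nq → Module.Flat A Nq) (flat_of_flat_at_fibre_ass (A := Ap) (B := Bq) (N := Nq) fun P _ hP hn => ?_)
  · intro hf
    have : Module.Flat A Ap := IsLocalization.flat Ap p.primeCompl
    exact Module.Flat.trans A Ap Nq
  obtain ⟨n, hn⟩ := hn
  let r := P.comap (algebraMap B Bq)
  let L := LocalizedModule P.primeCompl Nq
  let g : N →ₗ[B] L :=
    (LocalizedModule.mkLinearMap P.primeCompl Nq).restrictScalars B ∘ₗ LocalizedModule.mkLinearMap q.primeCompl N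
  have hrq : r ≤ q := fun b hb => by
    by_contra hbq
    exact ‹P.IsPrime›.ne_top (Ideal.eq_top_of_isUnit_mem P hb
      (IsLocalization.map_units Bq (⟨b, hbq⟩ : q.primeCompl)))
  have hrp : r.comap (algebraMap A B) = p := by
    refine le_antisymm (Ideal.comap_mono hrq) fun a ha => ?_
    show algebraMap B Bq (algebraMap A B a) ∈ P
    refine hP ?_
    rw [hJ]
    exact Ideal.mem_map_of_mem _ (Ideal.mem_map_of_mem _ ha)
  have hbsmul : ∀ (b : B) (x : L), algebraMap B Bq b • x = b • x := fun b x => algebraMap_smul Bq b x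
  have hloc : IsLocalizedModule r.primeCompl g := by
    refine ⟨fun b => ?_, fun x => ?_, fun {x₁ x₂} he => ?_⟩
    · have hu := IsLocalizedModule.map_units (LocalizedModule.mkLinearMap P.primeCompl Nq)
        (⟨algebraMap B Bq b.1, b.2⟩ : P.primeCompl)
      rw [Module.End.isUnit_iff] at hu ⊢
      convert hu using 1
      exact funext fun x => (hbsmul _ x).symm
    · obtain ⟨⟨z, ⟨s, hs⟩⟩, hz⟩ := IsLocalizedModule.surj P.primeCompl (LocalizedModule.mkLinearMap P.primeCompl Nq) x
      obtain ⟨⟨n₀, t⟩, ht⟩ := IsLocalizedModule.surj q.primeCompl (LocalizedModule.mkLinearMap q.primeCompl N) z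
      obtain ⟨⟨b, t'⟩, hb⟩ := IsLocalization.surj q.primeCompl s
      have htP : ∀ t : q.primeCompl, algebraMap B Bq t.1 ∉ P := fun t ht' => t.2 (hrq ht')
      have hbP : algebraMap B Bq b ∉ P := by
        rw [← hb]; exact fun h' => (‹P.IsPrime›.mem_or_mem h').elim hs (htP t')
      refine ⟨⟨(t'.1 : B) • n₀, ⟨t.1 * b, fun h' => (Ideal.IsPrime.mem_or_mem inferInstance h').elim
        (htP t) hbP⟩⟩, ?_⟩
      show (t.1 * b) • x = g ((t'.1 : B) • n₀)
      have hz' : s • x = LocalizedModule.mkLinearMap P.primeCompl Nq z := hz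
      have ht'' : (t.1 : B) • z = LocalizedModule.mkLinearMap q.primeCompl N n₀ := ht
      rw [map_smul, mul_smul, ← hbsmul b, ← hb, mul_comm s, mul_smul, hz', hbsmul, smul_comm]
      show _ = (t'.1 : B) • LocalizedModule.mkLinearMap P.primeCompl Nq _
      rw [← ht'', LinearMap.map_smul_of_tower]
    · obtain ⟨⟨s, hs⟩, hse⟩ := (IsLocalizedModule.eq_iff_exists P.primeCompl
        (LocalizedModule.mkLinearMap P.primeCompl Nq)).1 he
      obtain ⟨⟨b, t'⟩, hb⟩ := IsLocalization.surj q.primeCompl s
      have hbP : algebraMap B Bq b ∉ P := by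
        rw [← hb]; exact fun h' => (‹P.IsPrime›.mem_or_mem h').elim hs fun h'' => t'.2 (hrq h'')
      have h1 : LocalizedModule.mkLinearMap q.primeCompl N (b • x₁) =
          LocalizedModule.mkLinearMap q.primeCompl N (b • x₂) := by
        rw [map_smul, map_smul, ← algebraMap_smul Bq b, ← hb, mul_comm, mul_smul]
        conv_rhs => rw [← algebraMap_smul Bq b, ← hb, mul_comm, mul_smul]
        exact congrArg _ hse
      obtain ⟨⟨c, hc⟩, hce⟩ := (IsLocalizedModule.eq_iff_exists q.primeCompl
        (LocalizedModule.mkLinearMap q.primeCompl N)).1 h1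
      exact ⟨⟨c * b, fun h' => (Ideal.IsPrime.mem_or_mem inferInstance h').elim (fun h'' => (show c ∉ q from hc) (hrq h''))
        hbP⟩, by show (c * b) • x₁ = (c * b) • x₂; rw [mul_smul, mul_smul]; exact hce⟩
  let e : LocalizedModule r.primeCompl N ≃ₗ[B] L := IsLocalizedModule.iso r.primeCompl g
  have hAL : Module.Flat A L := by
    refine @Module.Flat.of_linearEquiv _ _ _ _ _ _ _ _ (h r hrq hrp ?_) (e.restrictScalars A).symm
    refine ⟨e.symm (LocalizedModule.mkLinearMap P.primeCompl Nq n), fun hmem => ?_, fun b hb => ?_⟩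
    · -- the class of `n` does not vanish at `P`
      have h2 : LocalizedModule.mkLinearMap P.primeCompl Nq n ∈
          ((maximalIdeal Ap).map (algebraMap Ap Bq) • ⊤ : Submodule Bq L) := by
        have h3 := Submodule.mem_map_of_mem (f := e.toLinearMap) hmem
        rw [Submodule.map_smul'', LinearEquiv.coe_toLinearMap, e.apply_symm_apply] at h3
        refine Submodule.smul_induction_on h3 (fun c hc y _ => ?_) fun x y hx hy => add_mem hx hy
        rw [← hbsmul, hJ]
        exact Submodule.smul_mem_smul (Ideal.mem_map_of_mem _ hc) trivial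
      obtain ⟨t, ht, k, hk, he⟩ : ∃ t ∈ P.primeCompl, ∃ k ∈ ((maximalIdeal Ap).map (algebraMap Ap Bq) • ⊤ :
          Submodule Bq Nq), t • LocalizedModule.mkLinearMap P.primeCompl Nq n =
            LocalizedModule.mkLinearMap P.primeCompl Nq k := by
        refine Submodule.smul_induction_on h2 (fun c hc y _ => ?_) ?_
        · obtain ⟨⟨y₀, t⟩, ht⟩ := IsLocalizedModule.surj P.primeCompl (LocalizedModule.mkLinearMap P.primeCompl Nq) y
          refine ⟨t, t.2, c • y₀, Submodule.smul_mem_smul hc trivial, ?_⟩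
          rw [map_smul, ← ht, smul_comm]
          rfl
        · rintro x₁ x₂ ⟨t₁, ht₁, k₁, hk₁, e₁⟩ ⟨t₂, ht₂, k₂, hk₂, e₂⟩
          refine ⟨t₁ * t₂, mul_mem ht₁ ht₂, t₂ • k₁ + t₁ • k₂,
            add_mem (Submodule.smul_mem _ _ hk₁) (Submodule.smul_mem _ _ hk₂), ?_⟩
          rw [map_add, map_smul, map_smul, ← e₁, ← e₂, smul_add, mul_comm t₁ t₂, mul_smul, ← mul_comm t₁ t₂,
            mul_smul]
      rw [← map_smul] at he
      obtain ⟨⟨c, hc⟩, hce⟩ := (IsLocalizedModule.eq_iff_exists P.primeCompl
        (LocalizedModule.mkLinearMap P.primeCompl Nq)).1 he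
      refine (mul_mem hc ht : c * t ∈ P.primeCompl) ((hn _).2 ?_)
      rw [mul_smul]
      exact (show c • (t • n) = c • k from hce) ▸ Submodule.smul_mem _ c hk
    · have hin : ∀ z ∈ ((p.map (algebraMap A B)).map (algebraMap B Bq) • ⊤ : Submodule Bq Nq),
          LocalizedModule.mkLinearMap P.primeCompl Nq z ∈ (p.map (algebraMap A B) • ⊤ : Submodule B L) := by
        intro z hz
        refine Submodule.smul_induction_on hz (fun c hc y _ => ?_) fun x y hx hy => ?_
        · induction hc using Submodule.span_induction generalizing y with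
          | mem c hc =>
            obtain ⟨i, hi, rfl⟩ := hc
            rw [map_smul, hbsmul]
            exact Submodule.smul_mem_smul hi trivial
          | zero => rw [zero_smul, map_zero]; exact zero_mem _
          | add c c' _ _ h₁ h₂ => rw [add_smul, map_add]; exact add_mem (h₁ y trivial) (h₂ y trivial)
          | smul d c _ h₁ => rw [smul_eq_mul, mul_comm, mul_smul]; exact h₁ _ trivial
        · rw [map_add]; exact add_mem hx hy
      have h2 := (hn (algebraMap B Bq b)).1 hb
      rw [hJ, algebraMap_smul] at h2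
      have h3 := hin _ h2
      rw [LinearMap.map_smul_of_tower] at h3
      have h4 := Submodule.mem_map_of_mem (f := e.symm.toLinearMap) h3
      rw [Submodule.map_smul''] at h4
      rw [← map_smul]
      exact Submodule.smul_mono le_rfl le_top h4
  exact (Module.flat_iff_of_isLocalization Ap p.primeCompl L).mpr hAL

end Chart

end Groth.Agent.FlatMor67
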