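import Groth.Agent.FlatMor67.FlatAssFibre
import Groth.Agent.Open62.FlatLocus
import Groth.Agent.QC70.FiniteType
import Groth.Prelude.Def_MoreMor

/-!
# Flatness over a local base from flatness along the closed fibre
-/

set_option autoImplicit false
set_option backward.isDefEq.respectTransparency.types false
set_option linter.style.haveILetI false

universe u

open CategoryTheory CategoryTheory.Limits AlgebraicGeometry TopologicalSpace IsLocalRing Opposite

namespace Groth.Agent.FlatMor67

open QC70 FlatMor68.FlatSections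

/-- flatness at a prime passes to smaller primes -/
theorem flat_localizedModule_of_le {A B N : Type u} [CommRing A] [CommRing B] [Algebra A B] [AddCommGroup N]
    [Module A N] [Module B N] [IsScalarTower A B N] {r q : Ideal B} [r.IsPrime] [q.IsPrime] (h : r ≤ q)
    (hf : Module.Flat A (LocalizedModule q.primeCompl N)) : Module.Flat A (LocalizedModule r.primeCompl N) := by
  rw [FlatCrit65.flat_localized_iff_kernels] at hf ⊢
  intro I z hz
  obtain ⟨s, hs, hsz⟩ := hf I z hz
  exact ⟨s, fun hsr => hs (h hsr), hsz⟩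

/-- flatness at a point passes to its generalisations -/
theorem isFlatOverAt_of_specializes {X S : Scheme.{u}} (f : X ⟶ S) (F : X.Modules) [F.IsQuasicoherent]
    {y x : X} (h : y ⤳ x) (hx : FlatMod.IsFlatOverAt f F x) : FlatMod.IsFlatOverAt f F y := by
  obtain ⟨_, ⟨V, hV, rfl⟩, hxV, -⟩ :=
    S.isBasis_affineOpens.exists_subset_of_mem_open (Set.mem_univ (f x)) isOpen_univ
  obtain ⟨_, ⟨U, hU, rfl⟩, hxU, e⟩ :=
    X.isBasis_affineOpens.exists_subset_of_mem_open hxV (V.2.preimage f.continuous)
  have hyU : y ∈ U := h.mem_open U.2 hxU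
  have hloc := isLocAt_of_isQuasicoherent F hU
  letI : Algebra Γ(S, V) Γ(X, U) := (f.appLE V U e).hom.toAlgebra
  letI : Module Γ(S, V) Γ(F, U) := Module.compHom _ (f.appLE V U e).hom
  haveI : IsScalarTower Γ(S, V) Γ(X, U) Γ(F, U) := IsScalarTower.of_algebraMap_smul fun r s => rfl
  refine (Open62.isFlatOverAt_iff_localized f e hU hV hloc hyU).2
    (flat_localizedModule_of_le ?_ ((Open62.isFlatOverAt_iff_localized f e hU hV hloc hxU).1 hx))
  have hsp := (hU.fromSpec.isOpenEmbedding.isInducing.specializes_iff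
    (x := hU.primeIdealOf ⟨y, hyU⟩) (y := hU.primeIdealOf ⟨x, hxU⟩)).1
    (by rw [hU.fromSpec_primeIdealOf, hU.fromSpec_primeIdealOf]; exact h)
  exact (PrimeSpectrum.le_iff_specializes _ _).2 hsp

/-- the maximal ideal of the base at the image is extended from the prime below -/
theorem map_maximalIdeal_base {X S : Scheme.{u}} (f : X ⟶ S) {U : X.Opens} {V : S.Opens}
    (e : U ≤ f ⁻¹ᵁ V) (hU : IsAffineOpen U) (hV : IsAffineOpen V) {y : X} (hy : y ∈ U) :
    (maximalIdeal (S.presheaf.stalk (f y))).map (f.stalkMap y).hom =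
      (((hU.primeIdealOf ⟨y, hy⟩).asIdeal.comap (f.appLE V U e).hom).map (f.appLE V U e).hom).map
        (X.presheaf.germ U y hy).hom := by
  letI : Algebra Γ(S, V) (S.presheaf.stalk (f y)) := (S.presheaf.germ V (f y) (e hy)).hom.toAlgebra
  haveI := hV.isLocalization_stalk ⟨f y, e hy⟩
  letI : Algebra Γ(X, U) (X.presheaf.stalk y) := (X.presheaf.germ U y hy).hom.toAlgebra
  haveI := hU.isLocalization_stalk ⟨y, hy⟩
  have h1 := IsLocalization.AtPrime.under_maximalIdeal (X.presheaf.stalk y) (hU.primeIdealOf ⟨y, hy⟩).asIdeal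
  have h2 := IsLocalization.AtPrime.under_maximalIdeal (S.presheaf.stalk (f y)) (hV.primeIdealOf ⟨f y, e hy⟩).asIdeal
  have hp : (hU.primeIdealOf ⟨y, hy⟩).asIdeal.comap (f.appLE V U e).hom = (hV.primeIdealOf ⟨f y, e hy⟩).asIdeal := by
    ext a
    rw [← h1, ← h2]
    show X.presheaf.germ U y hy ((f.appLE V U e).hom a) ∈ maximalIdeal _ ↔
      S.presheaf.germ V (f y) (e hy) a ∈ maximalIdeal _
    rw [← stalkMap_germ_appLE f e hy a, mem_maximalIdeal, mem_maximalIdeal, map_mem_nonunits_iff]
  rw [hp, ← IsLocalization.AtPrime.map_eq_maximalIdeal (hV.primeIdealOf ⟨f y, e hy⟩).asIdeal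
    (S.presheaf.stalk (f y)), Ideal.map_map, Ideal.map_map]
  congr 1
  exact RingHom.ext fun a => stalkMap_germ_appLE f e hy a

/-- S9002 -/
theorem isFlatOver_of_flat_closed_fibre {R : Type u} [CommRing R] [IsLocalRing R] {X : Scheme.{u}}
    (f : X ⟶ Spec (CommRingCat.of R)) [LocallyOfFiniteType f] (F : X.Modules) [Coh.IsQCoh F] (hF : CohB1.IsFT F)
    (h₁ : ∀ x ∈ MoreMor.relAss f F, ∃ x' : X, x ⤳ x' ∧ f.base x' = IsLocalRing.closedPoint R)
    (h₂ : ∀ x : X, f.base x = IsLocalRing.closedPoint R → FlatMod.IsFlatOverAt f F x) :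
    FlatMod.IsFlatOver f F := by
  haveI hq : F.IsQuasicoherent := ‹Coh.IsQCoh F›
  haveI hft : F.IsFiniteType := hF
  intro x
  obtain ⟨_, ⟨U, hU, rfl⟩, hxU, -⟩ :=
    X.isBasis_affineOpens.exists_subset_of_mem_open (Set.mem_univ x) isOpen_univ
  let V : (Spec (CommRingCat.of R)).Opens := ⊤
  have hV : IsAffineOpen V := isAffineOpen_top _
  have e : U ≤ f ⁻¹ᵁ V := fun y _ => trivial
  have hftU := f.finiteType_appLE hV hU e
  have hloc := isLocAt_of_isQuasicoherent F hU
  letI : Algebra Γ(Spec (CommRingCat.of R), V) Γ(X, U) := (f.appLE V U e).hom.toAlgebra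
  letI : Module Γ(Spec (CommRingCat.of R), V) Γ(F, U) := Module.compHom _ (f.appLE V U e).hom
  haveI : IsScalarTower Γ(Spec (CommRingCat.of R), V) Γ(X, U) Γ(F, U) :=
    IsScalarTower.of_algebraMap_smul fun r s => rfl
  haveI : Algebra.FiniteType Γ(Spec (CommRingCat.of R), V) Γ(X, U) := hftU
  haveI : Module.Finite Γ(X, U) Γ(F, U) := finite_sections_of_isFiniteType F hU
  refine (Open62.isFlatOverAt_iff_localized f e hU hV hloc hxU).2
    (flat_localizedModule_of_flat_at_fibre_ass _ fun r _ hrq hrp hz => ?_)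
  obtain ⟨z, hz₁, hz₂⟩ := hz
  rw [← hrp] at hz₁ hz₂
  let y : X := hU.fromSpec ⟨r, inferInstance⟩
  have hy : y ∈ U := hU.range_fromSpec.subset ⟨_, rfl⟩
  have hprime : hU.primeIdealOf ⟨y, hy⟩ = ⟨r, inferInstance⟩ :=
    hU.fromSpec.isOpenEmbedding.injective (hU.fromSpec_primeIdealOf ⟨y, hy⟩)
  -- `y` is a point of the relative assassin
  have hass : y ∈ MoreMor.relAss f F := by
    letI := stalkModule F hy
    letI : Algebra Γ(X, U) (X.presheaf.stalk y) := (X.presheaf.germ U y hy).hom.toAlgebra
    haveI : IsScalarTower Γ(X, U) (X.presheaf.stalk y) (F.presheaf.stalk y) :=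
      IsScalarTower.of_algebraMap_smul fun r s => rfl
    have hl := isLocalizedModule_germ hloc hU hy
    have hlr := hU.isLocalization_stalk ⟨y, hy⟩
    have hJ := map_maximalIdeal_base f e hU hV hy
    rw [hprime] at hl hlr hJ
    haveI : IsLocalizedModule r.primeCompl (germLinear F hy) := hl
    haveI : IsLocalization.AtPrime (X.presheaf.stalk y) r := hlr
    let eq := IsLocalizedModule.iso r.primeCompl (germLinear F hy)
    let I : Ideal Γ(X, U) := (r.comap (algebraMap Γ(Spec (CommRingCat.of R), V) Γ(X, U))).map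
      (algebraMap Γ(Spec (CommRingCat.of R), V) Γ(X, U))
    let K := ((maximalIdeal ((Spec (CommRingCat.of R)).presheaf.stalk (f y))).map (f.stalkMap y).hom •
      (⊤ : Submodule (X.presheaf.stalk y) (F.presheaf.stalk y)))
    have hK : ∀ w, w ∈ K ↔ eq.symm w ∈ (I • ⊤ : Submodule Γ(X, U) (LocalizedModule r.primeCompl Γ(F, U))) := by
      intro w
      have hKI : K.restrictScalars Γ(X, U) = (I • ⊤ : Submodule Γ(X, U) (F.presheaf.stalk y)) := by
        have h1 : K = (I.map (algebraMap Γ(X, U) (X.presheaf.stalk y)) •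
            (⊤ : Submodule (X.presheaf.stalk y) (F.presheaf.stalk y))) := by
          show _ • _ = _
          rw [hJ]
          rfl
        rw [h1, Ideal.smul_restrictScalars, Submodule.restrictScalars_top]
      rw [← Submodule.restrictScalars_mem Γ(X, U) K w, hKI]
      constructor
      · intro h
        have h' := Submodule.mem_map_of_mem (f := eq.symm.toLinearMap) h
        rw [Submodule.map_smul''] at h'
        exact Submodule.smul_mono le_rfl le_top h'
      · intro h
        have h' := Submodule.mem_map_of_mem (f := eq.toLinearMap) h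
        rw [Submodule.map_smul'', LinearEquiv.coe_toLinearMap, eq.apply_symm_apply] at h'
        exact Submodule.smul_mono le_rfl le_top h'
    refine ⟨inferInstance, K.mkQ (eq z), ?_⟩
    have hcol : (⊥ : Submodule (X.presheaf.stalk y) (F.presheaf.stalk y ⧸ K)).colon {K.mkQ (eq z)} =
        maximalIdeal (X.presheaf.stalk y) := by
      refine ((maximalIdeal.isMaximal _).eq_of_le ?_ ?_).symm
      · intro hT
        have h1 := (Ideal.eq_top_iff_one _).1 hT
        rw [Submodule.mem_colon_singleton, one_smul, Submodule.mem_bot, Submodule.mkQ_apply,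
          Submodule.Quotient.mk_eq_zero, hK, eq.symm_apply_apply] at h1
        exact hz₁ h1
      · rw [← IsLocalization.AtPrime.map_eq_maximalIdeal r (X.presheaf.stalk y), Ideal.map_le_iff_le_comap]
        intro b hb
        rw [Ideal.mem_comap, Submodule.mem_colon_singleton, Submodule.mem_bot, ← map_smul, Submodule.mkQ_apply,
          Submodule.Quotient.mk_eq_zero, hK, algebraMap_smul, ← map_smul eq, eq.symm_apply_apply]
        exact hz₂ b hb
    exact (congrArg Ideal.radical hcol).trans (maximalIdeal.isMaximal _).isPrime.radical |>.symm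
  obtain ⟨x', hyx', hx'⟩ := h₁ y hass
  have h3 := (Open62.isFlatOverAt_iff_localized f e hU hV hloc hy).1
    (isFlatOverAt_of_specializes f F hyx' (h₂ x' hx'))
  rw [hprime] at h3
  exact h3

end Groth.Agent.FlatMor67
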