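import Groth.Agent.FlatMor67.FlatAtBC
import Groth.Agent.Spec91.PullbackPoint

/-! Flatness at a prime descends along a base change which is flat at the prime below. -/

set_option autoImplicit false
set_option backward.isDefEq.respectTransparency.types false
set_option linter.style.haveILetI false

universe u

open TensorProduct

namespace Groth.Agent.FlatMor67.FlatAtDesc

variable {R S R' S' : Type u} [CommRing R] [CommRing S] [CommRing R'] [CommRing S']
  [Algebra R S] [Algebra R R'] [Algebra S S'] [Algebra R' S'] [Algebra R S'] [IsScalarTower R S S']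
  [IsScalarTower R R' S'] [Algebra.IsPushout R S R' S']

/-- Primes of `S` and `R'` with the same trace on `R` are traces of a prime of `S'`. -/
theorem exists_prime_pushout (q : Ideal S) [q.IsPrime] (p' : Ideal R') [p'.IsPrime]
    (h : q.comap (algebraMap R S) = p'.comap (algebraMap R R')) :
    ∃ q' : Ideal S', q'.IsPrime ∧ q'.comap (algebraMap S S') = q ∧ q'.comap (algebraMap R' S') = p' := by
  obtain ⟨r, hr, h1, h2⟩ := Spec91.exists_prime_tensor q p' h
  let e := Algebra.IsPushout.equiv R S R' S'
  refine ⟨r.comap e.symm.toRingEquiv.toRingHom, Ideal.comap_isPrime _ _, ?_, ?_⟩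
  · rw [Ideal.comap_comap]
    refine Eq.trans ?_ h1
    congr 1
    ext s
    exact Algebra.IsPushout.equiv_symm_algebraMap_left R S R' S' s
  · rw [Ideal.comap_comap]
    refine Eq.trans ?_ h2
    congr 1
    ext s
    exact Algebra.IsPushout.equiv_symm_algebraMap_right R S R' S' s

variable {M M' : Type u} [AddCommGroup M] [Module S M] [Module R M] [IsScalarTower R S M]
  [AddCommGroup M'] [Module S' M'] [Module R' M'] [IsScalarTower R' S' M'] [Module S M'] [IsScalarTower S S' M']

/-- `S'_{q'}` is flat over `S` when `R'_{p'}` is flat over `R`. -/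
theorem flat_localization (q' : Ideal S') [q'.IsPrime] (p' : Ideal R') [p'.IsPrime]
    (hp : q'.comap (algebraMap R' S') = p') (hflat : Module.Flat R (Localization.AtPrime p')) :
    Module.Flat S (Localization.AtPrime q') := by
  haveI : Algebra.IsPushout R R' S S' := .symm inferInstance
  have hf : IsBaseChange S' (Algebra.linearMap R' S') :=
    IsBaseChange.linearMap (R := R') (S := S')
  have H : FlatCA.FlatAt R (q'.comap (algebraMap R' S')) R' := by
    subst hp
    exact hflat
  exact FlatAtBC.flatAt_baseChange (R := R) (S := R') (R' := S) (S' := S') (M := R') (M' := S')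
    (Algebra.linearMap R' S') hf q' H

/-- Flatness at a prime descends along a base change which is flat at the prime below. -/
theorem flatAt_descent (f : M →ₗ[S] M') (hf : IsBaseChange S' f) (q : Ideal S) [q.IsPrime]
    (p' : Ideal R') [p'.IsPrime] (q' : Ideal S') [q'.IsPrime] (hq : q'.comap (algebraMap S S') = q)
    (hp : q'.comap (algebraMap R' S') = p') (hflat : Module.Flat R (Localization.AtPrime p'))
    (H : FlatCA.FlatAt R' q' M') : FlatCA.FlatAt R q M := by
  let L := Localization.AtPrime q'
  haveI hL : Module.Flat S L := flat_localization q' p' hp hflat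
  let N' := LocalizedModule q'.primeCompl M'
  have H' : Module.Flat R' N' := H
  letI : Algebra (Localization.AtPrime p') L :=
    (Localization.localRingHom p' q' (algebraMap R' S') hp.symm).toAlgebra
  haveI : IsScalarTower R' (Localization.AtPrime p') L := IsScalarTower.of_algebraMap_eq fun a => by
    show _ = Localization.localRingHom _ _ _ _ (algebraMap R' _ a)
    rw [Localization.localRingHom_to_map, ← IsScalarTower.algebraMap_apply]
  letI : Module (Localization.AtPrime p') N' := Module.compHom N' (algebraMap (Localization.AtPrime p') L)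
  haveI : IsScalarTower R' (Localization.AtPrime p') N' := IsScalarTower.of_algebraMap_smul fun a x => by
    show algebraMap (Localization.AtPrime p') L (algebraMap R' _ a) • x = a • x
    rw [← IsScalarTower.algebraMap_apply, algebraMap_smul]
  haveI hN : Module.Flat (Localization.AtPrime p') N' :=
    (Module.flat_iff_of_isLocalization (Localization.AtPrime p') p'.primeCompl N').2 H'
  letI : Module R N' := Module.compHom N' (algebraMap R R')
  haveI : IsScalarTower R R' N' := IsScalarTower.of_algebraMap_smul fun _ _ => rfl
  haveI : IsScalarTower R (Localization.AtPrime p') N' := IsScalarTower.of_algebraMap_smul fun a x => by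
    rw [IsScalarTower.algebraMap_apply R R' (Localization.AtPrime p'), algebraMap_smul]
    rfl
  haveI hNR : Module.Flat R N' := Module.Flat.trans R (Localization.AtPrime p') N'
  haveI : IsScalarTower S S' N' := inferInstanceAs (IsScalarTower S S' (LocalizedModule q'.primeCompl M'))
  haveI : IsScalarTower S L N' := IsScalarTower.of_algebraMap_smul fun a x => by
    rw [IsScalarTower.algebraMap_apply S S' L, algebraMap_smul]
    exact algebraMap_smul (R := S) S' a x
  haveI : IsScalarTower R S N' := IsScalarTower.of_algebraMap_smul fun a x => by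
    rw [← algebraMap_smul S' (algebraMap R S a) x, ← IsScalarTower.algebraMap_apply,
      IsScalarTower.algebraMap_apply R R' S', algebraMap_smul]
    rfl
  let g := (LocalizedModule.mkLinearMap q'.primeCompl M').restrictScalars S ∘ₗ f
  have hg : IsBaseChange L g :=
    hf.comp (IsLocalizedModule.isBaseChange q'.primeCompl L (LocalizedModule.mkLinearMap q'.primeCompl M'))
  let e : L ⊗[S] M ≃ₗ[L] N' := hg.equiv
  haveI : IsScalarTower R L N' := IsScalarTower.of_algebraMap_smul fun a x => by
    rw [IsScalarTower.algebraMap_apply R S L, algebraMap_smul, algebraMap_smul]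
  haveI hLM : Module.Flat R (L ⊗[S] M) := Module.Flat.of_linearEquiv (e.restrictScalars R)
  show Module.Flat R (LocalizedModule q.primeCompl M)
  rw [Module.Flat.iff_lTensor_preserves_injective_linearMap]
  intro N P _ _ _ _ u hu
  let mk := LocalizedModule.mkLinearMap q.primeCompl M
  let GN := TensorProduct.AlgebraTensorModule.rTensor R N mk
  let GP := TensorProduct.AlgebraTensorModule.rTensor R P mk
  let K := TensorProduct.AlgebraTensorModule.lTensor S (LocalizedModule q.primeCompl M) u
  let K' := TensorProduct.AlgebraTensorModule.lTensor S M u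
  let Q := TensorProduct.AlgebraTensorModule.lTensor S (L ⊗[S] M) u
  have hQ : Function.Injective Q := Module.Flat.lTensor_preserves_injective_linearMap u hu
  have hG : ∀ x, K (GN x) = GP (K' x) := fun x => by
    induction x using TensorProduct.induction_on with
    | zero => simp
    | tmul m n => rfl
    | add x y hx hy => simp [map_add, hx, hy]
  refine (injective_iff_map_eq_zero K).2 fun z hz => ?_
  obtain ⟨⟨z₀, t⟩, ht⟩ := IsLocalizedModule.surj q.primeCompl GN z
  dsimp only at ht
  have h0 : GP (K' z₀) = 0 := by
    rw [← hG, ← ht]
    show K ((t : S) • z) = 0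
    rw [map_smul, hz, smul_zero]
  obtain ⟨s, hs0⟩ := (IsLocalizedModule.eq_zero_iff q.primeCompl GP).1 h0
  let w := (s : S) • z₀
  have h1 : K' w = 0 := by rw [map_smul]; exact hs0
  let aN := TensorProduct.AlgebraTensorModule.assoc R S S L M N
  let aP := TensorProduct.AlgebraTensorModule.assoc R S S L M P
  have hassoc : ∀ x, aP (Q x) = K'.lTensor L (aN x) := fun x => by
    induction x using TensorProduct.induction_on with
    | zero => simp
    | add x y hx hy => simp [map_add, hx, hy]
    | tmul y n =>
      induction y using TensorProduct.induction_on with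
      | zero => simp
      | add x y hx hy => simp only [TensorProduct.add_tmul, map_add, hx, hy]
      | tmul l m => rfl
  have h2 : (1 : L) ⊗ₜ[S] w = 0 := by
    obtain ⟨x, hx⟩ := aN.surjective ((1 : L) ⊗ₜ[S] w)
    have : Q x = 0 := aP.injective (by rw [hassoc, hx, LinearMap.lTensor_tmul, h1, TensorProduct.tmul_zero, map_zero])
    rw [← hx, hQ (this.trans (map_zero Q).symm), map_zero]
  by_contra hne
  have hw : (Submodule.span S {w}).annihilator ≤ q := by
    intro a ha
    by_contra haq
    refine hne ((Module.End.isUnit_iff _).1 (IsLocalizedModule.map_units GN t) |>.1 ?_)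
    show (t : S) • z = (t : S) • 0
    rw [smul_zero]
    refine ht.trans ((IsLocalizedModule.eq_zero_iff q.primeCompl GN).2
      ⟨⟨a * s, ‹q.IsPrime›.mul_notMem haq s.2⟩, ?_⟩)
    show (a * (s : S)) • z₀ = 0
    rw [mul_smul]
    exact (Submodule.mem_annihilator_span_singleton w a).1 ha
  let a := (Submodule.span S {w}).annihilator
  have hann : a = LinearMap.ker (LinearMap.toSpanSingleton S _ w) := by
    ext x
    simp [a, Submodule.mem_annihilator_span_singleton]
  let ι := a.liftQ (LinearMap.toSpanSingleton S _ w) hann.le
  have hι : Function.Injective ι := LinearMap.ker_eq_bot.1 (Submodule.ker_liftQ_eq_bot _ _ _ hann.ge)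
  have h3 : (1 : L) ⊗ₜ[S] (Submodule.Quotient.mk 1 : S ⧸ a) = 0 := by
    refine Module.Flat.lTensor_preserves_injective_linearMap (M := L) ι hι ?_
    rw [map_zero, LinearMap.lTensor_tmul]
    show (1 : L) ⊗ₜ[S] (LinearMap.toSpanSingleton S _ w 1) = 0
    rw [LinearMap.toSpanSingleton_apply, one_smul, h2]
  let κ := q'.ResidueField
  let φ : L →ₗ[S] κ := (IsScalarTower.toAlgHom S L κ).toLinearMap
  let π : S ⧸ a →ₗ[S] κ := a.liftQ (Algebra.linearMap S κ) fun x hx => by
    show algebraMap S κ x = 0
    rw [IsScalarTower.algebraMap_apply S S' κ, Ideal.algebraMap_residueField_eq_zero]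
    exact (hq.symm ▸ hw hx :)
  have := congrArg (TensorProduct.lift ((LinearMap.mul S κ).compl₁₂ φ π)) h3
  simp [φ, π] at this
  change algebraMap S κ 1 = 0 at this
  simp at this

end Groth.Agent.FlatMor67.FlatAtDesc
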