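import Groth.Agent.Stage62.Flat
import Groth.Agent.FlatCrit65.FlatLocus.Module
import Groth.Agent.CAlgH2.LocalModel
import Groth.Agent.EGA4H10.FlatLocal
import Mathlib.LinearAlgebra.TensorProduct.DirectLimit

/-!
# Flatness at the primes over a closed set descends to a stage of a directed colimit
-/

set_option autoImplicit false
set_option backward.isDefEq.respectTransparency.types false
set_option linter.style.haveILetI false

universe u

open TensorProduct

attribute [local instance] Algebra.TensorProduct.rightAlgebra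

namespace Groth.Agent.FlatMor67

/-- two base changes of a module to a localisation agree -/
theorem flat_localizedModule_iff_of_atPrime {A C P L M₀ N Mq : Type u} [CommRing A] [CommRing C] [CommRing P]
    [CommRing L] [Algebra C P] [Algebra C L] [Algebra P L] [IsScalarTower C P L] [Algebra A P]
    (Q : Ideal P) [Q.IsPrime] [IsLocalization.AtPrime L Q]
    [AddCommGroup M₀] [Module C M₀]
    [AddCommGroup N] [Module C N] [Module P N] [IsScalarTower C P N] [Module A N] [IsScalarTower A P N]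
    [AddCommGroup Mq] [Module C Mq] [Module P Mq] [Module L Mq] [IsScalarTower C L Mq] [IsScalarTower P L Mq]
    [IsScalarTower C P Mq] [Module A Mq] [IsScalarTower A P Mq]
    (h₀ : M₀ →ₗ[C] N) (hh₀ : IsBaseChange P h₀) (g : M₀ →ₗ[C] Mq) (hg : IsBaseChange L g) :
    Module.Flat A (LocalizedModule Q.primeCompl N) ↔ Module.Flat A Mq := by
  let g' : N →ₗ[P] Mq := hh₀.lift g
  have hg' : IsBaseChange L g' := by
    refine IsBaseChange.of_comp hh₀ ?_
    convert hg using 1
    exact LinearMap.ext fun x => hh₀.lift_eq g x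
  haveI : IsLocalizedModule Q.primeCompl g' := (isLocalizedModule_iff_isBaseChange Q.primeCompl L g').2 hg'
  let e := (IsLocalizedModule.iso Q.primeCompl g').restrictScalars A
  exact ⟨fun h => Module.Flat.of_linearEquiv e.symm, fun h => Module.Flat.of_linearEquiv e⟩

/-- flatness on a localisation read on the primes away from the submonoid -/
theorem flat_baseChange_localization_iff {A C P B M₀ : Type u} [CommRing A] [CommRing C] [CommRing P] [CommRing B]
    [Algebra A P] [Algebra C P] [Algebra A B] [Algebra C B] [Algebra P B] [IsScalarTower A P B] [IsScalarTower C P B]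
    (T : Submonoid P) [IsLocalization T B] [AddCommGroup M₀] [Module C M₀] :
    Module.Flat A (B ⊗[C] M₀) ↔ ∀ (Q : Ideal P) [Q.IsPrime], Disjoint (T : Set P) (Q : Set P) →
      Module.Flat A (LocalizedModule Q.primeCompl (P ⊗[C] M₀)) := by
  have key : ∀ (m : Ideal B) [m.IsPrime], Module.Flat A (LocalizedModule m.primeCompl (B ⊗[C] M₀)) ↔
      Module.Flat A (LocalizedModule (m.comap (algebraMap P B)).primeCompl (P ⊗[C] M₀)) := by
    intro m _
    haveI : IsLocalization.AtPrime (Localization.AtPrime m) (m.comap (algebraMap P B)) :=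
      IsLocalization.isLocalization_isLocalization_atPrime_isLocalization T (Localization.AtPrime m) m
    refine (flat_localizedModule_iff_of_atPrime (L := Localization.AtPrime m)
      (Mq := LocalizedModule m.primeCompl (B ⊗[C] M₀)) (m.comap (algebraMap P B)) (TensorProduct.mk C P M₀ 1)
      (TensorProduct.isBaseChange C M₀ P)
      ((LocalizedModule.mkLinearMap m.primeCompl (B ⊗[C] M₀)).restrictScalars C ∘ₗ TensorProduct.mk C B M₀ 1) ?_).symm
    exact (TensorProduct.isBaseChange C M₀ B).comp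
      (IsLocalizedModule.isBaseChange m.primeCompl (Localization.AtPrime m)
        (LocalizedModule.mkLinearMap m.primeCompl (B ⊗[C] M₀)))
  constructor
  · intro h Q _ hdisj
    haveI : (Q.map (algebraMap P B)).IsPrime := IsLocalization.isPrime_of_isPrime_disjoint T B Q inferInstance hdisj
    have hcomap := IsLocalization.under_map_of_isPrime_disjoint T B (I := Q) inferInstance hdisj
    have h1 := (key (Q.map (algebraMap P B))).1 (EGA4H10.flat_localizedModule (B ⊗[C] M₀) _)
    refine (?_ : ∀ (Q₁ : Ideal P) [Q₁.IsPrime], Q₁ = Q →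
      Module.Flat A (LocalizedModule Q₁.primeCompl (P ⊗[C] M₀)) →
      Module.Flat A (LocalizedModule Q.primeCompl (P ⊗[C] M₀))) _ hcomap h1
    intro Q₁ _ he h2
    subst he
    exact h2
  · intro h
    refine Module.flat_of_isLocalized_maximal (R := A) B (B ⊗[C] M₀)
      (fun m => LocalizedModule m.primeCompl (B ⊗[C] M₀))
      (fun m _ => LocalizedModule.mkLinearMap m.primeCompl (B ⊗[C] M₀)) fun m _ => ?_
    refine (key m).2 (h _ (Set.disjoint_left.2 fun x hx hxm => ?_))
    exact (inferInstance : m.IsPrime).ne_top (Ideal.eq_top_of_isUnit_mem m hxm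
      (IsLocalization.map_units B (⟨x, hx⟩ : T)))

variable {R C M₀ : Type u} [CommRing R] [CommRing C] [Algebra R C] [AddCommGroup M₀] [Module C M₀]

variable (M₀) in
/-- flat over `A` at all primes of the basic open of `f` in `A ⊗ C` -/
def FlatOnBasic (A : Type u) [CommRing A] [Algebra R A] (f : A ⊗[R] C) : Prop :=
  ∀ (Q : Ideal (A ⊗[R] C)) [Q.IsPrime], f ∉ Q →
    Module.Flat A (LocalizedModule Q.primeCompl ((A ⊗[R] C) ⊗[C] M₀))

section Away

variable {A₀ A : Type u} [CommRing A₀] [CommRing A] [Algebra R A₀] [Algebra R A] [Algebra A₀ A]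
  [IsScalarTower R A₀ A]

/-- flatness on a basic open after base change -/
theorem flatOnBasic_map_iff (f : A₀ ⊗[R] C) :
    FlatOnBasic M₀ A (Algebra.TensorProduct.map (IsScalarTower.toAlgHom R A₀ A) (AlgHom.id R C) f) ↔
      Module.Flat A (A ⊗[A₀] (Localization.Away f ⊗[C] M₀)) := by
  let φ : A₀ ⊗[R] C →ₐ[R] A ⊗[R] C := Algebra.TensorProduct.map (IsScalarTower.toAlgHom R A₀ A) (AlgHom.id R C)
  let P₀ := A₀ ⊗[R] C
  let P := A ⊗[R] C
  let B₀ := Localization.Away f
  letI : Algebra P₀ P := φ.toRingHom.toAlgebra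
  haveI : IsScalarTower A₀ P₀ P := IsScalarTower.of_algebraMap_eq fun a => by
    show algebraMap A₀ A a ⊗ₜ[R] (1 : C) = φ (a ⊗ₜ 1)
    simp [φ]
  haveI : IsScalarTower C P₀ P := IsScalarTower.of_algebraMap_eq fun c => by
    show (1 : A) ⊗ₜ[R] c = φ (1 ⊗ₜ c)
    simp [φ]
  haveI : IsScalarTower R P₀ P := IsScalarTower.of_algebraMap_eq fun r => (φ.commutes r).symm
  haveI hpo : Algebra.IsPushout A₀ A P₀ P := by
    haveI : Algebra.IsPushout R A₀ C P₀ := inferInstance
    exact (Algebra.IsPushout.comp_iff (R := R) (S := A₀) (T := A) (R' := C) (S' := P₀) (T' := P)).1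
      inferInstance
  let B := A ⊗[A₀] B₀
  letI iPB : Algebra P B := (Algebra.pushoutDesc (R := A₀) (S := A) (R' := P₀) (S' := P)
    (Algebra.TensorProduct.includeLeft : A →ₐ[A₀] B)
    ((Algebra.TensorProduct.includeRight : B₀ →ₐ[A₀] B).comp (IsScalarTower.toAlgHom A₀ P₀ B₀))
    (fun x y => mul_comm _ _)).toRingHom.toAlgebra
  haveI : IsScalarTower A P B := IsScalarTower.of_algebraMap_eq fun a => by
    show (Algebra.TensorProduct.includeLeft : A →ₐ[A₀] B) a = _
    exact (Algebra.pushoutDesc_left (R := A₀) (S := A) (R' := P₀) P _ _ _ a).symm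
  letI iP₀B : Algebra P₀ B := ((algebraMap B₀ B).comp (algebraMap P₀ B₀)).toAlgebra
  haveI : IsScalarTower P₀ B₀ B := IsScalarTower.of_algebraMap_eq fun _ => rfl
  haveI : IsScalarTower P₀ P B := IsScalarTower.of_algebraMap_eq fun x => by
    show ((Algebra.TensorProduct.includeRight : B₀ →ₐ[A₀] B).comp (IsScalarTower.toAlgHom A₀ P₀ B₀)) x = _
    exact (Algebra.pushoutDesc_right (R := A₀) (S := A) (R' := P₀) P _ _ _ x).symm
  haveI : IsScalarTower A₀ P₀ B := IsScalarTower.of_algebraMap_eq fun a => by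
    rw [IsScalarTower.algebraMap_apply A₀ B₀ B, IsScalarTower.algebraMap_apply A₀ P₀ B₀,
      ← IsScalarTower.algebraMap_apply P₀ B₀ B]
  haveI : Algebra.IsPushout A₀ A B₀ B := inferInstance
  haveI hpo2 : Algebra.IsPushout P₀ B₀ P B := by
    haveI : Algebra.IsPushout A₀ P₀ A P := hpo.symm
    haveI : Algebra.IsPushout A₀ B₀ A B := Algebra.IsPushout.symm inferInstance
    exact (Algebra.IsPushout.comp_iff (R := A₀) (S := P₀) (T := B₀) (R' := A) (S' := P) (T' := B)).1 inferInstance
  haveI hloc : IsLocalization (Algebra.algebraMapSubmonoid P (Submonoid.powers f)) B :=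
    (Algebra.isLocalization_iff_isPushout (Submonoid.powers f) B₀).2 hpo2.symm
  letI : Algebra C B := ((algebraMap P B).comp (algebraMap C P)).toAlgebra
  haveI : IsScalarTower C P B := IsScalarTower.of_algebraMap_eq fun _ => rfl
  haveI : IsScalarTower C B₀ B := IsScalarTower.of_algebraMap_eq fun c => by
    rw [IsScalarTower.algebraMap_apply C P₀ B₀, ← IsScalarTower.algebraMap_apply P₀ B₀ B,
      IsScalarTower.algebraMap_apply P₀ P B, ← IsScalarTower.algebraMap_apply C P₀ P]
    rfl
  let e : A ⊗[A₀] (B₀ ⊗[C] M₀) ≃ₗ[A] (B ⊗[C] M₀) :=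
    (Algebra.IsPushout.cancelBaseChange A₀ A B₀ B (B₀ ⊗[C] M₀)).symm ≪≫ₗ
      (AlgebraTensorModule.cancelBaseChange C B₀ B B M₀).restrictScalars A
  refine Iff.trans ?_ ⟨fun h => @Module.Flat.of_linearEquiv _ _ _ _ _ _ _ _ h e, fun h => @Module.Flat.of_linearEquiv _ _ _ _ _ _ _ _ h e.symm⟩
  refine Iff.trans ?_ (flat_baseChange_localization_iff (P := P)
    (Algebra.algebraMapSubmonoid P (Submonoid.powers f))).symm
  refine ⟨fun h Q _ hd => h Q fun hf => Set.disjoint_left.1 hd ⟨f, Submonoid.mem_powers f, rfl⟩ hf,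
    fun h Q _ hQ => h Q (Set.disjoint_left.2 ?_)⟩
  rintro _ ⟨_, ⟨n, rfl⟩, rfl⟩ hx
  rw [SetLike.mem_coe, map_pow] at hx
  exact hQ (‹Q.IsPrime›.mem_of_pow_mem n hx)

end Away

section Colim

variable {ι : Type u} [Preorder ι] (G : ι → Type u) [∀ i, CommRing (G i)] [∀ i, Algebra R (G i)]
  (g : ∀ i j, i ≤ j → G i →ₐ[R] G j) (R' : Type u) [CommRing R'] [Algebra R R'] [∀ i, Algebra (G i) R']
  [∀ i, IsScalarTower R (G i) R']

/-- transition map -/
noncomputable abbrev mapStage (C : Type u) [CommRing C] [Algebra R C] (i j : ι) (h : i ≤ j) :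
    G i ⊗[R] C →ₐ[R] G j ⊗[R] C :=
  Algebra.TensorProduct.map (g i j h) (AlgHom.id R C)

/-- map to the colimit -/
noncomputable abbrev mapColim (C : Type u) [CommRing C] [Algebra R C] (i : ι) : G i ⊗[R] C →ₐ[R] R' ⊗[R] C :=
  Algebra.TensorProduct.map (IsScalarTower.toAlgHom R (G i) R') (AlgHom.id R C)

variable (hcolim : FlatCA.IsDirectedColimitRing G (fun i j h => (g i j h).toRingHom) R')

include hcolim

theorem mapColim_mapStage (i j : ι) (h : i ≤ j) (x : G i ⊗[R] C) :
    mapColim G R' C j (mapStage G g C i j h x) = mapColim G R' C i x := by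
  obtain ⟨-, -, -, -, hcompat, -, -⟩ := hcolim
  induction x with
  | zero => simp
  | add x y hx hy => simp only [map_add, hx, hy]
  | tmul a c =>
    simp only [Algebra.TensorProduct.map_tmul, AlgHom.id_apply, IsScalarTower.toAlgHom_apply]
    exact congrArg (· ⊗ₜ[R] c) (RingHom.congr_fun (hcompat i j h) a)

omit [Algebra R R'] [∀ (i : ι), IsScalarTower R (G i) R'] in
theorem mapStage_mapStage (i j k : ι) (hij : i ≤ j) (hjk : j ≤ k) (x : G i ⊗[R] C) :
    mapStage G g C j k hjk (mapStage G g C i j hij x) = mapStage G g C i k (hij.trans hjk) x := by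
  obtain ⟨-, -, -, hcomp, -, -, -⟩ := hcolim
  induction x with
  | zero => simp
  | add x y hx hy => simp only [map_add, hx, hy]
  | tmul a c =>
    simp only [Algebra.TensorProduct.map_tmul, AlgHom.id_apply]
    exact congrArg (· ⊗ₜ[R] c) (RingHom.congr_fun (hcomp i j k hij hjk) a)

theorem exists_mapColim_eq (x : R' ⊗[R] C) : ∃ (i : ι) (y : G i ⊗[R] C), mapColim G R' C i y = x := by
  induction x with
  | zero => exact ⟨hcolim.2.1.some, 0, map_zero _⟩
  | add x y hx hy =>
    obtain ⟨i, x, rfl⟩ := hx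
    obtain ⟨j, y, rfl⟩ := hy
    obtain ⟨k, hik, hjk⟩ := hcolim.1.directed i j
    exact ⟨k, mapStage G g C i k hik x + mapStage G g C j k hjk y, by
      rw [map_add, mapColim_mapStage G g R' hcolim, mapColim_mapStage G g R' hcolim]⟩
  | tmul a c =>
    obtain ⟨i, b, rfl⟩ := hcolim.2.2.2.2.2.1 a
    exact ⟨i, b ⊗ₜ c, Algebra.TensorProduct.map_tmul _ _ _ _⟩

theorem exists_mapStage_eq_zero (i : ι) (x : G i ⊗[R] C) (hx : mapColim G R' C i x = 0) :
    ∃ (j : ι) (h : i ≤ j), mapStage G g C i j h x = 0 := by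
  classical
  obtain ⟨hdir, hne, hid, hcomp, hcompat, hsurj, hzero⟩ := hcolim
  haveI : IsDirectedOrder ι := hdir
  haveI := hne
  let f : ∀ a b, a ≤ b → G a →ₗ[R] G b := fun a b h => (g a b h).toLinearMap
  haveI : DirectedSystem G (fun a b h => f a b h) :=
    ⟨fun a y => RingHom.congr_fun (hid a) y, fun k j i hij hjk y => RingHom.congr_fun (hcomp i j k hij hjk) y⟩
  let D := Module.DirectLimit G f
  let Φ : D →ₗ[R] R' := Module.DirectLimit.lift R ι G f (fun a => (IsScalarTower.toAlgHom R (G a) R').toLinearMap)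
    (fun a b h y => RingHom.congr_fun (hcompat a b h) y)
  have hΦ : Function.Bijective Φ := by
    refine ⟨(injective_iff_map_eq_zero _).2 fun z hz => ?_, fun r => ?_⟩
    · obtain ⟨a, y, rfl⟩ := Module.DirectLimit.exists_of z
      rw [Module.DirectLimit.lift_of] at hz
      obtain ⟨b, hb, h0⟩ := hzero a y hz
      rw [← Module.DirectLimit.of_f (hij := hb), show f a b hb y = 0 from h0, map_zero]
    · obtain ⟨a, y, rfl⟩ := hsurj r
      exact ⟨Module.DirectLimit.of R ι G f a y, Module.DirectLimit.lift_of _ _ _⟩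
  let e := LinearEquiv.rTensor C (LinearEquiv.ofBijective Φ hΦ)
  have h1 : e ((Module.DirectLimit.of R ι G f i).rTensor C x) = mapColim G R' C i x := by
    clear hx
    induction x with
    | zero => simp
    | add x y hx hy => simp only [map_add, hx, hy]
    | tmul a c =>
      show Φ (Module.DirectLimit.of R ι G f i a) ⊗ₜ[R] c = algebraMap (G i) R' a ⊗ₜ[R] c
      rw [Module.DirectLimit.lift_of]
      rfl
  rw [hx, LinearEquiv.map_eq_zero_iff] at h1
  have h2 := congrArg (TensorProduct.directLimitLeft f C) h1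
  rw [TensorProduct.directLimitLeft_rTensor_of, map_zero] at h2
  obtain ⟨j, hij, h3⟩ := Module.DirectLimit.of.zero_exact h2
  refine ⟨j, hij, Eq.trans ?_ h3⟩
  clear h1 h2 h3 hx
  induction x with
  | zero => simp
  | add x y hx hy => simp only [map_add, hx, hy]
  | tmul a c => rfl

omit [∀ (i : ι), IsScalarTower R (G i) R'] hcolim in
/-- flatness on a basic open passes to later stages -/
theorem flatOnBasic_mapStage (i j : ι) (h : i ≤ j) (f : G i ⊗[R] C) (hf : FlatOnBasic M₀ (G i) f) :
    FlatOnBasic M₀ (G j) (mapStage G g C i j h f) := by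
  have h0 := (flatOnBasic_map_iff (M₀ := M₀) (A := G i) f).1 (by
    have : Algebra.TensorProduct.map (IsScalarTower.toAlgHom R (G i) (G i)) (AlgHom.id R C) = AlgHom.id R _ :=
      Algebra.TensorProduct.ext (AlgHom.ext fun a => rfl) (AlgHom.ext fun c => rfl)
    rw [this]
    exact hf)
  haveI : Module.Flat (G i) (Localization.Away f ⊗[C] M₀) :=
    Module.Flat.of_linearEquiv (TensorProduct.lid (G i) _).symm
  letI : Algebra (G i) (G j) := (g i j h).toRingHom.toAlgebra
  haveI : IsScalarTower R (G i) (G j) := IsScalarTower.of_algebraMap_eq fun r => ((g i j h).commutes r).symm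
  exact (flatOnBasic_map_iff (A := G j) f).2 inferInstance

/-- flatness on a basic open comes from a stage -/
theorem exists_flatOnBasic_stage [Algebra.FinitePresentation R C] [Module.FinitePresentation C M₀]
    (i : ι) (f : G i ⊗[R] C) (hf : FlatOnBasic M₀ R' (mapColim G R' C i f)) :
    ∃ (j : ι) (h : i ≤ j), FlatOnBasic M₀ (G j) (mapStage G g C i j h f) := by
  have h0 := (flatOnBasic_map_iff (M₀ := M₀) (A := R') f).1 hf
  let B₀ := Localization.Away f
  obtain ⟨hdir, hne, hid, hcomp, hcompat, hsurj, hzero⟩ := hcolim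
  let ι' := {j : ι // i ≤ j}
  letI : ∀ a : ι', Algebra (G i) (G a.1) := fun a => (g i a.1 a.2).toRingHom.toAlgebra
  haveI : ∀ a : ι', IsScalarTower (G i) (G a.1) R' := fun a =>
    IsScalarTower.of_algebraMap_eq fun x => (RingHom.congr_fun (hcompat i a.1 a.2) x).symm
  let g' : ∀ a b : ι', a ≤ b → G a.1 →ₐ[G i] G b.1 := fun a b h =>
    { (g a.1 b.1 h).toRingHom with commutes' := fun x => RingHom.congr_fun (hcomp i a.1 b.1 a.2 h) x }
  have hc' : FlatCA.IsDirectedColimitRing (fun a : ι' => G a.1) (fun a b h => (g' a b h).toRingHom) R' := by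
    refine ⟨⟨fun a b => ?_⟩, ⟨⟨i, le_rfl⟩⟩, fun a => hid a.1, fun a b c hab hbc => hcomp a.1 b.1 c.1 hab hbc,
      fun a b h => hcompat a.1 b.1 h, fun r => ?_, fun a x hx => ?_⟩
    · obtain ⟨k, hak, hbk⟩ := hdir.directed a.1 b.1
      exact ⟨⟨k, a.2.trans hak⟩, hak, hbk⟩
    · obtain ⟨j, x, rfl⟩ := hsurj r
      obtain ⟨k, hik, hjk⟩ := hdir.directed i j
      exact ⟨⟨k, hik⟩, g j k hjk x, RingHom.congr_fun (hcompat j k hjk) x⟩
    · obtain ⟨j, hj, h⟩ := hzero a.1 x hx
      exact ⟨⟨j, a.2.trans hj⟩, hj, h⟩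
  haveI : Algebra.FinitePresentation (G i) B₀ :=
    haveI : Algebra.FinitePresentation (G i ⊗[R] C) B₀ := IsLocalization.Away.finitePresentation f
    Algebra.FinitePresentation.trans (G i) (G i ⊗[R] C) B₀
  obtain ⟨⟨j, hj⟩, hflat⟩ := (Stage62.flat_colimit_iff (fun a : ι' => G a.1) g' R' hc'
    (B₀ := B₀) (B₀ ⊗[C] M₀)).1 h0
  letI : Algebra (G i) (G j) := (g i j hj).toRingHom.toAlgebra
  haveI : IsScalarTower R (G i) (G j) := IsScalarTower.of_algebraMap_eq fun r => ((g i j hj).commutes r).symm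
  exact ⟨j, hj, (flatOnBasic_map_iff (A := G j) f).2 hflat⟩

end Colim

/-- S6928 -/
theorem exists_stage_flatAt_over_ideals {R S : Type u} [CommRing R] [CommRing S] [Algebra R S]
    (hS : FlatCA.EssFinitePresentation R S)
    {M : Type u} [AddCommGroup M] [Module S M] [Module.FinitePresentation S M]
    {ι : Type u} [Preorder ι] (G : ι → Type u) [∀ i, CommRing (G i)] [∀ i, Algebra R (G i)]
    (g : ∀ i j, i ≤ j → G i →+* G j) (hgR : ∀ i j (h : i ≤ j), (g i j h).comp (algebraMap R (G i)) = algebraMap R (G j))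
    (R' : Type u) [CommRing R'] [Algebra R R'] [∀ i, Algebra (G i) R'] [∀ i, IsScalarTower R (G i) R']
    (hcolim : FlatCA.IsDirectedColimitRing G g R')
    (Il : ∀ i, Ideal (G i)) (hIl : ∀ i j (h : i ≤ j), (Il i).map (g i j h) ≤ Il j)
    {S' : Type u} [CommRing S'] [Algebra S S'] [Algebra R' S'] [Algebra R S'] [IsScalarTower R S S']
    [IsScalarTower R R' S'] [Algebra.IsPushout R S R' S']
    {M' : Type u} [AddCommGroup M'] [Module S' M'] [Module R' M'] [IsScalarTower R' S' M'] [Module S M']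
    [IsScalarTower S S' M'] (f : M →ₗ[S] M') (hf : IsBaseChange S' f)
    (J : Ideal S)
    (h : ∀ (q' : Ideal S') [q'.IsPrime],
      (⨆ i, (Il i).map (algebraMap (G i) R')).map (algebraMap R' S') ⊔ J.map (algebraMap S S') ≤ q' →
        FlatCA.FlatAt R' q' M') :
    ∃ i : ι, ∀ (Si Mi : Type u) [CommRing Si] [Algebra S Si] [Algebra (G i) Si] [Algebra R Si] [IsScalarTower R S Si]
      [IsScalarTower R (G i) Si] [Algebra.IsPushout R S (G i) Si] [AddCommGroup Mi] [Module Si Mi] [Module (G i) Mi]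
      [IsScalarTower (G i) Si Mi] [Module S Mi] [IsScalarTower S Si Mi] (fi : M →ₗ[S] Mi), IsBaseChange Si fi →
      ∀ (q : Ideal Si) [q.IsPrime], (Il i).map (algebraMap (G i) Si) ⊔ J.map (algebraMap S Si) ≤ q → FlatCA.FlatAt (G i) q Mi := by
  classical
  obtain ⟨C, _, _, _, _, W, hCfp, hW⟩ := hS
  haveI := hCfp
  haveI := hW
  let gA : ∀ i j, i ≤ j → G i →ₐ[R] G j := fun i j h =>
    { g i j h with commutes' := fun r => RingHom.congr_fun (hgR i j h) r }
  have hc : FlatCA.IsDirectedColimitRing G (fun i j h => (gA i j h).toRingHom) R' := hcolim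
  letI : Module C M := Module.compHom M (algebraMap C S)
  haveI : IsScalarTower C S M := IsScalarTower.of_algebraMap_smul fun _ _ => rfl
  obtain ⟨M₀, _, _, ι₀, hfp₀, hloc₀⟩ := CAlgH2.exists_fp_model (S := S) (M := M) W
  haveI := hfp₀
  have hι₀ : IsBaseChange S ι₀ := (isLocalizedModule_iff_isBaseChange W S ι₀).1 hloc₀
  -- localisation and module at a prime of a base change of `S`
  have key : ∀ {A Si Mi : Type u} [CommRing A] [Algebra R A] [CommRing Si] [Algebra S Si] [Algebra A Si]
      [Algebra R Si] [IsScalarTower R S Si] [IsScalarTower R A Si] [Algebra.IsPushout R S A Si]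
      [AddCommGroup Mi] [Module Si Mi] [Module A Mi] [IsScalarTower A Si Mi] [Module S Mi] [IsScalarTower S Si Mi]
      (fi : M →ₗ[S] Mi), IsBaseChange Si fi →
      ∃ φ : A ⊗[R] C →+* Si, (∀ a, φ (a ⊗ₜ 1) = algebraMap A Si a) ∧
        (∀ c, φ (1 ⊗ₜ c) = algebraMap S Si (algebraMap C S c)) ∧
        (∀ Q : Ideal (A ⊗[R] C), Q.IsPrime → (∀ w ∈ W, (1 : A) ⊗ₜ[R] w ∉ Q) →
          ∃ q : Ideal Si, q.IsPrime ∧ q.comap φ = Q) ∧
        ∀ (q : Ideal Si) [q.IsPrime], (FlatCA.FlatAt A q Mi ↔
          Module.Flat A (LocalizedModule (q.comap φ).primeCompl ((A ⊗[R] C) ⊗[C] M₀))) := by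
    intro A Si Mi _ _ _ _ _ _ _ _ hpo _ _ _ _ _ _ fi hfi
    let P := A ⊗[R] C
    let φ : P →ₐ[A] Si := Algebra.TensorProduct.lift (Algebra.ofId A Si)
      ((IsScalarTower.toAlgHom R S Si).comp (IsScalarTower.toAlgHom R C S)) fun a c => Commute.all _ _
    letI : Algebra P Si := φ.toRingHom.toAlgebra
    letI : Algebra C Si := ((algebraMap S Si).comp (algebraMap C S)).toAlgebra
    haveI : IsScalarTower C S Si := IsScalarTower.of_algebraMap_eq fun _ => rfl
    have hφC : ∀ c, φ (1 ⊗ₜ c) = algebraMap S Si (algebraMap C S c) := fun c => by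
      show algebraMap A Si 1 * algebraMap S Si (algebraMap C S c) = _
      rw [map_one, one_mul]
    have hφA : ∀ a, φ (a ⊗ₜ 1) = algebraMap A Si a := fun a => φ.commutes a
    haveI : IsScalarTower C P Si := IsScalarTower.of_algebraMap_eq fun c => (hφC c).symm
    haveI : IsScalarTower A P Si := IsScalarTower.of_algebraMap_eq fun a => (φ.commutes a).symm
    haveI : IsScalarTower R C Si := IsScalarTower.of_algebraMap_eq fun r => by
      rw [IsScalarTower.algebraMap_apply C S Si, ← IsScalarTower.algebraMap_apply R C S,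
        ← IsScalarTower.algebraMap_apply R S Si]
    haveI : IsScalarTower R P Si := IsScalarTower.of_algebraMap_eq fun r => by
      rw [IsScalarTower.algebraMap_apply R A P, ← IsScalarTower.algebraMap_apply A P Si,
        ← IsScalarTower.algebraMap_apply R A Si]
    haveI hpo2 : Algebra.IsPushout C S P Si := by
      haveI : Algebra.IsPushout R C A P := Algebra.IsPushout.symm inferInstance
      exact (Algebra.IsPushout.comp_iff (R := R) (S := C) (T := S) (R' := A) (S' := P) (T' := Si)).1 hpo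
    haveI hloc : IsLocalization (Algebra.algebraMapSubmonoid P W) Si :=
      (Algebra.isLocalization_iff_isPushout W S).2 hpo2.symm
    refine ⟨φ.toRingHom, hφA, hφC, fun Q hQ hQW => ?_, fun q _ => ?_⟩
    · have hdisj : Disjoint (Algebra.algebraMapSubmonoid P W : Set P) (Q : Set P) := by
        rw [Set.disjoint_left]
        rintro _ ⟨w, hw, rfl⟩ hx
        exact hQW w hw hx
      exact ⟨Q.map (algebraMap P Si), IsLocalization.isPrime_of_isPrime_disjoint _ Si Q hQ hdisj,
        IsLocalization.under_map_of_isPrime_disjoint _ Si hQ hdisj⟩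
    · haveI : IsLocalization.AtPrime (Localization.AtPrime q) (q.comap (algebraMap P Si)) :=
        IsLocalization.isLocalization_isLocalization_atPrime_isLocalization
          (Algebra.algebraMapSubmonoid P W) (Localization.AtPrime q) q
      letI : Module P Mi := Module.compHom Mi (algebraMap P Si)
      haveI : IsScalarTower P Si Mi := IsScalarTower.of_algebraMap_smul fun _ _ => rfl
      haveI : IsScalarTower A P Mi := IsScalarTower.of_algebraMap_smul fun a x => by
        show algebraMap P Si (algebraMap A P a) • x = a • x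
        rw [← IsScalarTower.algebraMap_apply, algebraMap_smul]
      letI : Module C Mi := Module.compHom Mi (algebraMap C S)
      haveI : IsScalarTower C S Mi := IsScalarTower.of_algebraMap_smul fun _ _ => rfl
      haveI : IsScalarTower C Si Mi := IsScalarTower.of_algebraMap_smul fun c x => by
        rw [IsScalarTower.algebraMap_apply C S Si, algebraMap_smul, algebraMap_smul]
      haveI : IsScalarTower C P Mi := IsScalarTower.of_algebraMap_smul fun c x => by
        show algebraMap P Si (algebraMap C P c) • x = c • x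
        rw [← IsScalarTower.algebraMap_apply, algebraMap_smul]
      exact (flat_localizedModule_iff_of_atPrime (L := Localization.AtPrime q)
        (Mq := LocalizedModule q.primeCompl Mi) (q.comap (algebraMap P Si)) (TensorProduct.mk C P M₀ 1)
        (TensorProduct.isBaseChange C M₀ P)
        ((LocalizedModule.mkLinearMap q.primeCompl Mi).restrictScalars C ∘ₗ (fi.restrictScalars C ∘ₗ ι₀))
        ((hι₀.comp hfi).comp (IsLocalizedModule.isBaseChange q.primeCompl (Localization.AtPrime q)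
          (LocalizedModule.mkLinearMap q.primeCompl Mi)))).symm
  let J₀ := J.comap (algebraMap C S)
  let K : ∀ i, Ideal (G i ⊗[R] C) := fun i =>
    Ideal.span {x | FlatOnBasic M₀ (G i) x} ⊔ Ideal.span {x | ∃ a ∈ Il i, a ⊗ₜ[R] (1 : C) = x} ⊔
      Ideal.span {x | ∃ c ∈ J₀, (1 : G i) ⊗ₜ[R] c = x}
  have hK : ∀ i j (hij : i ≤ j), (K i).map (mapStage G gA C i j hij) ≤ K j := by
    intro i j hij
    simp only [K, Ideal.map_sup, Ideal.map_span]
    refine sup_le_sup (sup_le_sup (Ideal.span_mono ?_) (Ideal.span_mono ?_)) (Ideal.span_mono ?_)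
    · rintro _ ⟨x, hx, rfl⟩
      exact flatOnBasic_mapStage G gA i j hij x hx
    · rintro _ ⟨_, ⟨a, ha, rfl⟩, rfl⟩
      exact ⟨g i j hij a, hIl i j hij (Ideal.mem_map_of_mem _ ha), (Algebra.TensorProduct.map_tmul (gA i j hij) (AlgHom.id R C) a 1).symm⟩
    · rintro _ ⟨_, ⟨c, hcm, rfl⟩, rfl⟩
      exact ⟨c, hcm, by rw [Algebra.TensorProduct.map_tmul, map_one]; rfl⟩
  let U : Ideal (R' ⊗[R] C) :=
    { carrier := {x | ∃ i, ∃ y ∈ K i, mapColim G R' C i y = x}
      zero_mem' := ⟨hc.2.1.some, 0, zero_mem _, map_zero _⟩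
      add_mem' := by
        rintro _ _ ⟨i, x, hx, rfl⟩ ⟨j, y, hy, rfl⟩
        obtain ⟨k, hik, hjk⟩ := hc.1.directed i j
        exact ⟨k, mapStage G gA C i k hik x + mapStage G gA C j k hjk y,
          add_mem (hK i k hik (Ideal.mem_map_of_mem _ hx)) (hK j k hjk (Ideal.mem_map_of_mem _ hy)),
          by rw [map_add, mapColim_mapStage G gA R' hc, mapColim_mapStage G gA R' hc]⟩
      smul_mem' := by
        rintro r _ ⟨i, x, hx, rfl⟩
        obtain ⟨j, r, rfl⟩ := exists_mapColim_eq G gA R' hc r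
        obtain ⟨k, hik, hjk⟩ := hc.1.directed i j
        exact ⟨k, mapStage G gA C j k hjk r * mapStage G gA C i k hik x,
          Ideal.mul_mem_left _ _ (hK i k hik (Ideal.mem_map_of_mem _ hx)),
          by rw [map_mul, mapColim_mapStage G gA R' hc, mapColim_mapStage G gA R' hc]; rfl⟩ }
  -- the colimit: `U` meets the image of `W`
  have hUW : ∃ w ∈ W, (1 : R') ⊗ₜ[R] w ∈ U := by
    by_contra hno
    push Not at hno
    obtain ⟨Q, hQprime, hUQ, hQW⟩ := Ideal.exists_le_prime_disjoint U
      (Algebra.algebraMapSubmonoid (R' ⊗[R] C) W) (by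
        rw [Set.disjoint_left]
        rintro x hx ⟨w, hw, rfl⟩
        exact hno w hw hx)
    have hQW' : ∀ w ∈ W, (1 : R') ⊗ₜ[R] w ∉ Q := fun w hw hx =>
      Set.disjoint_left.1 hQW hx ⟨w, hw, rfl⟩
    obtain ⟨φ, hφA, hφC, hlift, hflat⟩ := key (A := R') f hf
    obtain ⟨q', hq', rfl⟩ := hlift Q hQprime hQW'
    have hle : (⨆ i, (Il i).map (algebraMap (G i) R')).map (algebraMap R' S') ⊔ J.map (algebraMap S S') ≤ q' := by
      refine sup_le (Ideal.map_le_iff_le_comap.2 (iSup_le fun i => Ideal.map_le_iff_le_comap.2 fun a ha => ?_)) ?_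
      · have h1 : (algebraMap (G i) R' a) ⊗ₜ[R] (1 : C) ∈ U :=
          ⟨i, a ⊗ₜ 1, Submodule.mem_sup_left (Submodule.mem_sup_right (Ideal.subset_span ⟨a, ha, rfl⟩)),
            Algebra.TensorProduct.map_tmul _ _ _ _⟩
        show algebraMap R' S' (algebraMap (G i) R' a) ∈ q'
        rw [← hφA]
        exact hUQ h1
      · rw [← IsLocalization.map_under W S J, Ideal.map_map, Ideal.map_le_iff_le_comap]
        intro c hcJ
        have h1 : (1 : R') ⊗ₜ[R] c ∈ U :=
          ⟨hc.2.1.some, 1 ⊗ₜ c, Submodule.mem_sup_right (Ideal.subset_span ⟨c, hcJ, rfl⟩), by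
            rw [Algebra.TensorProduct.map_tmul, map_one]; rfl⟩
        show algebraMap S S' (algebraMap C S c) ∈ q'
        rw [← hφC]
        exact hUQ h1
    have h2 := (hflat q').1 (h q' hle)
    have hopen := FlatCrit65.isOpen_flat_locus_module (R := R') (S := R' ⊗[R] C) (M := (R' ⊗[R] C) ⊗[C] M₀)
    obtain ⟨_, ⟨b, rfl⟩, hb1, hb2⟩ := PrimeSpectrum.isTopologicalBasis_basic_opens.exists_subset_of_mem_open
      (show (⟨q'.comap φ, inferInstance⟩ : PrimeSpectrum (R' ⊗[R] C)) ∈ _ from h2) hopen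
    obtain ⟨i, b₀, hb₀⟩ := exists_mapColim_eq G gA R' hc b
    have hflatb : FlatOnBasic M₀ R' (mapColim G R' C i b₀) := by
      rw [hb₀]
      intro Q' _ hQ'
      exact hb2 (show (⟨Q', inferInstance⟩ : PrimeSpectrum (R' ⊗[R] C)) ∈ PrimeSpectrum.basicOpen b from hQ')
    obtain ⟨j, hij, hj⟩ := exists_flatOnBasic_stage G gA R' hc i b₀ hflatb
    refine hb1 (hUQ ⟨j, mapStage G gA C i j hij b₀,
      Submodule.mem_sup_left (Submodule.mem_sup_left (Ideal.subset_span hj)), ?_⟩)
    rw [mapColim_mapStage G gA R' hc, hb₀]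
  obtain ⟨w, hw, i, y, hy, hyw⟩ := hUW
  obtain ⟨j, hij, hj⟩ := exists_mapStage_eq_zero G gA R' hc i (y - 1 ⊗ₜ w) (by
    rw [map_sub, hyw, Algebra.TensorProduct.map_tmul, map_one, AlgHom.id_apply, sub_self])
  have hwK : (1 : G j) ⊗ₜ[R] w ∈ K j := by
    rw [map_sub, sub_eq_zero, Algebra.TensorProduct.map_tmul, map_one, AlgHom.id_apply] at hj
    rw [← hj]
    exact hK i j hij (Ideal.mem_map_of_mem _ hy)
  refine ⟨j, fun Si Mi => ?_⟩
  intro _ _ _ _ _ _ _ _ _ _ _ _ _ fi hfi q _ hq
  obtain ⟨φ, hφA, hφC, -, hflat⟩ := key (A := G j) fi hfi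
  rw [hflat]
  have hwQ : (1 : G j) ⊗ₜ[R] w ∉ q.comap φ := by
    rw [Ideal.mem_comap, hφC]
    exact fun hm => ‹q.IsPrime›.ne_top (Ideal.eq_top_of_isUnit_mem q hm
      ((IsLocalization.map_units S (⟨w, hw⟩ : W)).map (algebraMap S Si)))
  by_contra hnot
  refine hwQ ?_
  refine (sup_le (sup_le (Ideal.span_le.2 fun x hx => ?_) (Ideal.span_le.2 ?_)) (Ideal.span_le.2 ?_) :
    K j ≤ q.comap φ) hwK
  · by_contra hxq
    exact hnot (hx _ hxq)
  · rintro _ ⟨a, ha, rfl⟩
    rw [SetLike.mem_coe, Ideal.mem_comap, hφA]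
    exact hq (Ideal.mem_sup_left (Ideal.mem_map_of_mem _ ha))
  · rintro _ ⟨c, hcJ, rfl⟩
    rw [SetLike.mem_coe, Ideal.mem_comap, hφC]
    exact hq (Ideal.mem_sup_right (Ideal.mem_map_of_mem _ hcJ))

end Groth.Agent.FlatMor67
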