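import Groth.Agent.FlatMor68.LimitPres
import Groth.Agent.FlatMor68.FlatFunSheaf
import Groth.Agent.Stage62.NoethDescent

/-! The functor of flatness of a base change is limit preserving (milestone S9013). -/

set_option backward.isDefEq.respectTransparency.types false
set_option linter.style.haveILetI false
set_option autoImplicit false
universe u

open CategoryTheory CategoryTheory.Limits AlgebraicGeometry Opposite

namespace Groth.Agent.FlatMor67

open Groth.Agent.FlatMor68

/-- Transport of flatness from the fibre product over the stage to the base change. -/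
theorem flat_transport {X S : Scheme.{u}} (f : X ⟶ S) (F : X.Modules) [Coh.IsQCoh F] {T T₀ : Over S}
    (g : T ⟶ T₀) (x : (pullback f T.hom : Scheme.{u}))
    (h : ∀ p, pullback.fst (pullback.snd f T₀.hom) g.left p = PullbackDescent.bc f g x →
      FlatMod.IsFlatOverAt (pullback.snd (pullback.snd f T₀.hom) g.left)
        ((Scheme.Modules.pullback (pullback.fst (pullback.snd f T₀.hom) g.left)).obj (FGA.ET f F T₀)) p) :
    FlatMod.IsFlatOverAt (pullback.snd f T.hom) (FGA.ET f F T) x := by
  have hbc := PullbackDescent.bc_isPullback f g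
  let e := hbc.isoPullback
  have h1 : e.hom ≫ pullback.fst (pullback.snd f T₀.hom) g.left = PullbackDescent.bc f g :=
    hbc.isoPullback_hom_fst
  have h2 : e.hom ≫ pullback.snd (pullback.snd f T₀.hom) g.left = pullback.snd f T.hom :=
    hbc.isoPullback_hom_snd
  have hsq : IsPullback e.hom (pullback.snd f T.hom) (pullback.snd (pullback.snd f T₀.hom) g.left) (𝟙 T.left) :=
    IsPullback.of_horiz_isIso ⟨by rw [h2, Category.comp_id]⟩
  haveI : (FGA.ET f F T₀).IsQuasicoherent := FlatDimFun.qcohET f F T₀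
  have hF' := FlatMor66.isFlatOverAt_baseChange hsq
    ((Scheme.Modules.pullback (pullback.fst (pullback.snd f T₀.hom) g.left)).obj (FGA.ET f F T₀))
    (QCPull72.isQuasicoherent_pullback _ _) x (h _ (by rw [← h1]; rfl))
  exact FlatDimFun.isFlatOverAt_of_iso _
    ((LimTop61.pullbackCompIso (pullback.fst (pullback.snd f T₀.hom) g.left) e.hom h1).app _ ≪≫
      FlatDimFun.etIso f F g) x hF'

theorem t9013 {X S : Scheme.{u}} (f : X ⟶ S) [QuasiCompact f] [LocallyOfFinitePresentation f]
    (F : X.Modules) [Coh.IsQCoh F] (hF : CohB1.IsFP F) :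
    AlgSp.IsLimitPreserving
      (FlatFun.genPSp S (fun T => FlatMod.IsFlatOver (PicF.XTproj f T) (FGA.ET f F T))) := by
  refine LimitPres.isLimitPreserving_genPSp _ ?_ ?_
  · intro T T₀ g h x'
    exact FlatDimFun.isFlatOverAt_of_iso _ (FlatDimFun.etIso f F g) x'
      (FlatMor66.isFlatOverAt_baseChange (PullbackDescent.bc_isPullback f g) _ (FlatDimFun.qcohET f F T₀) x' (h _))
  intro I _ _ D c hc hD _ h
  classical
  obtain ⟨i₀⟩ := IsCofiltered.nonempty (C := I)
  let D₁ := D ⋙ Over.forget S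
  haveI hA : ∀ i, IsAffine (D₁.obj i) := hD
  haveI : ∀ (i j : I) (a : i ⟶ j), IsAffineHom (D₁.map a) := fun i j a => isAffineHom_of_isAffine _
  haveI : IsAffine (D.obj i₀).left := hD i₀
  let X₀ : Scheme.{u} := pullback f (D.obj i₀).hom
  let f₀ : X₀ ⟶ D₁.obj i₀ := pullback.snd f (D.obj i₀).hom
  haveI : LocallyOfFinitePresentation f₀ :=
    inferInstanceAs (LocallyOfFinitePresentation (pullback.snd f (D.obj i₀).hom))
  let F₀ : X₀.Modules := FGA.ET f F (D.obj i₀)
  haveI : F.IsQuasicoherent := ‹Coh.IsQCoh F›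
  haveI : F₀.IsQuasicoherent := FlatDimFun.qcohET f F (D.obj i₀)
  haveI : CohB1.IsFP F₀ := (haveI : CohB1.IsFP F := hF; LimTop61.isFP_pullback (pullback.fst f (D.obj i₀).hom) F)
  haveI : CompactSpace X₀ := QuasiCompact.compactSpace_of_compactSpace (pullback.snd f (D.obj i₀).hom)
  have hX : IsPullback (PullbackDescent.bc f (c.π.app i₀)) (pullback.snd f c.pt.hom) f₀
      (((Over.forget S).mapCone c).π.app i₀) := PullbackDescent.bc_isPullback f (c.π.app i₀)
  choose U hU hxU _ using fun z : X₀ => exists_isAffineOpen_mem_and_subset (X := X₀) (x := z) (U := ⊤) trivial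
  obtain ⟨s, hs⟩ := isCompact_univ.elim_finite_subcover (fun z => (U z : Set X₀)) (fun z => (U z).2)
    (fun z _ => Set.mem_iUnion.mpr ⟨z, hxU z⟩)
  haveI : IsAffine (D₁.obj i₀) := hD i₀
  choose l φ hk using fun z : s => Stage62.exists_stage_flatOn D₁ ((Over.forget S).mapCone c) hc i₀ f₀ F₀
    (pullback.snd f c.pt.hom) (PullbackDescent.bc f (c.π.app i₀)) hX (hU z)
    fun x' _ => Stage62.isFlatOverAt_of_iso _ (FlatDimFun.etIso f F (c.π.app i₀)).symm x' (h x')
  obtain ⟨m, ψ, χ, hχ⟩ := LimDesc62.DescProp.exists_common φ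
  refine ⟨m, fun x => flat_transport f F (D.map ψ) x fun p _ => ?_⟩
  obtain ⟨w, hw, hzw⟩ := Set.mem_iUnion₂.mp (hs (Set.mem_univ (pullback.fst f₀ (D₁.map ψ) p)))
  have := hk ⟨w, hw⟩ m (χ ⟨w, hw⟩)
  rw [hχ] at this
  exact this p hzw

end Groth.Agent.FlatMor67
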