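import Groth.Agent.FlatMor67.TildePush
import Groth.Agent.RelPCSch41.FlatBC
import Groth.Agent.RelPCSch41.CompTensor
import Groth.Agent.DCX42.KInjPush
import Groth.Agent.DCX42.QCohPull

/-!
Affine models of flat inverse images of complexes.
-/

set_option autoImplicit false
set_option backward.isDefEq.respectTransparency.types false
set_option linter.style.haveILetI false
set_option linter.unusedSectionVars false
set_option maxHeartbeats 1000000

noncomputable section

universe u

open CategoryTheory Limits AlgebraicGeometry TopologicalSpace DerivedCategory Opposite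
open Groth.Agent.DCX42 Groth.Agent.RelPCSch41
attribute [local instance] HasDerivedCategory.standard

namespace Groth.Agent.FlatMor67.FlatPullModel

variable {X Y Z : Scheme.{u}}

/-- Inverse image of complexes. -/
abbrev pullC (g : Y ⟶ X) : CochainComplex X.Modules ℤ ⥤ CochainComplex Y.Modules ℤ :=
  (Scheme.Modules.pullback g).mapHomologicalComplex (ComplexShape.up ℤ)

/-- Inverse image along a composite, on complexes. -/
def pullCComp (a : Z ⟶ Y) (g : Y ⟶ X) : pullC g ⋙ pullC a ≅ pullC (a ≫ g) :=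
  Functor.mapHomologicalComplexCompIso (Scheme.Modules.pullbackComp a g) _

/-- Inverse image along equal morphisms, on complexes. -/
def pullCCongr {g g' : Y ⟶ X} (h : g = g') : pullC g ≅ pullC g' :=
  NatIso.mapHomologicalComplex (Scheme.Modules.pullbackCongr h) _

/-- Inverse image along the identity, on complexes. -/
def pullCId (F : CochainComplex X.Modules ℤ) : (pullC (𝟙 X)).obj F ≅ F :=
  (NatIso.mapHomologicalComplex (Scheme.Modules.pullbackId X) _).app F ≪≫
    (Functor.mapHomologicalComplexIdIso _ _).app F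

/-- Inverse image along an open immersion is restriction, on complexes. -/
def pullCRes (j : Y ⟶ X) [IsOpenImmersion j] (F : CochainComplex X.Modules ℤ) :
    (resD j).obj (Q.obj F) ≅ Q.obj ((pullC j).obj F) :=
  resQ j F ≪≫ Q.mapIso ((NatIso.mapHomologicalComplex (Scheme.Modules.restrictFunctorIsoPullback j) _).app F)

/-- Flat inverse image preserves quasi-isomorphic complexes. -/
theorem nonempty_pullC_congr (g : Y ⟶ X) [Flat g] {F G : CochainComplex X.Modules ℤ} (e : Q.obj F ≅ Q.obj G) :
    Nonempty (Q.obj ((pullC g).obj F) ≅ Q.obj ((pullC g).obj G)) := by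
  haveI := DCK91.hasLpull g
  obtain ⟨eF⟩ := nonempty_lpull_flat g F
  obtain ⟨eG⟩ := nonempty_lpull_flat g G
  exact ⟨eF.symm ≪≫ (DCoh.Lpull g).mapIso e ≪≫ eG⟩

/-- Flat inverse image preserves quasi-coherent cohomology. -/
theorem isQCohD_pullC (g : Y ⟶ X) [Flat g] {F : CochainComplex X.Modules ℤ} (h : DCoh.IsQCohD (Q.obj F)) :
    DCoh.IsQCohD (Q.obj ((pullC g).obj F)) := by
  haveI := DCK91.hasLpull g
  obtain ⟨e⟩ := nonempty_lpull_flat g F
  exact isQCohD_of_iso e (isQCohD_Lpull g h)

/-- The model of a flat inverse image on affine opens is the base change of the model. -/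
theorem nonempty_model_pull (g : Y ⟶ X) [Flat g] {U : X.Opens} {U' : Y.Opens} (hU : IsAffineOpen U)
    (hU' : IsAffineOpen U') (h : U' ≤ g ⁻¹ᵁ U) (F : CochainComplex X.Modules ℤ) (E : DRing.Cx Γ(X, U))
    (e : (tildeD (CommRingCat.of Γ(X, U))).obj (Q.obj E) ≅ (pushD hU.isoSpec.hom).obj ((resD U.ι).obj (Q.obj F))) :
    Nonempty ((tildeD (CommRingCat.of Γ(Y, U'))).obj
        (Q.obj (((ModuleCat.extendScalars.{u, u, u} (g.appLE U U' h).hom).mapHomologicalComplex _).obj E)) ≅
      (pushD hU'.isoSpec.hom).obj ((resD U'.ι).obj (Q.obj ((pullC g).obj F)))) := by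
  let P := Spec.map (g.appLE U U' h)
  haveI : Flat P := by
    rw [HasRingHomProperty.Spec_iff (P := @Flat)]
    exact g.flat_appLE hU hU' h
  let GP := Scheme.Modules.pullback P
  haveI := preservesHomology_pullback P
  haveI : GP.IsLeftAdjoint := (Scheme.Modules.pullbackPushforwardAdjunction P).isLeftAdjoint
  haveI : GP.Additive := inferInstance
  haveI : PreservesFiniteLimits GP := GP.preservesFiniteLimits_of_preservesHomology
  haveI : PreservesFiniteColimits GP := GP.preservesFiniteColimits_of_preservesHomology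
  let PD := GP.mapDerivedCategory
  let T := ((tilde.functor (CommRingCat.of Γ(X, U))).mapHomologicalComplex (ComplexShape.up ℤ)).obj E
  let s := hU.isoSpec.hom
  let s' := hU'.isoSpec.hom
  let FU := (resCx U.ι).obj F
  let e1 : Q.obj T ≅ Q.obj ((pushC s).obj FU) :=
    ((tilde.functor (CommRingCat.of Γ(X, U))).mapDerivedCategoryFactors.app E).symm ≪≫ e ≪≫
      (pushD s).mapIso (resQ U.ι F) ≪≫ pushQ s FU
  let e2 : Q.obj ((pullC P).obj T) ≅ Q.obj ((pullC P).obj ((pushC s).obj FU)) :=
    (GP.mapDerivedCategoryFactors.app T).symm ≪≫ PD.mapIso e1 ≪≫ GP.mapDerivedCategoryFactors.app _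
  let π' := g.resLE U U' h
  have w : s' ≫ P = π' ≫ s := by
    simp only [s, s', P, π', IsAffineOpen.isoSpec_hom]
    exact Scheme.Opens.toSpecΓ_SpecMap_appLE g U U' h
  have hk : s'.ker.ideal ⟨⊤, isAffineOpen_top _⟩ =
      (s.ker.ideal ⟨⊤, isAffineOpen_top _⟩).map P.appTop.hom := by
    rw [Scheme.Hom.ker_eq_bot_of_isIso s', Scheme.Hom.ker_eq_bot_of_isIso s]
    simp [Ideal.map_bot]
  let η : Scheme.Modules.restrictFunctor U.ι ⋙ Scheme.Modules.pushforward s ⋙ GP ≅
      (Scheme.Modules.pullback g ⋙ Scheme.Modules.restrictFunctor U'.ι) ⋙ Scheme.Modules.pushforward s' :=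
    Functor.isoWhiskerLeft _ (closedBC s s' P π' w hk) ≪≫ (Functor.associator _ _ _).symm ≪≫
      Functor.isoWhiskerRight (Functor.isoWhiskerRight (Scheme.Modules.restrictFunctorIsoPullback U.ι) _ ≪≫
        Scheme.Modules.pullbackComp π' U.ι ≪≫ Scheme.Modules.pullbackCongr (g.resLE_comp_ι h) ≪≫
        (Scheme.Modules.pullbackComp U'.ι g).symm ≪≫
        Functor.isoWhiskerLeft _ (Scheme.Modules.restrictFunctorIsoPullback U'.ι).symm) _
  haveI : (tilde.functor Γ(Y, U')).Additive := inferInstanceAs ((tilde.functor (CommRingCat.of Γ(Y, U'))).Additive)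
  let eT : ((tilde.functor (CommRingCat.of Γ(Y, U'))).mapHomologicalComplex (ComplexShape.up ℤ)).obj
      (((ModuleCat.extendScalars.{u, u, u} (g.appLE U U' h).hom).mapHomologicalComplex _).obj E) ≅
        (pullC P).obj T :=
    (Functor.mapHomologicalComplexCompIso (TildePull72.pullbackTildeIso (g.appLE U U' h)).symm _).app E ≪≫
      ((Functor.mapHomologicalComplexCompIso
        (Iso.refl (tilde.functor (CommRingCat.of Γ(X, U)) ⋙ GP)) _).app E).symm
  exact ⟨(tilde.functor (CommRingCat.of Γ(Y, U'))).mapDerivedCategoryFactors.app _ ≪≫ Q.mapIso eT ≪≫ e2 ≪≫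
    Q.mapIso ((NatIso.mapHomologicalComplex η (ComplexShape.up ℤ)).app F) ≪≫
    (pushQ s' ((resCx U'.ι).obj ((pullC g).obj F))).symm ≪≫ (pushD s').mapIso (resQ U'.ι _).symm⟩

/-- Bounds on an affine open are bounds on the model. -/
theorem acyc_iff_isLE {U : X.Opens} (hU : IsAffineOpen U) {K : DCoh.D X} (M : Dual.D Γ(X, U))
    (e : (tildeD (CommRingCat.of Γ(X, U))).obj M ≅ (pushD hU.isoSpec.hom).obj ((resD U.ι).obj K)) (b : ℤ) :
    DR39.Acyc (b + 1) M ↔ ((resD U.ι).obj K).IsLE b := by
  rw [← isLE_push_iff hU.isoSpec.hom, DerivedCategory.isLE_iff]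
  refine ⟨fun h i hi => ?_, fun h i hi => ?_⟩
  · exact ((tilde.functor _).map_isZero (h i (by omega))).of_iso
      ((DerivedCategory.homologyFunctor _ i).mapIso e.symm ≪≫ tildeHD M i)
  · exact isZero_of_isZero_tilde ((h i (by omega)).of_iso
      ((tildeHD M i).symm ≪≫ (DerivedCategory.homologyFunctor _ i).mapIso e))

/-- Bounds pass to smaller opens. -/
theorem isLE_resD_of_le {U O : X.Opens} (h : U ≤ O) {K : DCoh.D X} {b : ℤ} (hO : ((resD O.ι).obj K).IsLE b) :
    ((resD U.ι).obj K).IsLE b := by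
  haveI : TStructure.t.IsLE ((resD O.ι ⋙ resD (X.homOfLE h)).obj K) b :=
    isLE_map (Scheme.Modules.restrictFunctor (X.homOfLE h)) hO
  exact TStructure.t.isLE_of_iso ((resDComp (X.homOfLE h) O.ι).app K ≪≫ (resDCongr (X.homOfLE_ι h)).app K) b

/-- Near a point where an object is relatively pseudo-coherent it is bounded above. -/
theorem exists_isLE_of_rel {S : Scheme.{u}} {f : X ⟶ S} {m : ℤ} {K : DCoh.D X}
    (hK : DerSch.IsPseudoCoherentRel f m K) (x : X) :
    ∃ (O : X.Opens) (b : ℤ), x ∈ O ∧ ((resD O.ι).obj K).IsLE b := by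
  obtain ⟨O, b, hx, hO⟩ := RelPCSch41.exists_isLE_local hK x
  exact ⟨O, b, hx, (DerivedCategory.isLE_iff _ _).2 fun i hi =>
    (hO i hi).of_iso ((Mod48.homologyMapDerivedIso (Scheme.Modules.restrictFunctor O.ι) i).app K)⟩

end Groth.Agent.FlatMor67.FlatPullModel
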