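import Groth.Agent.FlatMor67.QFCover
import Groth.Agent.S9432

/-!
Flat locally quasi-finite refinements of fppf covers.
-/

set_option autoImplicit false
set_option linter.style.haveILetI false

universe u

open CategoryTheory CategoryTheory.Limits AlgebraicGeometry

namespace Groth.Agent.FlatMor67.QFCover

variable {X S : Scheme.{u}} (f : X ⟶ S)

/-- A finite family of affine opens of `X` over `V` whose images cover `V`. -/
theorem exists_affine_cover_over [Flat f] [LocallyOfFinitePresentation f] [Surjective f] {V : S.Opens}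
    (hV : IsAffineOpen V) :
    ∃ (Z : Scheme.{u}) (_ : IsAffine Z) (z : Z ⟶ X) (π : Z ⟶ Spec Γ(S, V)),
      z ≫ f = π ≫ hV.fromSpec ∧ Flat π ∧ LocallyOfFinitePresentation π ∧ Surjective π := by
  classical
  let κ := {U : X.affineOpens // U.1 ≤ f ⁻¹ᵁ V}
  obtain ⟨t, ht⟩ := hV.isCompact.elim_finite_subcover (fun k : κ => f '' (k.1.1 : Set X))
    (fun k => f.isOpenMap _ k.1.1.2) (fun s hs => by
      obtain ⟨x, rfl⟩ := f.surjective s
      obtain ⟨U, hU, hxU, e⟩ := exists_isAffineOpen_mem_and_subset (show x ∈ f ⁻¹ᵁ V from hs)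
      exact Set.mem_iUnion.mpr ⟨⟨⟨U, hU⟩, e⟩, x, hxU, rfl⟩)
  let Z := ∐ fun k : t => Spec Γ(X, k.1.1.1)
  let z : Z ⟶ X := Sigma.desc fun k => k.1.1.2.fromSpec
  let π : Z ⟶ Spec Γ(S, V) := Sigma.desc fun k => Spec.map (f.appLE V k.1.1.1 k.1.2)
  have hz : z ≫ f = π ≫ hV.fromSpec := Sigma.hom_ext _ _ fun k => by
    simp only [z, π, colimit.ι_desc_assoc, Cofan.mk_pt, Cofan.mk_ι_app]
    exact (IsAffineOpen.SpecMap_appLE_fromSpec f hV k.1.1.2 k.1.2).symm
  refine ⟨Z, inferInstance, z, π, hz, ?_, ?_, ⟨fun p => ?_⟩⟩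
  · exact IsZariskiLocalAtSource.sigmaDesc fun k =>
      (HasRingHomProperty.Spec_iff (P := @Flat)).mpr (f.flat_appLE hV k.1.1.2 k.1.2)
  · exact IsZariskiLocalAtSource.sigmaDesc fun k =>
      (HasRingHomProperty.Spec_iff (P := @LocallyOfFinitePresentation)).mpr
        (f.finitePresentation_appLE hV k.1.1.2 k.1.2)
  · obtain ⟨k, hk, x, hx, hxp⟩ := Set.mem_iUnion₂.mp (ht (hV.range_fromSpec.subset ⟨p, rfl⟩))
    refine ⟨Sigma.ι (fun k : t => Spec Γ(X, k.1.1.1)) ⟨k, hk⟩ (k.1.2.primeIdealOf ⟨x, hx⟩), ?_⟩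
    apply hV.fromSpec.isOpenEmbedding.injective
    rw [← Scheme.Hom.comp_apply π, ← hz, ← Scheme.Hom.comp_apply, Sigma.ι_desc_assoc, Scheme.Hom.comp_apply,
      k.1.2.fromSpec_primeIdealOf]
    exact hxp

/-- Flat quasi-finite refinements over an affine open of the base. -/
theorem exists_flat_affine_piece [Flat f] [LocallyOfFinitePresentation f] [Surjective f] {V : S.Opens}
    (hV : IsAffineOpen V) :
    ∃ (W : Scheme.{u}) (h : W ⟶ X), IsAffine W ∧ LocallyOfFinitePresentation (h ≫ f) ∧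
      LocallyQuasiFinite (h ≫ f) ∧ Flat (h ≫ f) ∧ ∀ s ∈ V, ∃ w : W, (h ≫ f) w = s := by
  obtain ⟨Z, _, z, π, hz, hπf, hπp, hπs⟩ := exists_affine_cover_over f hV
  let φ : Γ(S, V) ⟶ Γ(Z, ⊤) := Spec.preimage (Z.isoSpec.inv ≫ π)
  have hφ : Spec.map φ = Z.isoSpec.inv ≫ π := Spec.map_preimage _
  have hflat : φ.hom.Flat := (HasRingHomProperty.Spec_iff (P := @Flat)).mp (by rw [hφ]; infer_instance)
  have hfp : φ.hom.FinitePresentation :=
    (HasRingHomProperty.Spec_iff (P := @LocallyOfFinitePresentation)).mp (by rw [hφ]; infer_instance)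
  have hs : Function.Surjective (PrimeSpectrum.comap φ.hom) := by
    have : Surjective (Spec.map φ) := by rw [hφ]; infer_instance
    exact this.surj
  letI : Algebra Γ(S, V) Γ(Z, ⊤) := φ.hom.toAlgebra
  haveI : Algebra.FinitePresentation Γ(S, V) Γ(Z, ⊤) := hfp
  haveI : Module.Flat Γ(S, V) Γ(Z, ⊤) := hflat
  haveI : Module.FaithfullyFlat Γ(S, V) Γ(Z, ⊤) := Module.FaithfullyFlat.of_comap_surjective hs
  obtain ⟨C, _, _, hqf, hft, hff, hfpC, ⟨ψ⟩⟩ := Groth.Agent.S9432.result Γ(S, V) Γ(Z, ⊤)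
  let h : Spec (CommRingCat.of C) ⟶ X := Spec.map (CommRingCat.ofHom ψ.toRingHom) ≫ Z.isoSpec.inv ≫ z
  have hcomp : h ≫ f = Spec.map (CommRingCat.ofHom (algebraMap Γ(S, V) C)) ≫ hV.fromSpec := by
    have : φ ≫ CommRingCat.ofHom ψ.toRingHom = CommRingCat.ofHom (algebraMap Γ(S, V) C) :=
      CommRingCat.hom_ext ψ.comp_algebraMap
    rw [← this, Spec.map_comp, hφ]
    simp [h, hz]
  refine ⟨_, h, inferInstance, ?_, ?_, ?_, fun s hs => ?_⟩
  · rw [hcomp]
    haveI : LocallyOfFinitePresentation (Spec.map (CommRingCat.ofHom (algebraMap Γ(S, V) C))) :=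
      (HasRingHomProperty.Spec_iff (P := @LocallyOfFinitePresentation)).mpr
        (RingHom.finitePresentation_algebraMap.mpr hfpC)
    infer_instance
  · rw [hcomp]
    haveI : LocallyQuasiFinite (Spec.map (CommRingCat.ofHom (algebraMap Γ(S, V) C))) :=
      (HasRingHomProperty.Spec_iff (P := @LocallyQuasiFinite)).mpr (RingHom.quasiFinite_algebraMap.mpr hqf)
    infer_instance
  · rw [hcomp]
    haveI : Flat (Spec.map (CommRingCat.ofHom (algebraMap Γ(S, V) C))) :=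
      (HasRingHomProperty.Spec_iff (P := @Flat)).mpr (RingHom.flat_algebraMap_iff.mpr inferInstance)
    infer_instance
  · obtain ⟨w, hw⟩ := PrimeSpectrum.comap_surjective_of_faithfullyFlat (A := Γ(S, V)) (B := C)
      (hV.primeIdealOf ⟨s, hs⟩)
    refine ⟨w, ?_⟩
    rw [hcomp]
    show hV.fromSpec (PrimeSpectrum.comap (algebraMap Γ(S, V) C) w) = s
    rw [hw]
    exact hV.fromSpec_primeIdealOf ⟨s, hs⟩

end Groth.Agent.FlatMor67.QFCover
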