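import Groth.Agent.S7198
import Groth.Agent.FlatMor67.FiniteExtend
import Groth.Prelude.Def_HTop

/-!
An fppf covering of an affine scheme is refined by a finite surjective morphism followed by an
affine open covering.
-/

set_option autoImplicit false
set_option linter.style.haveILetI false

universe w u

open CategoryTheory CategoryTheory.Limits AlgebraicGeometry

namespace Groth.Agent.FlatMor67.FppfPh

/-- An fppf covering is refined, over an affine scheme mapping to the base by an open immersion,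
by a finite surjective morphism and a Zariski covering of its source. -/
theorem exists_finite_refine {T : Scheme.{u}} (E : PreZeroHypercover.{w} T)
    (hflat : ∀ i, Flat (E.f i)) (hfp : ∀ i, LocallyOfFinitePresentation (E.f i))
    (hsurj : ∀ t : T, ∃ (i : E.I₀) (x : E.X i), E.f i x = t)
    (A : CommRingCat.{u}) (j : Spec A ⟶ T) :
    ∃ (Y : Scheme.{u}) (π : Y ⟶ Spec A), IsFinite π ∧ Surjective π ∧
      ∀ y : Y, ∃ (V : Y.Opens) (i : E.I₀) (h : V.toScheme ⟶ E.X i),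
        y ∈ V ∧ IsAffineOpen V ∧ h ≫ E.f i = V.ι ≫ π ≫ j := by
  -- first level
  have h1 := fun z => Groth.Agent.S7198.result E hflat hfp hsurj (j z)
  choose U W π hU hπ hπs hW using h1
  haveI := fun z => (hπ z).1
  haveI := hπs
  obtain ⟨Y₁, π₁, _, _, hY₁⟩ := FiniteExtend.exists_of_local A (fun z => j ⁻¹ᵁ U z) hU
    (fun z => pullback (π z) (j ∣_ U z)) (fun z => pullback.snd _ _)
  haveI : IsAffine Y₁ := isAffine_of_isAffineHom π₁
  choose V₁ z r hyV₁ _ hr using hY₁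
  let μ : ∀ y, (V₁ y).toScheme ⟶ W (z y) := fun y => r y ≫ pullback.fst (π (z y)) (j ∣_ U (z y))
  have hμ : ∀ y, μ y ≫ π (z y) ≫ (U (z y)).ι = (V₁ y).ι ≫ π₁ ≫ j := fun y => by
    simp only [μ, Category.assoc]
    rw [pullback.condition_assoc, morphismRestrict_ι]
    exact (by simpa using congrArg (· ≫ j) (hr y))
  -- second level
  choose W' T₂ ρ i r₂ hW' hρ hρs hr₂ using fun y => hW (z y) (μ y ⟨y, hyV₁ y⟩)
  haveI := fun y => (hρ y).1
  haveI := hρs
  let e := Y₁.isoSpec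
  let O : Spec Γ(Y₁, ⊤) → (Spec Γ(Y₁, ⊤)).Opens := fun c =>
    e.inv ⁻¹ᵁ ((V₁ (e.inv c)).ι ''ᵁ (μ (e.inv c) ⁻¹ᵁ W' (e.inv c)))
  have hO : ∀ c, c ∈ O c := fun c => ⟨⟨e.inv c, hyV₁ _⟩, hW' _, rfl⟩
  let κ : ∀ c, (O c).toScheme ⟶ (W' (e.inv c)).toScheme := fun c =>
    (e.inv ∣_ _) ≫ ((V₁ (e.inv c)).ι.isoImage _).inv ≫ (μ (e.inv c) ∣_ W' (e.inv c))
  obtain ⟨Y₂, π₂, _, _, hY₂⟩ := FiniteExtend.exists_of_local Γ(Y₁, ⊤) O hO
    (fun c => pullback (ρ (e.inv c)) (κ c)) (fun c => pullback.snd _ _)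
  refine ⟨Y₂, π₂ ≫ e.inv ≫ π₁, inferInstance, inferInstance, fun y => ?_⟩
  obtain ⟨V, c, r', hyV, hV, hr'⟩ := hY₂ y
  refine ⟨V, i (e.inv c), r' ≫ pullback.fst _ _ ≫ r₂ (e.inv c), hyV, hV, ?_⟩
  rw [Category.assoc, Category.assoc, hr₂, pullback.condition_assoc]
  simp only [Category.assoc]
  rw [← reassoc_of% hr']
  simp only [κ, Category.assoc]
  congr 2
  rw [morphismRestrict_ι_assoc, hμ, Scheme.Hom.isoImage_inv_ι_assoc, morphismRestrict_ι_assoc]

theorem isPhCover {T : Scheme.{u}} (E : PreZeroHypercover.{w} T)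
    (hflat : ∀ i, Flat (E.f i)) (hfp : ∀ i, LocallyOfFinitePresentation (E.f i))
    (hsurj : ∀ t : T, ∃ (i : E.I₀) (x : E.X i), E.f i x = t) : HTop.IsPhCover E := by
  classical
  refine ⟨fun i => by haveI := hfp i; infer_instance, fun U => ?_⟩
  haveI : IsAffine (U.1 : Scheme.{u}) := U.2
  let e := U.1.toScheme.isoSpec
  obtain ⟨Y, π, hπ, hπs, hY⟩ := exists_finite_refine E hflat hfp hsurj _ (e.inv ≫ U.1.ι)
  haveI := hπ
  haveI := hπs
  haveI : IsAffine Y := isAffine_of_isAffineHom π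
  choose V i h hyV hV hh using hY
  obtain ⟨t, ht⟩ := (CompactSpace.isCompact_univ (X := Y)).elim_finite_subcover (fun y => (V y : Set Y))
    (fun y => (V y).2) (fun y _ => Set.mem_iUnion.mpr ⟨y, hyV y⟩)
  let k := t.equivFin
  let F : PreZeroHypercover.{0} (U.1 : Scheme.{u}) :=
    ⟨Fin t.card, fun j => (V (k.symm j).1).toScheme, fun j => (V (k.symm j).1).ι ≫ π ≫ e.inv⟩
  refine ⟨F, ⟨U.2, inferInstanceAs (Finite (Fin t.card)), fun j => hV _,
    ⟨Y, π ≫ e.inv, fun j => (V (k.symm j).1).ι, inferInstance, inferInstance, fun j => inferInstance, fun j => rfl,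
      fun y => ?_⟩⟩, fun j => ⟨i _, h _, (hh _).trans ?_⟩⟩
  · obtain ⟨y₀, hy₀, hy⟩ := Set.mem_iUnion₂.mp (ht (Set.mem_univ y))
    refine ⟨k ⟨y₀, hy₀⟩, ?_⟩
    rw [Scheme.Opens.range_ι, k.symm_apply_apply]
    exact hy
  · simp [F]

end Groth.Agent.FlatMor67.FppfPh
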