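import Groth.Agent.FlatMor67.PCSource
import Groth.Agent.Desc59.SourceLft
import Groth.Agent.S1379
import Groth.Agent.S1504
import Groth.Agent.S7172

/-!
# Pseudo-coherent and perfect morphisms are fppf local on the source
-/

set_option autoImplicit false
set_option backward.isDefEq.respectTransparency.types false
set_option linter.style.haveILetI false

universe u

open CategoryTheory CategoryTheory.Limits AlgebraicGeometry

attribute [local instance] HasDerivedCategory.standard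

namespace Groth.Agent.FlatMor67.PCSource

open PCS PCStalk

variable {X Y S : Scheme.{u}}

/-- Surjective flat maps on affine charts are faithfully flat on sections. -/
theorem faithfullyFlat_appLE (g : X ⟶ Y) [Flat g] {U : X.Opens} {V : Y.Opens} (hU : IsAffineOpen U)
    (hV : IsAffineOpen V) (e : U ≤ g ⁻¹ᵁ V) (hs : ∀ y ∈ V, ∃ x ∈ U, g x = y) :
    (g.appLE V U e).hom.FaithfullyFlat := by
  letI := (g.appLE V U e).hom.toAlgebra
  haveI : Module.Flat Γ(Y, V) Γ(X, U) := Flat.flat_appLE g hV hU e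
  refine Module.FaithfullyFlat.of_comap_surjective fun p => ?_
  obtain ⟨x, hx, hxy⟩ := hs (hV.fromSpec p) (hV.range_fromSpec.le ⟨p, rfl⟩)
  refine ⟨hU.primeIdealOf ⟨x, hx⟩, hV.fromSpec.isOpenEmbedding.injective ?_⟩
  have h := congrArg (fun φ => φ (hU.primeIdealOf ⟨x, hx⟩)) (hV.SpecMap_appLE_fromSpec g hU e)
  simp only [Scheme.Hom.comp_apply, IsAffineOpen.fromSpec_primeIdealOf] at h
  exact h.trans hxy

/-- Pseudo-coherence descends along finite flat finitely presented surjections on the source. -/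
theorem pcMor_of_finite_cover (π : X ⟶ Y) [IsFinite π] [Flat π] [LocallyOfFinitePresentation π] [Surjective π]
    (f : Y ⟶ S) [LocallyOfFiniteType f] (h : MoreMor.IsPseudoCoherentMor (π ≫ f)) :
    MoreMor.IsPseudoCoherentMor f := by
  intro U V hU hV e
  letI := (f.appLE V U e).hom.toAlgebra
  refine pcH_algebraMap.1 ?_
  letI := (π.app U).hom.toAlgebra
  haveI : Module.Finite Γ(Y, U) Γ(X, π ⁻¹ᵁ U) := π.finite_app _ hU
  haveI : Module.Flat Γ(Y, U) Γ(X, π ⁻¹ᵁ U) := by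
    have := Flat.flat_appLE π hU (hU.preimage π) le_rfl
    rwa [← Scheme.Hom.app_eq_appLE] at this
  haveI : Algebra.FinitePresentation Γ(Y, U) Γ(X, π ⁻¹ᵁ U) := by
    have := LocallyOfFinitePresentation.finitePresentation_appLE π hU (hU.preimage π) le_rfl
    rwa [← Scheme.Hom.app_eq_appLE] at this
  haveI : Module.FaithfullyFlat Γ(Y, U) Γ(X, π ⁻¹ᵁ U) := by
    have := faithfullyFlat_appLE π (hU.preimage π) hU le_rfl fun y hy => by
      obtain ⟨x, rfl⟩ := π.surjective y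
      exact ⟨x, hy, rfl⟩
    rwa [← Scheme.Hom.app_eq_appLE] at this
  refine pcH_of_finite_cover (C := Γ(X, π ⁻¹ᵁ U)) _
    (HasRingHomProperty.appLE @LocallyOfFiniteType f ‹_› ⟨V, hV⟩ ⟨U, hU⟩ e) ?_
  have e' : π ⁻¹ᵁ U ≤ (π ≫ f) ⁻¹ᵁ V := π.preimage_mono e
  have heq : (π ≫ f).appLE V (π ⁻¹ᵁ U) e' = f.appLE V U e ≫ π.app U := by
    rw [π.app_eq_appLE, Scheme.Hom.appLE_comp_appLE]
  show pcH ((π.app U).hom.comp (f.appLE V U e).hom)
  rw [← CommRingCat.hom_comp, ← heq]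
  exact h _ V (hU.preimage π) hV e'

/-- Pseudo-coherence near a point descends along an étale morphism of the source. -/
theorem exists_pcH_of_etale (c : X ⟶ Y) [Etale c] (f : Y ⟶ S) [LocallyOfFiniteType f]
    (h : MoreMor.IsPseudoCoherentMor (c ≫ f)) (x : X) :
    ∃ (U : Y.Opens) (V : S.Opens) (hUV : U ≤ f ⁻¹ᵁ V), IsAffineOpen U ∧ IsAffineOpen V ∧ c x ∈ U ∧
      pcH (f.appLE V U hUV).hom := by
  obtain ⟨_, ⟨V, hV, rfl⟩, hxV, -⟩ :=
    S.isBasis_affineOpens.exists_subset_of_mem_open (Set.mem_univ (f (c x))) isOpen_univ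
  obtain ⟨_, ⟨U₀, hU₀, rfl⟩, hxU₀, hU₀V⟩ :=
    Y.isBasis_affineOpens.exists_subset_of_mem_open (show c x ∈ f ⁻¹ᵁ V from hxV) (f ⁻¹ᵁ V).isOpen
  obtain ⟨_, ⟨U₁, hU₁, rfl⟩, hxU₁, hU₁U₀⟩ :=
    X.isBasis_affineOpens.exists_subset_of_mem_open (show x ∈ c ⁻¹ᵁ U₀ from hxU₀) (c ⁻¹ᵁ U₀).isOpen
  obtain ⟨b, hb, hxb⟩ := hU₀.exists_basicOpen_le
    (V := ⟨_, c.isOpenMap (U₁ : Set X) U₁.isOpen⟩) ⟨c x, x, hxU₁, rfl⟩ hxU₀
  set U := Y.basicOpen b with hUdef
  have hU : IsAffineOpen U := hU₀.basicOpen b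
  have hUV : U ≤ f ⁻¹ᵁ V := (Y.basicOpen_le b).trans hU₀V
  set U' := X.basicOpen (c.appLE U₀ U₁ hU₁U₀ b) with hU'def
  have hU' : IsAffineOpen U' := hU₁.basicOpen _
  have hU'eq : U' = U₁ ⊓ c ⁻¹ᵁ U := Scheme.basicOpen_appLE c _ _ _ b
  have e : U' ≤ c ⁻¹ᵁ U := hU'eq ▸ inf_le_right
  refine ⟨U, V, hUV, hU, hV, hxb, ?_⟩
  letI := (c.appLE U U' e).hom.toAlgebra
  haveI : Algebra.Etale Γ(Y, U) Γ(X, U') := by
    rw [← RingHom.etale_algebraMap]
    exact HasRingHomProperty.appLE @Etale c ‹_› ⟨U, hU⟩ ⟨U', hU'⟩ e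
  haveI : Module.FaithfullyFlat Γ(Y, U) Γ(X, U') := faithfullyFlat_appLE c hU' hU e fun y hy => by
    obtain ⟨z, hz, hzy⟩ := hb hy
    refine ⟨z, ?_, hzy⟩
    rw [hU'eq]
    exact ⟨hz, show c z ∈ U from hzy ▸ hy⟩
  refine pcH_of_etale_cover (C := Γ(X, U')) _
    (HasRingHomProperty.appLE @LocallyOfFiniteType f ‹_› ⟨V, hV⟩ ⟨U, hU⟩ hUV) ?_
  have e' : U' ≤ (c ≫ f) ⁻¹ᵁ V := e.trans (c.preimage_mono hUV)
  have heq : (c ≫ f).appLE V U' e' = f.appLE V U hUV ≫ c.appLE U U' e := by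
    rw [Scheme.Hom.appLE_comp_appLE]
  show pcH ((c.appLE U U' e).hom.comp (f.appLE V U hUV).hom)
  rw [← CommRingCat.hom_comp, ← heq]
  exact h _ V hU' hV e'

theorem lft_of_pcMor (f : X ⟶ S) (h : MoreMor.IsPseudoCoherentMor f) : LocallyOfFiniteType f :=
  HasRingHomProperty.iff_appLE.2 fun V U e => finiteType_of_pcH (h U.1 V.1 U.2 V.2 e)

/-- Pseudo-coherence descends along fppf covers of the source. -/
theorem pcMor_of_fppf_cover {X' : Scheme.{u}} (f : X ⟶ S) (a : X' ⟶ X) [Flat a] [Surjective a]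
    [LocallyOfFinitePresentation a] (h : MoreMor.IsPseudoCoherentMor (a ≫ f)) :
    MoreMor.IsPseudoCoherentMor f := by
  haveI := lft_of_pcMor (a ≫ f) h
  haveI : LocallyOfFiniteType f := Desc59.lft_of_comp a f
  refine (pcMor_iff_exists f).2 fun x => ?_
  obtain ⟨S', V, c, π, hc, ⟨s, hs⟩, hπs, hπf, hπfl, hπlfp, hloc⟩ := S1379.result a x
  subst hs
  refine exists_pcH_of_etale c f ?_ s
  refine pcMor_of_finite_cover π (c ≫ f) ((pcMor_iff_exists _).2 fun v => ?_)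
  obtain ⟨W, r, hvW, hr⟩ := hloc v
  have hra : MoreMor.IsPseudoCoherentMor (r ≫ a) := by
    rw [hr]
    exact fun U V' hU hV e => (S7172.result (W.ι ≫ π ≫ c) U V' hU hV e).1
  have ha : MoreMor.IsPseudoCoherentMor a := fun U V' hU hV e => (S7172.result a U V' hU hV e).1
  have hW : MoreMor.IsPseudoCoherentMor (W.ι ≫ π ≫ c ≫ f) := by
    have := S1504.result r (a ≫ f) (pcMor_cancel r a hra ha) h
    rw [← Category.assoc, hr] at this
    simpa using this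
  obtain ⟨U, V', e, hU, hV, hvU, hpc⟩ := (pcMor_iff_exists _).1 hW ⟨v, hvW⟩
  refine ⟨W.ι ''ᵁ U, V', ?_, hU.image_of_isOpenImmersion W.ι, hV, ⟨⟨v, hvW⟩, hvU, rfl⟩, ?_⟩
  · rintro _ ⟨z, hz, rfl⟩
    exact e hz
  · have e₂ : U ≤ W.ι ⁻¹ᵁ (W.ι ''ᵁ U) := fun z hz => ⟨z, hz, rfl⟩
    have e₁ : W.ι ''ᵁ U ≤ (π ≫ c ≫ f) ⁻¹ᵁ V' := by rintro _ ⟨z, hz, rfl⟩; exact e hz
    have heq : (W.ι ≫ π ≫ c ≫ f).appLE V' U e =
        (π ≫ c ≫ f).appLE V' (W.ι ''ᵁ U) e₁ ≫ W.ι.appLE (W.ι ''ᵁ U) U e₂ := by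
      rw [Scheme.Hom.appLE_comp_appLE]
    have hiso : W.ι.appLE (W.ι ''ᵁ U) U e₂ = 𝟙 _ := by
      rw [Scheme.Opens.ι_appLE]
      exact (congrArg V.presheaf.map (Subsingleton.elim _ _)).trans (V.presheaf.map_id _)
    rw [heq, hiso] at hpc
    exact (congrArg (fun φ : Γ(S, V') ⟶ Γ(V, W.ι ''ᵁ U) => pcH φ.hom)
      (Category.comp_id ((π ≫ c ≫ f).appLE V' (W.ι ''ᵁ U) e₁))).mp hpc

/-- Perfection descends along fppf covers of the source. -/
theorem pfMor_of_fppf_cover {X' : Scheme.{u}} (f : X ⟶ S) (a : X' ⟶ X) [Flat a] [Surjective a]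
    [LocallyOfFinitePresentation a] (h : MoreMor.IsPerfectMor (a ≫ f)) :
    MoreMor.IsPerfectMor f := by
  have hpc := pcMor_of_fppf_cover f a fun U V hU hV e => (h U V hU hV e).1
  refine (pfMor_iff_stalks f hpc).2 fun x => ?_
  obtain ⟨x', rfl⟩ := a.surjective x
  have hst := (pfMor_iff_stalks (a ≫ f) fun U V hU hV e => (h U V hU hV e).1).1 h x'
  have hff : (a.stalkMap x').hom.FaithfullyFlat := by
    letI := (a.stalkMap x').hom.toAlgebra
    haveI : Module.Flat (X.presheaf.stalk (a x')) (X'.presheaf.stalk x') := Flat.stalkMap a x'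
    haveI : IsLocalHom (algebraMap (X.presheaf.stalk (a x')) (X'.presheaf.stalk x')) :=
      inferInstanceAs (IsLocalHom (a.stalkMap x').hom)
    exact Module.FaithfullyFlat.of_flat_of_isLocalHom
  refine ftdH_of_faithfullyFlat _ _ hff ?_
  rw [Scheme.Hom.stalkMap_comp] at hst
  exact hst

end Groth.Agent.FlatMor67.PCSource
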