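import Groth.Agent.FlatMor67.RelDescRing
import Groth.Agent.FlatMor67.FlatPullModel
import Groth.Agent.FlatMor67.PCSourceScheme
import Groth.Agent.S7198

/-!
Relative pseudo-coherence is fppf local on the source.
-/

set_option autoImplicit false
set_option backward.isDefEq.respectTransparency.types false
set_option linter.style.haveILetI false
set_option linter.unusedSectionVars false
set_option maxHeartbeats 1000000

noncomputable section

universe u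

open CategoryTheory Limits AlgebraicGeometry TopologicalSpace DerivedCategory Opposite
open Groth.Agent.DCX42 Groth.Agent.RelPCSch41
attribute [local instance] HasDerivedCategory.standard

namespace Groth.Agent.FlatMor67.FppfRel

open FlatPullModel RelDescRing

variable {X Y T S : Scheme.{u}} {p : X ⟶ S}

/-- The model of the class of a complex on an affine open. -/
theorem exists_model {U : X.Opens} (hU : IsAffineOpen U) {K : DCoh.D X} (hK : DCoh.IsQCohD K) :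
    ∃ M : Dual.D Γ(X, U), Nonempty ((tildeD (CommRingCat.of Γ(X, U))).obj M ≅
      (pushD hU.isoSpec.hom).obj ((resD U.ι).obj K)) := by
  refine ((tildeD_fullyFaithful_essImage (CommRingCat.of Γ(X, U))).2.2 _).1 fun i => ?_
  haveI : (DCoh.HD ((resD U.ι).obj K) i).IsQuasicoherent := isQCohD_resD hK U.ι i
  haveI := QCqs72.isQuasicoherent_pushforward (M := DCoh.HD ((resD U.ι).obj K) i) hU.isoSpec.hom
  exact QC70.isQuasicoherent_of_iso (pushHD hU.isoSpec.hom ((resD U.ι).obj K) i).symm this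

/-- Relative pseudo-coherence moves along morphisms over `X` between flat finitely presented `X`-schemes. -/
theorem rel_transfer [LocallyOfFiniteType p] (g : Y ⟶ X) [Flat g] [LocallyOfFinitePresentation g]
    (a : T ⟶ X) [Flat a] [LocallyOfFinitePresentation a] (r : T ⟶ Y) (w : r ≫ g = a)
    {m : ℤ} (F : CochainComplex X.Modules ℤ) (hq : DCoh.IsQCohD (Q.obj F))
    (hb : ∀ t : T, ∃ (O : X.Opens) (b : ℤ), a t ∈ O ∧ ((resD O.ι).obj (Q.obj F)).IsLE b)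
    (h : DerSch.IsPseudoCoherentRel (g ≫ p) m (Q.obj ((pullC g).obj F))) :
    DerSch.IsPseudoCoherentRel (a ≫ p) m (Q.obj ((pullC a).obj F)) := by
  refine rel_of_good fun t => ?_
  obtain ⟨O, b, htO, hO⟩ := hb t
  obtain ⟨V, hV, htV, -⟩ := exists_isAffineOpen_mem_and_subset (U := (⊤ : S.Opens)) (x := p (a t)) trivial
  obtain ⟨U, hU, htU, hUle⟩ := exists_isAffineOpen_mem_and_subset (U := O ⊓ p ⁻¹ᵁ V) (x := a t) ⟨htO, htV⟩
  obtain ⟨U', hU', htU', hU'le⟩ := exists_isAffineOpen_mem_and_subset (U := g ⁻¹ᵁ U) (x := r t)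
    (show g (r t) ∈ U by rw [← w] at htU; exact htU)
  obtain ⟨U'', hU'', htU'', hU''le⟩ := exists_isAffineOpen_mem_and_subset (U := r ⁻¹ᵁ U') (x := t) htU'
  have hUV : U ≤ p ⁻¹ᵁ V := fun x hx => (hUle hx).2
  have hUO : U ≤ O := fun x hx => (hUle hx).1
  have h2 : U' ≤ g ⁻¹ᵁ U := hU'le
  have h3 : U'' ≤ r ⁻¹ᵁ U' := hU''le
  have h4 : U'' ≤ a ⁻¹ᵁ U := by rw [← w]; exact h3.trans (r.preimage_mono h2)
  have hY : U' ≤ (g ≫ p) ⁻¹ᵁ V := h2.trans (g.preimage_mono hUV)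
  have hT : U'' ≤ (a ≫ p) ⁻¹ᵁ V := h4.trans (a.preimage_mono hUV)
  obtain ⟨M, ⟨eM⟩⟩ := exists_model hU hq
  obtain ⟨E, hE1, hE2, ⟨eE⟩⟩ :=
    DR39.rep_free_of_acyc ((acyc_iff_isLE hU M eM b).2 (isLE_resD_of_le hUO hO))
  have e : (tildeD (CommRingCat.of Γ(X, U))).obj (Q.obj E) ≅ (pushD hU.isoSpec.hom).obj ((resD U.ι).obj (Q.obj F)) :=
    (tildeD _).mapIso eE ≪≫ eM
  obtain ⟨eY⟩ := nonempty_model_pull g hU hU' h2 F E e
  obtain ⟨eT⟩ := nonempty_model_pull a hU hU'' h4 F E e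
  obtain ⟨n, φ, hφ⟩ := exists_chart_of_ft (f := g ≫ p) hU' hV hY
  obtain ⟨n', φ', hφ'⟩ := exists_chart_of_ft (f := a ≫ p) hU'' hV hT
  refine ⟨U'', V, htU'', hU'', hV, (TildePush.good_iff_rel hU'' hT hφ' _ _ eT).2 ?_⟩
  have hrel := (TildePush.good_iff_rel hU' hY hφ _ _ eY).1 (good_of_rel h hU' hV hY)
  letI := (p.appLE V U hUV).hom.toAlgebra
  letI := ((g ≫ p).appLE V U' hY).hom.toAlgebra
  letI := ((a ≫ p).appLE V U'' hT).hom.toAlgebra
  letI := (g.appLE U U' h2).hom.toAlgebra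
  letI := (a.appLE U U'' h4).hom.toAlgebra
  letI := (r.appLE U' U'' h3).hom.toAlgebra
  haveI : IsScalarTower Γ(S, V) Γ(X, U) Γ(Y, U') := IsScalarTower.of_algebraMap_eq' (by
    change ((g ≫ p).appLE V U' hY).hom = (p.appLE V U hUV ≫ g.appLE U U' h2).hom
    rw [g.appLE_comp_appLE p])
  have hw : g.appLE U U' h2 ≫ r.appLE U' U'' h3 = a.appLE U U'' h4 := by
    subst w
    rw [r.appLE_comp_appLE g]
  haveI : IsScalarTower Γ(X, U) Γ(Y, U') Γ(T, U'') := IsScalarTower.of_algebraMap_eq' (by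
    change (a.appLE U U'' h4).hom = (g.appLE U U' h2 ≫ r.appLE U' U'' h3).hom
    rw [hw])
  haveI : IsScalarTower Γ(S, V) Γ(Y, U') Γ(T, U'') := IsScalarTower.of_algebraMap_eq' (by
    change ((a ≫ p).appLE V U'' hT).hom = ((g ≫ p).appLE V U' hY ≫ r.appLE U' U'' h3).hom
    subst w
    rw [r.appLE_comp_appLE (g ≫ p)]
    simp only [Category.assoc])
  haveI : Module.Flat Γ(X, U) Γ(Y, U') := g.flat_appLE hU hU' h2
  haveI : Algebra.FinitePresentation Γ(X, U) Γ(Y, U') := g.finitePresentation_appLE hU hU' h2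
  haveI : Module.Flat Γ(X, U) Γ(T, U'') := a.flat_appLE hU hU'' h4
  haveI : Algebra.FinitePresentation Γ(X, U) Γ(T, U'') := a.finitePresentation_appLE hU hU'' h4
  have hpc : PCS.pcH (algebraMap Γ(Y, U') Γ(T, U'')) := by
    refine PCS.pcH_cancel (f := algebraMap Γ(X, U) Γ(Y, U')) (PCS.pcH_of_pfH PCS.pfH_of_flat_fp) ?_
    rw [← IsScalarTower.algebraMap_eq]
    exact PCS.pcH_of_pfH PCS.pfH_of_flat_fp
  haveI : Algebra.FiniteType Γ(Y, U') Γ(T, U'') := RingHom.finiteType_algebraMap.1 (PCS.finiteType_of_pcH hpc)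
  exact rel_ext_of_rel_ext (R := Γ(S, V)) (A := Γ(X, U)) (C := Γ(Y, U')) (B := Γ(T, U'')) hpc m E b
    ((DR39.vanishesAbove_iff E b).2 hE1) (fun i => DR39.flat_of_FR (hE2 i)) hrel

/-- Relative pseudo-coherence is inherited by flat finitely presented schemes over the source. -/
theorem rel_pullC [LocallyOfFiniteType p] (a : T ⟶ X) [Flat a] [LocallyOfFinitePresentation a]
    {m : ℤ} (F : CochainComplex X.Modules ℤ) (hq : DCoh.IsQCohD (Q.obj F))
    (h : DerSch.IsPseudoCoherentRel p m (Q.obj F)) :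
    DerSch.IsPseudoCoherentRel (a ≫ p) m (Q.obj ((pullC a).obj F)) :=
  rel_transfer (𝟙 X) a a (Category.comp_id a) F hq (fun t => exists_isLE_of_rel h (a t)) (by
    rw [Category.id_comp]
    exact rel_congr (Q.mapIso (pullCId F)).symm h)

/-- Descent along a finite locally free cover of the source. -/
theorem rel_of_finite_cover [LocallyOfFiniteType p] (π : Y ⟶ X) [IsFinite π] [Flat π]
    [LocallyOfFinitePresentation π] [Surjective π] {m : ℤ} (F : CochainComplex X.Modules ℤ)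
    (hq : DCoh.IsQCohD (Q.obj F)) (h : DerSch.IsPseudoCoherentRel (π ≫ p) m (Q.obj ((pullC π).obj F))) :
    DerSch.IsPseudoCoherentRel p m (Q.obj F) := by
  refine rel_iff.2 fun U V hU hV hUV => ?_
  have hU' := hU.preimage π
  have hY : π ⁻¹ᵁ U ≤ (π ≫ p) ⁻¹ᵁ V := π.preimage_mono hUV
  obtain ⟨M, ⟨eM⟩⟩ := exists_model hU hq
  obtain ⟨E, ⟨eE⟩⟩ := DR39.exists_complex_iso M
  have e : (tildeD (CommRingCat.of Γ(X, U))).obj (Q.obj E) ≅ (pushD hU.isoSpec.hom).obj ((resD U.ι).obj (Q.obj F)) :=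
    (tildeD _).mapIso eE ≪≫ eM
  obtain ⟨eY⟩ := nonempty_model_pull π hU hU' le_rfl F E e
  obtain ⟨n, φ, hφ⟩ := exists_chart_of_ft (f := π ≫ p) hU' hV hY
  obtain ⟨n', φ', hφ'⟩ := exists_chart_of_ft (f := p) hU hV hUV
  refine (TildePush.good_iff_rel hU hUV hφ' _ _ e).2 ?_
  have hrel := (TildePush.good_iff_rel hU' hY hφ _ _ eY).1 (good_of_rel h hU' hV hY)
  letI := (p.appLE V U hUV).hom.toAlgebra
  letI := ((π ≫ p).appLE V (π ⁻¹ᵁ U) hY).hom.toAlgebra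
  letI := (π.appLE U (π ⁻¹ᵁ U) le_rfl).hom.toAlgebra
  haveI : IsScalarTower Γ(S, V) Γ(X, U) Γ(Y, π ⁻¹ᵁ U) := IsScalarTower.of_algebraMap_eq' (by
    change ((π ≫ p).appLE V (π ⁻¹ᵁ U) hY).hom = (p.appLE V U hUV ≫ π.appLE U (π ⁻¹ᵁ U) le_rfl).hom
    rw [π.appLE_comp_appLE p])
  haveI : Module.Finite Γ(X, U) Γ(Y, π ⁻¹ᵁ U) := by
    have := π.finite_app U hU
    rw [Scheme.Hom.app_eq_appLE] at this
    exact this
  haveI : Module.Flat Γ(X, U) Γ(Y, π ⁻¹ᵁ U) := π.flat_appLE hU hU' le_rfl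
  haveI : Algebra.FinitePresentation Γ(X, U) Γ(Y, π ⁻¹ᵁ U) := π.finitePresentation_appLE hU hU' le_rfl
  haveI : Module.FinitePresentation Γ(X, U) Γ(Y, π ⁻¹ᵁ U) :=
    Module.FinitePresentation.of_finite_of_finitePresentation _ _
  haveI : Module.Projective Γ(X, U) Γ(Y, π ⁻¹ᵁ U) := Module.Flat.projective_of_finitePresentation
  haveI : Module.FaithfullyFlat Γ(X, U) Γ(Y, π ⁻¹ᵁ U) :=
    PCSource.faithfullyFlat_appLE π hU' hU le_rfl fun y hy => by
      obtain ⟨x, rfl⟩ := π.surjective y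
      exact ⟨x, hy, rfl⟩
  haveI : Algebra.FiniteType Γ(S, V) Γ(X, U) := p.finiteType_appLE hV hU hUV
  exact RelDescRing.rel_of_finite_cover (R := Γ(S, V)) (B := Γ(X, U)) (C := Γ(Y, π ⁻¹ᵁ U)) m E hrel

/-- Bounds descend to the image of a flat morphism. -/
theorem exists_isLE_descend (g : Y ⟶ X) [Flat g] [LocallyOfFinitePresentation g] {q : Y ⟶ S} {m : ℤ}
    (F : CochainComplex X.Modules ℤ) (hq : DCoh.IsQCohD (Q.obj F))
    (h : DerSch.IsPseudoCoherentRel q m (Q.obj ((pullC g).obj F))) (y : Y) :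
    ∃ (O : X.Opens) (b : ℤ), g y ∈ O ∧ ((resD O.ι).obj (Q.obj F)).IsLE b := by
  obtain ⟨O', b, hyO', hO'⟩ := exists_isLE_of_rel h y
  obtain ⟨U₀, hU₀, hyU₀, -⟩ := exists_isAffineOpen_mem_and_subset (U := (⊤ : X.Opens)) (x := g y) trivial
  obtain ⟨U₁, hU₁, hyU₁, hU₁le⟩ := exists_isAffineOpen_mem_and_subset (U := O' ⊓ g ⁻¹ᵁ U₀) (x := y) ⟨hyO', hyU₀⟩
  have hU₁U₀ : U₁ ≤ g ⁻¹ᵁ U₀ := fun z hz => (hU₁le hz).2
  obtain ⟨c, hc, hyc⟩ := hU₀.exists_basicOpen_le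
    (V := ⟨_, g.isOpenMap (U₁ : Set Y) U₁.isOpen⟩) ⟨g y, y, hyU₁, rfl⟩ hyU₀
  have hU := hU₀.basicOpen c
  have hU' : IsAffineOpen (Y.basicOpen (g.appLE U₀ U₁ hU₁U₀ c)) := hU₁.basicOpen _
  have heq : Y.basicOpen (g.appLE U₀ U₁ hU₁U₀ c) = U₁ ⊓ g ⁻¹ᵁ X.basicOpen c := Scheme.basicOpen_appLE g _ _ _ c
  set U' := Y.basicOpen (g.appLE U₀ U₁ hU₁U₀ c)
  have hle : U' ≤ g ⁻¹ᵁ X.basicOpen c := heq ▸ inf_le_right
  have hO : U' ≤ O' := heq ▸ (inf_le_left.trans fun z hz => (hU₁le hz).1)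
  obtain ⟨M, ⟨eM⟩⟩ := exists_model hU hq
  obtain ⟨E, ⟨eE⟩⟩ := DR39.exists_complex_iso M
  have e : (tildeD (CommRingCat.of Γ(X, X.basicOpen c))).obj (Q.obj E) ≅
      (pushD hU.isoSpec.hom).obj ((resD (X.basicOpen c).ι).obj (Q.obj F)) :=
    (tildeD _).mapIso eE ≪≫ eM
  obtain ⟨eY⟩ := nonempty_model_pull g hU hU' hle F E e
  refine ⟨X.basicOpen c, b, hyc, (acyc_iff_isLE hU _ e b).1 ?_⟩
  letI := (g.appLE (X.basicOpen c) U' hle).hom.toAlgebra
  haveI : Module.FaithfullyFlat Γ(X, X.basicOpen c) Γ(Y, U') :=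
    PCSource.faithfullyFlat_appLE g hU' hU hle fun x hx => by
      obtain ⟨z, hz, hzx⟩ := hc hx
      refine ⟨z, ?_, hzx⟩
      rw [heq]
      exact ⟨hz, show g z ∈ X.basicOpen c from hzx ▸ hx⟩
  exact acyc_of_ext (C := Γ(Y, U')) E (b + 1) ((acyc_iff_isLE hU' _ eY b).2 (isLE_resD_of_le hO hO'))

/-- Relative pseudo-coherence descends along fppf covers of the source. -/
theorem rel_of_fppf_cover [LocallyOfFiniteType p] {ι : Type u} (Xi : ι → Scheme.{u}) (g : ∀ i, Xi i ⟶ X)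
    [∀ i, Flat (g i)] [∀ i, LocallyOfFinitePresentation (g i)] (hcov : ∀ x : X, ∃ (i : ι) (y : Xi i), g i y = x)
    {m : ℤ} (F : CochainComplex X.Modules ℤ) (hq : DCoh.IsQCohD (Q.obj F))
    (h : ∀ i, DerSch.IsPseudoCoherentRel (g i ≫ p) m (Q.obj ((pullC (g i)).obj F))) :
    DerSch.IsPseudoCoherentRel p m (Q.obj F) := by
  have hb : ∀ x : X, ∃ (O : X.Opens) (b : ℤ), x ∈ O ∧ ((resD O.ι).obj (Q.obj F)).IsLE b := fun x => by
    obtain ⟨i, y, rfl⟩ := hcov x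
    exact exists_isLE_descend (g i) F hq (h i) y
  refine rel_of_local fun x => ?_
  let E : PreZeroHypercover.{u} X := { I₀ := ι, X := Xi, f := g }
  obtain ⟨U, W, π, hxU, ⟨hπfin, hπfl, hπfp⟩, hπs, hloc⟩ :=
    S7198.result E (fun i => inferInstanceAs (Flat (g i))) (fun i => inferInstanceAs (LocallyOfFinitePresentation (g i)))
      hcov x
  haveI := hπfin; haveI := hπfl; haveI := hπfp
  refine ⟨_, U.ι, inferInstance, ⟨⟨x, hxU⟩, rfl⟩, rel_congr (pullCRes U.ι F).symm ?_⟩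
  have hqU := isQCohD_pullC U.ι hq
  refine rel_of_finite_cover π _ hqU ?_
  refine rel_congr (Q.mapIso ((pullCComp π U.ι).app F)).symm ?_
  refine rel_of_local fun w => ?_
  obtain ⟨W', T, ρ, i, r, hw, ⟨hρfin, hρfl, hρfp⟩, hρs, hr⟩ := hloc w
  haveI := hρfin; haveI := hρfl; haveI := hρfp
  haveI : LocallyOfFiniteType (π ≫ U.ι ≫ p) := inferInstance
  refine ⟨_, W'.ι, inferInstance, ⟨⟨w, hw⟩, rfl⟩, rel_congr (pullCRes W'.ι _).symm ?_⟩
  have hqW := isQCohD_pullC W'.ι (isQCohD_pullC (π ≫ U.ι) hq)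
  refine rel_of_finite_cover ρ _ hqW ?_
  have h' := rel_transfer (p := p) (g i) (ρ ≫ W'.ι ≫ π ≫ U.ι) r hr F hq (fun t => hb _) (h i)
  simp only [Category.assoc] at h' ⊢
  exact rel_congr (Q.mapIso ((pullCComp ρ (W'.ι ≫ π ≫ U.ι)).symm.app F ≪≫
    (pullC ρ).mapIso ((pullCComp W'.ι (π ≫ U.ι)).symm.app F))) h'

end Groth.Agent.FlatMor67.FppfRel
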