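import Groth.Agent.FlatMor67.SpreadBasis

/-! A basis over a localization of the base comes from global sections. -/

set_option autoImplicit false
set_option maxSynthPendingDepth 6
set_option synthInstance.maxHeartbeats 200000
set_option maxHeartbeats 800000
set_option linter.style.haveILetI false
set_option backward.isDefEq.respectTransparency.types false

universe u

noncomputable section

open CategoryTheory CategoryTheory.Limits AlgebraicGeometry TopologicalSpace Opposite TensorProduct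
open Groth.Agent.QC70 Groth.Agent.Props58.LocFree Groth.Agent.DCK91 Groth.Agent.Amp73

namespace Groth.Agent.FlatMor67.GenericBasis

variable {R K : Type u} [CommRing R] [CommRing K] (φ : R →+* K)

/-- Global sections giving a basis on the base change to a ring of fractions. -/
theorem exists_sections_basis [Flat (Spec.map (CommRingCat.ofHom φ))]
    (hφ : ∀ a : K, ∃ t r : R, IsUnit (φ t) ∧ φ t * a = φ r) {X : Scheme.{u}}
    (f : X ⟶ Spec (CommRingCat.of R)) [QuasiCompact f] [QuasiSeparated f] (E : X.Modules) [E.IsQuasicoherent] {r : ℕ}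
    (α : (Scheme.Modules.pullback (pullback.fst f (Spec.map (CommRingCat.ofHom φ)))).obj E ≅
      FlatMod.freeMod (pullback f (Spec.map (CommRingCat.ofHom φ))) r) :
    ∃ m : Fin r → Γ(E, ⊤), ∀ x ∈ Set.range (pullback.fst f (Spec.map (CommRingCat.ofHom φ))),
      Function.Bijective (germComb m x trivial) := by
  let g := Spec.map (CommRingCat.ofHom φ)
  let X' := pullback f g
  let g' : X' ⟶ X := pullback.fst f g
  let f' : X' ⟶ Spec (CommRingCat.of K) := pullback.snd f g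
  have H : IsPullback g' f' f g := IsPullback.of_hasPullback f g
  haveI : Flat g' := inferInstanceAs (Flat (pullback.fst f g))
  obtain ⟨e, he⟩ := SpreadBasis.exists_stalkBasis_top α
  have hWV : (⊤ : (Spec (CommRingCat.of K)).Opens) ≤ g ⁻¹ᵁ ⊤ := le_top
  let O : X'.Opens := g' ⁻¹ᵁ (f ⁻¹ᵁ ⊤) ⊓ f' ⁻¹ᵁ ⊤
  haveI : CompactSpace X := QuasiCompact.compactSpace_of_compactSpace f
  haveI : QuasiSeparatedSpace X := quasiSeparatedSpace_of_quasiSeparated f
  letI := ParaF26.FlatSec.mdl f E (le_refl (f ⁻¹ᵁ ⊤))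
  letI := (g.appLE ⊤ ⊤ hWV).hom.toAlgebra
  have hν : ∀ t : R, algebraMap Γ(Spec (CommRingCat.of R), ⊤) Γ(Spec (CommRingCat.of K), ⊤)
      ((Scheme.ΓSpecIso (CommRingCat.of R)).inv t) = (Scheme.ΓSpecIso (CommRingCat.of K)).inv (φ t) := fun t => by
    show g.appLE ⊤ ⊤ hWV _ = _
    rw [show g.appLE ⊤ ⊤ hWV = g.appTop by simp [Scheme.Hom.appLE]]
    exact (DFunLike.congr_fun (congrArg CommRingCat.Hom.hom
      (Scheme.ΓSpecIso_inv_naturality (CommRingCat.ofHom φ))) t).symm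
  have hA : ∀ a : Γ(Spec (CommRingCat.of K), ⊤), ∃ t r : Γ(Spec (CommRingCat.of R), ⊤),
      IsUnit (algebraMap Γ(Spec (CommRingCat.of R), ⊤) Γ(Spec (CommRingCat.of K), ⊤) t) ∧
        algebraMap Γ(Spec (CommRingCat.of R), ⊤) Γ(Spec (CommRingCat.of K), ⊤) t * a =
          algebraMap Γ(Spec (CommRingCat.of R), ⊤) Γ(Spec (CommRingCat.of K), ⊤) r := fun a => by
    obtain ⟨t, r, ht, h⟩ := hφ ((Scheme.ΓSpecIso (CommRingCat.of K)).hom a)
    refine ⟨(Scheme.ΓSpecIso (CommRingCat.of R)).inv t, (Scheme.ΓSpecIso (CommRingCat.of R)).inv r,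
      by rw [hν]; exact ht.map _, ?_⟩
    rw [hν, hν, ← h, map_mul, Iso.hom_inv_id_apply]
  have hpure : ∀ k, ∃ (u : Γ(X', O)) (m : Γ(E, f ⁻¹ᵁ ⊤)), IsUnit u ∧
      u • res _ (le_top : O ≤ ⊤) (e k) = res _ (inf_le_left : O ≤ g' ⁻¹ᵁ (f ⁻¹ᵁ ⊤)) (pullS g' E (f ⁻¹ᵁ ⊤) m) := by
    intro k
    obtain ⟨z, hz⟩ := (ParaF26.FlatSec.μ_bijective f g f' g' H E hWV (isAffineOpen_top _) (isAffineOpen_top _)
      (le_refl (f ⁻¹ᵁ ⊤)) isCompact_univ isQuasiSeparated_univ).2 (res _ (le_top : O ≤ ⊤) (e k))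
    obtain ⟨t, m, ht, hm⟩ := SpreadBasis.exists_unit_smul_eq_tmul hA z
    refine ⟨f'.appLE ⊤ O inf_le_right (algebraMap Γ(Spec (CommRingCat.of R), ⊤) Γ(Spec (CommRingCat.of K), ⊤) t), m,
      ht.map _, ?_⟩
    have key : ∀ z, ParaF26.FlatSec.μ f g f' g' H E hWV (le_refl (f ⁻¹ᵁ ⊤)) (t • z) =
        f'.appLE ⊤ O inf_le_right (algebraMap Γ(Spec (CommRingCat.of R), ⊤) Γ(Spec (CommRingCat.of K), ⊤) t) •
          ParaF26.FlatSec.μ f g f' g' H E hWV (le_refl (f ⁻¹ᵁ ⊤)) z := by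
      intro z
      induction z with
      | zero => rw [smul_zero, map_zero, smul_zero]
      | add a b ha hb => rw [smul_add, map_add, ha, hb, map_add, smul_add]
      | tmul a x =>
        rw [TensorProduct.smul_tmul', Algebra.smul_def, ParaF26.FlatSec.μ_tmul, ParaF26.FlatSec.μ_tmul, map_mul,
          mul_smul]
    rw [← hz, ← key, hm, ParaF26.FlatSec.μ_tmul, map_one, one_smul]
  choose w m hu hm using hpure
  refine ⟨m, ?_⟩
  rintro _ ⟨x', rfl⟩
  refine SpreadBasis.germComb_bijective_of_pullS g' m x' trivial ?_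
  have hO : x' ∈ O := ⟨trivial, trivial⟩
  have h1 : Function.Bijective (germComb (fun k => res _ (le_top : O ≤ ⊤) (e k)) x' hO) :=
    (he.restrict (le_top : O ≤ ⊤)) x' hO
  have h2 := SpreadBasis.germComb_bijective_of_units _
    (fun k => res _ (inf_le_left : O ≤ g' ⁻¹ᵁ (f ⁻¹ᵁ ⊤)) (pullS g' E (f ⁻¹ᵁ ⊤) (m k))) x' hO
    (fun k => X'.presheaf.germ O x' hO (w k)) (fun k => (hu k).map _)
    (fun k => by rw [← hm k, germM_smul]) h1
  rwa [show germComb (fun k => res _ (inf_le_left : O ≤ g' ⁻¹ᵁ (f ⁻¹ᵁ ⊤)) (pullS g' E (f ⁻¹ᵁ ⊤) (m k))) x' hO =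
    germComb (fun k => pullS g' E (f ⁻¹ᵁ ⊤) (m k)) x' (U := g' ⁻¹ᵁ (f ⁻¹ᵁ ⊤)) trivial from
    funext (germComb_res _ inf_le_left x' hO)] at h2

end Groth.Agent.FlatMor67.GenericBasis
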