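import Groth.Agent.Pinch99.Faithful
import Groth.Agent.QC70.CohOps

/-! Uniform bound on the torsion of a global function in finite locally free modules, and gluing of divisions. -/

set_option autoImplicit false
set_option backward.isDefEq.respectTransparency.types false
set_option linter.style.haveILetI false

universe u

open CategoryTheory CategoryTheory.Limits AlgebraicGeometry TopologicalSpace Opposite
open Groth.Agent.QC70 Groth.Agent.Props58.LocFree Groth.Agent.Amp73

noncomputable section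

namespace Groth.Agent.FlatMor67.UnifTorsion

variable {X : Scheme.{u}}

/-- In a Noetherian ring the annihilators of the powers of an element stabilise. -/
theorem exists_annihilator_bound {A : Type*} [CommRing A] [IsNoetherianRing A] (a : A) :
    ∃ c : ℕ, ∀ (k : ℕ) (x : A), a ^ k * x = 0 → a ^ c * x = 0 := by
  let I : ℕ →o Submodule A A :=
    ⟨fun k => LinearMap.ker (LinearMap.mulLeft A (a ^ k)), fun k l hkl x hx => by
      rw [LinearMap.mem_ker, LinearMap.mulLeft_apply] at hx ⊢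
      rw [← Nat.sub_add_cancel hkl, pow_add, mul_assoc, hx, mul_zero]⟩
  obtain ⟨c, hc⟩ := monotone_stabilizes_iff_noetherian.2 (inferInstanceAs (IsNoetherian A A)) I
  refine ⟨c, fun k x hx => ?_⟩
  rcases le_total k c with h | h
  · exact I.mono h (show x ∈ I k from hx)
  · exact (hc k h).ge (show x ∈ I k from hx)

/-- One exponent bounds all the torsion of a global function. -/
theorem exists_bound [CompactSpace X] [IsLocallyNoetherian X] (t : Γ(X, ⊤)) :
    ∃ c : ℕ, ∀ (U : X.Opens) (k : ℕ) (x : Γ(X, U)),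
      resO X le_top t ^ k * x = 0 → resO X le_top t ^ c * x = 0 := by
  choose V hV hxV _ using fun x : X =>
    exists_isAffineOpen_mem_and_subset (X := X) (x := x) (U := ⊤) trivial
  obtain ⟨S, hS⟩ := isCompact_univ.elim_finite_subcover (fun x : X => (V x : Set X)) (fun x => (V x).2)
    (fun x _ => Set.mem_iUnion.2 ⟨x, hxV x⟩)
  haveI : ∀ x, IsNoetherianRing Γ(X, V x) := fun x =>
    IsLocallyNoetherian.component_noetherian ⟨V x, hV x⟩
  choose c hc using fun x => exists_annihilator_bound (resO X (le_top : V x ≤ ⊤) t)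
  refine ⟨S.sup c, fun U k x hx => ?_⟩
  refine TopCat.Presheaf.IsSheaf.section_ext X.sheaf.property fun p hp => ?_
  obtain ⟨q, hq, hpq⟩ : ∃ q ∈ S, p ∈ V q := by simpa using hS (Set.mem_univ p)
  obtain ⟨g, hg, hpg⟩ := (hV q).exists_basicOpen_le ⟨p, hp⟩ hpq
  refine ⟨X.basicOpen g, hg, hpg, ?_⟩
  change resO X hg _ = resO X hg 0
  letI : Algebra Γ(X, V q) Γ(X, X.basicOpen g) := (X.presheaf.map (homOfLE (X.basicOpen_le g)).op).hom.toAlgebra
  haveI : IsLocalization.Away g Γ(X, X.basicOpen g) := (hV q).isLocalization_basicOpen g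
  obtain ⟨a, l, ha⟩ := IsLocalization.exists_mk'_eq (Submonoid.powers g) (resO X hg x)
  have htt : resO X hg (resO X le_top t) = algebraMap Γ(X, V q) Γ(X, X.basicOpen g) (resO X le_top t) := by
    rw [resO_resO]
    exact (resO_resO (U := ⊤) (V := V q) (W := X.basicOpen g) _ _ t).symm
  have h1 : resO X hg (resO X le_top t ^ k * x) = 0 := by rw [hx]; exact map_zero _
  change (X.presheaf.map (homOfLE hg).op).hom _ = (X.presheaf.map (homOfLE hg).op).hom 0
  rw [map_zero, map_mul, map_pow]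
  replace h1 : (X.presheaf.map (homOfLE hg).op).hom (resO X le_top t ^ k * x) = 0 := h1
  rw [map_mul, map_pow] at h1
  change resO X hg (resO X le_top t) ^ _ * resO X hg x = 0 at h1 ⊢
  rw [htt, ← ha, ← map_pow, IsLocalization.mul_mk'_eq_mk'_of_mul, IsLocalization.mk'_eq_zero_iff] at h1
  rw [htt, ← ha, ← map_pow, IsLocalization.mul_mk'_eq_mk'_of_mul, IsLocalization.mk'_eq_zero_iff]
  obtain ⟨m, hm⟩ := h1
  refine ⟨m, ?_⟩
  have h2 := hc q k ((m : Γ(X, V q)) * a) (by rw [← hm]; ring)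
  rw [← Nat.sub_add_cancel (Finset.le_sup (f := c) hq), pow_add]
  calc (m : Γ(X, V q)) * (resO X le_top t ^ (S.sup c - c q) * resO X le_top t ^ c q * a)
      = resO X le_top t ^ (S.sup c - c q) * (resO X le_top t ^ c q * (↑m * a)) := by ring
    _ = 0 := by rw [h2, mul_zero]

/-- The bound passes to finite locally free modules. -/
theorem bound_module {c : ℕ} {t : Γ(X, ⊤)} (hc : ∀ (U : X.Opens) (k : ℕ) (x : Γ(X, U)),
      resO X le_top t ^ k * x = 0 → resO X le_top t ^ c * x = 0)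
    {E : X.Modules} (hE : FlatMod.IsFinLocFree E) (U : X.Opens) (k : ℕ) (z : Γ(E, U))
    (hz : resO X (le_top : U ≤ ⊤) t ^ k • z = 0) : resO X (le_top : U ≤ ⊤) t ^ c • z = 0 := by
  refine QC70.section_ext E _ _ fun p hp => ?_
  obtain ⟨W, m, b, hpW, hb⟩ := isFinLocFree_iff.1 hE p
  refine ⟨U ⊓ W, inf_le_left, ⟨hp, hpW⟩, ?_⟩
  obtain ⟨a, ha⟩ := hb.exists_comb (inf_le_right : U ⊓ W ≤ W) (res E inf_le_left z)
  have h1 : ∑ i, (resO X le_top t ^ k * a i) • res E (inf_le_right : U ⊓ W ≤ W) (b i) =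
      ∑ i, (0 : Γ(X, U ⊓ W)) • res E (inf_le_right : U ⊓ W ≤ W) (b i) := by
    simp only [mul_smul, ← Finset.smul_sum, zero_smul, Finset.sum_const_zero]
    rw [ha]
    rw [← resO_resO le_top (inf_le_left : U ⊓ W ≤ U), ← res_pow_smul, hz, res_zero]
  have h2 := hb.eq_of_comb inf_le_right h1
  rw [res_pow_smul, resO_resO, res_zero, ← ha, Finset.smul_sum]
  exact Finset.sum_eq_zero fun i _ => by rw [← mul_smul, hc _ k _ (congrFun h2 i), zero_smul]

/-- Local sections determined by a predicate glue. -/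
theorem exists_glue (M : X.Modules) (P : ∀ V : X.Opens, Γ(M, V) → Prop)
    (hloc : ∀ p : X, ∃ (V : X.Opens) (z : Γ(M, V)), p ∈ V ∧ P V z)
    (hres : ∀ (V W : X.Opens) (h : W ≤ V) (z : Γ(M, V)), P V z → P W (res M h z))
    (huniq : ∀ (V : X.Opens) (z z' : Γ(M, V)), P V z → P V z' → z = z') :
    ∃ z : Γ(M, ⊤), ∀ p : X, ∃ V : X.Opens, p ∈ V ∧ P V (res M le_top z) := by
  choose V z hpV hP using hloc
  obtain ⟨s, hs, -⟩ := TopCat.Sheaf.existsUnique_gluing' (F := ⟨M.presheaf, M.isSheaf⟩) V ⊤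
    (fun p => homOfLE le_top) (fun p _ => Opens.mem_iSup.2 ⟨p, hpV p⟩) z
    (fun p q => huniq _ _ _ (hres _ _ inf_le_left _ (hP p)) (hres _ _ inf_le_right _ (hP q)))
  refine ⟨s, fun p => ⟨V p, hpV p, ?_⟩⟩
  have e : res M le_top s = z p := hs p
  rw [e]
  exact hP p

variable {Z : Scheme.{u}} (i : Z ⟶ X) {t : Γ(X, ⊤)} {n : ℕ}

/-- Sections dying on a closed subscheme cut out by `t ^ n` are locally multiples of `t ^ n`. -/
theorem exists_local_div (hker : ∀ (V : X.Opens), IsAffineOpen V → ∀ b : Γ(X, V), i.app V b = 0 →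
      ∃ w : Γ(X, V), resO X (le_top : V ≤ ⊤) t ^ n * w = b)
    {E : X.Modules} (hE : FlatMod.IsFinLocFree E) {U : X.Opens} (s : Γ(E, U)) (hs : pullS i E U s = 0)
    {p : X} (hp : p ∈ U) :
    ∃ (V : X.Opens) (hV : V ≤ U) (y : Γ(E, V)), p ∈ V ∧ resO X (le_top : V ≤ ⊤) t ^ n • y = res E hV s := by
  obtain ⟨W, m, b, hpW, hb⟩ := isFinLocFree_iff.1 hE p
  obtain ⟨V, hV, hpV, hle⟩ := exists_isAffineOpen_mem_and_subset (x := p) (U := U ⊓ W) ⟨hp, hpW⟩
  have hVU : V ≤ U := fun _ hz => (hle hz).1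
  have hVW : V ≤ W := fun _ hz => (hle hz).2
  obtain ⟨a, ha⟩ := hb.exists_comb hVW (res E hVU s)
  have h1 : ∑ j, i.app V (a j) • res ((Scheme.Modules.pullback i).obj E) (i.preimage_mono hVW) (pullS i E W (b j)) =
      ∑ j, (0 : Γ(Z, i ⁻¹ᵁ V)) • res ((Scheme.Modules.pullback i).obj E) (i.preimage_mono hVW) (pullS i E W (b j)) := by
    rw [← Pinch99.pullS_comb i E hVW b a, ha, ← Pinch99.pullS_res, hs, res_zero]
    simp
  have h2 := (Pinch99.stalkBasis_pullS i hb).eq_of_comb (i.preimage_mono hVW) h1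
  choose w hw using fun j => hker V hV (a j) (congrFun h2 j)
  refine ⟨V, hVU, ∑ j, w j • res E hVW (b j), hpV, ?_⟩
  rw [← ha, Finset.smul_sum]
  exact Finset.sum_congr rfl fun j _ => by rw [← mul_smul, hw]

/-- Sections of the pullback along a closed immersion lift locally. -/
theorem exists_local_lift [IsClosedImmersion i] {E : X.Modules} (hE : FlatMod.IsFinLocFree E) {U : X.Opens}
    (e : Γ((Scheme.Modules.pullback i).obj E, i ⁻¹ᵁ U)) {p : X} (hp : p ∈ U) :
    ∃ (V : X.Opens) (hV : V ≤ U) (q : Γ(E, V)), p ∈ V ∧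
      pullS i E V q = res _ (i.preimage_mono hV) e := by
  obtain ⟨W, m, b, hpW, hb⟩ := isFinLocFree_iff.1 hE p
  obtain ⟨V, hV, hpV, hle⟩ := exists_isAffineOpen_mem_and_subset (x := p) (U := U ⊓ W) ⟨hp, hpW⟩
  have hVU : V ≤ U := fun _ hz => (hle hz).1
  have hVW : V ≤ W := fun _ hz => (hle hz).2
  obtain ⟨a, ha⟩ := (Pinch99.stalkBasis_pullS i hb).exists_comb (i.preimage_mono hVW)
    (res _ (i.preimage_mono hVU) e)
  choose a' ha' using fun j => i.app_surjective V hV (a j)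
  refine ⟨V, hVU, ∑ j, a' j • res E hVW (b j), hpV, ?_⟩
  rw [Pinch99.pullS_comb, ← ha]
  exact Finset.sum_congr rfl fun j _ => by rw [ha']

/-- A global section dying on the subscheme cut out by `t ^ n` is a multiple of `t ^ (n - c)`. -/
theorem exists_global_div {c : ℕ} (hcn : c ≤ n) (hc : ∀ (U : X.Opens) (k : ℕ) (x : Γ(X, U)),
      resO X le_top t ^ k * x = 0 → resO X le_top t ^ c * x = 0)
    (hker : ∀ (V : X.Opens), IsAffineOpen V → ∀ b : Γ(X, V), i.app V b = 0 →
      ∃ w : Γ(X, V), resO X (le_top : V ≤ ⊤) t ^ n * w = b)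
    {E : X.Modules} (hE : FlatMod.IsFinLocFree E) (s : Γ(E, ⊤)) (hs : pullS i E ⊤ s = 0) :
    ∃ y, t ^ (n - c) • y = s := by
  obtain ⟨z, hz⟩ := exists_glue E (fun V z => ∃ y : Γ(E, V), z = resO X (le_top : V ≤ ⊤) t ^ c • y ∧
      resO X (le_top : V ≤ ⊤) t ^ n • y = res E (le_top : V ≤ ⊤) s)
    (fun p => by
      obtain ⟨V, hV, y, hpV, hy⟩ := exists_local_div i hker hE s hs (trivial : p ∈ (⊤ : X.Opens))
      exact ⟨V, _, hpV, y, rfl, hy⟩)
    (fun V W h z hz => by
      obtain ⟨y, rfl, hy⟩ := hz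
      refine ⟨res E h y, by rw [res_pow_smul, resO_resO], ?_⟩
      have := congrArg (res E h) hy
      rwa [res_pow_smul, resO_resO, res_res] at this)
    (fun V z z' hz hz' => by
      obtain ⟨y, rfl, hy⟩ := hz
      obtain ⟨y', rfl, hy'⟩ := hz'
      rw [← sub_eq_zero, ← smul_sub]
      exact bound_module hc hE V n _ (by rw [smul_sub, hy, hy', sub_self]))
  refine ⟨z, QC70.section_ext E _ _ fun p _ => ?_⟩
  obtain ⟨V, hpV, y, hy, hy'⟩ := hz p
  refine ⟨V, le_top, hpV, ?_⟩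
  rw [res_pow_smul, hy, smul_smul, ← pow_add, Nat.sub_add_cancel hcn, hy']

end Groth.Agent.FlatMor67.UnifTorsion
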