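import Groth.Agent.Proper66.HOneSurj
import Groth.Agent.Serre71.Finite
import Groth.Agent.Crv77.Degree
import Groth.Agent.FlatMor67.UnifTorsion

/-! Functions on the truncations of a proper scheme over a discrete valuation ring lift up to a bounded power of
the uniformizer. -/

set_option autoImplicit false
set_option backward.isDefEq.respectTransparency.types false
set_option linter.style.haveILetI false

universe u

open CategoryTheory CategoryTheory.Limits AlgebraicGeometry TopologicalSpace Opposite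
open Groth.Agent.QC70

noncomputable section

namespace Groth.Agent.FlatMor67.LiftBound

/-- The torsion of a finite module has an exponent. -/
theorem exists_exponent {R : Type*} [CommRing R] [IsNoetherianRing R] {ϖ : R}
    (M : Type*) [AddCommGroup M] [Module R M] [Module.Finite R M] :
    ∃ τ : ℕ, ∀ (k : ℕ) (m : M), ϖ ^ k • m = 0 → ϖ ^ τ • m = 0 := by
  haveI := isNoetherian_of_isNoetherianRing_of_finite R M
  let I : ℕ →o Submodule R M :=
    ⟨fun k => LinearMap.ker (LinearMap.lsmul R M (ϖ ^ k)), fun k l hkl x hx => by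
      rw [LinearMap.mem_ker, LinearMap.lsmul_apply] at hx ⊢
      rw [← Nat.sub_add_cancel hkl, pow_add, mul_smul, hx, smul_zero]⟩
  obtain ⟨c, hc⟩ := monotone_stabilizes_iff_noetherian.2 inferInstance I
  refine ⟨c, fun k m hm => ?_⟩
  rcases le_total k c with h | h
  · exact I.mono h (show m ∈ I k from hm)
  · exact (hc k h).ge (show m ∈ I k from hm)

variable {R : Type u} [CommRing R] {X : Scheme.{u}}

/-- The value of a power of a parameter on the base. -/
abbrev par (f : X ⟶ Spec (CommRingCat.of R)) (ϖ : R) : Γ(X, ⊤) := Coh.toGlobal f ϖ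

variable (ϖ : R) (f : X ⟶ Spec (CommRingCat.of R))

theorem res_par_pow (k : ℕ) (U : X.Opens) :
    resO X (le_top : U ≤ ⊤) (par f ϖ) ^ k = resO X (le_top : U ≤ ⊤) (par f (ϖ ^ k)) :=
  ((congrArg (resO X (le_top : U ≤ ⊤)) (map_pow (Coh.toGlobal f) ϖ k)).trans (resO_pow _ _ _)).symm

/-- The truncation map kills the power of the parameter. -/
theorem app_par_pow {Z : Scheme.{u}} {n : ℕ} {i : Z ⟶ X} {f' : Z ⟶ Spec (CommRingCat.of (R ⧸ Ideal.span {ϖ ^ n}))}
    (w : i ≫ f = f' ≫ Spec.map (CommRingCat.ofHom (Ideal.Quotient.mk (Ideal.span {ϖ ^ n})))) (U : X.Opens) :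
    i.app U (resO X le_top (par f ϖ) ^ n) = 0 := by
  rw [res_par_pow]
  have h1 : i.appTop (Coh.toGlobal f (ϖ ^ n) : Γ(X, ⊤)) = 0 := by
    show i.appTop (f.appTop ((Scheme.ΓSpecIso (CommRingCat.of R)).inv (ϖ ^ n))) = 0
    rw [← ConcreteCategory.comp_apply, ← Scheme.Hom.comp_appTop, w, Scheme.Hom.comp_appTop,
      ConcreteCategory.comp_apply]
    have e : (Spec.map (CommRingCat.ofHom (Ideal.Quotient.mk (Ideal.span {ϖ ^ n})))).appTop
        ((Scheme.ΓSpecIso (CommRingCat.of R)).inv (ϖ ^ n)) = 0 := by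
      refine (DFunLike.congr_fun (congrArg CommRingCat.Hom.hom
        (Scheme.ΓSpecIso_inv_naturality (CommRingCat.ofHom (Ideal.Quotient.mk (Ideal.span {ϖ ^ n})))))
        (ϖ ^ n)).symm.trans ?_
      show (Scheme.ΓSpecIso (CommRingCat.of (R ⧸ Ideal.span {ϖ ^ n}))).inv (Ideal.Quotient.mk (Ideal.span {ϖ ^ n}) (ϖ ^ n)) = 0
      rw [Ideal.Quotient.eq_zero_iff_mem.2 (Ideal.mem_span_singleton_self _), map_zero]
    rw [e, map_zero]
  refine (QCqs72.app_resO i (le_top : U ≤ ⊤) _).trans ?_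
  exact (congrArg _ h1).trans (map_zero _)

/-- Functions dying on the truncation are multiples of the power of the parameter on affine opens. -/
theorem exists_div {Z : Scheme.{u}} {n : ℕ} {i : Z ⟶ X} {f' : Z ⟶ Spec (CommRingCat.of (R ⧸ Ideal.span {ϖ ^ n}))}
    (sq : IsPullback i f' f (Spec.map (CommRingCat.ofHom (Ideal.Quotient.mk (Ideal.span {ϖ ^ n})))))
    (V : X.Opens) (hV : IsAffineOpen V) (b : Γ(X, V)) (hb : i.app V b = 0) :
    ∃ w : Γ(X, V), resO X (le_top : V ≤ ⊤) (par f ϖ) ^ n * w = b := by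
  have h := Proper66.ker_quot _ Ideal.Quotient.mk_surjective f sq hV b hb
  rw [Ideal.mk_ker, Ideal.map_span, Set.image_singleton, Ideal.mem_span_singleton'] at h
  obtain ⟨w, hw⟩ := h
  refine ⟨w, ?_⟩
  rw [← hw, map_pow, mul_comm]
  rfl

set_option maxHeartbeats 1600000 in
/-- The bound on the cokernels of `Γ(X, O) → Γ(X_n, O)`. -/
theorem exists_bound [IsNoetherianRing R] [IsProper f] :
    ∃ c τ : ℕ, (∀ (U : X.Opens) (k : ℕ) (x : Γ(X, U)),
        resO X le_top (par f ϖ) ^ k * x = 0 → resO X le_top (par f ϖ) ^ c * x = 0) ∧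
      ∀ n, c ≤ n → ∀ (Z : Scheme.{u}) (i : Z ⟶ X) [IsClosedImmersion i]
        (f' : Z ⟶ Spec (CommRingCat.of (R ⧸ Ideal.span {ϖ ^ n}))),
        IsPullback i f' f (Spec.map (CommRingCat.ofHom (Ideal.Quotient.mk (Ideal.span {ϖ ^ n})))) →
        ∀ q : Γ(Z, ⊤), ∃ b, i.appTop b = i.appTop (par f ϖ ^ τ) * q := by
  classical
  letI : X.Over (Spec (CommRingCat.of R)) := ⟨f⟩
  haveI : IsLocallyNoetherian X := LocallyOfFiniteType.isLocallyNoetherian f
  haveI : CompactSpace X := QuasiCompact.compactSpace_of_compactSpace f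
  obtain ⟨c, hc⟩ := UnifTorsion.exists_bound (X := X) (par f ϖ)
  let μ : ℕ → (Coh.structureModule X ⟶ Coh.structureModule X) := fun k =>
    Proper66.gmul (Coh.structureModule X) (Coh.toGlobal f (ϖ ^ k))
  have hμ : ∀ (k : ℕ) (U : X.Opens) (s : Γ(X, U)),
      (μ k).app U s = (show Γ(X, U) from resO X le_top (par f ϖ) ^ k * s) := fun k U s => by
    show resO X le_top (par f (ϖ ^ k)) * s = resO X le_top (par f ϖ) ^ k * s
    rw [res_par_pow]
  let G := cokernel (kernel.ι (μ c))
  have hO : Coh.IsCoh (Coh.structureModule X) := Crv77.isCoh_structureModule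
  have hG : Coh.IsCoh G := QC70.isCoh_cokernel _ (QC70.isCoh_kernel (μ c) hO hO.1).1 hO
  haveI : IsProper (X ↘ Spec (CommRingCat.of R)) := ‹IsProper f›
  haveI := Serre71.finite_hh_of_isProper (A := R) G hG 1
  obtain ⟨τ, hτ⟩ := exists_exponent (ϖ := ϖ) (Coh.HH X G 1)
  refine ⟨c, τ, hc, fun n hcn Z i _ f' sq q => ?_⟩
  have hw : kernel.ι (μ c) ≫ μ n = 0 := by
    ext U s
    show (μ n).app U ((kernel.ι (μ c)).app U s) = 0
    let a : Γ(X, U) := (kernel.ι (μ c)).app U s
    have h1 : resO X le_top (par f ϖ) ^ c * a = 0 := (hμ c U a).symm.trans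
      (congrArg (fun w : kernel (μ c) ⟶ _ => w.app U s) (kernel.condition (μ c)))
    have h2 : resO X le_top (par f ϖ) ^ n * a = 0 := by
      rw [← Nat.sub_add_cancel hcn, pow_add, mul_assoc, h1, mul_zero]
    exact (hμ n U a).trans h2
  have hw' : kernel.ι (μ n) ≫ μ c = 0 := by
    ext U s
    show (μ c).app U ((kernel.ι (μ n)).app U s) = 0
    let a : Γ(X, U) := (kernel.ι (μ n)).app U s
    have h1 : resO X le_top (par f ϖ) ^ n * a = 0 := (hμ n U a).symm.trans
      (congrArg (fun w : kernel (μ n) ⟶ _ => w.app U s) (kernel.condition (μ n)))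
    exact (hμ c U a).trans (hc U n _ h1)
  let j : G ⟶ Coh.structureModule X := cokernel.desc _ (μ n) hw
  haveI : Mono j := by
    refine ShortComplex.Exact.mono_cokernelDesc (S := ShortComplex.mk (kernel.ι (μ c)) (μ n) hw) ?_
    rw [ShortComplex.exact_iff_epi_kernel_lift]
    exact epi_of_epi_fac (f := kernel.lift (μ c) (kernel.ι (μ n)) hw') (h := 𝟙 _)
      ((cancel_mono (kernel.ι (μ n))).1 (by simp))
  let ψ := ClSub.unitToPush i
  haveI : Epi ψ := Proper66.epi_unitToPush i
  have hμψ : μ n ≫ ψ = 0 := by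
    ext U s
    show i.app U ((μ n).app U s) = 0
    refine (congrArg (i.app U) (hμ n U s)).trans ?_
    show i.app U (resO X (le_top : U ≤ ⊤) (par f ϖ) ^ n * (show Γ(X, U) from s)) = 0
    rw [map_mul, app_par_pow ϖ f sq.w, zero_mul]
  have hjψ : j ≫ ψ = 0 := (cancel_epi (cokernel.π (kernel.ι (μ c)))).1 (by rw [cokernel.π_desc_assoc, hμψ, comp_zero])
  have hex : (ShortComplex.mk j ψ hjψ).Exact := by
    refine EGAProj74.exact_of_locally j ψ hjψ fun W s hs z => ?_
    obtain ⟨V, hV, hzV, hle⟩ := exists_isAffineOpen_mem_and_subset (x := z.1) (U := W) z.2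
    have h2 : i.app V (resO X (hle : V ≤ W) s) = 0 := by
      rw [QCqs72.app_resO]
      exact (congrArg _ (show i.app W s = 0 from hs)).trans (map_zero _)
    obtain ⟨w, hwb⟩ := exists_div ϖ f sq V hV _ h2
    refine ⟨V, hle, hzV, (cokernel.π (kernel.ι (μ c))).app V w, ?_⟩
    have h3 : j.app V ((cokernel.π (kernel.ι (μ c))).app V w) = (μ n).app V w :=
      congrArg (fun m : Coh.structureModule X ⟶ Coh.structureModule X => m.app V w)
        (cokernel.π_desc (kernel.ι (μ c)) (μ n) hw)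
    exact h3.trans ((hμ n V w).trans hwb)
  have hS : (ShortComplex.mk j ψ hjψ).ShortExact := { exact := hex }
  obtain ⟨z, hz⟩ := (Crv77.sec ((Coh.push i).obj (Coh.structureModule Z))).surjective q
  have hsm : ∀ (k : ℕ), Crv77.sec ((Coh.push i).obj (Coh.structureModule Z)) (ϖ ^ k • z) =
      (show Γ(Z, i ⁻¹ᵁ ⊤) from i.appTop (par f ϖ ^ k) * q) := fun k => by
    rw [Crv77.sec_smul, hz]
    refine (QCqs72.pushforward_smul (Coh.structureModule Z) i _ _).trans ?_
    exact congrArg (fun b => i.appTop b * q) (map_pow (Coh.toGlobal f : R →+* Γ(X, ⊤)) ϖ k)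
  have h0 : ϖ ^ n • z = 0 := (Crv77.sec _).injective (by
    rw [hsm, map_zero]
    show i.appTop (par f ϖ ^ n) * q = 0
    have := app_par_pow ϖ f sq.w ⊤
    rw [resO_self] at this
    exact (congrArg (· * q) this).trans (zero_mul q))
  have h1 : Crv77.hδ R hS 0 (ϖ ^ τ • z) = 0 := by
    rw [map_smul]
    exact hτ n _ (by rw [← map_smul, h0, map_zero])
  obtain ⟨x, hx⟩ := (Crv77.exact_g_δ R hS 0 _).1 h1
  refine ⟨Crv77.sec (Coh.structureModule X) x, ?_⟩
  exact ((Crv77.sec_hmap R ψ x).symm.trans (congrArg _ hx)).trans (hsm τ)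

end Groth.Agent.FlatMor67.LiftBound
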