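import Groth.Agent.FlatMor67.FreeLattice
import Groth.Agent.FlatMor67.LiftBound
import Groth.Agent.FlatMor67.GenericBasis
import Groth.Agent.FlatMor67.FibreFree
import Groth.Agent.Props58.LocFree.Criteria
import Groth.Agent.EGA73.Invertible

/-! Finite locally free modules free on the generic fibre and on a large truncation are free. -/

set_option autoImplicit false
set_option maxSynthPendingDepth 6
set_option linter.style.haveILetI false
set_option backward.isDefEq.respectTransparency.types false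

universe u

noncomputable section

open CategoryTheory CategoryTheory.Limits AlgebraicGeometry TopologicalSpace Opposite
open Groth.Agent.QC70 Groth.Agent.Props58.LocFree Groth.Agent.Amp73
open Groth.Agent.FlatMor67.LiftBound (par)

namespace Groth.Agent.FlatMor67.FreeFromTrunc

variable {X : Scheme.{u}}

/-- A basis of global sections trivializes. -/
theorem nonempty_iso_freeMod {E : X.Modules} {r : ℕ} (φ : Fin r → Γ(E, ⊤)) (hφ : StalkBasis φ) :
    Nonempty (E ≅ FlatMod.freeMod X r) := by
  let ψ : FlatMod.freeMod X r ⟶ E := Sigma.desc fun i => EGA73.unitHom E (φ i)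
  have hg : ∀ i, ψ.app ⊤ (unitVec X r i) = φ i := fun i => by
    change (Sigma.ι (fun _ : Fin r => Coh.structureModule X) i ≫ ψ).app ⊤ (toUnit 1) = _
    rw [Sigma.ι_desc]
    exact ((EGA73.unitHom_app E (φ i) ⊤ 1).trans (one_smul _ _)).trans (QC70.res_self (φ i))
  have : IsIso ψ := by
    refine Scheme.Modules.Hom.isIso_iff_isIso_app.2 fun W => ?_
    rw [ConcreteCategory.isIso_iff_bijective]
    have key : ∀ a : Fin r → Γ(X, W), ψ.app W (∑ i, a i • res _ le_top (unitVec X r i)) =
        ∑ i, a i • res E le_top (φ i) := fun a => by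
      rw [map_sum]
      exact Finset.sum_congr rfl fun i _ => by rw [Scheme.Modules.Hom.app_smul, app_res, hg]
    constructor
    · intro p q hpq
      obtain ⟨a, rfl⟩ := free_exists_comb p
      obtain ⟨b, rfl⟩ := free_exists_comb q
      rw [key, key] at hpq
      rw [hφ.eq_of_comb le_top hpq]
    · intro z
      obtain ⟨a, ha⟩ := hφ.exists_comb le_top z
      exact ⟨_, (key a).trans ha⟩
  exact ⟨(asIso ψ).symm⟩

/-- A family congruent to a basis modulo a nilpotent is a basis. -/
theorem germComb_bijective_of_congr {M : X.Modules} {U : X.Opens} {r : ℕ} (e u : Fin r → Γ(M, U)) (x : X) (hx : x ∈ U)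
    (he : Function.Bijective (germComb e x hx)) {ε : X.presheaf.stalk x} (hε : IsNilpotent ε)
    (h : ∀ j, ∃ w, germM M U x hx (u j) = germM M U x hx (e j) + ε • w) :
    Function.Bijective (germComb u x hx) := by
  choose w hw using h
  choose N hN using fun j => he.2 (w j)
  let L : Module.End (X.presheaf.stalk x) (Fin r → X.presheaf.stalk x) :=
    Fintype.linearCombination (X.presheaf.stalk x) N
  have hnil : IsNilpotent (ε • L) := by
    obtain ⟨k, hk⟩ := hε
    exact ⟨k, by rw [smul_pow, hk, zero_smul]⟩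
  obtain ⟨hb⟩ : Nonempty (PLift (Function.Bijective (1 + ε • L :
      Module.End (X.presheaf.stalk x) (Fin r → X.presheaf.stalk x)))) :=
    ⟨⟨(Module.End.isUnit_iff _).1 hnil.isUnit_one_add⟩⟩
  let Φ := Fintype.linearCombination (X.presheaf.stalk x) fun j => germM M U x hx (e j)
  have hΦ : ∀ c, Φ c = germComb e x hx c := fun c => by rw [Fintype.linearCombination_apply]; rfl
  have hw' : ∀ j, germM M U x hx (u j) = germM M U x hx (e j) + ε • ∑ k, N j k • germM M U x hx (e k) := fun j => by
    rw [hw j, ← hN j]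
    rfl
  have key : germComb u x hx = germComb e x hx ∘
      (1 + ε • L : Module.End (X.presheaf.stalk x) (Fin r → X.presheaf.stalk x)) := by
    funext c
    rw [Function.comp_apply, LinearMap.add_apply, LinearMap.smul_apply, Module.End.one_apply, ← hΦ, map_add, map_smul,
      show L c = ∑ j, c j • N j by simp [L, Fintype.linearCombination_apply], map_sum]
    simp only [hΦ, germComb, hw', smul_add, Finset.sum_add_distrib, Finset.smul_sum, Pi.smul_apply, smul_eq_mul,
      mul_smul]
    exact congrArg₂ (· + ·) rfl (Finset.sum_congr rfl fun j _ => Finset.sum_congr rfl fun k _ => smul_comm _ _ _)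
  rw [key]
  exact he.comp hb.down

/-- The functions coming from the base. -/
abbrev glob {R : Type u} [CommRing R] (f : X ⟶ Spec (CommRingCat.of R)) : R →+* Γ(X, ⊤) := Coh.toGlobal f

variable {R : Type u} [CommRing R] [IsDomain R] [IsDiscreteValuationRing R] {ϖ : R}
  (f : X ⟶ Spec (CommRingCat.of R)) [IsProper f]

/-- Global sections of a coherent module on a proper scheme form a finite module. -/
theorem finite_sections (F : X.Modules) (hF : Coh.IsCoh F) :
    letI := Module.compHom Γ(F, ⊤) (glob f)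
    Module.Finite R Γ(F, ⊤) := by
  letI : X.Over (Spec (CommRingCat.of R)) := ⟨f⟩
  letI := Module.compHom Γ(F, ⊤) (glob f)
  haveI : IsProper (X ↘ Spec (CommRingCat.of R)) := ‹IsProper f›
  haveI : IsLocallyNoetherian X := LocallyOfFiniteType.isLocallyNoetherian f
  haveI := Serre71.finite_hh_of_isProper (A := R) F hF 0
  exact Module.Finite.equiv
    ({ toFun := Crv77.sec F
       map_add' := map_add _
       map_smul' := fun a x => Crv77.sec_smul R F a x
       invFun := (Crv77.sec F).symm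
       left_inv := (Crv77.sec F).symm_apply_apply
       right_inv := (Crv77.sec F).apply_symm_apply } : Coh.HH X F 0 ≃ₗ[R] Γ(F, ⊤))

/-- Lifting the truncated basis up to a bounded power. -/
theorem exists_pow_lift_basis (hϖ : Irreducible ϖ) {c τ n : ℕ} (hn : 2 * c + τ + 1 ≤ n)
    (hc : ∀ (U : X.Opens) (k : ℕ) (x : Γ(X, U)),
        resO X le_top (par f ϖ) ^ k * x = 0 → resO X le_top (par f ϖ) ^ c * x = 0)
    {Z : Scheme.{u}} (i : Z ⟶ X) (f' : Z ⟶ Spec (CommRingCat.of (R ⧸ Ideal.span {ϖ ^ n})))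
    (sq : IsPullback i f' f (Spec.map (CommRingCat.ofHom (Ideal.Quotient.mk (Ideal.span {ϖ ^ n})))))
    (hlift : ∀ q : Γ(Z, ⊤), ∃ b, i.appTop b = i.appTop (par f ϖ ^ τ) * q)
    {E : X.Modules} (hE : FlatMod.IsFinLocFree E) {r : ℕ}
    {e : Fin r → Γ((Scheme.Modules.pullback i).obj E, ⊤)} (he : StalkBasis e)
    (σ : Fin r → Γ(E, ⊤)) (hσ : ∀ x ∈ X.basicOpen (par f ϖ), Function.Bijective (germComb σ x trivial)) (j : Fin r) :
    ∃ s : Γ(E, ⊤), pullS i E ⊤ s = i.appTop (par f ϖ ^ (2 * c + τ)) • e j := by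
  classical
  haveI : IsLocallyNoetherian X := LocallyOfFiniteType.isLocallyNoetherian f
  haveI : CompactSpace X := QuasiCompact.compactSpace_of_compactSpace f
  haveI := isQuasicoherent_of_isFinLocFree hE
  letI : Algebra R Γ(X, ⊤) := (glob f).toAlgebra
  letI : Module R Γ(E, ⊤) := Module.compHom Γ(E, ⊤) (glob f)
  haveI : IsScalarTower R Γ(X, ⊤) Γ(E, ⊤) := IsScalarTower.of_algebraMap_smul fun a m => rfl
  haveI : Module.Finite R Γ(X, ⊤) :=
    finite_sections f (Coh.structureModule X) Crv77.isCoh_structureModule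
  haveI : Module.Finite R Γ(E, ⊤) :=
    finite_sections f E ⟨isQuasicoherent_of_isFinLocFree hE, isFiniteType_of_isFinLocFree hE⟩
  have hpow : ∀ k : ℕ, algebraMap R Γ(X, ⊤) (ϖ ^ k) = par f ϖ ^ k := fun k => map_pow _ _ _
  have hsmul : ∀ (k : ℕ) (m : Γ(E, ⊤)), ϖ ^ k • m = par f ϖ ^ k • m := fun k m => by
    rw [← hpow, algebraMap_smul]
  let Φ : (Fin r → Γ(Z, ⊤)) → Γ((Scheme.Modules.pullback i).obj E, ⊤) := fun a => ∑ l, a l • e l
  have hΦ : Function.Bijective Φ := by
    have h := he.bijective (le_refl (⊤ : Z.Opens))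
    simp only [QC70.res_self] at h
    exact h
  let Ψ := Equiv.ofBijective Φ hΦ
  have hΦadd : ∀ a b, Φ (a + b) = Φ a + Φ b := fun a b => by
    simp only [Φ, Pi.add_apply, add_smul, Finset.sum_add_distrib]
  let θ : Γ(E, ⊤) →+ (Fin r → Γ(Z, ⊤)) :=
    AddMonoidHom.mk' (fun s => Ψ.symm (pullS i E ⊤ s)) fun a b => hΦ.1 (by
      rw [hΦadd]
      show Ψ (Ψ.symm _) = Ψ (Ψ.symm _) + Ψ (Ψ.symm _)
      rw [Equiv.apply_symm_apply, Equiv.apply_symm_apply, Equiv.apply_symm_apply]
      exact Pinch99.pullS_add i E ⊤ a b)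
  have hθeq : ∀ s, Φ (θ s) = pullS i E ⊤ s := fun s => Ψ.apply_symm_apply _
  have hθ : ∀ (b : Γ(X, ⊤)) (m : Γ(E, ⊤)) (l : Fin r), θ (b • m) l = i.appTop b * θ m l := fun b m l => by
    have h : θ (b • m) = fun l => i.appTop b * θ m l := hΦ.1 (by
      rw [hθeq, Amp73.pullS_smul, ← hθeq]
      show i.appTop b • (∑ l, θ m l • e l : Γ((Scheme.Modules.pullback i).obj E, ⊤)) = _
      simp only [Φ, Finset.smul_sum, mul_smul])
    rw [h]
  obtain ⟨s, hs⟩ := FreeLattice.exists_pow_lift hϖ i.appTop.hom θ hθ hn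
    (fun k b hb => by
      rw [Algebra.smul_def, hpow] at hb ⊢
      have := hc ⊤ k b (by rw [resO_self]; exact hb)
      rwa [resO_self] at this)
    (by
      rw [hpow]
      have := LiftBound.app_par_pow ϖ f sq.w ⊤
      rwa [resO_self] at this)
    (fun q => by
      obtain ⟨b, hb⟩ := hlift q
      exact ⟨b, by rw [hpow]; exact hb⟩)
    (fun m hm => by
      obtain ⟨y, hy⟩ := UnifTorsion.exists_global_div i (by omega : c ≤ n) hc
        (fun V hV b hb => LiftBound.exists_div ϖ f sq V hV b hb) hE m (by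
          rw [← hθeq, hm]
          refine Finset.sum_eq_zero fun l _ => ?_
          rw [Pi.zero_apply, zero_smul]
          rfl)
      exact ⟨y, by rw [hsmul, hy]⟩)
    σ
    (fun a ha l => by
      have h0 : resO X le_top (a l) = (0 : Γ(X, X.basicOpen (par f ϖ))) := by
        refine TopCat.Presheaf.section_ext X.sheaf _ _ _ fun x hx => ?_
        have h1 : germComb σ x trivial (fun l => X.presheaf.germ ⊤ x trivial (a l)) = germComb σ x trivial 0 := by
          rw [← germ_comb σ (le_refl ⊤)]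
          simp only [QC70.res_self, ha, germComb, Pi.zero_apply, zero_smul, Finset.sum_const_zero]
          exact map_zero _
        have h2 := congrFun ((hσ x hx).1 h1) l
        show X.presheaf.germ _ x hx (resO X le_top (a l)) = X.presheaf.germ _ x hx 0
        rw [germ_resO, h2, map_zero]
        rfl
      haveI : QuasiSeparatedSpace X := quasiSeparatedSpace_of_quasiSeparated f
      haveI : (Coh.structureModule X).IsQuasicoherent := Crv77.isCoh_structureModule.1
      obtain ⟨k, hk⟩ := (QCqs72.isLocAt_of_qcqs (M := Coh.structureModule X) (U := ⊤) isCompact_univ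
        isQuasiSeparated_univ).eq_zero_of (par f ϖ) (toUnit (a l)) h0
      refine ⟨k, ?_⟩
      rw [Algebra.smul_def, hpow]
      exact hk)
    j
  refine ⟨s, ?_⟩
  rw [← hθeq]
  simp only [Φ, hs, hpow]
  rw [Finset.sum_eq_single j]
  · rw [if_pos rfl]
    exact congrArg (· • e j) (mul_one _)
  · intro l _ hl
    rw [if_neg hl]
    exact (congrArg (· • e l) (mul_zero _)).trans (zero_smul _ _)
  · exact fun h => absurd (Finset.mem_univ _) h

omit [IsDomain R] [IsDiscreteValuationRing R] [IsProper f] in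
/-- Lifts of a truncated basis with controlled congruence. -/
theorem exists_congr_lift {c C b n : ℕ} (hCb : C + b = n) (hcb : c ≤ b)
    (hc : ∀ (U : X.Opens) (k : ℕ) (x : Γ(X, U)),
        resO X le_top (par f ϖ) ^ k * x = 0 → resO X le_top (par f ϖ) ^ c * x = 0)
    {Z : Scheme.{u}} (i : Z ⟶ X) [IsClosedImmersion i] (f' : Z ⟶ Spec (CommRingCat.of (R ⧸ Ideal.span {ϖ ^ n})))
    (sq : IsPullback i f' f (Spec.map (CommRingCat.ofHom (Ideal.Quotient.mk (Ideal.span {ϖ ^ n})))))
    {E : X.Modules} (hE : FlatMod.IsFinLocFree E) (e : Γ((Scheme.Modules.pullback i).obj E, ⊤)) (s : Γ(E, ⊤))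
    (hs : pullS i E ⊤ s = i.appTop (par f ϖ ^ C) • e) :
    ∃ φ : Γ(E, ⊤), ∀ p : X, ∃ (V : X.Opens) (w : Γ((Scheme.Modules.pullback i).obj E, i ⁻¹ᵁ V)), p ∈ V ∧
      res _ (i.preimage_mono (le_top : V ≤ ⊤)) (pullS i E ⊤ φ) =
        res _ le_top e + i.app V (resO X le_top (par f ϖ) ^ b) • w := by
  have hker := fun V hV x hx => LiftBound.exists_div ϖ f sq V hV x hx
  let P : ∀ V : X.Opens, Γ(E, V) → Prop := fun V z =>
    resO X (le_top : V ≤ ⊤) (par f ϖ) ^ C • z = res E (le_top : V ≤ ⊤) s ∧
      ∃ q y : Γ(E, V), pullS i E V q = res _ (le_top : i ⁻¹ᵁ V ≤ ⊤) e ∧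
        z = q + resO X (le_top : V ≤ ⊤) (par f ϖ) ^ b • y
  have hp : ∀ (V : X.Opens) (k : ℕ), i.app V (resO X (le_top : V ≤ ⊤) (par f ϖ) ^ k) =
      resO Z (le_top : i ⁻¹ᵁ V ≤ ⊤) (i.appTop (par f ϖ ^ k)) := fun V k => by
    rw [← resO_pow]
    exact QCqs72.app_resO i (le_top : V ≤ ⊤) _
  have hres : ∀ (V : X.Opens), res ((Scheme.Modules.pullback i).obj E) (i.preimage_mono (le_top : V ≤ ⊤))
      (i.appTop (par f ϖ ^ C) • e) =
        i.app V (resO X (le_top : V ≤ ⊤) (par f ϖ) ^ C) • res _ (le_top : i ⁻¹ᵁ V ≤ ⊤) e := fun V => by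
    rw [hp]
    exact res_smul (M := (Scheme.Modules.pullback i).obj E) (le_top : i ⁻¹ᵁ V ≤ (⊤ : Z.Opens)) _ e
  obtain ⟨φ, hφ⟩ := UnifTorsion.exists_glue E P
    (fun p => by
      obtain ⟨V, hV, q, hpV, hq⟩ := UnifTorsion.exists_local_lift i hE (U := ⊤) e (trivial : p ∈ (⊤ : X.Opens))
      have h0 : pullS i E V (res E hV s - resO X (le_top : V ≤ ⊤) (par f ϖ) ^ C • q) = 0 := by
        refine (map_sub _ _ _).trans (sub_eq_zero.2 ?_)
        show pullS i E V (res E hV s) = pullS i E V _
        rw [Amp73.pullS_smul, hq, ← Pinch99.pullS_res i E hV, hs, hres]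
        rfl
      obtain ⟨V', hV', y, hpV', hy⟩ := UnifTorsion.exists_local_div i hker hE _ h0 hpV
      refine ⟨V', res E hV' q + resO X (le_top : V' ≤ ⊤) (par f ϖ) ^ b • y, hpV', ?_, res E hV' q, y, ?_, rfl⟩
      · rw [smul_add, smul_smul, ← pow_add, hCb, hy, res_sub, res_pow_smul, resO_resO, res_res]
        abel
      · rw [← Pinch99.pullS_res i E hV', hq, res_res]
        rfl)
    (fun V W h z hz => by
      obtain ⟨h1, q, y, hq, rfl⟩ := hz
      refine ⟨?_, res E h q, res E h y, ?_, ?_⟩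
      · have := congrArg (res E h) h1
        rwa [res_pow_smul, resO_resO, res_res] at this
      · rw [← Pinch99.pullS_res i E h, hq, res_res]
      · rw [QC70.res_add, res_pow_smul, resO_resO])
    (fun V z z' hz hz' => by
      obtain ⟨h1, q, y, hq, rfl⟩ := hz
      obtain ⟨h1', q', y', hq', rfl⟩ := hz'
      refine QC70.section_ext E _ _ fun p hp' => ?_
      obtain ⟨V', hV', w, hpV', hw⟩ := UnifTorsion.exists_local_div i hker hE (q - q')
        ((map_sub _ q q').trans (sub_eq_zero.2 (hq.trans hq'.symm))) hp'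
      refine ⟨V', hV', hpV', sub_eq_zero.1 ?_⟩
      set t : Γ(X, V') := resO X (le_top : V' ≤ ⊤) (par f ϖ) with ht
      have key : res E hV' (q + resO X (le_top : V ≤ ⊤) (par f ϖ) ^ b • y) -
          res E hV' (q' + resO X (le_top : V ≤ ⊤) (par f ϖ) ^ b • y') =
            t ^ b • (t ^ C • w + (res E hV' y - res E hV' y')) := by
        rw [smul_add, smul_smul, ← pow_add, show b + C = n by omega, hw, smul_sub, QC70.res_add, QC70.res_add, res_sub,
          res_pow_smul, res_pow_smul, resO_resO]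
        abel
      have h2 := congrArg (fun z => t ^ C • z) key
      simp only [smul_sub, smul_smul, ← pow_add, hCb] at h2
      have e1 := congrArg (res E hV') h1
      have e2 := congrArg (res E hV') h1'
      rw [res_pow_smul, resO_resO, res_res, ← ht] at e1 e2
      rw [e1, e2, sub_self] at h2
      have h3 := UnifTorsion.bound_module hc hE V' n _ h2.symm
      rw [← ht] at h3
      rw [key, ← Nat.sub_add_cancel hcb, pow_add, mul_smul, h3, smul_zero])
  refine ⟨φ, fun p => ?_⟩
  obtain ⟨V, hpV, -, q, y, hq, hz⟩ := hφ p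
  refine ⟨V, pullS i E V y, hpV, ?_⟩
  rw [Pinch99.pullS_res i E (le_top : V ≤ ⊤), hz, Pinch99.pullS_add, Amp73.pullS_smul, hq]

end Groth.Agent.FlatMor67.FreeFromTrunc
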