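import Mathlib.RingTheory.DiscreteValuationRing.Basic
import Mathlib.RingTheory.PrincipalIdealDomain
import Mathlib.LinearAlgebra.Matrix.ToLinearEquiv
import Mathlib.LinearAlgebra.FreeModule.PID
import Mathlib.LinearAlgebra.Matrix.Adjugate
import Mathlib.Algebra.Module.Torsion.Basic

/-! Lifting vectors from a truncation of a lattice over a discrete valuation ring, up to a bounded power of the
uniformizer. -/

set_option autoImplicit false

open Matrix

namespace Groth.Agent.FlatMor67.FreeLattice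

variable {R : Type*} [CommRing R] [IsDomain R] [IsDiscreteValuationRing R] {ϖ : R}

/-- Nonzero torsion is killed by powers of the uniformizer. -/
theorem exists_pow_smul_eq_zero {M : Type*} [AddCommGroup M] [Module R M] (hϖ : Irreducible ϖ) {m : M}
    (hm : m ∈ Submodule.torsion R M) : ∃ k : ℕ, ϖ ^ k • m = 0 := by
  obtain ⟨⟨a, ha⟩, ham⟩ := hm
  obtain ⟨k, u, rfl⟩ := IsDiscreteValuationRing.eq_unit_mul_pow_irreducible (nonZeroDivisors.ne_zero ha) hϖ
  refine ⟨k, ?_⟩
  have h : ((u : R) * ϖ ^ k) • m = 0 := ham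
  rw [mul_smul] at h
  exact (u.isUnit.smul_eq_zero).1 h

omit [IsDiscreteValuationRing R] in
theorem mem_torsion_of_pow (hϖ : Irreducible ϖ) {M : Type*} [AddCommGroup M] [Module R M] {m : M} {k : ℕ}
    (h : ϖ ^ k • m = 0) : m ∈ Submodule.torsion R M :=
  ⟨⟨ϖ ^ k, mem_nonZeroDivisors_of_ne_zero (pow_ne_zero k hϖ.ne_zero)⟩, h⟩

/-- A square matrix injective modulo a bounded power of the uniformizer has image containing that power. -/
theorem exists_mulVec_eq {ι : Type*} [Fintype ι] (hϖ : Irreducible ϖ) (A : Matrix ι ι R) {C k : ℕ} (hk : C < k)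
    (hA : ∀ x : ι → R, (∀ i, ϖ ^ k ∣ (A *ᵥ x) i) → ∀ i, ϖ ^ (k - C) ∣ x i) (y : ι → R) :
    ∃ x, A *ᵥ x = ϖ ^ C • y := by
  classical
  have hstep : ∀ z : ι → R, (∀ i, ϖ ^ (C + 1) ∣ (A *ᵥ z) i) → ∃ z', z = ϖ • z' := by
    intro z hz
    have h : ∀ i, ϖ ^ k ∣ (A *ᵥ (ϖ ^ (k - (C + 1)) • z)) i := fun i => by
      rw [mulVec_smul, Pi.smul_apply, smul_eq_mul]
      exact (pow_dvd_pow ϖ (by omega)).trans (pow_add ϖ (k - (C + 1)) (C + 1) ▸ mul_dvd_mul_left _ (hz i))
    have h' : ∀ i, ϖ ∣ z i := fun i => by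
      have := hA _ h i
      rw [Pi.smul_apply, smul_eq_mul, show k - C = (k - (C + 1)) + 1 by omega, pow_add, pow_one] at this
      exact (mul_dvd_mul_iff_left (pow_ne_zero _ hϖ.ne_zero)).1 this
    choose z' hz' using h'
    exact ⟨z', funext fun i => hz' i⟩
  have hdet : A.det ≠ 0 := by
    intro h0
    obtain ⟨x, hx, hAx⟩ := exists_mulVec_eq_zero_iff.2 h0
    obtain ⟨i, hi⟩ := Function.ne_iff.1 hx
    have hdvd : ∀ (j : ℕ) (x : ι → R), A *ᵥ x = 0 → ∀ i, ϖ ^ j ∣ x i := by
      intro j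
      induction j with
      | zero => intros; simp
      | succ j ih =>
        intro x hx i
        obtain ⟨x', rfl⟩ := hstep x fun i => by rw [hx]; exact dvd_zero _
        rw [mulVec_smul] at hx
        have hx' : A *ᵥ x' = 0 := (smul_eq_zero.1 hx).resolve_left hϖ.ne_zero
        rw [pow_succ', Pi.smul_apply, smul_eq_mul]
        exact mul_dvd_mul_left ϖ (ih x' hx' i)
    obtain ⟨m, u, hu⟩ := IsDiscreteValuationRing.eq_unit_mul_pow_irreducible hi hϖ
    have := hdvd (m + 1) x hAx i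
    rw [hu, pow_succ, Units.dvd_mul_left] at this
    nth_rw 2 [← mul_one (ϖ ^ m)] at this
    exact hϖ.not_isUnit (isUnit_of_dvd_one ((mul_dvd_mul_iff_left (pow_ne_zero m hϖ.ne_zero)).1 this))
  obtain ⟨δ, u, hu⟩ := IsDiscreteValuationRing.eq_unit_mul_pow_irreducible hdet hϖ
  have hz : A *ᵥ ((↑u⁻¹ : R) • (A.adjugate *ᵥ y)) = ϖ ^ δ • y := by
    rw [mulVec_smul, mulVec_mulVec, mul_adjugate, smul_mulVec, one_mulVec, hu, smul_smul, Units.inv_mul_cancel_left]
  have key : ∀ (δ : ℕ) (z : ι → R), A *ᵥ z = ϖ ^ δ • y → ∃ x, A *ᵥ x = ϖ ^ C • y := by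
    intro δ
    induction δ with
    | zero => exact fun z hz => ⟨ϖ ^ C • z, by rw [mulVec_smul, hz, pow_zero, one_smul]⟩
    | succ δ ih =>
      intro z hz
      by_cases hδ : δ + 1 ≤ C
      · refine ⟨ϖ ^ (C - (δ + 1)) • z, ?_⟩
        rw [mulVec_smul, hz, smul_smul, ← pow_add]
        congr 2
        omega
      · obtain ⟨z', rfl⟩ := hstep z fun i => by
          rw [hz, Pi.smul_apply, smul_eq_mul]
          exact Dvd.dvd.mul_right (pow_dvd_pow ϖ (by omega)) _
        refine ih z' ?_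
        rw [mulVec_smul, pow_succ', mul_smul] at hz
        exact smul_right_injective _ hϖ.ne_zero hz
  exact key δ _ hz

variable {B M Q : Type*} [CommRing B] [Algebra R B] [Module.Finite R B] [AddCommGroup M] [Module R M] [Module B M]
  [IsScalarTower R B M] [Module.Finite R M] [CommRing Q]

/-- A bounded multiple of every unit vector of a truncation lifts. -/
theorem exists_pow_lift (hϖ : Irreducible ϖ) (η : B →+* Q) {r : ℕ} (θ : M →+ (Fin r → Q))
    (hθ : ∀ (b : B) (m : M) (i : Fin r), θ (b • m) i = η b * θ m i) {c τ n : ℕ} (hn : 2 * c + τ + 1 ≤ n)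
    (hB : ∀ (k : ℕ) (b : B), ϖ ^ k • b = 0 → ϖ ^ c • b = 0)
    (hπ : η (algebraMap R B (ϖ ^ n)) = 0) (hlift : ∀ q : Q, ∃ b, η b = η (algebraMap R B (ϖ ^ τ)) * q)
    (hker : ∀ m, θ m = 0 → ∃ y, m = ϖ ^ (n - c) • y) (σ : Fin r → M)
    (hσ : ∀ a : Fin r → B, ∑ i, a i • σ i = 0 → ∀ i, ∃ k : ℕ, ϖ ^ k • a i = 0) (i₀ : Fin r) :
    ∃ s, ∀ i, θ s i = η (algebraMap R B (ϖ ^ (2 * c + τ))) * (if i = i₀ then 1 else 0) := by
  classical
  have hs : ∀ (a : R) (m : M) (i : Fin r), θ (a • m) i = η (algebraMap R B a) * θ m i := fun a m i => by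
    rw [← hθ, algebraMap_smul]
  let TB := Submodule.torsion R B
  let TM := Submodule.torsion R M
  let bb := Module.Free.chooseBasis R (B ⧸ TB)
  let mm := Module.Free.chooseBasis R (M ⧸ TM)
  let cB : B →ₗ[R] (Module.Free.ChooseBasisIndex R (B ⧸ TB) → R) := bb.equivFun.toLinearMap ∘ₗ TB.mkQ
  have hcB : ∀ b, cB b = 0 → ϖ ^ c • b = 0 := fun b hb => by
    have h1 : TB.mkQ b = 0 := bb.equivFun.injective (hb.trans (map_zero _).symm)
    obtain ⟨k, hk⟩ := exists_pow_smul_eq_zero hϖ ((Submodule.Quotient.mk_eq_zero _).1 h1)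
    exact hB k b hk
  choose β hβ using fun j => TB.mkQ_surjective (bb j)
  choose v hv using fun l => TM.mkQ_surjective (mm l)
  have hβc : ∀ j, cB (β j) = Pi.single j 1 := fun j => by
    funext l
    show bb.equivFun (TB.mkQ (β j)) l = _
    rw [hβ, Module.Basis.equivFun_apply, Module.Basis.repr_self, Finsupp.single_eq_pi_single]
  have hcg : ∀ (g : Module.Free.ChooseBasisIndex R (B ⧸ TB) → R) j, cB (∑ l, g l • β l) j = g j := fun g j => by
    simp [map_sum, hβc, Finset.sum_apply, Pi.single_apply]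
  have hli : LinearIndependent R fun p : Fin r × Module.Free.ChooseBasisIndex R (B ⧸ TB) =>
      TM.mkQ (β p.2 • σ p.1) := by
    rw [Fintype.linearIndependent_iff]
    intro g hg
    have h1 : ∑ p, g p • (β p.2 • σ p.1) ∈ TM := by
      rw [← Submodule.Quotient.mk_eq_zero, ← Submodule.mkQ_apply, map_sum]
      simpa only [map_smul] using hg
    obtain ⟨k, hk⟩ := exists_pow_smul_eq_zero hϖ h1
    have h2 : ∑ i, (ϖ ^ k • ∑ j, g (i, j) • β j) • σ i = 0 := by
      rw [← hk, Fintype.sum_prod_type, Finset.smul_sum]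
      refine Finset.sum_congr rfl fun i _ => ?_
      rw [Finset.smul_sum, Finset.smul_sum, Finset.sum_smul]
      exact Finset.sum_congr rfl fun j _ => by rw [smul_assoc, smul_assoc]
    intro p
    obtain ⟨k', hk'⟩ := hσ _ h2 p.1
    have h3 : ∑ j, g (p.1, j) • β j ∈ TB := mem_torsion_of_pow hϖ (k := k' + k) (by rw [pow_add, mul_smul, hk'])
    have h4 : cB (∑ j, g (p.1, j) • β j) p.2 = 0 := by
      show bb.equivFun (TB.mkQ _) p.2 = 0
      rw [Submodule.mkQ_apply, (Submodule.Quotient.mk_eq_zero _).2 h3, map_zero, Pi.zero_apply]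
    rwa [hcg] at h4
  have hcard := hli.fintype_card_le_finrank
  rw [Module.finrank_eq_card_chooseBasisIndex] at hcard
  obtain ⟨e⟩ := Function.Embedding.nonempty_of_card_le hcard
  choose b hb using fun p i => hlift (θ (v (e p)) i)
  let A : Matrix (Fin r × Module.Free.ChooseBasisIndex R (B ⧸ TB))
      (Fin r × Module.Free.ChooseBasisIndex R (B ⧸ TB)) R := Matrix.of fun q p => cB (b p q.1) q.2
  let S : (Fin r × Module.Free.ChooseBasisIndex R (B ⧸ TB) → R) → M := fun x => ∑ p, x p • v (e p)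
  have hA : ∀ x q, (A *ᵥ x) q = cB (∑ p, x p • b p q.1) q.2 := fun x q => by
    rw [map_sum, Finset.sum_apply, Matrix.mulVec, dotProduct]
    exact Finset.sum_congr rfl fun p _ => by rw [map_smul, Pi.smul_apply, smul_eq_mul, mul_comm]; rfl
  have hSb : ∀ x i, η (∑ p, x p • b p i) = η (algebraMap R B (ϖ ^ τ)) * θ (S x) i := fun x i => by
    rw [map_sum, map_sum, Finset.sum_apply, Finset.mul_sum]
    refine Finset.sum_congr rfl fun p _ => ?_
    rw [Algebra.smul_def, map_mul, hb, hs]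
    ring
  obtain ⟨x, hx⟩ := exists_mulVec_eq hϖ A (C := c + τ) (k := n - c) (by omega) (fun x hx => by
    have h1 : ∀ i, θ (ϖ ^ (c + τ) • S x) i = 0 := fun i => by
      choose g hg using fun j => hx (i, j)
      have h2 : cB (∑ p, x p • b p i - ϖ ^ (n - c) • ∑ j, g j • β j) = 0 := by
        funext j
        rw [map_sub, map_smul, Pi.sub_apply, Pi.smul_apply, hcg, ← hA x (i, j), hg j, smul_eq_mul, sub_self,
          Pi.zero_apply]
      have h3 := congrArg η (hcB _ h2)
      rw [smul_sub, smul_smul, ← pow_add, map_sub, map_zero, Algebra.smul_def, Algebra.smul_def, map_mul, map_mul,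
        show c + (n - c) = n by omega, hπ, zero_mul, sub_zero, hSb, ← mul_assoc, ← map_mul, ← map_mul, ← pow_add]
        at h3
      rw [hs]
      exact h3
    obtain ⟨y, hy⟩ := hker _ (funext h1)
    have h4 : S x - ϖ ^ (n - c - (c + τ)) • y ∈ TM := mem_torsion_of_pow hϖ (k := c + τ) (by
      rw [smul_sub, hy, smul_smul, ← pow_add, show (c + τ) + (n - c - (c + τ)) = n - c by omega, sub_self])
    intro p
    refine ⟨mm.repr (TM.mkQ y) (e p), ?_⟩
    have h5 : TM.mkQ (S x) = ϖ ^ (n - c - (c + τ)) • TM.mkQ y := by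
      rw [← map_smul, ← sub_eq_zero, ← map_sub]
      exact (Submodule.Quotient.mk_eq_zero _).2 h4
    have h6 := congrArg (fun z => mm.repr z (e p)) h5
    simp only [S, map_sum, map_smul, hv, Module.Basis.repr_self, Finsupp.coe_finsetSum, Finset.sum_apply,
      Finsupp.smul_apply, smul_eq_mul] at h6
    rw [Finset.sum_eq_single p] at h6
    · rwa [Finsupp.single_eq_same, mul_one] at h6
    · intro l _ hl
      rw [Finsupp.single_eq_of_ne (fun h => hl (e.injective h).symm), mul_zero]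
    · exact fun h => absurd (Finset.mem_univ _) h) fun q => if q.1 = i₀ then cB 1 q.2 else 0
  refine ⟨ϖ ^ (c + τ - c) • ϖ ^ c • S x, fun i => ?_⟩
  have h7 : cB (∑ p, x p • b p i - ϖ ^ (c + τ) • algebraMap R B (if i = i₀ then 1 else 0)) = 0 := by
    funext j
    rw [map_sub, Pi.sub_apply, ← hA x (i, j), hx, map_smul, Pi.smul_apply, Pi.smul_apply, Pi.zero_apply]
    by_cases hi : i = i₀
    · simp [hi]
    · simp [hi]
  have h8 := congrArg η (hcB _ h7)
  rw [smul_sub, smul_smul, ← pow_add, map_sub, map_zero, sub_eq_zero, Algebra.smul_def, Algebra.smul_def, map_mul,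
    map_mul, hSb] at h8
  rw [smul_smul, ← pow_add, hs, show c + τ - c + c = c + τ by omega, show 2 * c + τ = c + (c + τ) by omega]
  calc η (algebraMap R B (ϖ ^ (c + τ))) * θ (S x) i
      = η (algebraMap R B (ϖ ^ c)) * (η (algebraMap R B (ϖ ^ τ)) * θ (S x) i) := by
        rw [pow_add, map_mul, map_mul, mul_assoc]
    _ = _ := h8
    _ = _ := by split <;> simp

end Groth.Agent.FlatMor67.FreeLattice
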