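import Mathlib.RingTheory.Extension.Cotangent.BaseChange
import Mathlib.RingTheory.Etale.Kaehler
import Mathlib.RingTheory.Extension.Generators

/-!
# Functoriality and localisation of `H^{-1}` of the naive cotangent complex
-/

universe u

open TensorProduct

namespace Groth.Agent.FlatMor67

variable {A A' A'' B B' B'' : Type u} [CommRing A] [CommRing A'] [CommRing A''] [CommRing B]
  [CommRing B'] [CommRing B'']

/-- the maps on `H1Cotangent` compose -/
lemma h1Map_comp [Algebra A A'] [Algebra A A''] [Algebra A' A'']
    [Algebra B B'] [Algebra B B''] [Algebra B' B''] [IsScalarTower B B' B'']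
    [Algebra A B] [Algebra A' B'] [Algebra A'' B'']
    [Algebra A B'] [IsScalarTower A A' B'] [IsScalarTower A B B']
    [Algebra A B''] [IsScalarTower A A'' B''] [IsScalarTower A B B'']
    [Algebra A' B''] [IsScalarTower A' A'' B''] [IsScalarTower A' B' B'']
    [IsScalarTower A A' A''] [IsScalarTower A A' B''] [IsScalarTower A B' B'']
    (x : Algebra.H1Cotangent A B) :
    Algebra.H1Cotangent.map A' A'' B' B'' (Algebra.H1Cotangent.map A A' B B' x) =
      Algebra.H1Cotangent.map A A'' B B'' x := by
  rw [Algebra.H1Cotangent.map, Algebra.H1Cotangent.map, Algebra.H1Cotangent.map,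
    ← Algebra.Extension.H1Cotangent.map_comp_apply, Algebra.Extension.H1Cotangent.map_eq]

/-- the identity square -/
lemma h1Map_id [Algebra A B] (x : Algebra.H1Cotangent A B) :
    Algebra.H1Cotangent.map A A B B x = x := by
  rw [Algebra.H1Cotangent.map,
    Algebra.Extension.H1Cotangent.map_eq _ (Algebra.Extension.Hom.id _),
    Algebra.Extension.H1Cotangent.map_id, LinearMap.id_apply]

/-- **Shrinking the base along a flat epimorphism does not change `H^{-1}`.** -/
lemma h1Map_base_bijective [Algebra A A'] [Module.Flat A A'] [Algebra A B] [Algebra A' B]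
    [IsScalarTower A A' B] [Algebra.IsPushout A A' B B] :
    Function.Bijective (Algebra.H1Cotangent.map A A' B B) := by
  classical
  let H := Algebra.H1Cotangent A B
  let φ := Algebra.IsPushout.equiv A A' B B
  have hcomm : ∀ a' : A', a' ⊗ₜ[A] (1 : B) = (1 : A') ⊗ₜ[A] algebraMap A' B a' := fun a' =>
    φ.injective (by simp [φ, Algebra.IsPushout.equiv_tmul])
  have hmk : ∀ z : A' ⊗[A] H, ∃ x : H, (1 : A') ⊗ₜ[A] x = z := by
    intro z
    induction z with
    | zero => exact ⟨0, TensorProduct.tmul_zero _ _⟩
    | add a b ha hb =>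
      obtain ⟨a, rfl⟩ := ha
      obtain ⟨b, rfl⟩ := hb
      exact ⟨a + b, TensorProduct.tmul_add _ _ _⟩
    | tmul a' x =>
      refine ⟨algebraMap A' B a' • x, ?_⟩
      have h := congrArg ((LinearMap.toSpanSingleton B H x).restrictScalars A |>.lTensor A') (hcomm a')
      simpa using h.symm
  have hinj : Function.Injective fun x : H => (1 : A') ⊗ₜ[A] x := by
    intro x y h
    have : IsScalarTower A A' H := IsScalarTower.of_algebraMap_smul fun a z => by
      rw [← algebraMap_smul B (algebraMap A A' a) z, ← IsScalarTower.algebraMap_apply,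
        algebraMap_smul]
    have := congrArg ((LinearMap.id : H →ₗ[A] H).liftBaseChange A') h
    simpa using this
  let e : (A' ⊗[A] B) ≃ₐ[A'] B := φ.restrictScalars A'
  let : Algebra (A' ⊗[A] B) B := e.toRingHom.toAlgebra
  let : Algebra B (A' ⊗[A] B) := Algebra.TensorProduct.rightAlgebra
  have : IsScalarTower A' (A' ⊗[A] B) B := IsScalarTower.of_algebraMap_eq' e.toAlgHom.comp_algebraMap.symm
  have : IsScalarTower B (A' ⊗[A] B) B := IsScalarTower.of_algebraMap_eq fun b => by
    show b = φ (1 ⊗ₜ b)
    simp [φ, Algebra.IsPushout.equiv_tmul]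
  have : IsScalarTower A (A' ⊗[A] B) B := IsScalarTower.of_algebraMap_eq fun a => by
    rw [IsScalarTower.algebraMap_apply A A' (A' ⊗[A] B), ← IsScalarTower.algebraMap_apply A' (A' ⊗[A] B) B,
      ← IsScalarTower.algebraMap_apply A A' B]
  have key : ∀ x : H, Algebra.H1Cotangent.map A A' B B x =
      Algebra.H1Cotangent.mapEquiv A' (A' ⊗[A] B) B e (Algebra.tensorH1CotangentOfFlat A B A' (1 ⊗ₜ x)) := by
    intro x
    rw [Algebra.tensorH1CotangentOfFlat_tmul, one_smul]
    exact (h1Map_comp (A := A) (A' := A') (A'' := A') (B := B) (B' := A' ⊗[A] B) (B'' := B) x).symm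
  rw [show (Algebra.H1Cotangent.map A A' B B : H → _) = _ from funext key]
  exact (Algebra.H1Cotangent.mapEquiv A' (A' ⊗[A] B) B e).bijective.comp
    ((Algebra.tensorH1CotangentOfFlat A B A').bijective.comp ⟨hinj, hmk⟩)

/-- localisation on the source, for any presentation of the identity of the base -/
lemma h1Map_isLocalizedModule [Algebra A B] (i : Algebra A A) (hi : i = Algebra.id A) [Algebra A B']
    [Algebra B B'] [it : @IsScalarTower A A B' i.toSMul _ _] [IsScalarTower A B B'] (M : Submonoid B)
    [IsLocalization M B'] : IsLocalizedModule M (Algebra.H1Cotangent.map A A B B') := by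
  subst hi
  infer_instance

/-- change of base, for any presentation of the identity of the source -/
lemma h1Map_base_bijective' [Algebra A A'] [Module.Flat A A'] [Algebra A B] [Algebra A' B]
    [IsScalarTower A A' B] [Algebra.IsPushout A A' B B] (j : Algebra B B) (hj : j = Algebra.id B)
    [jt : @IsScalarTower A B B _ j.toSMul _] : Function.Bijective (Algebra.H1Cotangent.map A A' B B) := by
  subst hj
  exact h1Map_base_bijective

/-- the identity square, for any presentations of the identities -/
lemma h1Map_id' [Algebra A B] (i : Algebra A A) (hi : i = Algebra.id A) [it : @IsScalarTower A A B i.toSMul _ _]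
    (j : Algebra B B) (hj : j = Algebra.id B) [jt : @IsScalarTower A B B _ j.toSMul _] (x : Algebra.H1Cotangent A B) :
    Algebra.H1Cotangent.map A A B B x = x := by
  subst hi hj
  exact h1Map_id x

end Groth.Agent.FlatMor67
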