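import Groth.Agent.FlatMor67.H1Algebra
import Groth.Prelude.Def_SheafNL
import Mathlib.AlgebraicGeometry.Morphisms.Flat

/-!
# The modules `H^{-1}(NL)` of affine chart pairs: functoriality, localisation, change of base chart
-/

universe u

open CategoryTheory Limits AlgebraicGeometry Opposite

namespace Groth.Agent.FlatMor67

variable {X Y : Scheme.{u}} (f : X ⟶ Y)

/-- An affine chart pair of `f`. -/
structure ChartPair : Type u where
  /-- the source chart -/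
  U : X.affineOpens
  /-- the target chart -/
  V : Y.affineOpens
  e : (U : X.Opens) ≤ f ⁻¹ᵁ (V : Y.Opens)

namespace ChartPair

variable {f}

/-- nesting of chart pairs -/
instance : Preorder (ChartPair f) where
  le q p := (q.U : X.Opens) ≤ p.U ∧ (q.V : Y.Opens) ≤ p.V
  le_refl p := ⟨le_rfl, le_rfl⟩
  le_trans _ _ _ h h' := ⟨h.1.trans h'.1, h.2.trans h'.2⟩

/-- `H^{-1}` of a chart pair -/
abbrev H1 (p : ChartPair f) : Type u := NLCx.ChartH1 f p.U p.V p.e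

variable {p q r : ChartPair f}

/-- restriction -/
noncomputable def res (h : q ≤ p) : p.H1 →+ q.H1 := NLCx.chartRes p.e q.e h.1 h.2

lemma tower {A B C : CommRingCat.{u}} {φ : A ⟶ B} {ψ : B ⟶ C} {χ : A ⟶ C} (h : φ ≫ ψ = χ) :
    χ.hom = ψ.hom.comp φ.hom := by
  rw [← h]
  rfl

lemma map_id_algebra (Z : Scheme.{u}) (W : Z.Opens) :
    (Z.presheaf.map (homOfLE (le_refl W)).op).hom.toAlgebra = Algebra.id Γ(Z, W) :=
  Algebra.algebra_ext _ _ fun a => by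
    show Z.presheaf.map (homOfLE (le_refl W)).op a = a
    rw [show (homOfLE (le_refl W)).op = 𝟙 (op W) from Subsingleton.elim _ _, Z.presheaf.map_id]
    rfl

lemma res_smul (h : q ≤ p) (a : Γ(X, p.U.1)) (x : p.H1) :
    res h (a • x) = X.presheaf.map (homOfLE h.1).op a • res h x := by
  let := (f.appLE p.V p.U p.e).hom.toAlgebra
  let := (f.appLE q.V q.U q.e).hom.toAlgebra
  let := (f.appLE p.V q.U (h.1.trans p.e)).hom.toAlgebra
  let := (X.presheaf.map (homOfLE h.1).op).hom.toAlgebra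
  let := (Y.presheaf.map (homOfLE h.2).op).hom.toAlgebra
  have : IsScalarTower Γ(Y, p.V.1) Γ(Y, q.V.1) Γ(X, q.U.1) :=
    IsScalarTower.of_algebraMap_eq' (tower (Scheme.Hom.map_appLE f q.e (homOfLE h.2).op))
  have : IsScalarTower Γ(Y, p.V.1) Γ(X, p.U.1) Γ(X, q.U.1) :=
    IsScalarTower.of_algebraMap_eq' (tower (Scheme.Hom.appLE_map f p.e (homOfLE h.1).op))
  exact (Algebra.H1Cotangent.map Γ(Y, p.V.1) Γ(Y, q.V.1) Γ(X, p.U.1) Γ(X, q.U.1)).map_smul a x |>.trans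
    (algebraMap_smul Γ(X, q.U.1) a _).symm

lemma res_refl (x : p.H1) : res (le_refl p) x = x := by
  let := (f.appLE p.V p.U p.e).hom.toAlgebra
  let j : Algebra Γ(X, p.U.1) Γ(X, p.U.1) := (X.presheaf.map (homOfLE (le_refl p.U.1)).op).hom.toAlgebra
  let i : Algebra Γ(Y, p.V.1) Γ(Y, p.V.1) := (Y.presheaf.map (homOfLE (le_refl p.V.1)).op).hom.toAlgebra
  have : @IsScalarTower Γ(Y, p.V.1) Γ(Y, p.V.1) Γ(X, p.U.1) i.toSMul _ _ :=
    IsScalarTower.of_algebraMap_eq' (tower (Scheme.Hom.map_appLE f p.e (homOfLE (le_refl p.V.1)).op))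
  have : @IsScalarTower Γ(Y, p.V.1) Γ(X, p.U.1) Γ(X, p.U.1) _ j.toSMul _ :=
    IsScalarTower.of_algebraMap_eq' (tower (Scheme.Hom.appLE_map f p.e (homOfLE (le_refl p.U.1)).op))
  exact h1Map_id' i (map_id_algebra Y p.V.1) j (map_id_algebra X p.U.1) x

lemma res_res (h : q ≤ p) (h' : r ≤ q) (x : p.H1) : res h' (res h x) = res (h'.trans h) x := by
  let := (f.appLE p.V p.U p.e).hom.toAlgebra
  let := (f.appLE q.V q.U q.e).hom.toAlgebra
  let := (f.appLE r.V r.U r.e).hom.toAlgebra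
  let := (f.appLE p.V q.U (h.1.trans p.e)).hom.toAlgebra
  let := (f.appLE p.V r.U ((h'.trans h).1.trans p.e)).hom.toAlgebra
  let := (f.appLE q.V r.U (h'.1.trans q.e)).hom.toAlgebra
  let := (X.presheaf.map (homOfLE h.1).op).hom.toAlgebra
  let := (X.presheaf.map (homOfLE h'.1).op).hom.toAlgebra
  let := (X.presheaf.map (homOfLE (h'.trans h).1).op).hom.toAlgebra
  let := (Y.presheaf.map (homOfLE h.2).op).hom.toAlgebra
  let := (Y.presheaf.map (homOfLE h'.2).op).hom.toAlgebra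
  let := (Y.presheaf.map (homOfLE (h'.trans h).2).op).hom.toAlgebra
  have : IsScalarTower Γ(X, p.U.1) Γ(X, q.U.1) Γ(X, r.U.1) :=
    IsScalarTower.of_algebraMap_eq' (tower (by rw [← Functor.map_comp]; rfl))
  have : IsScalarTower Γ(Y, p.V.1) Γ(Y, q.V.1) Γ(Y, r.V.1) :=
    IsScalarTower.of_algebraMap_eq' (tower (by rw [← Functor.map_comp]; rfl))
  have : IsScalarTower Γ(Y, p.V.1) Γ(Y, q.V.1) Γ(X, q.U.1) :=
    IsScalarTower.of_algebraMap_eq' (tower (Scheme.Hom.map_appLE f q.e (homOfLE h.2).op))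
  have : IsScalarTower Γ(Y, p.V.1) Γ(X, p.U.1) Γ(X, q.U.1) :=
    IsScalarTower.of_algebraMap_eq' (tower (Scheme.Hom.appLE_map f p.e (homOfLE h.1).op))
  have : IsScalarTower Γ(Y, p.V.1) Γ(Y, r.V.1) Γ(X, r.U.1) :=
    IsScalarTower.of_algebraMap_eq' (tower (Scheme.Hom.map_appLE f r.e (homOfLE (h'.trans h).2).op))
  have : IsScalarTower Γ(Y, p.V.1) Γ(X, p.U.1) Γ(X, r.U.1) :=
    IsScalarTower.of_algebraMap_eq' (tower (Scheme.Hom.appLE_map f p.e (homOfLE (h'.trans h).1).op))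
  have : IsScalarTower Γ(Y, q.V.1) Γ(Y, r.V.1) Γ(X, r.U.1) :=
    IsScalarTower.of_algebraMap_eq' (tower (Scheme.Hom.map_appLE f r.e (homOfLE h'.2).op))
  have : IsScalarTower Γ(Y, q.V.1) Γ(X, q.U.1) Γ(X, r.U.1) :=
    IsScalarTower.of_algebraMap_eq' (tower (Scheme.Hom.appLE_map f q.e (homOfLE h'.1).op))
  have : IsScalarTower Γ(Y, p.V.1) Γ(Y, q.V.1) Γ(X, r.U.1) :=
    IsScalarTower.of_algebraMap_eq' (tower (Scheme.Hom.map_appLE f (h'.1.trans q.e) (homOfLE h.2).op))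
  have : IsScalarTower Γ(Y, p.V.1) Γ(X, q.U.1) Γ(X, r.U.1) :=
    IsScalarTower.of_algebraMap_eq' (tower (Scheme.Hom.appLE_map f (h.1.trans p.e) (homOfLE h'.1).op))
  exact h1Map_comp x

lemma res_self (h : p ≤ p) (x : p.H1) : res h x = x := res_refl x

/-- localisation on the source -/
lemma res_isLocalized (h : q ≤ p) (hV : q.V = p.V) (a : Γ(X, p.U.1))
    (hU : q.U.1 = X.basicOpen a) :
    (∀ y : q.H1, ∃ (n : ℕ) (x : p.H1), res h x = X.presheaf.map (homOfLE h.1).op (a ^ n) • y) ∧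
      ∀ x : p.H1, res h x = 0 → ∃ n : ℕ, a ^ n • x = 0 := by
  obtain ⟨⟨U, hUa⟩, V, e⟩ := q
  obtain rfl : V = p.V := hV
  obtain rfl : U = X.basicOpen a := hU
  let := (f.appLE p.V p.U p.e).hom.toAlgebra
  let := (f.appLE p.V (X.basicOpen a) e).hom.toAlgebra
  let := (X.presheaf.map (homOfLE h.1).op).hom.toAlgebra
  let i : Algebra Γ(Y, p.V.1) Γ(Y, p.V.1) := (Y.presheaf.map (homOfLE h.2).op).hom.toAlgebra
  have : IsScalarTower Γ(Y, p.V.1) Γ(X, p.U.1) Γ(X, X.basicOpen a) :=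
    IsScalarTower.of_algebraMap_eq' (tower (Scheme.Hom.appLE_map f p.e (homOfLE h.1).op))
  have : @IsScalarTower Γ(Y, p.V.1) Γ(Y, p.V.1) Γ(X, X.basicOpen a) i.toSMul _ _ :=
    IsScalarTower.of_algebraMap_eq' (tower (Scheme.Hom.map_appLE f e (homOfLE h.2).op))
  have : IsLocalization.Away a Γ(X, X.basicOpen a) := p.U.2.isLocalization_basicOpen a
  have hloc := h1Map_isLocalizedModule (B := Γ(X, p.U.1)) (B' := Γ(X, X.basicOpen a)) i
    (map_id_algebra Y p.V.1) (Submonoid.powers a)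
  refine ⟨fun y => ?_, fun x hx => ?_⟩
  · obtain ⟨⟨x, ⟨_, n, rfl⟩⟩, hx⟩ := hloc.surj y
    exact ⟨n, x, hx.symm.trans ((algebraMap_smul Γ(X, X.basicOpen a) (a ^ n) y).symm)⟩
  · obtain ⟨⟨_, n, rfl⟩, hn⟩ := (IsLocalizedModule.eq_zero_iff (Submonoid.powers a)
      (Algebra.H1Cotangent.map Γ(Y, p.V.1) Γ(Y, p.V.1) Γ(X, p.U.1) Γ(X, X.basicOpen a))).1 hx
    exact ⟨n, hn⟩

/-- change of the target chart -/
lemma res_base_bijective (h : q ≤ p) (hU : q.U = p.U) : Function.Bijective (res h) := by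
  obtain ⟨U, V, e⟩ := q
  obtain rfl : U = p.U := hU
  let := (f.appLE p.V p.U p.e).hom.toAlgebra
  let := (f.appLE V p.U e).hom.toAlgebra
  let := (Y.presheaf.map (homOfLE h.2).op).hom.toAlgebra
  have hT : IsScalarTower Γ(Y, p.V.1) Γ(Y, V.1) Γ(X, p.U.1) :=
    IsScalarTower.of_algebraMap_eq' (tower (Scheme.Hom.map_appLE f e (homOfLE h.2).op))
  have hid : ∀ {Z : Scheme.{u}} {W W' : Z.Opens} (e : W' ≤ W),
      (𝟙 Z : Z ⟶ Z).appLE W W' e = Z.presheaf.map (homOfLE e).op := fun {Z W W'} e => by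
    rw [Scheme.Hom.appLE, Scheme.Hom.id_app]
    exact Category.id_comp _
  have hres := hid (Z := Y) h.2
  have : Module.Flat Γ(Y, p.V.1) Γ(Y, V.1) := by
    have h3 := Flat.flat_appLE (𝟙 Y) p.V.2 V.2 h.2
    rw [hres] at h3
    exact h3
  have : Algebra.IsPushout Γ(Y, p.V.1) Γ(Y, V.1) Γ(X, p.U.1) Γ(X, p.U.1) := by
    have hUY : (p.U.1 : X.Opens) = (𝟙 X : X ⟶ X) ⁻¹ᵁ p.U.1 ⊓ f ⁻¹ᵁ V.1 :=
      (inf_eq_left.2 e).symm
    have h4 := (isIso_pushoutSection_iff (g := 𝟙 X) (iY := f) (iX := f) (f := 𝟙 Y)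
      (IsPullback.of_horiz_isIso ⟨by simp⟩) (US := p.V.1) (UT := V.1) (UX := p.U.1) h.2 p.e hUY).1
      (isIso_pushoutSection_of_isAffineOpen (g := 𝟙 X) (iY := f) (iX := f) (f := 𝟙 Y)
        (IsPullback.of_horiz_isIso ⟨by simp⟩) (US := p.V.1) (UT := V.1) (UX := p.U.1) h.2 p.e hUY
        p.V.2 V.2 p.U.2)
    rw [hres, hid (Z := X) (le_refl p.U.1), show (homOfLE (le_refl p.U.1)).op = 𝟙 (op p.U.1) from Subsingleton.elim _ _, X.presheaf.map_id] at h4
    have h5 : IsPushout (CommRingCat.ofHom (algebraMap Γ(Y, p.V.1) Γ(Y, V.1)))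
        (CommRingCat.ofHom (algebraMap Γ(Y, p.V.1) Γ(X, p.U.1)))
        (CommRingCat.ofHom (algebraMap Γ(Y, V.1) Γ(X, p.U.1)))
        (CommRingCat.ofHom (algebraMap Γ(X, p.U.1) Γ(X, p.U.1))) := h4.flip
    exact CommRingCat.isPushout_iff_isPushout.1 h5
  let j : Algebra Γ(X, p.U.1) Γ(X, p.U.1) := (X.presheaf.map (homOfLE h.1).op).hom.toAlgebra
  have : @IsScalarTower Γ(Y, p.V.1) Γ(X, p.U.1) Γ(X, p.U.1) _ j.toSMul _ :=
    IsScalarTower.of_algebraMap_eq' (tower (Scheme.Hom.appLE_map f p.e (homOfLE h.1).op))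
  exact h1Map_base_bijective' j (map_id_algebra X p.U.1)

end ChartPair

end Groth.Agent.FlatMor67
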