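import Groth.Agent.Lim60.FibreVan
import Groth.Agent.Coh69.FlatBC
import Groth.Agent.EGA73.Invertible
import Groth.Agent.Mero90.Frames
import Groth.Agent.QCPull72.Closed
import Groth.Agent.Crv77.HH

/-!
`H¹` of the structure sheaf of a fibre of dimension at most one.
-/

set_option autoImplicit false
set_option maxSynthPendingDepth 6
set_option synthInstance.maxHeartbeats 200000
set_option maxHeartbeats 800000
set_option linter.style.haveILetI false
set_option backward.isDefEq.respectTransparency.types false

universe u

noncomputable section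

open CategoryTheory CategoryTheory.Limits AlgebraicGeometry TopologicalSpace Opposite TensorProduct

namespace Groth.Agent.FlatMor67.H1Fibre

/-- The structure sheaf has the same cohomology on isomorphic schemes. -/
theorem subsingleton_of_iso {Z W : Scheme.{u}} (e : Z ≅ W) (n : ℕ)
    (h : Subsingleton (Coh.HH W (Coh.structureModule W) n)) : Subsingleton (Coh.HH Z (Coh.structureModule Z) n) := by
  let φ : Coh.structureModule W ⟶ (Scheme.Modules.pushforward e.hom).obj (Coh.structureModule Z) :=
    SheafOfModules.unitToPushforwardObjUnit e.hom.toRingCatSheafHom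
  haveI : IsIso φ := (Scheme.Modules.Hom.isIso_iff_isIso_app).2 fun U =>
    (ConcreteCategory.isIso_iff_bijective _).2 (ConcreteCategory.bijective_of_isIso (e.hom.app U))
  haveI := Mero90.isQCoh_of_isInvertible (EGA73.isInvertible_structureModule (X := Z))
  haveI := ValVan29.subsingleton_hh_of_iso (asIso φ) n h
  obtain ⟨η⟩ := Coh69.nonempty_hh_push e.hom (Coh.structureModule Z) n
  exact η.toEquiv.subsingleton

/-- Flat base change for the structure sheaf. -/
theorem nonempty_flat {A B : Type u} [CommRing A] [CommRing B] [Algebra A B] [Module.Flat A B] {X X' : Scheme.{u}}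
    [X.Over (Spec (CommRingCat.of A))] [CompactSpace X] [QuasiSeparatedSpace X]
    [X'.Over (Spec (CommRingCat.of B))] (g : X' ⟶ X)
    (sq : IsPullback g (X' ↘ Spec (CommRingCat.of B)) (X ↘ Spec (CommRingCat.of A))
      (Spec.map (CommRingCat.ofHom (algebraMap A B)))) (p : ℕ) :
    Nonempty (B ⊗[A] Coh.HH X (Coh.structureModule X) p ≃ₗ[B] Coh.HH X' (Coh.structureModule X') p) := by
  haveI := Mero90.isQCoh_of_isInvertible (EGA73.isInvertible_structureModule (X := X))
  obtain ⟨e⟩ := Coh69.FlatBC.nonempty_hh_flat (X ↘ Spec (CommRingCat.of A)) (X' ↘ Spec (CommRingCat.of B)) g sq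
    (Coh.structureModule X) rfl rfl p
  exact ⟨e.trans (Crv77.hEquiv B (PicLoc.pullbackStructureIso g) p)⟩

/-- With fibres of dimension at most one, vanishing passes to closed subschemes. -/
theorem subsingleton_closed {A : CommRingCat.{u}} {X Z : Scheme.{u}} (f : X ⟶ Spec A) [IsProper f]
    (hd : ∀ y, topologicalKrullDim ↥(f.fiber y) ≤ (1 : ℕ)) (i : Z ⟶ X) [IsClosedImmersion i]
    (h : Subsingleton (Coh.HH X (Coh.structureModule X) 1)) :
    Subsingleton (Coh.HH Z (Coh.structureModule Z) 1) := by
  letI : X.Over (Spec (CommRingCat.of A)) := ⟨f⟩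
  haveI := Mero90.isQCoh_of_isInvertible (EGA73.isInvertible_structureModule (X := X))
  haveI := Mero90.isQCoh_of_isInvertible (EGA73.isInvertible_structureModule (X := Z))
  haveI := QCPull72.epi_pullUnit i (Coh.structureModule X)
  haveI := QCPull72.isQuasicoherent_pullback i (Coh.structureModule X)
  let N := (Scheme.Modules.pushforward i).obj ((Scheme.Modules.pullback i).obj (Coh.structureModule X))
  haveI : N.IsQuasicoherent := QCqs72.isQuasicoherent_pushforward (M := (Scheme.Modules.pullback i).obj (Coh.structureModule X)) i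
  let S := ShortComplex.mk (kernel.ι (QCPull72.pullUnit i (Coh.structureModule X)))
    (QCPull72.pullUnit i (Coh.structureModule X)) (kernel.condition _)
  have hS : S.ShortExact := { exact := ShortComplex.exact_of_f_is_kernel _ (kernelIsKernel _) }
  haveI : (kernel (QCPull72.pullUnit i (Coh.structureModule X))).IsQuasicoherent := QC70.isQuasicoherent_kernel _
  have h2 := Lim60.subsingleton_hh_qcoh f hd (kernel (QCPull72.pullUnit i (Coh.structureModule X))) (p := 2) (by omega)
  haveI : Subsingleton (Coh.HH X N 1) := subsingleton_of_forall_eq 0 fun z => by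
    obtain ⟨x, rfl⟩ := (Crv77.exact_g_δ A hS 1 z).1 (h2.elim _ _)
    rw [h.elim x 0, map_zero]
  obtain ⟨η⟩ := Coh69.nonempty_hh_push i ((Scheme.Modules.pullback i).obj (Coh.structureModule X)) 1
  haveI : Subsingleton (Coh.HH Z ((Scheme.Modules.pullback i).obj (Coh.structureModule X)) 1) :=
    η.toEquiv.subsingleton
  exact ValVan29.subsingleton_hh_of_iso (PicLoc.pullbackStructureIso i) 1 inferInstance

/-- With fibres of dimension at most one, vanishing passes to the points of the base. -/
theorem subsingleton_point {A : CommRingCat.{u}} {X : Scheme.{u}} (f : X ⟶ Spec A) [IsProper f]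
    (hd : ∀ y, topologicalKrullDim ↥(f.fiber y) ≤ (1 : ℕ))
    (h : Subsingleton (Coh.HH X (Coh.structureModule X) 1)) (p : PrimeSpectrum A) :
    Subsingleton (Coh.HH (pullback f (Spec.map (CommRingCat.ofHom (algebraMap A p.asIdeal.ResidueField))))
      (Coh.structureModule (pullback f (Spec.map (CommRingCat.ofHom (algebraMap A p.asIdeal.ResidueField))))) 1) := by
  let R := (A : Type u) ⧸ p.asIdeal
  let K := p.asIdeal.ResidueField
  let t := Spec.map (CommRingCat.ofHom (algebraMap A R))
  haveI : IsClosedImmersion t := IsClosedImmersion.spec_of_surjective _ Ideal.Quotient.mk_surjective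
  let Z := pullback f t
  haveI : IsClosedImmersion (pullback.fst f t) := MorphismProperty.pullback_fst _ _ inferInstance
  haveI hZ := subsingleton_closed f hd (pullback.fst f t) h
  letI : Z.Over (Spec (CommRingCat.of R)) := ⟨pullback.snd f t⟩
  haveI : IsProper (pullback.snd f t) := MorphismProperty.pullback_snd _ _ inferInstance
  haveI : CompactSpace Z := QuasiCompact.compactSpace_of_compactSpace (pullback.snd f t)
  haveI : QuasiSeparatedSpace Z := quasiSeparatedSpace_of_quasiSeparated (pullback.snd f t)
  haveI : Module.Flat R K := IsLocalization.flat K (nonZeroDivisors R)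
  let v := Spec.map (CommRingCat.ofHom (algebraMap R K))
  letI : (pullback (pullback.snd f t) v).Over (Spec (CommRingCat.of K)) := ⟨pullback.snd _ _⟩
  obtain ⟨e⟩ := nonempty_flat (A := R) (B := K) (X := Z) (X' := pullback (pullback.snd f t) v) (pullback.fst _ _)
    (IsPullback.of_hasPullback _ _) 1
  refine subsingleton_of_iso (?_ : _ ≅ pullback (pullback.snd f t) v) 1 e.symm.toEquiv.subsingleton
  refine pullback.congrHom rfl ?_ ≪≫ (pullbackLeftPullbackSndIso f t v).symm
  rw [← Spec.map_comp, ← CommRingCat.ofHom_comp, ← IsScalarTower.algebraMap_eq]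

/-- Vanishing descends along extensions of the residue field. -/
theorem subsingleton_fibre_of_field {X Y : Scheme.{u}} (f : X ⟶ Y) [QuasiCompact f] [QuasiSeparated f]
    {K : Type u} [Field K] (g : Spec (CommRingCat.of K) ⟶ Y) (y : Y) (hy : g (IsLocalRing.closedPoint K) = y)
    (h : Subsingleton (Coh.HH (pullback f g) (Coh.structureModule (pullback f g)) 1)) :
    Subsingleton (Coh.HH (f.fiber y) (Coh.structureModule (f.fiber y)) 1) := by
  subst hy
  let y := g (IsLocalRing.closedPoint K)
  let φ : Y.residueField y ⟶ CommRingCat.of K := Y.descResidueField (Scheme.stalkClosedPointTo g)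
  have hg : Spec.map φ ≫ Y.fromSpecResidueField y = g :=
    Scheme.descResidueField_stalkClosedPointTo_fromSpecResidueField K Y g
  algebraize [φ.hom]
  let ψ := f.fiberToSpecResidueField y
  let _ : (f.fiber y).Over (Spec (CommRingCat.of (Y.residueField y))) := ⟨ψ⟩
  haveI : QuasiCompact ψ := MorphismProperty.pullback_snd _ _ inferInstance
  haveI : QuasiSeparated ψ := MorphismProperty.pullback_snd _ _ inferInstance
  haveI : CompactSpace (f.fiber y) := QuasiCompact.compactSpace_of_compactSpace ψ
  haveI : QuasiSeparatedSpace (f.fiber y) := quasiSeparatedSpace_of_quasiSeparated ψ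
  let X' := pullback ψ (Spec.map φ)
  let _ : X'.Over (Spec (CommRingCat.of K)) := ⟨pullback.snd _ _⟩
  obtain ⟨e⟩ := nonempty_flat (A := Y.residueField y) (B := K) (X := f.fiber y) (X' := X') (pullback.fst _ _)
    (IsPullback.of_hasPullback _ _) 1
  haveI : Subsingleton (Coh.HH X' (Coh.structureModule X') 1) :=
    subsingleton_of_iso (pullbackLeftPullbackSndIso f (Y.fromSpecResidueField y) (Spec.map φ) ≪≫
      pullback.congrHom rfl hg) 1 h
  haveI : Subsingleton (TensorProduct (Y.residueField y) K
      (Coh.HH (f.fiber y) (Coh.structureModule (f.fiber y)) 1)) := e.toEquiv.subsingleton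
  haveI : Module.FaithfullyFlat (Y.residueField y) K := inferInstance
  exact (Module.FaithfullyFlat.subsingleton_tensorProduct_iff_right (Y.residueField y) K).1 inferInstance

end Groth.Agent.FlatMor67.H1Fibre
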