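import Groth.Agent.FlatMor67.H1Chart

/-!
# The modules `H^{-1}(NL)` of chart pairs satisfy descent
-/

universe u

open CategoryTheory Limits AlgebraicGeometry Opposite

namespace Groth.Agent.FlatMor67

namespace ChartPair

variable {X Y : Scheme.{u}} {f : X ⟶ Y}

/-- the pair over a basic open of the source chart -/
def loc (q : ChartPair f) (a : Γ(X, q.U.1)) : ChartPair f :=
  ⟨⟨X.basicOpen a, q.U.2.basicOpen a⟩, q.V, (X.basicOpen_le a).trans q.e⟩

lemma loc_le (q : ChartPair f) (a : Γ(X, q.U.1)) : q.loc a ≤ q := ⟨X.basicOpen_le a, le_rfl⟩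

lemma le_loc {q r : ChartPair f} (h : r ≤ q) {a : Γ(X, q.U.1)} (ha : r.U.1 ≤ X.basicOpen a) :
    r ≤ q.loc a := ⟨ha, h.2⟩

/-- there are arbitrarily small nested pairs through every point -/
lemma exists_small (q : ChartPair f) {x : X} (hx : x ∈ q.U.1) (O : X.Opens) (hxO : x ∈ O)
    (W : Y.Opens) (hxW : f x ∈ W) :
    ∃ (a : Γ(X, q.U.1)) (r : ChartPair f), r ≤ q ∧ r.U.1 = X.basicOpen a ∧ x ∈ r.U.1 ∧ r.U.1 ≤ O ∧
      r.V.1 ≤ W := by
  obtain ⟨_, ⟨V, hV, rfl⟩, hxV, hVW⟩ := Y.isBasis_affineOpens.exists_subset_of_mem_open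
    (show f x ∈ q.V.1 ⊓ W from ⟨q.e hx, hxW⟩) (q.V.1 ⊓ W).2
  obtain ⟨a, ha, hxa⟩ := q.U.2.exists_basicOpen_le (V := O ⊓ f ⁻¹ᵁ V) ⟨x, hxO, hxV⟩ hx
  exact ⟨a, ⟨⟨X.basicOpen a, q.U.2.basicOpen a⟩, ⟨V, hV⟩, ha.trans inf_le_right⟩,
    ⟨X.basicOpen_le a, fun y hy => (hVW hy).1⟩, rfl, hxa, ha.trans inf_le_left, fun y hy => (hVW hy).2⟩

lemma res_eq_zero_of_le {p q r : ChartPair f} (hqp : q ≤ p) (hrq : r ≤ q) {x : p.H1}
    (hx : res hqp x = 0) : res (hrq.trans hqp) x = 0 := by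
  rw [← res_res hqp hrq, hx, map_zero]

/-- **Separatedness.** -/
theorem sep (q : ChartPair f) (z : q.H1)
    (h : ∀ x ∈ q.U.1, ∃ (r : ChartPair f) (hr : r ≤ q), x ∈ r.U.1 ∧ res hr z = 0) : z = 0 := by
  let I : Ideal Γ(X, q.U.1) := (⊥ : Submodule Γ(X, q.U.1) q.H1).comap (LinearMap.toSpanSingleton _ _ z)
  have key : ∀ x ∈ q.U.1, ∃ a ∈ I.radical, x ∈ X.basicOpen a := by
    intro x hx
    obtain ⟨r, hr, hxr, hz⟩ := h x hx
    obtain ⟨a, ha, hxa⟩ := q.U.2.exists_basicOpen_le (V := r.U.1) ⟨x, hxr⟩ hx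
    let r₁ : ChartPair f := ⟨⟨X.basicOpen a, q.U.2.basicOpen a⟩, r.V, ha.trans r.e⟩
    have h1 : r₁ ≤ r := ⟨ha, le_rfl⟩
    have h2 : r₁ ≤ q.loc a := ⟨le_rfl, hr.2⟩
    have h3 : res (q.loc_le a) z = 0 :=
      (res_base_bijective h2 rfl).injective (by
        rw [res_res, map_zero]
        exact res_eq_zero_of_le hr h1 hz)
    obtain ⟨n, hn⟩ := (res_isLocalized (q.loc_le a) rfl a rfl).2 z h3
    exact ⟨a, ⟨n, hn⟩, hxa⟩
  have htop : I.radical = ⊤ := by
    rw [← Ideal.span_eq I.radical, ← q.U.2.self_le_iSup_basicOpen_iff]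
    intro x hx
    obtain ⟨a, ha, hxa⟩ := key x hx
    exact TopologicalSpace.Opens.mem_iSup.2 ⟨⟨a, ha⟩, hxa⟩
  have h1 : (1 : Γ(X, q.U.1)) ∈ I := (Ideal.eq_top_iff_one I).1 (Ideal.radical_eq_top.1 htop)
  simpa [I] using h1

theorem ext_of_local (q : ChartPair f) (z w : q.H1)
    (h : ∀ x ∈ q.U.1, ∃ (r : ChartPair f) (hr : r ≤ q), x ∈ r.U.1 ∧ res hr z = res hr w) : z = w := by
  rw [← sub_eq_zero]
  refine sep q _ fun x hx => ?_
  obtain ⟨r, hr, hxr, he⟩ := h x hx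
  exact ⟨r, hr, hxr, by rw [map_sub, he, sub_self]⟩

/-- **Gluing.** -/
theorem glue (q : ChartPair f) (S : ChartPair f → Prop) (z : ∀ r : ChartPair f, r ≤ q → S r → r.H1)
    (hz : ∀ (r r' : ChartPair f) (hr : r ≤ q) (hS : S r) (h : r' ≤ r) (hS' : S r'),
      res h (z r hr hS) = z r' (h.trans hr) hS')
    (hcov : ∀ x ∈ q.U.1, ∃ (O : X.Opens) (W : Y.Opens), x ∈ O ∧ f x ∈ W ∧
      ∀ r ≤ q, r.U.1 ≤ O → r.V.1 ≤ W → S r) :
    ∃ t : q.H1, ∀ (r : ChartPair f) (hr : r ≤ q) (hS : S r), res hr t = z r hr hS := by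
  classical
  choose O W hxO hxW hS using hcov
  choose a r hrq hrU hxr hrO hrW using fun x : q.U.1 =>
    q.exists_small x.2 (O x.1 x.2) (hxO x.1 x.2) (W x.1 x.2) (hxW x.1 x.2)
  have hrS : ∀ x, S (r x) := fun x => hS x.1 x.2 _ (hrq x) (hrO x) (hrW x)
  have hloc : ∀ x, r x ≤ q.loc (a x) := fun x => le_loc (hrq x) (hrU x).le
  have hbij : ∀ x, Function.Bijective (res (hloc x)) := fun x =>
    res_base_bijective (hloc x) (Subtype.ext (hrU x))
  choose zl hzl using fun x => (hbij x).2 (z (r x) (hrq x) (hrS x))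
  -- values on sub-pairs
  have hsub : ∀ (x : q.U.1) (s : ChartPair f) (hs : s ≤ r x) (hsS : S s),
      res (hs.trans (hloc x)) (zl x) = z s (hs.trans (hrq x)) hsS := by
    intro x s hs hsS
    rw [← res_res (hloc x) hs, hzl, hz]
  -- agreement on overlaps
  have hover : ∀ x y (hx : q.loc (a x * a y) ≤ q.loc (a x)) (hy : q.loc (a x * a y) ≤ q.loc (a y)),
      res hx (zl x) = res hy (zl y) := by
    intro x y hx hy
    refine ext_of_local _ _ _ fun w hw => ?_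
    obtain ⟨-, s, hs, -, hws, hsO, hsW⟩ := (q.loc (a x * a y)).exists_small hw
      (O x.1 x.2 ⊓ ((r x).U.1 ⊓ (r y).U.1))
      ⟨hrO x ((hrU x).ge (hx.1 hw)), (hrU x).ge (hx.1 hw), (hrU y).ge (hy.1 hw)⟩
      (W x.1 x.2 ⊓ ((r x).V.1 ⊓ (r y).V.1))
      ⟨hrW x ((r x).e ((hrU x).ge (hx.1 hw))), (r x).e ((hrU x).ge (hx.1 hw)),
        (r y).e ((hrU y).ge (hy.1 hw))⟩
    have hsx : s ≤ r x := ⟨hsO.trans (inf_le_right.trans inf_le_left), hsW.trans (inf_le_right.trans inf_le_left)⟩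
    have hsy : s ≤ r y := ⟨hsO.trans (inf_le_right.trans inf_le_right), hsW.trans (inf_le_right.trans inf_le_right)⟩
    have hsS : S s := hS x.1 x.2 s (hsx.trans (hrq x)) (hsO.trans inf_le_left) (hsW.trans inf_le_left)
    exact ⟨s, hs, hws, by rw [res_res, res_res, hsub x s hsx hsS, hsub y s hsy hsS]⟩
  -- a finite subcover
  have hspan : Ideal.span (Set.range a) = ⊤ := by
    rw [← q.U.2.self_le_iSup_basicOpen_iff]
    intro x hx
    exact TopologicalSpace.Opens.mem_iSup.2 ⟨⟨_, ⟨x, hx⟩, rfl⟩, (hrU ⟨x, hx⟩).le (hxr ⟨x, hx⟩)⟩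
  obtain ⟨T, hT, hTspan⟩ := (Ideal.span_eq_top_iff_finite _).1 hspan
  choose ix hix using fun b : T => hT b.2
  have hTa : Ideal.span (Set.range fun b : T => a (ix b)) = ⊤ := by
    rw [← hTspan]
    congr 1
    ext c
    simp [hix]
  -- numerators
  choose n m hm using fun b : T => (res_isLocalized (q.loc_le (a (ix b))) rfl (a (ix b)) rfl).1 (zl (ix b))
  let N := Finset.univ.sup n
  let m' : T → q.H1 := fun b => a (ix b) ^ (N - n b) • m b
  have hm' : ∀ b, res (q.loc_le (a (ix b))) (m' b) =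
      X.presheaf.map (homOfLE (q.loc_le (a (ix b))).1).op (a (ix b) ^ N) • zl (ix b) := by
    intro b
    rw [res_smul, hm, ← mul_smul, ← map_mul, ← pow_add,
      Nat.sub_add_cancel (Finset.le_sup (Finset.mem_univ b))]
  have hover' : ∀ b c : T, ∃ k : ℕ,
      (a (ix b) * a (ix c)) ^ k • (a (ix c) ^ N • m' b - a (ix b) ^ N • m' c) = 0 := by
    intro b c
    refine (res_isLocalized (q.loc_le (a (ix b) * a (ix c))) rfl _ rfl).2 _ ?_
    have hb : q.loc (a (ix b) * a (ix c)) ≤ q.loc (a (ix b)) :=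
      ⟨(X.basicOpen_mul _ _).trans_le inf_le_left, le_rfl⟩
    have hc : q.loc (a (ix b) * a (ix c)) ≤ q.loc (a (ix c)) :=
      ⟨(X.basicOpen_mul _ _).trans_le inf_le_right, le_rfl⟩
    rw [map_sub, res_smul (x := m' b), res_smul (x := m' c), ← res_res (q.loc_le (a (ix b))) hb,
      ← res_res (q.loc_le (a (ix c))) hc, hm', hm', res_smul, res_smul, hover _ _ hb hc, ← mul_smul,
      ← mul_smul, sub_eq_zero]
    congr 1
    rw [← CommRingCat.comp_apply, ← CommRingCat.comp_apply, ← Functor.map_comp, ← Functor.map_comp,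
      Subsingleton.elim ((homOfLE (q.loc_le (a (ix b))).1).op ≫ (homOfLE hb.1).op)
        (homOfLE (q.loc_le (a (ix b) * a (ix c))).1).op,
      Subsingleton.elim ((homOfLE (q.loc_le (a (ix c))).1).op ≫ (homOfLE hc.1).op)
        (homOfLE (q.loc_le (a (ix b) * a (ix c))).1).op]
    exact mul_comm _ _
  choose k hk using hover'
  let K := Finset.univ.sup fun bc : T × T => k bc.1 bc.2
  let M := N + K
  let m'' : T → q.H1 := fun b => a (ix b) ^ K • m' b
  have hkey : ∀ b c : T, a (ix c) ^ M • m'' b = a (ix b) ^ M • m'' c := by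
    intro b c
    have hle : k b c ≤ K := Finset.le_sup (f := fun bc : T × T => k bc.1 bc.2) (Finset.mem_univ (b, c))
    have := congrArg ((a (ix b) * a (ix c)) ^ (K - k b c) • ·) (hk b c)
    obtain ⟨e, he⟩ := Nat.exists_eq_add_of_le hle
    simp only [smul_zero, smul_sub, ← mul_smul, sub_eq_zero] at this
    simp only [m'', M, ← mul_smul]
    rw [he, Nat.add_sub_cancel_left] at this
    rw [he]
    convert this using 2 <;> ring
  obtain ⟨c, hc⟩ := (Ideal.mem_span_range_iff_exists_fun).1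
    (show (1 : Γ(X, q.U.1)) ∈ Ideal.span (Set.range fun b : T => a (ix b) ^ M) by
      rw [Ideal.eq_top_iff_one] at *
      have := Ideal.span_pow_eq_top _ ((Ideal.eq_top_iff_one _).2 hTa) M
      rw [← Set.range_comp] at this
      exact (Ideal.eq_top_iff_one _).1 this)
  refine ⟨∑ b, c b • m'' b, fun s hs hsS => ?_⟩
  have hglob : ∀ b, res (q.loc_le (a (ix b))) (∑ b, c b • m'' b) = zl (ix b) := by
    intro b
    have h1 : a (ix b) ^ M • (∑ d, c d • m'' d) = m'' b := by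
      simp_rw [Finset.smul_sum, ← mul_smul, mul_comm _ (c _), mul_smul, fun d => hkey d b, ← mul_smul,
        ← Finset.sum_smul, hc, one_smul]
    have hu : IsUnit (X.presheaf.map (homOfLE (q.loc_le (a (ix b))).1).op (a (ix b) ^ M)) := by
      rw [map_pow]
      exact (X.toRingedSpace.isUnit_res_basicOpen (a (ix b))).pow M
    refine (hu.smul_left_cancel).1 ?_
    rw [← res_smul, h1]
    simp only [m'', res_smul, hm', ← mul_smul, ← map_mul, ← pow_add]
    congr 2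
    ring
  refine ext_of_local _ _ _ fun w hw => ?_
  obtain ⟨b, hb⟩ : ∃ b : T, w ∈ X.basicOpen (a (ix b)) := by
    have := (q.U.2.self_le_iSup_basicOpen_iff).2 hTa (hs.1 hw)
    obtain ⟨⟨_, b, rfl⟩, hb⟩ := TopologicalSpace.Opens.mem_iSup.1 this
    exact ⟨b, hb⟩
  obtain ⟨-, v, hv, -, hwv, hvO, hvW⟩ := s.exists_small hw
    (O (ix b).1 (ix b).2 ⊓ (r (ix b)).U.1) ⟨hrO _ ((hrU _).ge hb), (hrU _).ge hb⟩
    (W (ix b).1 (ix b).2 ⊓ (r (ix b)).V.1)
    ⟨hrW _ ((r (ix b)).e ((hrU _).ge hb)), (r (ix b)).e ((hrU _).ge hb)⟩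
  have hvr : v ≤ r (ix b) := ⟨hvO.trans inf_le_right, hvW.trans inf_le_right⟩
  have hvS : S v := hS _ _ v (hv.trans hs) (hvO.trans inf_le_left) (hvW.trans inf_le_left)
  refine ⟨v, hv, hwv, ?_⟩
  rw [res_res, ← res_res (q.loc_le (a (ix b))) (hvr.trans (hloc _)), hglob, hsub _ v hvr hvS,
    hz s v hs hsS hv hvS]

end ChartPair

end Groth.Agent.FlatMor67
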