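import Groth.Agent.FlatMor67.H1Glue
import Groth.Agent.EGA73.QCohCrit

/-!
# The cohomology sheaf `H^{-1}(NL_{X/Y})`
-/

universe u

open CategoryTheory Limits AlgebraicGeometry Opposite TopologicalSpace

namespace Groth.Agent.FlatMor67

variable {X Y : Scheme.{u}} (f : X ⟶ Y)

/-- chart pairs with source in `W` -/
abbrev PairsIn (W : X.Opens) : Type u := {p : ChartPair f // p.U.1 ≤ W}

/-- compatible families over the chart pairs with source in `W` -/
noncomputable def Sec (W : X.Opens) : AddSubgroup (∀ p : PairsIn f W, p.1.H1) where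
  carrier := {s | ∀ (p q : PairsIn f W) (h : q.1 ≤ p.1), ChartPair.res h (s p) = s q}
  zero_mem' p q h := by simp
  add_mem' hs ht p q h := by simp [hs p q h, ht p q h]
  neg_mem' hs p q h := by simp [hs p q h]

namespace Sec

variable {f} {W W' : X.Opens}

@[ext]
lemma ext {s t : Sec f W} (h : ∀ p : PairsIn f W, s.1 p = t.1 p) : s = t := Subtype.ext (funext h)

lemma compat (s : Sec f W) {p q : PairsIn f W} (h : q.1 ≤ p.1) : ChartPair.res h (s.1 p) = s.1 q :=
  s.2 p q h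

noncomputable instance : SMul Γ(X, W) (Sec f W) where
  smul a s := ⟨fun p => X.presheaf.map (homOfLE p.2).op a • s.1 p, fun p q h => by
    rw [ChartPair.res_smul, compat, ← CommRingCat.comp_apply, ← Functor.map_comp]
    rfl⟩

lemma smul_apply (a : Γ(X, W)) (s : Sec f W) (p : PairsIn f W) :
    (a • s).1 p = X.presheaf.map (homOfLE p.2).op a • s.1 p := rfl

noncomputable instance : Module Γ(X, W) (Sec f W) where
  one_smul s := by ext p; simp [smul_apply]
  mul_smul a b s := by ext p; simp [smul_apply, mul_smul]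
  smul_zero a := by ext p; simp [smul_apply]
  smul_add a s t := by ext p; simp [smul_apply]
  add_smul a b s := by ext p; simp [smul_apply, add_smul]
  zero_smul s := by ext p; simp [smul_apply]

/-- restriction -/
noncomputable def map (h : W' ≤ W) : Sec f W →+ Sec f W' where
  toFun s := ⟨fun p => s.1 ⟨p.1, p.2.trans h⟩,
    fun p q hpq => compat s (p := ⟨p.1, p.2.trans h⟩) (q := ⟨q.1, q.2.trans h⟩) hpq⟩
  map_zero' := Subtype.ext (funext fun p => by simp)
  map_add' s t := Subtype.ext (funext fun p => by simp)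

lemma map_apply (h : W' ≤ W) (s : Sec f W) (p : PairsIn f W') :
    (map h s).1 p = s.1 ⟨p.1, p.2.trans h⟩ := rfl

lemma map_smul (h : W' ≤ W) (a : Γ(X, W)) (s : Sec f W) :
    map h (a • s) = X.presheaf.map (homOfLE h).op a • map h s := by
  ext p
  rw [map_apply, smul_apply, smul_apply, map_apply, ← CommRingCat.comp_apply, ← Functor.map_comp]
  rfl

end Sec

/-- the presheaf of abelian groups -/
noncomputable def secPresheaf : TopCat.Presheaf Ab X where
  obj W := AddCommGrpCat.of (Sec f W.unop)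
  map i := AddCommGrpCat.ofHom (Sec.map i.unop.le)
  map_id _ := rfl
  map_comp _ _ := rfl

noncomputable instance (W : X.Opensᵒᵖ) : Module (X.ringCatSheaf.obj.obj W) ((secPresheaf f).obj W) :=
  inferInstanceAs (Module Γ(X, W.unop) (Sec f W.unop))

lemma secPresheaf_isSheaf : (secPresheaf f).IsSheaf := by
  rw [TopCat.Presheaf.isSheaf_iff_isSheafUniqueGluing]
  intro ι W sf hsf
  have key : ∀ (i j : ι) (p : ChartPair f) (hi : p.U.1 ≤ W i) (hj : p.U.1 ≤ W j),
      (sf i).1 ⟨p, hi⟩ = (sf j).1 ⟨p, hj⟩ := fun i j p hi hj =>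
    congrArg (fun s : Sec f (W i ⊓ W j) => s.1 ⟨p, le_inf hi hj⟩) (hsf i j)
  have hloc : ∀ q : PairsIn f (iSup W), ∃ t : q.1.H1, ∀ (r : ChartPair f) (hr : r ≤ q.1) (i : ι)
      (hi : r.U.1 ≤ W i), ChartPair.res hr t = (sf i).1 ⟨r, hi⟩ := by
    intro q
    classical
    obtain ⟨t, ht⟩ := ChartPair.glue q.1 (fun r => ∃ i, r.U.1 ≤ W i)
      (fun r _ hS => (sf hS.choose).1 ⟨r, hS.choose_spec⟩)
      (fun r r' hr hS h hS' => by
        refine (Sec.compat (sf hS.choose) (p := ⟨r, hS.choose_spec⟩) (q := ⟨r', h.1.trans hS.choose_spec⟩)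
          h).trans (key _ _ _ _ _))
      (fun x hx => by
        obtain ⟨i, hi⟩ := Opens.mem_iSup.1 (q.2 hx)
        exact ⟨W i, ⊤, hi, trivial, fun r _ hr _ => ⟨i, hr⟩⟩)
    exact ⟨t, fun r hr i hi => (ht r hr ⟨i, hi⟩).trans (key _ _ _ _ _)⟩
  choose t ht using hloc
  have hext : ∀ (q : PairsIn f (iSup W)) (z : q.1.H1),
      (∀ (r : ChartPair f) (hr : r ≤ q.1) (i : ι) (hi : r.U.1 ≤ W i),
        ChartPair.res hr z = (sf i).1 ⟨r, hi⟩) → z = t q := by
    intro q z hz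
    refine ChartPair.ext_of_local _ _ _ fun x hx => ?_
    obtain ⟨i, hi⟩ := Opens.mem_iSup.1 (q.2 hx)
    obtain ⟨-, r, hr, -, hxr, hrW, -⟩ := q.1.exists_small hx (W i) hi ⊤ trivial
    exact ⟨r, hr, hxr, by rw [hz r hr i hrW, ht q r hr i hrW]⟩
  refine ⟨⟨t, fun p q h => hext q _ fun r hr i hi => ?_⟩, fun i => Sec.ext fun p => ?_, fun s hs => ?_⟩
  · rw [ChartPair.res_res, ht]
  · refine ((ChartPair.res_refl _).symm.trans (ht ⟨p.1, p.2.trans (le_iSup W i)⟩ p.1 le_rfl i p.2))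
  · refine Sec.ext fun p => hext p _ fun r hr i hi => ?_
    refine (Sec.compat s (p := p) (q := ⟨r, hr.1.trans p.2⟩) hr).trans ?_
    exact congrArg (fun s : Sec f (W i) => s.1 ⟨r, hi⟩) (hs i)

/-- the sheaf `H^{-1}(NL_{X/Y})` -/
noncomputable def h1Mod : X.Modules where
  val := PresheafOfModules.ofPresheaf (secPresheaf f) (fun {_ _} i a s => Sec.map_smul i.unop.le a s)
  isSheaf := secPresheaf_isSheaf f

/-- sections over the source of a chart pair -/
noncomputable def secEquiv (p : ChartPair f) : Sec f p.U.1 ≃+ p.H1 :=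
  AddEquiv.ofBijective ((Pi.evalAddMonoidHom (fun q : PairsIn f p.U.1 => q.1.H1) ⟨p, le_rfl⟩).comp
      (Sec f p.U.1).subtype) <| by
    constructor
    · intro s t h
      refine Sec.ext fun q => ChartPair.ext_of_local _ _ _ fun x hx => ?_
      obtain ⟨-, r, hr, -, hxr, hrU, hrV⟩ := q.1.exists_small hx p.U.1 (q.2 hx) p.V.1 (p.e (q.2 hx))
      have hrp : r ≤ p := ⟨hrU, hrV⟩
      refine ⟨r, hr, hxr, ?_⟩
      rw [Sec.compat s (p := q) (q := ⟨r, hrU⟩) hr, Sec.compat t (p := q) (q := ⟨r, hrU⟩) hr,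
        ← Sec.compat s (p := ⟨p, le_rfl⟩) (q := ⟨r, hrU⟩) hrp,
        ← Sec.compat t (p := ⟨p, le_rfl⟩) (q := ⟨r, hrU⟩) hrp]
      exact congrArg (ChartPair.res hrp) h
    · intro z
      have hloc : ∀ q : PairsIn f p.U.1, ∃ t : q.1.H1, ∀ (r : ChartPair f) (hr : r ≤ q.1) (hp : r ≤ p),
          ChartPair.res hr t = ChartPair.res hp z := fun q =>
        ChartPair.glue q.1 (fun r => r ≤ p) (fun r _ hS => ChartPair.res hS z)
          (fun r r' _ hS h hS' => ChartPair.res_res hS h z)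
          (fun x hx => ⟨p.U.1, p.V.1, q.2 hx, p.e (q.2 hx), fun r _ h1 h2 => ⟨h1, h2⟩⟩)
      choose t ht using hloc
      refine ⟨⟨t, fun q q' h => ?_⟩, ?_⟩
      · refine ChartPair.ext_of_local _ _ _ fun x hx => ?_
        obtain ⟨-, r, hr, -, hxr, hrU, hrV⟩ := q'.1.exists_small hx p.U.1 (q'.2 hx) p.V.1 (p.e (q'.2 hx))
        exact ⟨r, hr, hxr, by rw [ChartPair.res_res, ht q r _ ⟨hrU, hrV⟩, ht q' r _ ⟨hrU, hrV⟩]⟩
      · exact ((ChartPair.res_refl _).symm.trans (ht ⟨p, le_rfl⟩ p le_rfl le_rfl)).trans (ChartPair.res_refl _)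

lemma secEquiv_apply (p : ChartPair f) (s : Sec f p.U.1) : secEquiv f p s = s.1 ⟨p, le_rfl⟩ := rfl

/-- `h1Mod f` is the cohomology sheaf -/
noncomputable def h1Sheaf : NLCx.H1Sheaf f (h1Mod f) where
  iso U V e := secEquiv f ⟨U, V, e⟩
  map_smul U V e a m := by
    refine (Sec.smul_apply (a : Γ(X, U.1)) (m : Sec f U.1) ⟨⟨U, V, e⟩, le_rfl⟩).trans ?_
    rw [show (homOfLE (le_refl U.1)).op = 𝟙 (op U.1) from Subsingleton.elim _ _, X.presheaf.map_id]
    rfl
  map_res {U U' V V'} e e' hU hV m := by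
    show secEquiv f ⟨U', V', e'⟩ (Sec.map hU (m : Sec f U.1)) = _
    rw [secEquiv_apply, Sec.map_apply]
    exact (Sec.compat (m : Sec f U.1) (p := ⟨⟨U, V, e⟩, le_rfl⟩) (q := ⟨⟨U', V', e'⟩, hU⟩) ⟨hU, hV⟩).symm

variable {f} in
/-- every sheaf with these sections is quasi-coherent -/
theorem isQCoh_of_h1Sheaf {F : X.Modules} (c : NLCx.H1Sheaf f F) : F.IsQuasicoherent := by
  refine EGA73.isQuasicoherent_of_affine_cover F (fun p : ChartPair f => p.U.1) (fun p => p.U.2) ?_ fun p => ?_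
  · rw [eq_top_iff]
    intro x _
    obtain ⟨_, ⟨V, hV, rfl⟩, hxV, -⟩ := Y.isBasis_affineOpens.exists_subset_of_mem_open (Set.mem_univ (f x)) isOpen_univ
    obtain ⟨_, ⟨U, hU, rfl⟩, hxU, hUV⟩ := X.isBasis_affineOpens.exists_subset_of_mem_open
      (show x ∈ f ⁻¹ᵁ V from hxV) (f ⁻¹ᵁ V).2
    exact Opens.mem_iSup.2 ⟨⟨⟨U, hU⟩, ⟨V, hV⟩, hUV⟩, hxU⟩
  · refine EGA73.isQuasicoherent_restrict_fromSpec F p.U.2 (fun a s => ?_) (fun a t ht => ?_)
    · let q := p.loc a
      obtain ⟨n, x, hx⟩ := (ChartPair.res_isLocalized (p.loc_le a) rfl a rfl).1 (c.iso q.U q.V q.e s)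
      refine ⟨n, (c.iso p.U p.V p.e).symm x, (c.iso q.U q.V q.e).injective ?_⟩
      refine (c.map_res p.e q.e (p.loc_le a).1 (p.loc_le a).2 _).trans ?_
      rw [AddEquiv.apply_symm_apply]
      exact hx.trans (c.map_smul q.U q.V q.e _ s).symm
    · obtain ⟨n, hn⟩ := (ChartPair.res_isLocalized (p.loc_le a) rfl a rfl).2 (c.iso p.U p.V p.e t) (by
        refine (c.map_res p.e (p.loc a).e (p.loc_le a).1 (p.loc_le a).2 t).symm.trans ?_
        exact (congrArg (c.iso (p.loc a).U (p.loc a).V (p.loc a).e) ht).trans (map_zero _))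
      refine ⟨n, (c.iso p.U p.V p.e).injective ?_⟩
      exact ((c.map_smul p.U p.V p.e (a ^ n) t).trans hn).trans (map_zero (c.iso p.U p.V p.e)).symm

end Groth.Agent.FlatMor67
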