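import Groth.Agent.FlatMor67.BCBijective
import Groth.Agent.Desc59.QCohDesc
import Groth.Agent.E4O.KernelFP
import Groth.Agent.GRec72.Support
import Groth.Agent.FlatMor66.BCStalk
import Groth.Agent.FlatMor68.FibreFree
import Groth.Agent.LimTop61.ModDescent
import Groth.Agent.LimTop61.FPDescend

/-!
The locus where a map of finitely presented modules with flat target is bijective on stalks: it is
stable under base change and has quasi-compact open trace on affine opens.
-/

set_option autoImplicit false
set_option backward.isDefEq.respectTransparency.types false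
set_option linter.style.haveILetI false

noncomputable section

universe u

open CategoryTheory Limits AlgebraicGeometry TopologicalSpace Opposite TensorProduct
open Groth.Agent.QC70 Groth.Agent.DCK91
open scoped Set.Notation

namespace Groth.Agent.FlatMor67.IsoLocus

lemma isQCoh_of_isFP {X : Scheme.{u}} {F : X.Modules} (hF : CohB1.IsFP F) : F.IsQuasicoherent := by
  obtain ⟨σ, -⟩ := SheafOfModules.IsFinitePresentation.exists_quasicoherentData
    (R := X.ringCatSheaf) (M := F)
  exact σ.isQuasicoherent

/-- Constructible subsets of an affine scheme are quasi-compact. -/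
theorem isCompact_of_isConstructible {R : CommRingCat.{u}} {s : Set (Spec R)}
    (hs : Topology.IsConstructible s) : IsCompact s := by
  refine Topology.IsConstructible.induction_of_isTopologicalBasis
    (fun r : R => ((Spec R).basicOpen ((Scheme.ΓSpecIso R).inv r) : Set (Spec R))) ?_ ?_ ?_ ?_ s hs
  · convert! PrimeSpectrum.isTopologicalBasis_basic_opens (R := R) using 1
    congr 1
    funext r
    exact congrArg SetLike.coe (basicOpen_eq_of_affine r)
  · exact fun r => ((isAffineOpen_top (Spec R)).basicOpen _).isCompact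
  · intro i t ht
    rw [Set.sdiff_eq]
    exact ((isAffineOpen_top (Spec R)).basicOpen _).isCompact.inter_right
      (isOpen_biUnion fun j _ => ((Spec R).basicOpen ((Scheme.ΓSpecIso R).inv j)).isOpen).isClosed_compl
  · exact fun s _ t _ h₁ h₂ => h₁.union h₂

theorem isCompact_of_isConstructible_of_isAffine {X : Scheme.{u}} [IsAffine X] {s : Set X}
    (hs : Topology.IsConstructible s) : IsCompact s := by
  let h := X.isoSpec.inv.homeomorph
  have h1 := isCompact_of_isConstructible (R := Γ(X, ⊤))
    (hs.preimage_of_isOpenEmbedding h.isOpenEmbedding)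
  have h2 := h1.image h.continuous
  rwa [Set.image_preimage_eq _ h.surjective] at h2

section Stalks

variable {X : Scheme.{u}} {F G : X.Modules} (φ : F ⟶ G) (x : X)

lemma surjective_iff_notMem_support_cokernel :
    Function.Surjective (stalkMapM φ x) ↔ x ∉ CohB1.support (cokernel φ) := by
  refine ⟨fun h => notMem_support_iff.mpr (subsingleton_stalk_cokernel φ x h), fun h b => ?_⟩
  haveI := notMem_support_iff.mp h
  let S : ShortComplex X.Modules := ShortComplex.mk (kernel.ι (cokernel.π φ)) (cokernel.π φ)
    (kernel.condition _)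
  have hS : S.Exact := ShortComplex.exact_of_f_is_kernel _ (kernelIsKernel _)
  haveI : Mono S.f := inferInstanceAs (Mono (kernel.ι _))
  obtain ⟨d, hd⟩ := stalkMapM_exact S hS x b (Subsingleton.elim _ _)
  obtain ⟨a, rfl⟩ := surjective_stalkMapM_of_epi (Abelian.factorThruImage φ) x d
  refine ⟨a, ?_⟩
  rw [← hd, ← stalkMapM_comp]
  exact congrArg (fun g => stalkMapM g x a) (Abelian.image.fac φ).symm

lemma injective_iff_notMem_support_kernel :
    Function.Injective (stalkMapM φ x) ↔ x ∉ CohB1.support (kernel φ) := by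
  refine ⟨fun h => notMem_support_iff.mpr (subsingleton_stalk_kernel φ x h), fun h => ?_⟩
  haveI := notMem_support_iff.mp h
  let S : ShortComplex X.Modules := ShortComplex.mk (kernel.ι φ) φ (kernel.condition φ)
  have hS : S.Exact := ShortComplex.exact_of_f_is_kernel _ (kernelIsKernel _)
  haveI : Mono S.f := inferInstanceAs (Mono (kernel.ι _))
  refine (injective_iff_map_eq_zero (stalkLinear φ x)).mpr fun e he => ?_
  obtain ⟨d, hd⟩ := stalkMapM_exact S hS x e he
  rw [← hd, Subsingleton.elim d 0]
  exact (stalkLinear (kernel.ι φ) x).map_zero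

end Stalks

variable {X S : Scheme.{u}} (f : X ⟶ S) {F G : X.Modules} (hF : CohB1.IsFP F) (hG : CohB1.IsFP G)
  (hGfl : FlatMod.IsFlatOver f G) (u : F ⟶ G)

include hF hG hGfl in
/-- Being bijective at a point is unchanged by base change of the base. -/
theorem bijective_pullback_iff {X' T : Scheme.{u}} {g' : X' ⟶ X} {f' : X' ⟶ T} {t : T ⟶ S}
    (hc : IsPullback g' f' f t) (x' : X') :
    Function.Bijective (stalkMapM ((Scheme.Modules.pullback g').map u) x') ↔
      Function.Bijective (stalkMapM u (g' x')) := by
  let y := g' x'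
  let z := f' x'
  have e₀ : t z = f y := by rw [← Scheme.Hom.comp_apply, ← hc.w, Scheme.Hom.comp_apply]
  let R := S.presheaf.stalk (f y)
  let B := X.presheaf.stalk y
  let R' := T.presheaf.stalk z
  let M := X'.presheaf.stalk x'
  letI iRB : Algebra R B := (f.stalkMap y).hom.toAlgebra
  letI iRR' : Algebra R R' := ((S.presheaf.stalkCongr (.of_eq e₀.symm)).hom ≫ t.stalkMap z).hom.toAlgebra
  obtain ⟨τ, hτ, hτB, hτC⟩ := FlatMor66.exists_tensor_stalk_flat hc x' y z (f y) rfl rfl rfl e₀
    (by simp [RingHom.algebraMap_toAlgebra, iRB, TopCat.Presheaf.stalkCongr_hom]) rfl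
  letI iBM : Algebra B M := (g'.stalkMap x').hom.toAlgebra
  letI iTM : Algebra (B ⊗[R] R') M := τ.toAlgebra
  haveI : IsScalarTower B (B ⊗[R] R') M := .of_algebraMap_eq fun b => by
    show _ = τ (b ⊗ₜ 1)
    rw [hτB]
    simp [RingHom.algebraMap_toAlgebra, TopCat.Presheaf.stalkCongr_hom]
    rfl
  haveI : Module.Flat (B ⊗[R] R') M := hτ
  haveI : IsLocalHom (algebraMap B M) := inferInstanceAs (IsLocalHom (g'.stalkMap x').hom)
  letI : Module R (G.presheaf.stalk y) := FlatMod.moduleStalkOver f G y
  haveI : IsScalarTower R B (G.presheaf.stalk y) := .of_algebraMap_smul fun _ _ => rfl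
  haveI : Module.Flat R (G.presheaf.stalk y) := hGfl y
  haveI := hF
  haveI := hG
  haveI := FlatMor68.FibreFree.finitePresentation_stalk F y
  haveI := FlatMor68.FibreFree.finitePresentation_stalk G y
  letI : Module B (((Scheme.Modules.pullback g').obj F).presheaf.stalk x') :=
    Module.compHom _ (g'.stalkMap x').hom
  letI : Module B (((Scheme.Modules.pullback g').obj G).presheaf.stalk x') :=
    Module.compHom _ (g'.stalkMap x').hom
  haveI : IsScalarTower B M (((Scheme.Modules.pullback g').obj F).presheaf.stalk x') :=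
    .of_algebraMap_smul fun _ _ => rfl
  haveI : IsScalarTower B M (((Scheme.Modules.pullback g').obj G).presheaf.stalk x') :=
    .of_algebraMap_smul fun _ _ => rfl
  let E := (isBaseChange_pullη g' F x').equiv
  let E' := (isBaseChange_pullη g' G x').equiv
  let φ := stalkLinear u y
  have hc' : stalkMapM ((Scheme.Modules.pullback g').map u) x' ∘ E = E' ∘ φ.lTensor M := by
    funext w
    simp only [Function.comp_apply]
    induction w using TensorProduct.induction_on with
    | zero =>
      rw [map_zero, map_zero, map_zero]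
      exact (stalkLinear ((Scheme.Modules.pullback g').map u) x').map_zero
    | add a b ha hb =>
      rw [map_add, map_add, map_add, ← ha, ← hb]
      exact (stalkLinear ((Scheme.Modules.pullback g').map u) x').map_add _ _
    | tmul r e =>
      rw [LinearMap.lTensor_tmul, IsBaseChange.equiv_tmul, IsBaseChange.equiv_tmul]
      refine ((stalkLinear ((Scheme.Modules.pullback g').map u) x').map_smul r _).trans ?_
      exact congrArg (r • ·) (Desc59.QCohDesc.pullη_natural g' u x' e)
  rw [← Function.Bijective.of_comp_iff _ E.bijective, hc',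
    Function.Bijective.of_comp_iff' E'.bijective]
  constructor
  · exact fun h => BCBijective.bijective_of_lTensor_bijective (R := R) (R' := R') φ h
  · exact fun h => ((LinearEquiv.ofBijective φ h).lTensor M).bijective

/-- The points where `u` is not bijective. -/
def badSet : Set X := {x | ¬ Function.Bijective (stalkMapM u x)}

include hF hG hGfl in
/-- The good locus meets every affine open in a quasi-compact open. -/
theorem isOpen_and_isCompact_compl_badSet [LocallyOfFinitePresentation f] {W : X.Opens}
    (hW : IsAffineOpen W) :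
    IsOpen ((W : Set X) \ badSet u) ∧ IsCompact ((W : Set X) \ badSet u) := by
  haveI := hF
  haveI := hG
  haveI := isQCoh_of_isFP hF
  haveI := isQCoh_of_isFP hG
  haveI : (cokernel u).IsQuasicoherent := QC70.isQuasicoherent_cokernel u
  obtain ⟨hVo, hVc⟩ := GRec72.isCompact_compl_support_sections (cokernel u)
    (LimTop61.isFP_cokernel u hF hG) hW
  let V : X.Opens := ⟨(W : Set X) \ CohB1.support (cokernel u), hVo⟩
  let j := V.ι
  let Pb := Scheme.Modules.pullback j
  haveI : Coh.IsQCoh (Pb.obj F) := QCPull72.isQuasicoherent_pullback j F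
  haveI : Coh.IsQCoh (Pb.obj G) := QCPull72.isQuasicoherent_pullback j G
  haveI : (Pb.obj F).IsQuasicoherent := ‹Coh.IsQCoh (Pb.obj F)›
  haveI : (Pb.obj G).IsQuasicoherent := ‹Coh.IsQCoh (Pb.obj G)›
  have hpF : CohB1.IsFP (Pb.obj F) := LimTop61.isFP_pullback j F
  have hpG : CohB1.IsFP (Pb.obj G) := LimTop61.isFP_pullback j G
  have hfl : FlatMod.IsFlatOver (j ≫ f) (Pb.obj G) := fun v =>
    (FlatMor68.PullbackStalk.t9350 j f G (isQCoh_of_isFP hG) v (Flat.stalkMap j v)).mp (hGfl (j v))
  haveI : Epi (Pb.map u) := epi_of_surjective_stalkMapM _ fun v =>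
    (Desc59.QCohDesc.stalk_iff j u v).2.mpr ((surjective_iff_notMem_support_cokernel u _).mpr v.2.2)
  have hK : CohB1.IsFP (kernel (Pb.map u)) :=
    E4O.isFP_kernel_of_epi (j ≫ f) (Pb.obj F) (Pb.obj G) hpF hpG hfl (Pb.map u)
  haveI : (kernel (Pb.map u)).IsQuasicoherent := QC70.isQuasicoherent_kernel _
  haveI : CompactSpace V.toScheme := isCompact_iff_compactSpace.mp hVc
  obtain ⟨U, hUc, hU⟩ := GRec72.exists_open_eq_compl_support (kernel (Pb.map u)) hK
  have he : (W : Set X) \ badSet u = j '' (U : Set V.toScheme) := by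
    ext x
    constructor
    · rintro ⟨hxW, hx⟩
      have hb : Function.Bijective (stalkMapM u x) := not_not.mp hx
      have hxV : x ∈ V := ⟨hxW, (surjective_iff_notMem_support_cokernel u x).mp hb.2⟩
      refine ⟨⟨x, hxV⟩, ?_, rfl⟩
      rw [hU]
      exact (injective_iff_notMem_support_kernel (Pb.map u) _).mp
        ((Desc59.QCohDesc.stalk_iff j u _).1.mpr hb.1)
    · rintro ⟨v, hv, rfl⟩
      rw [hU] at hv
      refine ⟨v.2.1, fun h => h ⟨?_, (surjective_iff_notMem_support_cokernel u _).mpr v.2.2⟩⟩
      exact (Desc59.QCohDesc.stalk_iff j u v).1.mp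
        ((injective_iff_notMem_support_kernel (Pb.map u) v).mpr hv)
  rw [he]
  exact ⟨j.isOpenEmbedding.isOpenMap _ U.2, hUc.image j.continuous⟩

include hF hG hGfl in
theorem isClosed_badSet [LocallyOfFinitePresentation f] : IsClosed (badSet u) := by
  rw [← isOpen_compl_iff]
  have : (badSet u)ᶜ = ⋃ W : X.affineOpens, (W.1 : Set X) \ badSet u := by
    ext x
    simp only [Set.mem_compl_iff, Set.mem_iUnion, Set.mem_sdiff, exists_and_right, iff_and_self]
    intro _
    obtain ⟨W, hW, hxW, -⟩ :=
      exists_isAffineOpen_mem_and_subset (show x ∈ (⊤ : X.Opens) from trivial)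
    exact ⟨⟨W, hW⟩, hxW⟩
  rw [this]
  exact isOpen_iUnion fun W => (isOpen_and_isCompact_compl_badSet f hF hG hGfl u W.2).1

include hF hG hGfl in
theorem isLocallyConstructible_badSet [LocallyOfFinitePresentation f] :
    Topology.IsLocallyConstructible (badSet u) := by
  refine Topology.IsLocallyConstructible.of_isOpenCover (U := fun W : X.affineOpens => W.1)
    (IsOpenCover.mk (iSup_affineOpens_eq_top X)) fun W => ?_
  obtain ⟨ho, hk⟩ := isOpen_and_isCompact_compl_badSet f hF hG hGfl u W.2
  haveI : CompactSpace W.1.toScheme := isCompact_iff_compactSpace.mp W.2.isCompact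
  haveI : IsAffine W.1.toScheme := W.2
  haveI : QuasiSeparatedSpace W.1.toScheme := inferInstance
  have ho' : IsOpen ((W.1 : Set X) ↓∩ (badSet u)ᶜ) :=
    (isClosed_badSet f hF hG hGfl u).isOpen_compl.preimage continuous_subtype_val
  have hk' : IsCompact ((W.1 : Set X) ↓∩ (badSet u)ᶜ) := by
    rw [Subtype.isCompact_iff, Subtype.image_preimage_coe]
    rw [← Set.sdiff_eq]
    exact hk
  have h : Topology.IsConstructible (X := W.1.toScheme) ((W.1 : Set X) ↓∩ (badSet u)ᶜ) :=
    IsCompact.isConstructible (X := W.1.toScheme) hk' ho'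
  rw [Set.preimage_compl] at h
  exact (Topology.isConstructible_compl.mp h).isLocallyConstructible

include hF hG hGfl in
/-- The open of the base over which `u` is an isomorphism. -/
theorem exists_open_quasiCompact [IsProper f] [LocallyOfFinitePresentation f] :
    ∃ U : S.Opens, QuasiCompact U.ι ∧ (U : Set S) = (f '' badSet u)ᶜ := by
  have hcl : IsClosed (f '' badSet u) := f.isClosedMap _ (isClosed_badSet f hF hG hGfl u)
  refine ⟨⟨(f '' badSet u)ᶜ, hcl.isOpen_compl⟩, ?_, rfl⟩
  rw [quasiCompact_iff_forall_isAffineOpen]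
  intro V hV
  have hlc := f.isLocallyConstructible_image (isLocallyConstructible_badSet f hF hG hGfl u)
  haveI : CompactSpace V.toScheme := isCompact_iff_compactSpace.mp hV.isCompact
  haveI : IsAffine V.toScheme := hV
  have hc : Topology.IsConstructible ((V : Set S) ↓∩ (f '' badSet u)) :=
    (hlc.preimage_of_isOpenEmbedding V.ι.isOpenEmbedding).isConstructible
  let U : S.Opens := ⟨(f '' badSet u)ᶜ, hcl.isOpen_compl⟩
  change IsCompact (U.ι ⁻¹' (V : Set S))
  rw [U.ι.isOpenEmbedding.isEmbedding.isCompact_iff, Set.image_preimage_eq_inter_range,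
    Scheme.Opens.range_ι]
  have h1 : IsCompact ((V : Set S) ↓∩ (f '' badSet u)ᶜ) := by
    have : Topology.IsConstructible ((V : Set S) ↓∩ (f '' badSet u)ᶜ) := by
      rw [Set.preimage_compl]; exact hc.compl
    exact isCompact_of_isConstructible_of_isAffine (X := V.toScheme) this
  have h2 := h1.image continuous_subtype_val
  rwa [Subtype.image_preimage_coe] at h2

include hF hG hGfl in
theorem isIso_pullback_iff {U : S.Opens} (hU : (U : Set S) = (f '' badSet u)ᶜ) {T : Scheme.{u}}
    (t : T ⟶ S) :
    IsIso ((Scheme.Modules.pullback (pullback.fst f t)).map u) ↔ Set.range t.base ⊆ (U : Set S) := by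
  rw [hU]
  constructor
  · rintro h _ ⟨τ, rfl⟩ ⟨x, hx, hxt⟩
    obtain ⟨x', hx', -⟩ := Scheme.Pullback.exists_preimage_pullback (f := f) (g := t) x τ hxt
    refine hx ?_
    rw [← hx']
    exact (bijective_pullback_iff f hF hG hGfl u (IsPullback.of_hasPullback f t) x').mp
      (bijective_stalkMapM_of_isIso _ x')
  · intro h
    refine isIso_of_bijective_stalkMapM _ fun x' => ?_
    rw [bijective_pullback_iff f hF hG hGfl u (IsPullback.of_hasPullback f t) x']
    by_contra hb
    refine h ⟨pullback.snd f t x', rfl⟩ ⟨pullback.fst f t x', hb, ?_⟩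
    rw [← Scheme.Hom.comp_apply, pullback.condition, Scheme.Hom.comp_apply]

end Groth.Agent.FlatMor67.IsoLocus
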