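import Groth.Agent.FlatMor66.SliceAlg
import Groth.Agent.Gor18.LCI
import Groth.Agent.LCI19.Local
import Groth.Agent.LCI19.Descent
import Groth.Agent.S9251
import Groth.Agent.Frg27.BaseChange

/-!
# The fibrewise criterion for Koszul-regular ideals with flat quotient

For a flat finitely presented `A`-algebra `C` and an ideal `I` with `C ⧸ I` flat over `A`, Koszul
regularity of `I` near a prime is read off on the local ring of the fibre.
-/

set_option autoImplicit false
set_option backward.isDefEq.respectTransparency.types false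
set_option linter.style.haveILetI false
universe u

open TensorProduct IsLocalRing RingTheory.Sequence

noncomputable section

namespace Groth.Agent.FlatMor67.KoszulFib

open Groth.Agent.Koszul19 Groth.Agent.LCI19

attribute [local instance] Algebra.TensorProduct.rightAlgebra

/-- If `L ⧸ I` is flat, then `I` meets the extension of an ideal of the base in their product. -/
theorem inf_le_mul_of_flat {R L : Type u} [CommRing R] [CommRing L] [Algebra R L] (I : Ideal L)
    [Module.Flat R (L ⧸ I)] (p : Ideal R) :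
    p.map (algebraMap R L) ⊓ I ≤ p.map (algebraMap R L) * I := by
  classical
  rintro y ⟨hy, hyI⟩
  change y ∈ I at hyI
  obtain ⟨l, hl, hly⟩ := Finsupp.mem_span_image_iff_linearCombination L |>.1 hy
  rw [Finsupp.linearCombination_apply, Finsupp.sum] at hly
  have hrel : ∑ i : l.support, (i : R) • Ideal.Quotient.mk I (l i) = 0 := by
    rw [← Ideal.Quotient.eq_zero_iff_mem] at hyI
    rw [← hyI, ← hly, map_sum, ← Finset.sum_coe_sort l.support]
    refine Finset.sum_congr rfl fun i _ => ?_
    rw [smul_eq_mul, map_mul, Algebra.smul_def, mul_comm]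
    rfl
  obtain ⟨k, a, b, hb, ha⟩ := Module.Flat.isTrivialRelation_of_sum_smul_eq_zero (R := R) (M := L ⧸ I)
    (f := fun i : l.support => (i : R)) (x := fun i : l.support => Ideal.Quotient.mk I (l i)) hrel
  choose w hw using fun j => Ideal.Quotient.mk_surjective (b j)
  have hv : ∀ i : l.support, l i - ∑ j, algebraMap R L (a i j) * w j ∈ I := by
    intro i
    rw [← Ideal.Quotient.eq_zero_iff_mem, map_sub, sub_eq_zero, map_sum]
    refine (hb i).trans ?_
    refine Finset.sum_congr rfl fun j _ => ?_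
    rw [map_mul, hw, Algebra.smul_def]
    rfl
  have hy2 : y = ∑ i : l.support, algebraMap R L i * (l i - ∑ j, algebraMap R L (a i j) * w j) := by
    have h0 : ∑ i : l.support, algebraMap R L i * ∑ j, algebraMap R L (a i j) * w j = 0 := by
      simp only [Finset.mul_sum, ← mul_assoc, ← map_mul]
      rw [Finset.sum_comm]
      simp only [← Finset.sum_mul, ← map_sum, ha, map_zero, zero_mul, Finset.sum_const_zero]
    simp only [mul_sub, Finset.sum_sub_distrib, h0, sub_zero]
    rw [← hly, ← Finset.sum_coe_sort l.support]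
    exact Finset.sum_congr rfl fun i _ => mul_comm _ _
  rw [hy2]
  refine Ideal.sum_mem _ fun i _ => Ideal.mul_mem_mul (Ideal.mem_map_of_mem _ ?_) (hv i)
  exact (Finsupp.mem_supported L l).1 hl i.2

/-- Modulo an ideal meeting `(l)` only in the product, first Koszul homology stays zero. -/
theorem ex_neg_one_quotient {L : Type u} [CommRing L] (J : Ideal L) (l : List L) (hl : KR l)
    (hcap : J ⊓ Ideal.ofList l ≤ J * Ideal.ofList l) :
    Ex (Koszul.koszul (L ⧸ J) (l.map (algebraMap L (L ⧸ J)))) (-1) := by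
  let B := L ⧸ J
  let d := bcKoszul (A := L) (B := B) l
  intro p j hp hj z hz
  obtain rfl : p = -2 := by omega
  obtain rfl : j = 0 := by omega
  obtain ⟨t, rfl⟩ := (d.e (-1)).surjective z
  have hs : Function.Surjective (algebraMap L B) := Ideal.Quotient.mk_surjective
  obtain ⟨z', rfl⟩ := one_tmul_surjective hs t
  rw [← d.comm (-1) 0 (by omega), LinearMap.baseChange_tmul] at hz
  have h0 : (1 : B) ⊗ₜ[L] dd (Koszul.koszul L l) (-1) 0 z' = 0 := (d.e 0).injective (hz.trans (map_zero _).symm)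
  have h1 : eps l (dd (Koszul.koszul L l) (-1) 0 z') ∈ J := by
    have := congrArg ((TensorProduct.rid L B).toLinearMap ∘ₗ (eps l).toLinearMap.lTensor B) h0
    simp only [LinearMap.comp_apply, LinearMap.lTensor_tmul, LinearEquiv.coe_coe, TensorProduct.rid_tmul,
      map_zero] at this
    rw [Algebra.smul_def, mul_one] at this
    exact Ideal.Quotient.eq_zero_iff_mem.1 this
  have h2 : eps l (dd (Koszul.koszul L l) (-1) 0 z') ∈ J * Ideal.ofList l :=
    hcap ⟨h1, (eps_mem_iff l _).2 ⟨z', rfl⟩⟩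
  obtain ⟨w, hw, hw0⟩ : ∃ w, eps l (dd (Koszul.koszul L l) (-1) 0 w) = eps l (dd (Koszul.koszul L l) (-1) 0 z') ∧
      (1 : B) ⊗ₜ[L] w = 0 := by
    refine Submodule.mul_induction_on h2 (fun r hr m hm => ?_) ?_
    · rw [← range_eps_d] at hm
      obtain ⟨w₀, rfl⟩ := hm
      refine ⟨r • w₀, by rw [map_smul, map_smul]; rfl, ?_⟩
      rw [TensorProduct.tmul_smul, TensorProduct.smul_tmul', Algebra.smul_def, mul_one,
        show algebraMap L B r = 0 from Ideal.Quotient.eq_zero_iff_mem.2 hr, TensorProduct.zero_tmul]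
    · rintro x y ⟨w₁, rfl, h₁⟩ ⟨w₂, rfl, h₂⟩
      exact ⟨w₁ + w₂, by rw [map_add, map_add], by rw [TensorProduct.tmul_add, h₁, h₂, add_zero]⟩
  have hcyc : dd (Koszul.koszul L l) (-1) 0 (z' - w) = 0 := (eps l).injective (by rw [map_sub, map_sub, hw, sub_self, map_zero])
  obtain ⟨v, hv⟩ := hl (-1) (by omega) (-2) 0 (by omega) (by omega) _ hcyc
  refine ⟨d.e (-2) ((1 : B) ⊗ₜ v), ?_⟩
  rw [← d.comm (-2) (-1) (by omega), LinearMap.baseChange_tmul, hv, TensorProduct.tmul_sub, hw0, sub_zero]

/-- In a Noetherian ring, vanishing first Koszul homology of a sequence in the radical gives regularity. -/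
theorem isWeaklyRegular_reverse_of_ex {L : Type u} [CommRing L] [IsNoetherianRing L] :
    ∀ {l : List L}, (∀ x ∈ l, x ∈ Ideal.jacobson (⊥ : Ideal L)) → Ex (Koszul.koszul L l) (-1) →
      IsWeaklyRegular L l.reverse
  | [], _, _ => IsWeaklyRegular.nil L L
  | f :: l, hl, h => by
    rw [List.reverse_cons, isWeaklyRegular_append_iff]
    have := Gor18.finite_koszul_X l (-1)
    refine ⟨isWeaklyRegular_reverse_of_ex (fun x hx => hl x (List.mem_cons_of_mem _ hx)) ?_, ?_⟩
    · intro p j hp hj z hz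
      exact Gor18.ex_of_cone_ex (consData f l) p (-1) j hp hj (hl f List.mem_cons_self) h z hz
    rw [isWeaklyRegular_cons_iff]
    refine ⟨?_, IsWeaklyRegular.nil L _⟩
    rw [isSMulRegular_iff_right_eq_zero_of_smul]
    intro y hy
    obtain ⟨a, rfl⟩ := Submodule.Quotient.mk_surjective _ y
    rw [← Submodule.Quotient.mk_smul, Submodule.Quotient.mk_eq_zero] at hy
    rw [Submodule.Quotient.mk_eq_zero]
    simp only [Ideal.mul_top, smul_eq_mul, ofList_perm (List.reverse_perm l)] at hy ⊢
    exact regular_of_ex f l h a hy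

section Crit

variable (A : Type u) [CommRing A] {C : Type u} [CommRing C] [Algebra A C]

/-- The extension of the prime of the base to the local ring at `Q`. -/
abbrev pLoc (Q : Ideal C) [Q.IsPrime] : Ideal (Localization.AtPrime Q) :=
  (Q.under A).map (algebraMap A (Localization.AtPrime Q))

/-- The local ring of the fibre at `Q`. -/
abbrev Lbar (Q : Ideal C) [Q.IsPrime] : Type u := Localization.AtPrime Q ⧸ pLoc A Q

/-- The ideal is Koszul-regular in the local ring of the fibre at `Q`. -/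
def FibK (I Q : Ideal C) [Q.IsPrime] : Prop := KRGen (Lbar A Q) I

theorem pLoc_le (Q : Ideal C) [Q.IsPrime] : pLoc A Q ≤ maximalIdeal (Localization.AtPrime Q) :=
  Ideal.map_le_iff_le_comap.mpr fun x hx => by
    rw [Ideal.mem_comap, IsScalarTower.algebraMap_apply A C (Localization.AtPrime Q),
      IsLocalization.AtPrime.to_map_mem_maximal_iff (Localization.AtPrime Q) Q]
    exact hx

instance (Q : Ideal C) [Q.IsPrime] : IsLocalRing (Lbar A Q) :=
  haveI : Nontrivial (Lbar A Q) := Ideal.Quotient.nontrivial_iff.mpr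
    (ne_top_of_le_ne_top (maximalIdeal.isMaximal _).ne_top (pLoc_le A Q))
  IsLocalRing.of_surjective' (Ideal.Quotient.mk _) Ideal.Quotient.mk_surjective

variable {A}

theorem noeth_Lbar [Algebra.FiniteType A C] (Q : Ideal C) [Q.IsPrime] : IsNoetherianRing (Lbar A Q) := by
  let LC := Localization.AtPrime Q
  let p := Q.under A
  let k := p.ResidueField
  haveI : IsNoetherianRing (k ⊗[A] C) := Algebra.FiniteType.isNoetherianRing k _
  have hp : ∀ a ∈ p, algebraMap A (Lbar A Q) a = 0 := fun a ha =>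
    Ideal.Quotient.eq_zero_iff_mem.mpr (Ideal.mem_map_of_mem _ ha)
  have hu : ∀ s ∉ p, IsUnit (algebraMap A (Lbar A Q) s) := fun s hs => by
    rw [IsScalarTower.algebraMap_apply A LC (Lbar A Q), IsScalarTower.algebraMap_apply A C LC]
    exact (IsLocalization.map_units LC (⟨_, fun h => hs h⟩ : Q.primeCompl)).map _
  let j : k →ₐ[A] Lbar A Q := Ideal.ResidueField.liftₐ p (Algebra.ofId A _) (fun a ha => hp a ha) hu
  let ρ : k ⊗[A] C →ₐ[A] Lbar A Q :=
    Algebra.TensorProduct.lift j (IsScalarTower.toAlgHom A C (Lbar A Q)) fun _ _ => Commute.all _ _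
  have hρ : ∀ c, ρ ((1 : k) ⊗ₜ c) = algebraMap C (Lbar A Q) c := fun c => by simp [ρ]
  refine (isNoetherianRing_iff_ideal_fg _).mpr fun I => ?_
  suffices h : (I.comap ρ).map ρ = I by
    rw [← h]
    exact Ideal.FG.map (IsNoetherian.noetherian _) _
  refine le_antisymm Ideal.map_comap_le fun z hz => ?_
  obtain ⟨z, rfl⟩ := Ideal.Quotient.mk_surjective z
  obtain ⟨⟨c, s⟩, hcs⟩ := IsLocalization.surj Q.primeCompl z
  have h1 : Ideal.Quotient.mk _ z * Ideal.Quotient.mk _ (algebraMap C LC s) = ρ ((1 : k) ⊗ₜ c) := by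
    rw [hρ, ← map_mul, hcs]; rfl
  refine (Ideal.mul_unit_mem_iff_mem _ ((IsLocalization.map_units LC s).map (Ideal.Quotient.mk _))).mp ?_
  rw [h1]
  refine Ideal.mem_map_of_mem _ ?_
  rw [Ideal.mem_comap, ← h1]
  exact I.mul_mem_right _ hz

theorem algebraMap_mem_maximal (Q : Ideal C) [Q.IsPrime] {x : C} (hx : x ∈ Q) :
    algebraMap C (Lbar A Q) x ∈ Ideal.jacobson (⊥ : Ideal (Lbar A Q)) := by
  refine maximalIdeal_le_jacobson ⊥ ?_
  haveI : IsLocalHom (Ideal.Quotient.mk (pLoc A Q)) := IsLocalHom.of_surjective _ Ideal.Quotient.mk_surjective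
  exact (map_mem_nonunits_iff (Ideal.Quotient.mk (pLoc A Q)) _).mpr
    ((IsLocalization.AtPrime.to_map_mem_maximal_iff (Localization.AtPrime Q) Q x).mpr hx)

theorem flat_loc_quotient (I Q : Ideal C) [Q.IsPrime] [Module.Flat A (C ⧸ I)] :
    Module.Flat A (Localization.AtPrime Q ⧸ I.map (algebraMap C (Localization.AtPrime Q))) := by
  let LC := Localization.AtPrime Q
  have h1 : (Ideal.quotientMap (I.map (algebraMap C LC)) (algebraMap C LC) Ideal.le_comap_map).Flat :=
    Frg27.flat_quotientMap (T := C) (S := LC) I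
  have h2 : (algebraMap A (C ⧸ I)).Flat := RingHom.flat_algebraMap_iff.mpr inferInstance
  have h3 := RingHom.Flat.comp h2 h1
  rw [← RingHom.flat_algebraMap_iff]
  convert h3 using 1
  ext x
  rfl

theorem fibK_of_kRAt [Algebra.FiniteType A C] [Module.Flat A C] (I Q : Ideal C) [Q.IsPrime]
    [Module.Flat A (C ⧸ I)] (hIQ : I ≤ Q) (h : KRAt I Q) : FibK A I Q := by
  obtain ⟨g, hg, hgen⟩ := h
  let LC := Localization.AtPrime Q
  obtain ⟨l, hlI, hlkr, hlI'⟩ := hgen.of_isUnit (C := LC)
    (IsLocalization.map_units LC (⟨g, hg⟩ : Q.primeCompl))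
  haveI := flat_loc_quotient (A := A) I Q
  haveI : Module.Flat A (LC ⧸ Ideal.ofList (l.map (algebraMap C LC))) := by rw [← hlI']; infer_instance
  have hex := ex_neg_one_quotient (pLoc A Q) _ hlkr
    (inf_le_mul_of_flat (Ideal.ofList (l.map (algebraMap C LC))) (Q.under A))
  rw [List.map_map, ← RingHom.coe_comp, ← IsScalarTower.algebraMap_eq] at hex
  haveI := noeth_Lbar (A := A) Q
  have hreg := isWeaklyRegular_reverse_of_ex (L := Lbar A Q) (fun x hx => by
    obtain ⟨y, hy, rfl⟩ := List.mem_map.1 hx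
    exact algebraMap_mem_maximal Q (hIQ (hlI y hy))) hex
  refine ⟨l, hlI, (kR_of_isWeaklyRegular _ hreg).perm (List.reverse_perm _), ?_⟩
  rw [IsScalarTower.algebraMap_eq C LC (Lbar A Q), ← Ideal.map_map, hlI', Ideal.map_ofList, List.map_map,
    ← RingHom.coe_comp]

theorem kRAt_of_fibK [Algebra.FinitePresentation A C] [Module.Flat A C] (I Q : Ideal C) [Q.IsPrime]
    [Module.Flat A (C ⧸ I)] (hI : I.FG) (hIQ : I ≤ Q) (h : FibK A I Q) : KRAt I Q := by
  classical
  obtain ⟨l, hlI, hlkr, hlI'⟩ := h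
  let LC := Localization.AtPrime Q
  haveI := noeth_Lbar (A := A) Q
  have hreg := isWeaklyRegular_reverse_of_ex (L := Lbar A Q) (fun x hx => by
    obtain ⟨y, hy, rfl⟩ := List.mem_map.1 hx
    exact algebraMap_mem_maximal Q (hIQ (hlI y hy))) (hlkr (-1) (by omega))
  let a : Fin l.reverse.length → C := l.reverse.get
  have ha : ∀ i, a i ∈ I := fun i => hlI _ (List.mem_reverse.1 (List.get_mem _ _))
  have hareg : IsWeaklyRegular (Lbar A Q) (List.ofFn fun i => Ideal.Quotient.mk (pLoc A Q) (algebraMap C LC (a i))) := by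
    have e : List.ofFn (fun i => Ideal.Quotient.mk (pLoc A Q) (algebraMap C LC (a i))) =
        (List.map (algebraMap C (Lbar A Q)) l).reverse := by
      rw [← List.map_reverse]
      conv_rhs => rw [← List.ofFn_get l.reverse, List.map_ofFn]
      rfl
    rw [e]
    exact hreg
  obtain ⟨g₁, hg₁, hflat⟩ := FlatMor66.exists_flat_over_polynomial (R := A) (LC := LC) Q inferInstance a
    (fun i => hIQ (ha i)) hareg
  let S : Ideal C := Ideal.span (Set.range a)
  have hS : S = Ideal.ofList l.reverse := by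
    show Ideal.span _ = Ideal.span _
    congr 1
    exact Set.range_list_get _
  have hle : I.map (algebraMap C LC) ≤ S.map (algebraMap C LC) := by
    refine Submodule.le_of_le_smul_of_le_jacobson_bot (hI.map _) (le_trans (pLoc_le A Q) (maximalIdeal_le_jacobson ⊥)) ?_
    haveI := flat_loc_quotient (A := A) I Q
    intro c hc
    have h1 : Ideal.Quotient.mk (pLoc A Q) c ∈ (S.map (algebraMap C LC)).map (Ideal.Quotient.mk (pLoc A Q)) := by
      rw [hS, Ideal.map_map, show (Ideal.Quotient.mk (pLoc A Q)).comp (algebraMap C LC) = algebraMap C (Lbar A Q) from rfl,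
        Ideal.map_ofList, List.map_reverse, ofList_perm (List.reverse_perm _), ← hlI',
        show algebraMap C (Lbar A Q) = (Ideal.Quotient.mk (pLoc A Q)).comp (algebraMap C LC) from rfl, ← Ideal.map_map]
      exact Ideal.mem_map_of_mem _ hc
    rw [Ideal.mem_map_iff_of_surjective _ Ideal.Quotient.mk_surjective] at h1
    obtain ⟨s, hs, hsc⟩ := h1
    have hsI : s ∈ I.map (algebraMap C LC) :=
      Ideal.map_mono (Ideal.span_le.2 (Set.range_subset_iff.2 ha)) hs
    have h2 : c - s ∈ pLoc A Q * I.map (algebraMap C LC) :=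
      inf_le_mul_of_flat (I.map (algebraMap C LC)) (Q.under A)
        ⟨Ideal.Quotient.eq.1 hsc.symm, sub_mem hc hsI⟩
    rw [← sub_add_cancel c s]
    exact add_mem (Submodule.mem_sup_right h2) (Submodule.mem_sup_left hs)
  obtain ⟨G, hG⟩ := hI
  have hG' : ∀ c ∈ G, ∃ t, t ∉ Q ∧ t * c ∈ S := fun c hc =>
    (IsLocalization.algebraMap_mem_map_algebraMap_iff Q.primeCompl LC S c).1
      (hle (Ideal.mem_map_of_mem _ (show c ∈ I from hG ▸ Ideal.subset_span hc)))
  choose t ht htc using hG'
  let g₂ := ∏ c : G, t c c.2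
  have hg₂ : g₂ ∉ Q := fun h => by
    obtain ⟨c, -, hcQ⟩ := Ideal.IsPrime.prod_mem_iff.1 h
    exact ht c c.2 hcQ
  refine ⟨g₁ * g₂, Ideal.IsPrime.mul_notMem inferInstance hg₁ hg₂, ?_⟩
  let C₁ := Localization.Away g₁
  let C₂ := Localization.Away (g₁ * g₂)
  have hf := hflat C₁
  let φ : MvPolynomial (Fin l.reverse.length) A →ₐ[A] C₁ := MvPolynomial.aeval fun i => algebraMap C C₁ (a i)
  letI : Algebra (MvPolynomial (Fin l.reverse.length) A) C₁ := φ.toRingHom.toAlgebra
  haveI : Module.Flat (MvPolynomial (Fin l.reverse.length) A) C₁ := hf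
  have hwr := IsWeaklyRegular.of_flat (S := C₁) (FlatMor66.isWeaklyRegular_X (R := A) l.reverse.length)
  have hkr : KRGen C₁ S := by
    refine ⟨l.reverse, fun x hx => hS ▸ Ideal.subset_span hx, kR_of_isWeaklyRegular _ ?_, ?_⟩
    · convert hwr using 1
      rw [List.map_ofFn]
      conv_lhs => rw [← List.ofFn_get l.reverse, List.map_ofFn]
      congr 1
      funext i
      exact (MvPolynomial.aeval_X _ i).symm
    · rw [hS, Ideal.map_ofList]
  have hu : IsUnit (algebraMap C C₂ g₁) :=
    isUnit_of_dvd_unit (map_dvd _ (Dvd.intro g₂ rfl)) (IsLocalization.Away.algebraMap_isUnit _)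
  obtain ⟨l', hl', hkr', heq⟩ := hkr.of_isUnit (C := C₂) hu
  refine ⟨l', fun x hx => Ideal.span_le.2 (Set.range_subset_iff.2 ha) (hl' x hx), hkr', le_antisymm ?_ ?_⟩
  · rw [← heq, ← hG, Ideal.map_le_iff_le_comap]
    refine Ideal.span_le.2 ?_
    intro c hc
    show algebraMap C C₂ c ∈ S.map (algebraMap C C₂)
    refine (Ideal.unit_mul_mem_iff_mem _ (isUnit_of_dvd_unit (map_dvd (algebraMap C C₂)
      ((Finset.dvd_prod_of_mem (fun c : G => t c c.2) (Finset.mem_univ ⟨c, hc⟩)).trans (dvd_mul_left g₂ g₁)))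
      (IsLocalization.Away.algebraMap_isUnit _))).1 ?_
    rw [← map_mul]
    exact Ideal.mem_map_of_mem _ (htc c hc)
  · rw [← heq]
    exact Ideal.map_mono (Ideal.span_le.2 (Set.range_subset_iff.2 ha))

end Crit

section BaseChange

variable {A C : Type u} [CommRing A] [CommRing C] [Algebra A C]

/-- The local ring of the fibre ring at a prime over `Q` is the local ring of the fibre at `Q`. -/
theorem exists_equiv_fibre (Q : Ideal C) [Q.IsPrime] (p : Ideal A) [p.IsPrime] (hp : p = Q.under A)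
    (q : Ideal (p.Fiber C)) [q.IsPrime] (hq : q.comap (algebraMap C (p.Fiber C)) = Q) :
    ∃ e : Lbar A Q ≃+* Localization.AtPrime q,
      ∀ c, e (algebraMap C (Lbar A Q) c) = algebraMap (p.Fiber C) (Localization.AtPrime q) (algebraMap C (p.Fiber C) c) := by
  subst hp
  let p := Q.under A
  let LC := Localization.AtPrime Q
  let T := p.Fiber C
  let Lf := Localization.AtPrime q
  let η : C →+* Lf := (algebraMap T Lf).comp (algebraMap C T)
  have hη : ∀ s : Q.primeCompl, IsUnit (η s) := fun s =>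
    IsLocalization.map_units Lf (⟨algebraMap C T s, fun h => s.2 (hq.le h)⟩ : q.primeCompl)
  let ψ₀ : LC →+* Lf := IsLocalization.lift hη
  have hψ₀ : ∀ c, ψ₀ (algebraMap C LC c) = η c := IsLocalization.lift_eq hη
  have hker : pLoc A Q ≤ RingHom.ker ψ₀ := Ideal.map_le_iff_le_comap.mpr fun a ha => by
    rw [Ideal.mem_comap, RingHom.mem_ker, IsScalarTower.algebraMap_apply A C LC, hψ₀]
    show algebraMap T Lf (algebraMap C T (algebraMap A C a)) = 0
    rw [show algebraMap C T (algebraMap A C a) = algebraMap p.ResidueField T (algebraMap A p.ResidueField a) from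
      (Algebra.TensorProduct.includeRight.commutes a).trans (IsScalarTower.algebraMap_apply A p.ResidueField T a),
      Ideal.algebraMap_residueField_eq_zero.mpr ha, map_zero, map_zero]
  let ψ : Lbar A Q →+* Lf := Ideal.Quotient.lift (pLoc A Q) ψ₀ hker
  have hψ : ∀ c, ψ (algebraMap C (Lbar A Q) c) = η c := fun c => hψ₀ c
  have hp0 : ∀ a ∈ p, algebraMap A (Lbar A Q) a = 0 := fun a ha =>
    Ideal.Quotient.eq_zero_iff_mem.mpr (Ideal.mem_map_of_mem _ ha)
  have hu : ∀ s ∉ p, IsUnit (algebraMap A (Lbar A Q) s) := fun s hs => by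
    rw [IsScalarTower.algebraMap_apply A LC (Lbar A Q), IsScalarTower.algebraMap_apply A C LC]
    exact (IsLocalization.map_units LC (⟨_, fun h => hs h⟩ : Q.primeCompl)).map _
  let j : p.ResidueField →ₐ[A] Lbar A Q := Ideal.ResidueField.liftₐ p (Algebra.ofId A _) (fun a ha => hp0 a ha) hu
  let ρ : T →ₐ[A] Lbar A Q :=
    Algebra.TensorProduct.lift j (IsScalarTower.toAlgHom A C (Lbar A Q)) fun _ _ => Commute.all _ _
  have hρ : ∀ c, ρ (algebraMap C T c) = algebraMap C (Lbar A Q) c := fun c => by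
    show ρ ((1 : p.ResidueField) ⊗ₜ c) = _
    refine (Algebra.TensorProduct.lift_tmul _ _ _ _ _).trans ?_
    rw [map_one, one_mul]
    rfl
  have hρu : ∀ x : q.primeCompl, IsUnit (ρ.toRingHom x) := by
    rintro ⟨x, hx⟩
    obtain ⟨r, hr, s, e⟩ := Ideal.Fiber.exists_smul_eq_one_tmul p x
    have hrT : IsUnit (algebraMap A T r) := by
      rw [IsScalarTower.algebraMap_apply A p.ResidueField T]
      exact (isUnit_iff_ne_zero.mpr (mt Ideal.algebraMap_residueField_eq_zero.mp hr)).map _
    have hs : s ∉ Q := fun h => by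
      have : algebraMap C T s ∈ q := hq.ge h
      rw [show algebraMap C T s = algebraMap A T r * x from e.symm.trans (Algebra.smul_def r x)] at this
      exact hx ((Ideal.unit_mul_mem_iff_mem _ hrT).1 this)
    have h1 : ρ (algebraMap A T r) * ρ x = algebraMap C (Lbar A Q) s := by
      rw [← map_mul, ← Algebra.smul_def, e]; exact hρ s
    have h2 : IsUnit (algebraMap C (Lbar A Q) s) :=
      (IsLocalization.map_units LC (⟨s, hs⟩ : Q.primeCompl)).map (Ideal.Quotient.mk (pLoc A Q))
    rw [← h1] at h2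
    exact isUnit_of_mul_isUnit_right h2
  let φ : Lf →+* Lbar A Q := IsLocalization.lift hρu
  have hφ : ∀ x, φ (algebraMap T Lf x) = ρ x := IsLocalization.lift_eq hρu
  have h1 : φ.comp ψ = RingHom.id _ := by
    refine Ideal.Quotient.ringHom_ext (IsLocalization.ringHom_ext Q.primeCompl (RingHom.ext fun c => ?_))
    show φ (ψ₀ (algebraMap C LC c)) = _
    rw [hψ₀]
    exact (hφ _).trans (hρ c)
  have h2 : ψ.comp φ = RingHom.id _ := by
    refine IsLocalization.ringHom_ext q.primeCompl (RingHom.ext fun x => ?_)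
    show ψ (φ (algebraMap T Lf x)) = algebraMap T Lf x
    rw [hφ]
    obtain ⟨r, hr, s, e⟩ := Ideal.Fiber.exists_smul_eq_one_tmul p x
    have hrT : IsUnit (algebraMap A T r) := by
      rw [IsScalarTower.algebraMap_apply A p.ResidueField T]
      exact (isUnit_iff_ne_zero.mpr (mt Ideal.algebraMap_residueField_eq_zero.mp hr)).map _
    refine (hrT.map (algebraMap T Lf)).mul_right_injective ?_
    show algebraMap T Lf _ * ψ (ρ x) = algebraMap T Lf _ * algebraMap T Lf x
    have hA : ψ (ρ (algebraMap A T r)) = algebraMap T Lf (algebraMap A T r) := by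
      rw [AlgHom.commutes, IsScalarTower.algebraMap_apply A C (Lbar A Q), hψ]
      exact congrArg (algebraMap T Lf) (Algebra.TensorProduct.includeRight.commutes r)
    conv_lhs => rw [← hA, ← map_mul, ← map_mul, ← Algebra.smul_def, e]
    conv_rhs => rw [← map_mul, ← Algebra.smul_def, e]
    show ψ (ρ (algebraMap C T s)) = _
    rw [hρ, hψ]
    rfl
  exact ⟨RingEquiv.ofRingHom ψ φ h2 h1, hψ⟩

theorem descend_kRGen {L L' : Type u} [CommRing L] [CommRing L'] [IsLocalRing L] [Algebra C L] [Algebra L L']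
    [Module.FaithfullyFlat L L'] (I : Ideal C)
    (hsur : ∀ z : L, ∃ (c : C) (u : L), IsUnit u ∧ z * u = algebraMap C L c)
    (hmem : ∀ c : C, algebraMap C L c ∈ I.map (algebraMap C L) → ∃ (a : C) (u : L), a ∈ I ∧ IsUnit u ∧
      algebraMap C L c * u = algebraMap C L a)
    (hIm : I.map (algebraMap C L) ≤ maximalIdeal L)
    (h : LCI.IsKoszulRegularIdeal ((I.map (algebraMap C L)).map (algebraMap L L'))) : KRGen L I := by
  classical
  have hk := S9251.result L L' _ h
  obtain ⟨g, hg, hgen⟩ := (isKoszulRegularIdeal_iff _).1 hk ⟨maximalIdeal L, inferInstance⟩ hIm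
  have hgu : IsUnit g := not_not.1 fun hn => hg ((IsLocalRing.mem_maximalIdeal g).2 hn)
  obtain ⟨l, hl, hkr, heq⟩ := hgen.of_isUnit (C := L) (show IsUnit (algebraMap L L g) from hgu)
  simp only [Algebra.algebraMap_self, RingHom.coe_id, List.map_id, Ideal.map_id] at hkr heq
  have hmem' : ∀ x ∈ l, ∃ (a : C) (u : L), a ∈ I ∧ IsUnit u ∧ x * u = algebraMap C L a := by
    intro x hx
    obtain ⟨c, u, hu, e⟩ := hsur x
    obtain ⟨a, u', ha, hu', e'⟩ := hmem c (by rw [← e]; exact Ideal.mul_mem_right _ _ (hl x hx))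
    exact ⟨a, u * u', ha, hu.mul hu', by rw [← mul_assoc, e, e']⟩
  choose a u ha hu e using hmem'
  let l' : List C := l.attach.map fun x => a x.1 x.2
  have hl' : ∀ y ∈ l', y ∈ I := by
    intro y hy
    obtain ⟨x, -, rfl⟩ := List.mem_map.1 hy
    exact ha _ _
  have heq' : Ideal.ofList (l'.map (algebraMap C L)) = Ideal.ofList l := by
    refine le_antisymm (Ideal.span_le.2 fun y hy => ?_) (Ideal.span_le.2 fun y hy => ?_)
    · obtain ⟨z, hz, rfl⟩ := List.mem_map.1 hy
      obtain ⟨x, -, rfl⟩ := List.mem_map.1 hz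
      rw [← e x.1 x.2]
      exact Ideal.mul_mem_right _ _ (Ideal.subset_span x.2)
    · refine (Ideal.mul_unit_mem_iff_mem _ (hu y hy)).1 ?_
      rw [e y hy]
      exact Ideal.subset_span (List.mem_map.2 ⟨_, List.mem_map.2 ⟨⟨y, hy⟩, List.mem_attach _ _, rfl⟩, rfl⟩)
  exact ⟨l', hl', kR_of_length_le hkr heq' (by simp [l']), heq.trans heq'.symm⟩

theorem fibK_baseChange_iff {A' C' : Type u} [CommRing A'] [CommRing C'] [Algebra A A'] [Algebra A' C']
    [Algebra A C'] [Algebra C C'] [IsScalarTower A A' C'] [IsScalarTower A C C'] [Algebra.IsPushout A A' C C']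
    [Algebra.FiniteType A C] [Algebra.FiniteType A' C']
    (I : Ideal C) (Q' : Ideal C') [Q'.IsPrime] (Q : Ideal C) [Q.IsPrime] (hQ : Q = Q'.comap (algebraMap C C'))
    (hIQ : I ≤ Q) : FibK A' (I.map (algebraMap C C')) Q' ↔ FibK A I Q := by
  subst hQ
  let p' := Q'.under A'
  let p := (Q'.comap (algebraMap C C')).under A
  have hpp : p = p'.comap (algebraMap A A') := by
    simp only [p, p', Ideal.under_def, Ideal.comap_comap]
    rw [← IsScalarTower.algebraMap_eq, ← IsScalarTower.algebraMap_eq]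
  let k := p.ResidueField
  let k' := p'.ResidueField
  let ι : k →ₐ[A] k' := Ideal.ResidueField.mapₐ p p' (Algebra.ofId A A') hpp
  let e₂ : k' ⊗[A'] (A' ⊗[A] C) ≃ₐ[A'] k' ⊗[A] C := Algebra.TensorProduct.cancelBaseChange A A' A' k' C
  let e₃ : k' ⊗[A'] (A' ⊗[A] C) ≃ₐ[A'] k' ⊗[A'] C' :=
    Algebra.TensorProduct.congr AlgEquiv.refl (Algebra.IsPushout.equiv A A' C C')
  let T := p.Fiber C
  let T' := p'.Fiber C'
  let χ₁ : T →+* k' ⊗[A] C := (Algebra.TensorProduct.map ι (AlgHom.id A C)).toRingHom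
  let χ : T →+* T' := (e₂.symm.trans e₃).toRingEquiv.toRingHom.comp χ₁
  have hχ₁ : χ₁.Flat := RingHom.Flat.tensorProductMap (f := ι) (g := AlgHom.id A C)
    (by letI := ι.toRingHom.toAlgebra; exact (inferInstance : Module.Flat k k'))
    (RingHom.Flat.of_bijective Function.bijective_id)
  have hχ : χ.Flat := RingHom.Flat.comp hχ₁ (RingHom.Flat.of_bijective (e₂.symm.trans e₃).bijective)
  have hsq : ∀ c, χ (algebraMap C T c) = algebraMap C' T' (algebraMap C C' c) := fun c => by
    show e₃ (e₂.symm (Algebra.TensorProduct.map ι (AlgHom.id A C) ((1 : k) ⊗ₜ c))) = (1 : k') ⊗ₜ algebraMap C C' c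
    rw [Algebra.TensorProduct.map_tmul, map_one, AlgHom.id_apply, Algebra.TensorProduct.cancelBaseChange_symm_tmul]
    show (1 : k') ⊗ₜ (Algebra.IsPushout.equiv A A' C C') ((1 : A') ⊗ₜ c) = _
    congr 1
    show (Algebra.IsPushout.out (R := A) (S := A') (R' := C) (S' := C')).equiv ((1 : A') ⊗ₜ c) = _
    rw [IsBaseChange.equiv_tmul, one_smul]
    rfl
  obtain ⟨q', hq'p, hq'⟩ : ∃ q' : Ideal T', q'.IsPrime ∧ q'.comap (algebraMap C' T') = Q' := by
    let ε : T' →ₐ[A'] Q'.ResidueField := Algebra.TensorProduct.lift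
      (Ideal.ResidueField.mapₐ p' Q' (Algebra.ofId A' C') rfl) (IsScalarTower.toAlgHom A' C' Q'.ResidueField)
      fun _ _ => Commute.all _ _
    refine ⟨RingHom.ker ε.toRingHom, RingHom.ker_isPrime _, ?_⟩
    ext c
    show ε ((1 : k') ⊗ₜ c) = 0 ↔ c ∈ Q'
    rw [show ε ((1 : k') ⊗ₜ c) = algebraMap C' Q'.ResidueField c from
      (Algebra.TensorProduct.lift_tmul _ _ _ _ _).trans (by rw [map_one, one_mul]; rfl)]
    exact Ideal.algebraMap_residueField_eq_zero
  let q : Ideal T := q'.comap χ
  have hq : q.comap (algebraMap C T) = Q'.comap (algebraMap C C') := by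
    ext c
    simp only [q, Ideal.mem_comap, hsq]
    rw [← Ideal.mem_comap, hq']
  obtain ⟨e, he⟩ := exists_equiv_fibre (A := A) (Q'.comap (algebraMap C C')) p rfl q hq
  obtain ⟨e', he'⟩ := exists_equiv_fibre (A := A') Q' p' rfl q' hq'
  let θ : Lbar A (Q'.comap (algebraMap C C')) →+* Lbar A' Q' :=
    e'.symm.toRingHom.comp ((Localization.localRingHom q q' χ rfl).comp e.toRingHom)
  have hθ : θ.Flat := RingHom.Flat.comp (RingHom.Flat.comp (RingHom.Flat.of_bijective e.bijective)
    (RingHom.Flat.localRingHom hχ q' q rfl)) (RingHom.Flat.of_bijective e'.symm.bijective)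
  have hθc : ∀ c, θ (algebraMap C (Lbar A (Q'.comap (algebraMap C C'))) c) =
      algebraMap C' (Lbar A' Q') (algebraMap C C' c) := fun c => by
    refine e'.injective ?_
    show e' (e'.symm (Localization.localRingHom q q' χ rfl (e _))) = _
    rw [RingEquiv.apply_symm_apply, he, he', Localization.localRingHom_to_map, hsq]
  haveI : IsLocalHom θ := by
    haveI : IsLocalHom (Localization.localRingHom q q' χ rfl) := Localization.isLocalHom_localRingHom _ _ _ _
    haveI : IsLocalHom e.toRingHom := ⟨fun a ha => by simpa using ha.map e.symm⟩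
    haveI : IsLocalHom e'.symm.toRingHom := ⟨fun a ha => by simpa using ha.map e'⟩
    infer_instance
  letI : Algebra (Lbar A (Q'.comap (algebraMap C C'))) (Lbar A' Q') := θ.toAlgebra
  haveI : IsLocalHom (algebraMap (Lbar A (Q'.comap (algebraMap C C'))) (Lbar A' Q')) := ‹IsLocalHom θ›
  haveI : Module.Flat (Lbar A (Q'.comap (algebraMap C C'))) (Lbar A' Q') := hθ
  haveI : Module.FaithfullyFlat (Lbar A (Q'.comap (algebraMap C C'))) (Lbar A' Q') :=
    Module.FaithfullyFlat.of_flat_of_isLocalHom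
  have hθ' : θ.comp (algebraMap C (Lbar A (Q'.comap (algebraMap C C')))) =
      (algebraMap C' (Lbar A' Q')).comp (algebraMap C C') := RingHom.ext hθc
  constructor
  · rintro ⟨l, hl, hkr, heq⟩
    refine descend_kRGen (L' := Lbar A' Q') I (fun z => ?_) (fun c hc => ?_) ?_ ?_
    · obtain ⟨z, rfl⟩ := Ideal.Quotient.mk_surjective z
      obtain ⟨⟨c, s⟩, hcs⟩ := IsLocalization.surj (Q'.comap (algebraMap C C')).primeCompl z
      exact ⟨c, _, (IsLocalization.map_units (Localization.AtPrime (Q'.comap (algebraMap C C'))) s).map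
        (Ideal.Quotient.mk (pLoc A _)), by rw [← map_mul, hcs]; rfl⟩
    · change Ideal.Quotient.mk (pLoc A _) (algebraMap C _ c) ∈ I.map _ at hc
      rw [show algebraMap C (Lbar A (Q'.comap (algebraMap C C'))) = (Ideal.Quotient.mk (pLoc A _)).comp
        (algebraMap C (Localization.AtPrime (Q'.comap (algebraMap C C')))) from rfl, ← Ideal.map_map,
        Ideal.mem_map_iff_of_surjective _ Ideal.Quotient.mk_surjective] at hc
      obtain ⟨y, hy, hyc⟩ := hc
      obtain ⟨⟨⟨a, ha⟩, s⟩, e₁⟩ :=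
        (IsLocalization.mem_map_algebraMap_iff (Q'.comap (algebraMap C C')).primeCompl _).1 hy
      exact ⟨a, _, ha, (IsLocalization.map_units (Localization.AtPrime (Q'.comap (algebraMap C C'))) s).map
        (Ideal.Quotient.mk (pLoc A _)), by
          show Ideal.Quotient.mk (pLoc A _) _ * _ = _
          rw [← hyc, ← map_mul, e₁]; rfl⟩
    · refine Ideal.map_le_iff_le_comap.mpr fun x hx => ?_
      have := algebraMap_mem_maximal (A := A) (Q'.comap (algebraMap C C')) (hIQ hx)
      rwa [jacobson_eq_maximalIdeal ⊥ bot_ne_top] at this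
    · rw [Ideal.map_map, RingHom.algebraMap_toAlgebra, hθ', ← Ideal.map_map, heq]
      refine (isKoszulRegularIdeal_iff _).2 fun P _ => ⟨1, P.isPrime.one_notMem, ?_⟩
      refine KRGen.of_flat (B := Lbar A' Q') ⟨_, fun x hx => Ideal.subset_span hx, ?_, ?_⟩
      · simpa using hkr
      · simp
  · rintro ⟨l, hl, hkr, heq⟩
    refine ⟨l.map (algebraMap C C'), fun x hx => ?_, ?_, ?_⟩
    · obtain ⟨y, hy, rfl⟩ := List.mem_map.1 hx
      exact Ideal.mem_map_of_mem _ (hl y hy)
    · have := KR.map (B := Lbar A' Q') hkr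
      rwa [List.map_map, ← RingHom.coe_comp, RingHom.algebraMap_toAlgebra, hθ', RingHom.coe_comp,
        ← List.map_map] at this
    · rw [Ideal.map_map, ← hθ', ← Ideal.map_map, heq, Ideal.map_ofList, List.map_map, List.map_map,
        ← RingHom.coe_comp, hθ', RingHom.coe_comp]

/-- Koszul regularity near a point is compatible with base change. -/
theorem kRAt_baseChange_iff {A' C' : Type u} [CommRing A'] [CommRing C'] [Algebra A A'] [Algebra A' C']
    [Algebra A C'] [Algebra C C'] [IsScalarTower A A' C'] [IsScalarTower A C C'] [Algebra.IsPushout A A' C C']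
    [Algebra.FinitePresentation A C] [Module.Flat A C] [Algebra.FinitePresentation A' C'] [Module.Flat A' C']
    (I : Ideal C) (hI : I.FG) [Module.Flat A (C ⧸ I)] [Module.Flat A' (C' ⧸ I.map (algebraMap C C'))]
    (Q' : Ideal C') [Q'.IsPrime] (Q : Ideal C) [Q.IsPrime] (hQ : Q = Q'.comap (algebraMap C C')) (hIQ : I ≤ Q) :
    KRAt (I.map (algebraMap C C')) Q' ↔ KRAt I Q := by
  have hIQ' : I.map (algebraMap C C') ≤ Q' := Ideal.map_le_iff_le_comap.mpr (hQ ▸ hIQ)
  constructor
  · intro h
    exact kRAt_of_fibK (A := A) I Q hI hIQ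
      ((fibK_baseChange_iff I Q' Q hQ hIQ).1 (fibK_of_kRAt (A := A') _ Q' hIQ' h))
  · intro h
    exact kRAt_of_fibK (A := A') _ Q' (hI.map _) hIQ'
      ((fibK_baseChange_iff I Q' Q hQ hIQ).2 (fibK_of_kRAt (A := A) I Q hIQ h))

end BaseChange

end Groth.Agent.FlatMor67.KoszulFib
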