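import Groth.Agent.FlatMor67.KoszulFibre
import Groth.Agent.FlatMor68.RegularTargetLCI
import Groth.Agent.LCI19.Target

/-!
# The Koszul locus of a morphism of flat schemes and base change: ring level and charts
-/

set_option autoImplicit false
set_option backward.isDefEq.respectTransparency.types false
set_option linter.style.haveILetI false
universe u

open TensorProduct AlgebraicGeometry CategoryTheory CategoryTheory.Limits

noncomputable section

namespace Groth.Agent.FlatMor67.KoszulLocus

open Groth.Agent.LCI19 Groth.Agent.FlatMor67.KoszulFib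

/-- `D → B` is a complete intersection near `q`. -/
def LciAt (D : Type u) {B : Type u} [CommRing D] [CommRing B] [Algebra D B] (q : Ideal B) : Prop :=
  ∃ b ∉ q, LCI.IsLCI D (Localization.Away b)

/-- Being a complete intersection near a prime is read off on the kernel of any presentation. -/
theorem lciAt_iff_krAt {D B : Type u} [CommRing D] [CommRing B] [Algebra D B] {n : ℕ}
    (α : MvPolynomial (Fin n) D →ₐ[D] B) (hα : Function.Surjective α) (q : Ideal B) [q.IsPrime] :
    LciAt D q ↔ KRAt (RingHom.ker α.toRingHom) (q.comap α.toRingHom) := by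
  constructor
  · rintro ⟨b, hb, h⟩
    obtain ⟨p, rfl⟩ := hα b
    refine krAt_of_away (f := p) (B := Localization.Away p)
      (kr_of_target α hα p (Localization.Away (α p)) h _) ⟨q.comap α.toRingHom, Ideal.comap_isPrime _ _⟩
      (Ideal.ker_le_comap _) hb
  · intro h
    letI := α.toRingHom.toAlgebra
    haveI : IsScalarTower D (MvPolynomial (Fin n) D) B := .of_algebraMap_eq fun a => (α.commutes a).symm
    haveI : Algebra.Smooth D (MvPolynomial (Fin n) D) := ⟨inferInstance, inferInstance⟩
    exact FlatMor68.RegularTargetLCI.exists_lci_away hα q h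

/-- Base change of the kernel of a surjection. -/
theorem ker_baseChange {A A' C C' B B' : Type u} [CommRing A] [CommRing A'] [CommRing C] [CommRing C']
    [CommRing B] [CommRing B'] [Algebra A A'] [Algebra A C] [Algebra A' C'] [Algebra A C'] [Algebra C C']
    [IsScalarTower A A' C'] [IsScalarTower A C C'] [Algebra.IsPushout A A' C C']
    [Algebra A B] [Algebra A' B'] [Algebra A B'] [Algebra B B']
    [IsScalarTower A A' B'] [IsScalarTower A B B'] [Algebra.IsPushout A A' B B']
    (α : C →ₐ[A] B) (hα : Function.Surjective α) (α' : C' →ₐ[A'] B')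
    (hsq : ∀ c, α' (algebraMap C C' c) = algebraMap B B' (α c)) :
    Function.Surjective α' ∧ RingHom.ker α'.toRingHom = (RingHom.ker α.toRingHom).map (algebraMap C C') := by
  let EC := Algebra.IsPushout.equiv A A' C C'
  let EB := Algebra.IsPushout.equiv A A' B B'
  let m : A' ⊗[A] C →ₐ[A] A' ⊗[A] B := Algebra.TensorProduct.map (AlgHom.id A A') α
  have hC : ∀ c, EC ((1 : A') ⊗ₜ[A] c) = algebraMap C C' c := fun c => by
    rw [Algebra.IsPushout.equiv_tmul, map_one, one_mul]
  have comm : ∀ t, α' (EC t) = EB (m t) := by
    intro t
    induction t using TensorProduct.induction_on with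
    | zero => simp only [map_zero]
    | tmul a c =>
      rw [Algebra.TensorProduct.map_tmul, Algebra.IsPushout.equiv_tmul, Algebra.IsPushout.equiv_tmul,
        map_mul, AlgHom.commutes, hsq]
      rfl
    | add x y hx hy => simp only [map_add, hx, hy]
  have hm : Function.Surjective m :=
    Algebra.TensorProduct.map_surjective (AlgHom.id A A') α Function.surjective_id hα
  refine ⟨fun z => ?_, ?_⟩
  · obtain ⟨t, ht⟩ := hm (EB.symm z)
    exact ⟨EC t, by rw [comm, ht, EB.apply_symm_apply]⟩
  · have hm0 : RingHom.ker m = (RingHom.ker α).map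
        (Algebra.TensorProduct.includeRight : C →ₐ[A] A' ⊗[A] C) := Algebra.TensorProduct.lTensor_ker α hα
    refine le_antisymm (fun z hz => ?_) (Ideal.map_le_iff_le_comap.2 fun c hc => ?_)
    · obtain ⟨t, rfl⟩ := EC.surjective z
      have ht : m t = 0 := EB.injective ((comm t).symm.trans ((show α' (EC t) = 0 from hz).trans (map_zero EB).symm))
      have h1 : EC.toRingEquiv.toRingHom t ∈ ((RingHom.ker α).map
          (Algebra.TensorProduct.includeRight : C →ₐ[A] A' ⊗[A] C).toRingHom).map EC.toRingEquiv.toRingHom :=
        Ideal.mem_map_of_mem _ (hm0.le ht)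
      rw [Ideal.map_map, show EC.toRingEquiv.toRingHom.comp
        (Algebra.TensorProduct.includeRight : C →ₐ[A] A' ⊗[A] C).toRingHom = algebraMap C C' from RingHom.ext hC] at h1
      exact h1
    · show α' (algebraMap C C' c) = 0
      rw [hsq, show α c = 0 from hc, map_zero]

section BaseChange

attribute [local instance] MvPolynomial.algebraMvPolynomial

variable {A A' D D' B B' : Type u} [CommRing A] [CommRing A'] [CommRing D] [CommRing D'] [CommRing B]
  [CommRing B'] [Algebra A A']
  [Algebra A D] [Algebra A B] [Algebra D B] [IsScalarTower A D B]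
  [Algebra A' D'] [Algebra A' B'] [Algebra D' B'] [IsScalarTower A' D' B']
  [Algebra A D'] [Algebra D D'] [IsScalarTower A A' D'] [IsScalarTower A D D']
  [Algebra A B'] [Algebra B B'] [IsScalarTower A A' B'] [IsScalarTower A B B']
  [Algebra.IsPushout A A' D D'] [Algebra.IsPushout A A' B B']

theorem lciAt_baseChange_iff
    (hsq : ∀ d, algebraMap D' B' (algebraMap D D' d) = algebraMap B B' (algebraMap D B d))
    [Algebra.FinitePresentation A D] [Module.Flat A D] [Algebra.FinitePresentation A B] [Module.Flat A B]
    [Algebra.FinitePresentation A' D'] [Module.Flat A' D'] [Algebra.FinitePresentation A' B'] [Module.Flat A' B']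
    (q' : Ideal B') [q'.IsPrime] : LciAt D' q' ↔ LciAt D (q'.comap (algebraMap B B')) := by
  haveI : Algebra.FiniteType D B := Algebra.FiniteType.of_restrictScalars_finiteType A D B
  obtain ⟨n, α, hα⟩ := Algebra.FiniteType.iff_quotient_mvPolynomial''.1 ‹Algebra.FiniteType D B›
  let C := MvPolynomial (Fin n) D
  let C' := MvPolynomial (Fin n) D'
  haveI : IsScalarTower A C C' := .of_algebraMap_eq fun a => by
    show MvPolynomial.C (algebraMap A D' a) = MvPolynomial.map (algebraMap D D') (MvPolynomial.C (algebraMap A D a))
    rw [MvPolynomial.map_C, ← IsScalarTower.algebraMap_apply A D D']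
  haveI : IsScalarTower D C C' := .of_algebraMap_eq fun a => by
    show MvPolynomial.C (algebraMap D D' a) = MvPolynomial.map (algebraMap D D') (MvPolynomial.C a)
    rw [MvPolynomial.map_C]
  haveI : Algebra.IsPushout A D A' D' := Algebra.IsPushout.symm inferInstance
  haveI : Algebra.IsPushout D C D' C' := inferInstance
  haveI hCC : Algebra.IsPushout A C A' C' := (Algebra.IsPushout.comp_iff A D A' D').2 inferInstance
  haveI : Algebra.IsPushout A A' C C' := hCC.symm
  haveI : Algebra.FinitePresentation A C := Algebra.FinitePresentation.trans A D C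
  haveI : Module.Flat A C := Module.Flat.trans A D C
  haveI : Algebra.FinitePresentation A' C' := Algebra.FinitePresentation.trans A' D' C'
  haveI : Module.Flat A' C' := Module.Flat.trans A' D' C'
  let α' : C' →ₐ[D'] B' := MvPolynomial.aeval fun i => algebraMap B B' (α (MvPolynomial.X i))
  have hαα : ∀ c, α' (algebraMap C C' c) = algebraMap B B' (α c) := fun c => by
    have : α'.toRingHom.comp (algebraMap C C') = (algebraMap B B').comp α.toRingHom := by
      refine MvPolynomial.ringHom_ext (fun d => ?_) fun i => ?_
      · show α' (MvPolynomial.map (algebraMap D D') (MvPolynomial.C d)) = algebraMap B B' (α (MvPolynomial.C d))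
        rw [MvPolynomial.map_C, MvPolynomial.aeval_C, hsq]
        exact congrArg (algebraMap B B') (α.commutes d).symm
      · show α' (MvPolynomial.map (algebraMap D D') (MvPolynomial.X i)) = _
        rw [MvPolynomial.map_X, MvPolynomial.aeval_X]
        rfl
    exact RingHom.congr_fun this c
  obtain ⟨hs', hk⟩ := ker_baseChange (α.restrictScalars A) hα (α'.restrictScalars A') hαα
  rw [lciAt_iff_krAt α' hs', lciAt_iff_krAt α hα]
  set I := RingHom.ker α.toRingHom with hIdef
  have hk' : RingHom.ker α'.toRingHom = I.map (algebraMap C C') := hk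
  haveI : Module.Flat A (C ⧸ I) :=
    Module.Flat.of_linearEquiv (Ideal.quotientKerAlgEquivOfSurjective (f := α.restrictScalars A) hα).toLinearEquiv
  haveI : Module.Flat A' (C' ⧸ I.map (algebraMap C C')) := by
    rw [← hk']
    exact Module.Flat.of_linearEquiv (R := A')
      (Ideal.quotientKerAlgEquivOfSurjective (f := α'.restrictScalars A') hs').toLinearEquiv
  have hI : I.FG := Algebra.FinitePresentation.ker_fG_of_surjective (α.restrictScalars A) hα
  rw [hk']
  refine kRAt_baseChange_iff (A := A) (A' := A') I hI (q'.comap α'.toRingHom) _ ?_ (Ideal.ker_le_comap _)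
  ext c
  show algebraMap B B' (α c) ∈ q' ↔ α' (algebraMap C C' c) ∈ q'
  rw [hαα]

end BaseChange

end Groth.Agent.FlatMor67.KoszulLocus
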