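import Groth.Agent.FlatMor67.KoszulLocus
import Mathlib.AlgebraicGeometry.Morphisms.Flat
import Mathlib.AlgebraicGeometry.Morphisms.FinitePresentation

/-!
# The Koszul locus of a morphism of flat schemes and base change
-/

set_option autoImplicit false
set_option backward.isDefEq.respectTransparency.types false
set_option linter.style.haveILetI false
universe u

open AlgebraicGeometry CategoryTheory CategoryTheory.Limits

noncomputable section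

namespace Groth.Agent.FlatMor67.KoszulLocus

open FlatMor68.LCICalc

/-- The point lies in the locus where the morphism is a complete intersection on some affine charts. -/
abbrev IsLciAt {X Y : Scheme.{u}} (f : X ⟶ Y) (x : X) : Prop :=
  ∃ (U : X.Opens) (V : Y.Opens) (_ : IsAffineOpen U) (_ : IsAffineOpen V) (hUV : U ≤ f ⁻¹ᵁ V), x ∈ U ∧
    letI := (f.appLE V U hUV).hom.toAlgebra
    LCI.IsLCI Γ(Y, V) Γ(X, U)

theorem mem_basicOpen_iff {X : Scheme.{u}} {U : X.Opens} (hU : IsAffineOpen U) {x : X} (hx : x ∈ U)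
    (b : Γ(X, U)) : x ∈ X.basicOpen b ↔ b ∉ (hU.primeIdealOf ⟨x, hx⟩).asIdeal := by
  have h := hU.fromSpec_preimage_basicOpen b
  have h1 : hU.primeIdealOf ⟨x, hx⟩ ∈ hU.fromSpec ⁻¹ᵁ X.basicOpen b ↔
      hU.primeIdealOf ⟨x, hx⟩ ∈ PrimeSpectrum.basicOpen b := by rw [h]; rfl
  rw [PrimeSpectrum.mem_basicOpen] at h1
  refine Iff.trans ?_ h1
  show x ∈ X.basicOpen b ↔ hU.fromSpec (hU.primeIdealOf ⟨x, hx⟩) ∈ X.basicOpen b
  rw [hU.fromSpec_primeIdealOf ⟨x, hx⟩]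

/-- The locus may be computed in any chart. -/
theorem isLciAt_iff {X Y : Scheme.{u}} (f : X ⟶ Y) {U : X.Opens} {V : Y.Opens} (hU : IsAffineOpen U)
    (hV : IsAffineOpen V) (e : U ≤ f ⁻¹ᵁ V) {x : X} (hx : x ∈ U) :
    IsLciAt f x ↔ (letI := (f.appLE V U e).hom.toAlgebra; LciAt Γ(Y, V) (hU.primeIdealOf ⟨x, hx⟩).asIdeal) := by
  letI := (f.appLE V U e).hom.toAlgebra
  constructor
  · rintro ⟨U₁, V₁, hU₁, hV₁, e₁, hx₁, h⟩
    obtain ⟨r, s, hxs, e', hrs⟩ := exists_basicOpen_le_appLE_of_appLE_of_isAffine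
      (f := f) lciHom_target lciHom_isLocal.localizationAwayPreserves x ⟨V, hV⟩ ⟨V₁, hV₁⟩ ⟨U, hU⟩ ⟨U₁, hU₁⟩
      hx hx₁ e₁ h (e hx)
    refine ⟨s, (mem_basicOpen_iff hU hx s).1 hxs, ?_⟩
    haveI := hV.isLocalization_basicOpen r
    haveI := hU.isLocalization_basicOpen s
    have e'' : X.basicOpen s ≤ f ⁻¹ᵁ V := (X.basicOpen_le s).trans e
    have h1 := lciHom_source (R := Γ(Y, V)) Γ(Y, Y.basicOpen r) r _ hrs
    letI a2 : Algebra Γ(Y, V) Γ(X, X.basicOpen s) := (f.appLE V (X.basicOpen s) e'').hom.toAlgebra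
    have h2 : LCI.IsLCI Γ(Y, V) Γ(X, X.basicOpen s) := by
      rw [← lciHom_algebraMap]
      have : (f.appLE V (X.basicOpen s) e'').hom =
          (f.appLE (Y.basicOpen r) (X.basicOpen s) e').hom.comp (algebraMap Γ(Y, V) Γ(Y, Y.basicOpen r)) :=
        (congrArg CommRingCat.Hom.hom (Scheme.Hom.map_appLE f e' (homOfLE (Y.basicOpen_le r)).op)).symm
      show LCIHom (f.appLE V (X.basicOpen s) e'').hom
      rw [this]
      exact h1
    haveI : IsScalarTower Γ(Y, V) Γ(X, U) Γ(X, X.basicOpen s) := .of_algebraMap_eq'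
      (congrArg CommRingCat.Hom.hom (f.appLE_map e (homOfLE (X.basicOpen_le s)).op).symm)
    exact FlatMor67.isLCI_of_algEquiv ((IsLocalization.algEquiv (Submonoid.powers s) Γ(X, X.basicOpen s)
      (Localization.Away s)).restrictScalars Γ(Y, V)) h2
  · rintro ⟨b, hb, h⟩
    have e'' : X.basicOpen b ≤ f ⁻¹ᵁ V := (X.basicOpen_le b).trans e
    haveI := hU.isLocalization_basicOpen b
    refine ⟨X.basicOpen b, V, hU.basicOpen b, hV, e'', (mem_basicOpen_iff hU hx b).2 hb, ?_⟩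
    letI := (f.appLE V (X.basicOpen b) e'').hom.toAlgebra
    haveI : IsScalarTower Γ(Y, V) Γ(X, U) Γ(X, X.basicOpen b) := .of_algebraMap_eq'
      (congrArg CommRingCat.Hom.hom (f.appLE_map e (homOfLE (X.basicOpen_le b)).op).symm)
    exact FlatMor67.isLCI_of_algEquiv ((IsLocalization.algEquiv (Submonoid.powers b) (Localization.Away b)
      Γ(X, X.basicOpen b)).restrictScalars Γ(Y, V)) h

theorem comap_primeIdealOf {X Y : Scheme.{u}} (f : X ⟶ Y) {U : X.Opens} {V : Y.Opens} (hU : IsAffineOpen U)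
    (hV : IsAffineOpen V) (e : U ≤ f ⁻¹ᵁ V) {x : X} (hx : x ∈ U) :
    (hU.primeIdealOf ⟨x, hx⟩).asIdeal.comap (f.appLE V U e).hom = (hV.primeIdealOf ⟨f x, e hx⟩).asIdeal := by
  have h1 := congrArg (fun k : Spec Γ(X, U) ⟶ Y => k (hU.primeIdealOf ⟨x, hx⟩)) (hV.SpecMap_appLE_fromSpec f hU e)
  rw [Scheme.Hom.comp_apply, Scheme.Hom.comp_apply, hU.fromSpec_primeIdealOf ⟨x, hx⟩] at h1
  have h2 := hV.fromSpec.isOpenEmbedding.injective (h1.trans (hV.fromSpec_primeIdealOf ⟨f x, e hx⟩).symm)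
  exact congrArg PrimeSpectrum.asIdeal h2

/-- The affine pullback square gives a pushout of rings of sections. -/
theorem isPushout_sections {X S X' S' : Scheme.{u}} {f : X ⟶ S} {f' : X' ⟶ S'} {g' : X' ⟶ X} {g : S' ⟶ S}
    (hc : IsPullback g' f' f g) {U : X.Opens} {W : S.Opens} {W' : S'.Opens} (hU : IsAffineOpen U)
    (hW : IsAffineOpen W) (hW' : IsAffineOpen W') (eW : W' ≤ g ⁻¹ᵁ W) (eU : U ≤ f ⁻¹ᵁ W) :
    IsAffineOpen (g' ⁻¹ᵁ U ⊓ f' ⁻¹ᵁ W') ∧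
      letI := (g.appLE W W' eW).hom.toAlgebra
      letI := (f.appLE W U eU).hom.toAlgebra
      letI := (f'.appLE W' (g' ⁻¹ᵁ U ⊓ f' ⁻¹ᵁ W') inf_le_right).hom.toAlgebra
      letI := (g'.appLE U (g' ⁻¹ᵁ U ⊓ f' ⁻¹ᵁ W') inf_le_left).hom.toAlgebra
      letI := ((g.appLE W W' eW) ≫ f'.appLE W' (g' ⁻¹ᵁ U ⊓ f' ⁻¹ᵁ W') inf_le_right).hom.toAlgebra
      ∃ (_ : IsScalarTower Γ(S, W) Γ(S', W') Γ(X', g' ⁻¹ᵁ U ⊓ f' ⁻¹ᵁ W'))
        (_ : IsScalarTower Γ(S, W) Γ(X, U) Γ(X', g' ⁻¹ᵁ U ⊓ f' ⁻¹ᵁ W')),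
        Algebra.IsPushout Γ(S, W) Γ(S', W') Γ(X, U) Γ(X', g' ⁻¹ᵁ U ⊓ f' ⁻¹ᵁ W') := by
  have : IsAffine _ := hU
  have : IsAffine _ := hW
  have : IsAffine _ := hW'
  refine ⟨.of_isIso (Scheme.Hom.isPullback_resLE hc eW eU rfl).isoPullback.hom, ?_⟩
  letI := (g.appLE W W' eW).hom.toAlgebra
  letI := (f.appLE W U eU).hom.toAlgebra
  letI := (f'.appLE W' (g' ⁻¹ᵁ U ⊓ f' ⁻¹ᵁ W') inf_le_right).hom.toAlgebra
  letI := (g'.appLE U (g' ⁻¹ᵁ U ⊓ f' ⁻¹ᵁ W') inf_le_left).hom.toAlgebra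
  letI := ((g.appLE W W' eW) ≫ f'.appLE W' (g' ⁻¹ᵁ U ⊓ f' ⁻¹ᵁ W') inf_le_right).hom.toAlgebra
  have h1 := (isIso_pushoutSection_iff hc eW eU rfl).1
    (isIso_pushoutSection_of_isAffineOpen hc eW eU rfl hW hW' hU)
  haveI t1 : IsScalarTower Γ(S, W) Γ(S', W') Γ(X', g' ⁻¹ᵁ U ⊓ f' ⁻¹ᵁ W') := .of_algebraMap_eq' rfl
  haveI t2 : IsScalarTower Γ(S, W) Γ(X, U) Γ(X', g' ⁻¹ᵁ U ⊓ f' ⁻¹ᵁ W') :=
    .of_algebraMap_eq' (congrArg CommRingCat.Hom.hom h1.flip.w)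
  exact ⟨t1, t2, CommRingCat.isPushout_iff_isPushout.1 h1.flip⟩

/-- The Koszul locus of a morphism of flat finitely presented schemes commutes with base change. -/
theorem isLciAt_baseChange_iff {X Y S X' Y' S' : Scheme.{u}} (f : X ⟶ Y) (g : Y ⟶ S)
    [Flat (f ≫ g)] [LocallyOfFinitePresentation (f ≫ g)] [Flat g] [LocallyOfFinitePresentation g]
    (h : S' ⟶ S) (gY : Y' ⟶ Y) (g' : Y' ⟶ S') (hY : IsPullback gY g' g h)
    (gX : X' ⟶ X) (f' : X' ⟶ Y') (hX : IsPullback gX (f' ≫ g') (f ≫ g) h) (w : gX ≫ f = f' ≫ gY) (x' : X') :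
    IsLciAt f' x' ↔ IsLciAt f (gX x') := by
  haveI : Flat g' := MorphismProperty.of_isPullback (P := @Flat) hY ‹_›
  haveI : LocallyOfFinitePresentation g' := MorphismProperty.of_isPullback (P := @LocallyOfFinitePresentation) hY ‹_›
  haveI : Flat (f' ≫ g') := MorphismProperty.of_isPullback (P := @Flat) hX ‹_›
  haveI : LocallyOfFinitePresentation (f' ≫ g') :=
    MorphismProperty.of_isPullback (P := @LocallyOfFinitePresentation) hX ‹_›
  obtain ⟨U, hU, V, hV, W, hW, eUV, eVW, hx⟩ := FlatMor68.KoszulCalc.exists_charts f g (gX x')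
  have eUW : U ≤ (f ≫ g) ⁻¹ᵁ W := eUV.trans (f.preimage_mono eVW)
  have hmem : (f' ≫ g') x' ∈ h ⁻¹ᵁ W := by
    show h ((f' ≫ g') x') ∈ W
    rw [← Scheme.Hom.comp_apply, ← hX.w, Scheme.Hom.comp_apply]
    exact eUW hx
  obtain ⟨_, ⟨W', hW', rfl⟩, hxW', hW'W⟩ := S'.isBasis_affineOpens.exists_subset_of_mem_open hmem (h ⁻¹ᵁ W).isOpen
  obtain ⟨hV', pY⟩ := isPushout_sections hY hV hW hW' hW'W eVW
  obtain ⟨hU', pX⟩ := isPushout_sections hX hU hW hW' hW'W eUW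
  set V' := gY ⁻¹ᵁ V ⊓ g' ⁻¹ᵁ W' with hV'def
  set U' := gX ⁻¹ᵁ U ⊓ (f' ≫ g') ⁻¹ᵁ W' with hU'def
  have hx' : x' ∈ U' := ⟨hx, hxW'⟩
  have eU'V' : U' ≤ f' ⁻¹ᵁ V' := fun z hz => ⟨by
    show gY (f' z) ∈ V
    rw [← Scheme.Hom.comp_apply, ← w, Scheme.Hom.comp_apply]
    exact eUV hz.1, hz.2⟩
  rw [isLciAt_iff f hU hV eUV hx, isLciAt_iff f' hU' hV' eU'V' hx', ← comap_primeIdealOf gX hU' hU inf_le_left hx']
  letI aAA' := (h.appLE W W' hW'W).hom.toAlgebra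
  letI aAD := (g.appLE W V eVW).hom.toAlgebra
  letI aAB := ((f ≫ g).appLE W U eUW).hom.toAlgebra
  letI aDB := (f.appLE V U eUV).hom.toAlgebra
  letI aA'D' := (g'.appLE W' V' inf_le_right).hom.toAlgebra
  letI aA'B' := ((f' ≫ g').appLE W' U' inf_le_right).hom.toAlgebra
  letI aD'B' := (f'.appLE V' U' eU'V').hom.toAlgebra
  letI aDD' := (gY.appLE V V' inf_le_left).hom.toAlgebra
  letI aBB' := (gX.appLE U U' inf_le_left).hom.toAlgebra
  letI aAD' := ((h.appLE W W' hW'W) ≫ g'.appLE W' V' inf_le_right).hom.toAlgebra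
  letI aAB' := ((h.appLE W W' hW'W) ≫ (f' ≫ g').appLE W' U' inf_le_right).hom.toAlgebra
  obtain ⟨_, _, pY⟩ := pY
  obtain ⟨_, _, pX⟩ := pX
  haveI : IsScalarTower Γ(S, W) Γ(Y, V) Γ(X, U) := .of_algebraMap_eq'
    (congrArg CommRingCat.Hom.hom (Scheme.Hom.appLE_comp_appLE f g W V U eVW eUV).symm)
  haveI : IsScalarTower Γ(S', W') Γ(Y', V') Γ(X', U') := .of_algebraMap_eq'
    (congrArg CommRingCat.Hom.hom (Scheme.Hom.appLE_comp_appLE f' g' W' V' U' inf_le_right eU'V').symm)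
  haveI : Module.Flat Γ(S, W) Γ(Y, V) := Flat.flat_appLE g hW hV eVW
  haveI : Module.Flat Γ(S, W) Γ(X, U) := Flat.flat_appLE (f ≫ g) hW hU eUW
  haveI : Module.Flat Γ(S', W') Γ(Y', V') := Flat.flat_appLE g' hW' hV' inf_le_right
  haveI : Module.Flat Γ(S', W') Γ(X', U') := Flat.flat_appLE (f' ≫ g') hW' hU' inf_le_right
  haveI : Algebra.FinitePresentation Γ(S, W) Γ(Y, V) :=
    HasRingHomProperty.appLE @LocallyOfFinitePresentation g ‹_› ⟨W, hW⟩ ⟨V, hV⟩ eVW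
  haveI : Algebra.FinitePresentation Γ(S, W) Γ(X, U) :=
    HasRingHomProperty.appLE @LocallyOfFinitePresentation (f ≫ g) ‹_› ⟨W, hW⟩ ⟨U, hU⟩ eUW
  haveI : Algebra.FinitePresentation Γ(S', W') Γ(Y', V') :=
    HasRingHomProperty.appLE @LocallyOfFinitePresentation g' ‹_› ⟨W', hW'⟩ ⟨V', hV'⟩ inf_le_right
  haveI : Algebra.FinitePresentation Γ(S', W') Γ(X', U') :=
    HasRingHomProperty.appLE @LocallyOfFinitePresentation (f' ≫ g') ‹_› ⟨W', hW'⟩ ⟨U', hU'⟩ inf_le_right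
  refine lciAt_baseChange_iff (A := Γ(S, W)) (A' := Γ(S', W')) (fun d => ?_) _
  have hcomp : gY.appLE V V' inf_le_left ≫ f'.appLE V' U' eU'V' = f.appLE V U eUV ≫ gX.appLE U U' inf_le_left := by
    rw [Scheme.Hom.appLE_comp_appLE, Scheme.Hom.appLE_comp_appLE]
    simp only [w]
  exact ConcreteCategory.congr_hom hcomp d

end Groth.Agent.FlatMor67.KoszulLocus
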