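import Groth.Agent.FlatMor67.KoszulAppend
import Groth.Agent.LCI19.Local
import Mathlib.Algebra.MvPolynomial.Equiv
import Mathlib.RingTheory.Polynomial.Basic
import Mathlib.RingTheory.TensorProduct.MvPolynomial

/-!
# Compositions of local complete intersection ring maps
-/

universe u

open CategoryTheory

namespace Groth.Agent.FlatMor67

open Koszul19 LCI19

section Ideal

variable {Q P : Type u} [CommRing Q] [CommRing P] [Algebra Q P]

/-- A Koszul-regular ideal modulo a Koszul-regular ideal is Koszul-regular. -/
lemma isKoszulRegularIdeal_comap_of_ker (hs : Function.Surjective (algebraMap Q P))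
    (hI : LCI.IsKoszulRegularIdeal (RingHom.ker (algebraMap Q P))) {J : Ideal P}
    (hJ : LCI.IsKoszulRegularIdeal J) : LCI.IsKoszulRegularIdeal (J.comap (algebraMap Q P)) := by
  classical
  rw [isKoszulRegularIdeal_iff] at hI hJ ⊢
  intro p hp
  have hle : RingHom.ker (algebraMap Q P) ≤ p.asIdeal :=
    le_trans (fun x hx => by rw [Ideal.mem_comap, RingHom.mem_ker.1 hx]; exact zero_mem J) hp
  let q : PrimeSpectrum P := ⟨p.asIdeal.map (algebraMap Q P),
    Ideal.map_isPrime_of_surjective hs hle⟩
  have hq : q.asIdeal.comap (algebraMap Q P) = p.asIdeal := by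
    simp only [q, Ideal.comap_map_of_surjective _ hs, sup_eq_left]
    exact hle
  have hJq : J ≤ q.asIdeal := by
    intro y hy
    obtain ⟨x, rfl⟩ := hs y
    exact Ideal.mem_map_of_mem _ (hp hy)
  obtain ⟨g, hg, hgenI⟩ := hI p hle
  obtain ⟨h', hh', hgenJ⟩ := hJ q hJq
  obtain ⟨h, rfl⟩ := hs h'
  have hh : h ∉ p.asIdeal := fun hc => hh' (Ideal.mem_map_of_mem _ hc)
  refine ⟨g * h, fun hc => (p.isPrime.mem_or_mem hc).elim hg hh, ?_⟩
  let C := Localization.Away (g * h)
  let P' := Localization.Away (algebraMap Q P (g * h))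
  let π : C →+* P' := IsLocalization.Away.map C P' (algebraMap Q P) (g * h)
  let : Algebra C P' := π.toAlgebra
  have hsq : ∀ a : Q, algebraMap C P' (algebraMap Q C a) = algebraMap P P' (algebraMap Q P a) :=
    fun a => by
      simp [π, C, P', RingHom.algebraMap_toAlgebra, IsLocalization.Away.map]
  have hπ : Function.Surjective (algebraMap C P') := by
    have : IsLocalization (Submonoid.map (algebraMap Q P) (Submonoid.powers (g * h))) P' := by
      rw [Submonoid.map_powers]
      infer_instance
    exact IsLocalization.map_surjective_of_surjective (Submonoid.powers (g * h)) C P' hs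
  have hker : RingHom.ker (algebraMap C P') =
      (RingHom.ker (algebraMap Q P)).map (algebraMap Q C) :=
    IsLocalization.ker_map P' (g := algebraMap Q P) (T := Submonoid.powers (algebraMap Q P (g * h)))
      (Submonoid.map_powers _ _)
  have hu : IsUnit (algebraMap Q C (g * h)) := IsLocalization.Away.algebraMap_isUnit _
  have hu' : IsUnit (algebraMap P P' (algebraMap Q P (g * h))) :=
    IsLocalization.Away.algebraMap_isUnit _
  rw [map_mul] at hu
  have hu'' : IsUnit (algebraMap P P' (algebraMap Q P g) * algebraMap P P' (algebraMap Q P h)) := by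
    rwa [← map_mul, ← map_mul]
  obtain ⟨l, hl, hlkr, hlI⟩ := hgenI.of_isUnit (C := C) (isUnit_of_mul_isUnit_left hu)
  obtain ⟨m', hm', hmkr, hmJ⟩ := hgenJ.of_isUnit (C := P') (isUnit_of_mul_isUnit_right hu'')
  obtain ⟨m, hm⟩ := hs.hasRightInverse
  have hmm : ((m'.map m).map (algebraMap Q C)).map (algebraMap C P') =
      m'.map (algebraMap P P') := by
    simp only [List.map_map]
    refine List.map_congr_left fun y _ => ?_
    simp [hsq, hm y]
  refine ⟨m'.map m ++ l, ?_, ?_, ?_⟩
  · intro x hx
    rcases List.mem_append.1 hx with hx | hx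
    · obtain ⟨y, hy, rfl⟩ := List.mem_map.1 hx
      exact Ideal.mem_comap.2 (by rw [hm]; exact hm' y hy)
    · rw [Ideal.mem_comap, RingHom.mem_ker.1 (hl x hx)]
      exact zero_mem J
  · rw [List.map_append]
    exact kR_append hπ (hker.trans hlI) hlkr (hmm ▸ hmkr)
  · apply le_antisymm
    · refine Ideal.map_le_iff_le_comap.2 fun x hx => ?_
      have h1 : algebraMap C P' (algebraMap Q C x) ∈
          (Ideal.ofList ((m'.map m).map (algebraMap Q C))).map (algebraMap C P') := by
        rw [hsq, Ideal.map_ofList, hmm, ← hmJ]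
        exact Ideal.mem_map_of_mem _ hx
      have h2 : algebraMap Q C x ∈ ((Ideal.ofList ((m'.map m).map (algebraMap Q C))).map
          (algebraMap C P')).comap (algebraMap C P') := h1
      rw [Ideal.comap_map_of_surjective' _ hπ, hker, hlI] at h2
      rw [Ideal.mem_comap, List.map_append, Ideal.ofList_append]
      exact h2
    · rw [← Ideal.map_ofList, Ideal.map_le_iff_le_comap]
      refine Ideal.span_le.2 fun x hx => ?_
      apply Ideal.mem_map_of_mem
      rcases List.mem_append.1 hx with hx | hx
      · obtain ⟨y, hy, rfl⟩ := List.mem_map.1 hx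
        exact Ideal.mem_comap.2 (by rw [hm]; exact hm' y hy)
      · rw [Ideal.mem_comap, RingHom.mem_ker.1 (hl x hx)]
        exact zero_mem J

end Ideal

variable {A B C : Type u} [CommRing A] [CommRing B] [CommRing C] [Algebra A B] [Algebra B C]
  [Algebra A C] [IsScalarTower A B C]

/-- **The composition of local complete intersection maps is a local complete intersection map.** -/
theorem isLCI_trans (hAB : LCI.IsLCI A B) (hBC : LCI.IsLCI B C) : LCI.IsLCI A C := by
  obtain ⟨hft, n, α, hα, hI⟩ := hAB
  obtain ⟨hft', m, β, hβ, hJ⟩ := hBC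
  let Q := MvPolynomial (Fin m) (MvPolynomial (Fin n) A)
  let P := MvPolynomial (Fin m) B
  let : Algebra Q P := (MvPolynomial.map (σ := Fin m) α.toRingHom).toAlgebra
  have hs : Function.Surjective (algebraMap Q P) := MvPolynomial.map_surjective _ hα
  have hker : LCI.IsKoszulRegularIdeal (RingHom.ker (algebraMap Q P)) := by
    show LCI.IsKoszulRegularIdeal (RingHom.ker (MvPolynomial.map α.toRingHom))
    rw [MvPolynomial.ker_map]
    exact isKoszulRegularIdeal_map (B := Q) hI
  have hK := isKoszulRegularIdeal_comap_of_ker hs hker hJ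
  let e : MvPolynomial (Fin (m + n)) A ≃ₐ[A] Q :=
    (MvPolynomial.renameEquiv A finSumFinEquiv.symm).trans (MvPolynomial.sumAlgEquiv A (Fin m) (Fin n))
  let γ : Q →ₐ[A] C := (β.restrictScalars A).comp (MvPolynomial.mapAlgHom α)
  refine ⟨hft.trans hft', m + n, γ.comp e.toAlgHom,
    (hβ.comp hs).comp e.surjective, ?_⟩
  have : RingHom.ker (γ.comp e.toAlgHom).toRingHom =
      ((RingHom.ker β.toRingHom).comap (algebraMap Q P)).comap e.toRingEquiv.toRingHom := rfl
  rw [this]
  exact (isKoszulRegularIdeal_comap_equiv e.toRingEquiv).2 hK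

end Groth.Agent.FlatMor67
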