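import Groth.Agent.AbSch7.PushPull
import Groth.Agent.LimTop61.PullSec

/-!
Descent of homomorphisms of finite locally free modules along morphisms with exact
`O_Y ⟶ f_*O_X ⇉ g_*O`.
-/

set_option autoImplicit false
set_option backward.isDefEq.respectTransparency.types false

noncomputable section

universe u

open CategoryTheory Limits AlgebraicGeometry TopologicalSpace Opposite
open Groth.Agent.QC70 Groth.Agent.Props58.LocFree

namespace Groth.Agent.FlatMor67.LocFreeDescent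

variable {X Y Z : Scheme.{u}} (f : X ⟶ Y)

/-- Inverse images of a frame give a frame on the whole preimage of any open in the domain. -/
theorem frame_bijective (M : Y.Modules) [M.IsQuasicoherent] {V : Y.Opens} (hV : IsAffineOpen V) {n : ℕ}
    {s : Fin n → Γ(M, V)} (hs : StalkBasis s) {W : Y.Opens} (hWV : W ≤ V) :
    Function.Bijective fun a : Fin n → Γ(X, f ⁻¹ᵁ W) =>
      ∑ i, a i • (show Γ((Scheme.Modules.pullback f).obj M, f ⁻¹ᵁ W) from
        (QCPull72.pullUnit f M).app W (QC70.res M hWV (s i))) := by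
  let C := (Scheme.Modules.pullback f).obj M
  let u : Fin n → Γ(C, f ⁻¹ᵁ W) := fun i => (QCPull72.pullUnit f M).app W (QC70.res M hWV (s i))
  have hcov : ∀ x ∈ f ⁻¹ᵁ W, ∃ (Q : X.Opens) (_ : IsAffineOpen Q), x ∈ Q ∧ Q ≤ f ⁻¹ᵁ W := fun x hx => by
    obtain ⟨Q, hQ, hxQ, hQW⟩ := exists_isAffineOpen_mem_and_subset hx
    exact ⟨Q, hQ, hxQ, hQW⟩
  choose Q hQ hxQ hQW using hcov
  have hu : ∀ (x : X) (hx : x ∈ f ⁻¹ᵁ W) i, QC70.res C (hQW x hx) (u i) =
      QCPull72.unitSec f M ((hQW x hx).trans (f.preimage_mono hWV)) (s i) := fun x hx i => by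
    show QC70.res C (hQW x hx) ((QCPull72.pullUnit f M).app W (QC70.res M hWV (s i))) = _
    rw [app_res]
    exact res_res _ _ _
  have hloc : ∀ (x : X) (hx : x ∈ f ⁻¹ᵁ W), Function.Bijective fun a : Fin n → Γ(X, Q x hx) =>
      ∑ i, a i • QC70.res C (hQW x hx) (u i) := fun x hx => by
    simp only [hu]
    exact Groth.Agent.AbSch7.bijective_comb f M hV hs (hQ x hx) _
  show Function.Bijective fun a : Fin n → Γ(X, f ⁻¹ᵁ W) => ∑ i, a i • u i
  refine ⟨fun a a' h => ?_, fun z => ?_⟩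
  · funext i
    refine TopCat.Sheaf.eq_of_locally_eq' X.sheaf (fun x : ↥(f ⁻¹ᵁ W) => Q x.1 x.2) _
      (fun x => homOfLE (hQW x.1 x.2)) (fun x hx => Opens.mem_iSup.2 ⟨⟨x, hx⟩, hxQ x hx⟩) _ _ fun x => ?_
    have h2 := congrArg (QC70.res C (hQW x.1 x.2)) h
    simp only [Groth.Agent.AbSch7.res_smul_sum] at h2
    exact congrFun ((hloc x.1 x.2).1 h2) i
  · choose a ha using fun x : ↥(f ⁻¹ᵁ W) => (hloc x.1 x.2).2 (QC70.res C (hQW x.1 x.2) z)
    have hglue : ∀ i, ∃ c : Γ(X, f ⁻¹ᵁ W), ∀ x : ↥(f ⁻¹ᵁ W),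
        (X.presheaf.map (homOfLE (hQW x.1 x.2)).op).hom c = a x i := by
      intro i
      suffices hcompat : TopCat.Presheaf.IsCompatible X.sheaf.obj (fun x : ↥(f ⁻¹ᵁ W) => Q x.1 x.2) (fun x => a x i) by
        obtain ⟨c, hc, -⟩ := X.sheaf.existsUnique_gluing' (fun x : ↥(f ⁻¹ᵁ W) => Q x.1 x.2) (f ⁻¹ᵁ W)
          (fun x => homOfLE (hQW x.1 x.2)) (fun x hx => Opens.mem_iSup.2 ⟨⟨x, hx⟩, hxQ x hx⟩) (fun x => a x i) hcompat
        exact ⟨c, hc⟩
      intro x x'
      let P := Q x.1 x.2 ⊓ Q x'.1 x'.2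
      choose R hR hqR hRP using fun q : ↥P => exists_isAffineOpen_mem_and_subset (U := P) q.2
      refine TopCat.Sheaf.eq_of_locally_eq' X.sheaf R _ (fun q => homOfLE (hRP q))
        (fun q hq => Opens.mem_iSup.2 ⟨⟨q, hq⟩, hqR ⟨q, hq⟩⟩) _ _ fun q => ?_
      have hRW : R q ≤ f ⁻¹ᵁ W := (le_trans (hRP q : R q ≤ P) inf_le_left).trans (hQW x.1 x.2)
      have h1 := congrArg (QC70.res C (show R q ≤ Q x.1 x.2 from le_trans (hRP q : R q ≤ P) inf_le_left)) (ha x)
      have h2 := congrArg (QC70.res C (show R q ≤ Q x'.1 x'.2 from le_trans (hRP q : R q ≤ P) inf_le_right)) (ha x')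
      simp only [Groth.Agent.AbSch7.res_smul_sum, res_res] at h1 h2
      have hu' : ∀ i, QC70.res C hRW (u i) = QCPull72.unitSec f M (hRW.trans (f.preimage_mono hWV)) (s i) := fun i => by
        show QC70.res C hRW ((QCPull72.pullUnit f M).app W (QC70.res M hWV (s i))) = _
        rw [app_res]
        exact res_res _ _ _
      have h3 := h1.trans h2.symm
      simp only [hu'] at h3
      have h4 := congrFun ((Groth.Agent.AbSch7.bijective_comb f M hV hs (hR q) _).1 h3) i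
      rw [← CommRingCat.comp_apply, ← CommRingCat.comp_apply, ← Functor.map_comp, ← Functor.map_comp]
      exact h4
    choose c hc using hglue
    refine ⟨c, eq_of_sub_eq_zero (section_ext C _ _ fun x hx => ⟨Q x hx, hQW x hx, hxQ x hx, ?_⟩)⟩
    rw [res_zero, res_sub, Groth.Agent.AbSch7.res_smul_sum]
    simp only [hc _ ⟨x, hx⟩]
    rw [sub_eq_zero]
    exact ha ⟨x, hx⟩

/-- The unit is natural on sections. -/
theorem map_unitSec {A B : X.Modules} (g : Z ⟶ X) (φ : A ⟶ B) {U : X.Opens} {V : Z.Opens} (e : V ≤ g ⁻¹ᵁ U)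
    (y : Γ(A, U)) :
    ((Scheme.Modules.pullback g).map φ).app V (QCPull72.unitSec g A e y) =
      QCPull72.unitSec g B e (φ.app U y) := by
  unfold QCPull72.unitSec
  refine (app_res _ _ _).trans (congrArg (res _ e) ?_)
  exact (congr(Scheme.Modules.Hom.app $((Scheme.Modules.pullbackPushforwardAdjunction g).unit.naturality φ) U y)).symm

/-- Composite inverse image of a unit section. -/
theorem pullbackComp_unitSec (g : Z ⟶ X) (G : Y.Modules) {U : Y.Opens} {V : Z.Opens} (e : V ≤ (g ≫ f) ⁻¹ᵁ U)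
    (x : Γ(G, U)) :
    ((Scheme.Modules.pullbackComp g f).hom.app G).app V
        (QCPull72.unitSec g ((Scheme.Modules.pullback f).obj G) (show V ≤ g ⁻¹ᵁ (f ⁻¹ᵁ U) from e)
          ((QCPull72.pullUnit f G).app U x)) =
      QCPull72.unitSec (g ≫ f) G e x := by
  have h := LimTop61.pullbackComp_hom_app_unitSec g f G U x
  have h2 := congrArg (res ((Scheme.Modules.pullback (g ≫ f)).obj G) e) h
  rw [← app_res] at h2
  have e1 : res ((Scheme.Modules.pullback (g ≫ f)).obj G) e (QCPull72.unitSec (g ≫ f) G (le_refl _) x) =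
      QCPull72.unitSec (g ≫ f) G e x := by
    unfold QCPull72.unitSec; exact res_res _ _ _
  refine Eq.trans (congrArg (((Scheme.Modules.pullbackComp g f).hom.app G).app V) ?_) (h2.trans e1)
  unfold QCPull72.unitSec
  rw [res_self]
  exact (res_res (M := (Scheme.Modules.pullback g).obj ((Scheme.Modules.pullback f).obj G)) _ _ _).symm

theorem pullbackComp_inv_unitSec (g : Z ⟶ X) (G : Y.Modules) {U : Y.Opens} {V : Z.Opens} (e : V ≤ (g ≫ f) ⁻¹ᵁ U)
    (x : Γ(G, U)) :
    ((Scheme.Modules.pullbackComp g f).app G).inv.app V (QCPull72.unitSec (g ≫ f) G e x) =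
      QCPull72.unitSec g ((Scheme.Modules.pullback f).obj G) (show V ≤ g ⁻¹ᵁ (f ⁻¹ᵁ U) from e)
          ((QCPull72.pullUnit f G).app U x) := by
  rw [← pullbackComp_unitSec f g G e x]
  exact congr(Scheme.Modules.Hom.app $(((Scheme.Modules.pullbackComp g f).app G).hom_inv_id) V _)

/-- Equal morphisms have the same unit sections. -/
theorem pullbackCongr_unitSec {h h' : Z ⟶ Y} (w : h = h') (G : Y.Modules) {U : Y.Opens} {V : Z.Opens}
    (e : V ≤ h ⁻¹ᵁ U) (x : Γ(G, U)) :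
    ((Scheme.Modules.pullbackCongr w).app G).hom.app V (QCPull72.unitSec h G e x) =
      QCPull72.unitSec h' G (w ▸ e) x ∧
    ((Scheme.Modules.pullbackCongr w).app G).inv.app V (QCPull72.unitSec h' G (w ▸ e) x) =
      QCPull72.unitSec h G e x := by
  subst w
  simp [Scheme.Modules.pullbackCongr]

theorem unitSec_sum (g : Z ⟶ X) (A : X.Modules) {U : X.Opens} {V : Z.Opens} (e : V ≤ g ⁻¹ᵁ U) {ι : Type*}
    [Fintype ι] (z : ι → Γ(A, U)) :
    QCPull72.unitSec g A e (∑ i, z i) = ∑ i, QCPull72.unitSec g A e (z i) :=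
  map_sum (AddMonoidHom.mk' (QCPull72.unitSec g A e) (LimTop61.unitSec_add g A e)) z Finset.univ

/-- Pulling back a combination of unit sections to a composite. -/
theorem comp_comb (g : Z ⟶ X) (G : Y.Modules) {U : Y.Opens} {V : Z.Opens} (e : V ≤ (g ≫ f) ⁻¹ᵁ U)
    {n : ℕ} (a : Fin n → Γ(X, f ⁻¹ᵁ U)) (t : Fin n → Γ(G, U)) :
    ((Scheme.Modules.pullbackComp g f).app G).hom.app V
        (QCPull72.unitSec g ((Scheme.Modules.pullback f).obj G) (show V ≤ g ⁻¹ᵁ (f ⁻¹ᵁ U) from e)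
          (∑ i, a i • (show Γ((Scheme.Modules.pullback f).obj G, f ⁻¹ᵁ U) from (QCPull72.pullUnit f G).app U (t i)))) =
      ∑ i, (g.appLE (f ⁻¹ᵁ U) V e).hom (a i) • QCPull72.unitSec (g ≫ f) G e (t i) := by
  rw [unitSec_sum, map_sum]
  refine Finset.sum_congr rfl fun i _ => ?_
  rw [LimTop61.unitSec_smul, Scheme.Modules.Hom.app_smul]
  exact congrArg _ (pullbackComp_unitSec f g G e (t i))

/-- The pullback of a homomorphism on unit sections, in coordinates. -/
theorem map_coord (g : Z ⟶ X) (L M : Y.Modules)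
    (φ : (Scheme.Modules.pullback f).obj L ⟶ (Scheme.Modules.pullback f).obj M) {U : Y.Opens} {V : Z.Opens}
    (e : V ≤ (g ≫ f) ⁻¹ᵁ U) (x : Γ(L, U)) {n : ℕ} (a : Fin n → Γ(X, f ⁻¹ᵁ U)) (t : Fin n → Γ(M, U))
    (h : φ.app (f ⁻¹ᵁ U) ((QCPull72.pullUnit f L).app U x) = ∑ i, a i •
      (show Γ((Scheme.Modules.pullback f).obj M, f ⁻¹ᵁ U) from (QCPull72.pullUnit f M).app U (t i))) :
    (((Scheme.Modules.pullbackComp g f).app L).inv ≫ (Scheme.Modules.pullback g).map φ ≫
        ((Scheme.Modules.pullbackComp g f).app M).hom).app V (QCPull72.unitSec (g ≫ f) L e x) =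
      ∑ i, (g.appLE (f ⁻¹ᵁ U) V e).hom (a i) • QCPull72.unitSec (g ≫ f) M e (t i) :=
  (congrArg (((Scheme.Modules.pullbackComp g f).app M).hom.app V)
    ((congrArg (((Scheme.Modules.pullback g).map φ).app V) (pullbackComp_inv_unitSec f g L e x)).trans
      ((map_unitSec g φ _ _).trans (congrArg _ h)))).trans (comp_comb f g M e a t)

/-- Agreement of the two inverse images of a homomorphism, in coordinates. -/
theorem coeff_eq (p₁ p₂ : Z ⟶ X) (w : p₁ ≫ f = p₂ ≫ f) (L M : Y.Modules) [M.IsQuasicoherent]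
    (φ : (Scheme.Modules.pullback f).obj L ⟶ (Scheme.Modules.pullback f).obj M)
    (hφ : ((Scheme.Modules.pullbackComp p₁ f).app L).inv ≫ (Scheme.Modules.pullback p₁).map φ ≫
        ((Scheme.Modules.pullbackComp p₁ f).app M).hom =
      ((Scheme.Modules.pullbackCongr w).app L).hom ≫ ((Scheme.Modules.pullbackComp p₂ f).app L).inv ≫
        (Scheme.Modules.pullback p₂).map φ ≫ ((Scheme.Modules.pullbackComp p₂ f).app M).hom ≫
        ((Scheme.Modules.pullbackCongr w).app M).inv)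
    {V : Y.Opens} (hV : IsAffineOpen V) {n : ℕ} {t : Fin n → Γ(M, V)} (ht : StalkBasis t) {W : Y.Opens}
    (hWV : W ≤ V) (hW' : (p₁ ≫ f) ⁻¹ᵁ W ≤ (p₂ ≫ f) ⁻¹ᵁ W) (x : Γ(L, W)) (a : Fin n → Γ(X, f ⁻¹ᵁ W))
    (h : φ.app (f ⁻¹ᵁ W) ((QCPull72.pullUnit f L).app W x) = ∑ i, a i •
      (show Γ((Scheme.Modules.pullback f).obj M, f ⁻¹ᵁ W) from
        (QCPull72.pullUnit f M).app W (QC70.res M hWV (t i)))) (i : Fin n) :
    (p₁.appLE (f ⁻¹ᵁ W) ((p₁ ≫ f) ⁻¹ᵁ W) le_rfl).hom (a i) =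
      (p₂.appLE (f ⁻¹ᵁ W) ((p₁ ≫ f) ⁻¹ᵁ W) hW').hom (a i) := by
  let tW := fun i => QC70.res M hWV (t i)
  let s := QCPull72.unitSec (p₁ ≫ f) L (le_refl ((p₁ ≫ f) ⁻¹ᵁ W)) x
  have e1 := map_coord f p₁ L M φ (le_refl _) x a tW h
  have e2 := map_coord f p₂ L M φ hW' x a tW h
  have e3 : (((Scheme.Modules.pullbackCongr w).app M).inv.app ((p₁ ≫ f) ⁻¹ᵁ W))
      (∑ i, (p₂.appLE (f ⁻¹ᵁ W) _ hW').hom (a i) • QCPull72.unitSec (p₂ ≫ f) M hW' (tW i)) =
      ∑ i, (p₂.appLE (f ⁻¹ᵁ W) _ hW').hom (a i) •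
        QCPull72.unitSec (p₁ ≫ f) M (le_refl ((p₁ ≫ f) ⁻¹ᵁ W)) (tW i) := by
    rw [map_sum]
    refine Finset.sum_congr rfl fun i _ => ?_
    rw [Scheme.Modules.Hom.app_smul]
    exact congrArg _ (pullbackCongr_unitSec w M (le_refl _) _).2
  have e4 := congr(Scheme.Modules.Hom.app $hφ ((p₁ ≫ f) ⁻¹ᵁ W) s)
  have e5 : (((Scheme.Modules.pullbackCongr w).app L).hom ≫ ((Scheme.Modules.pullbackComp p₂ f).app L).inv ≫
        (Scheme.Modules.pullback p₂).map φ ≫ ((Scheme.Modules.pullbackComp p₂ f).app M).hom ≫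
        ((Scheme.Modules.pullbackCongr w).app M).inv).app ((p₁ ≫ f) ⁻¹ᵁ W) s =
      (((Scheme.Modules.pullbackCongr w).app M).inv.app ((p₁ ≫ f) ⁻¹ᵁ W))
        ((((Scheme.Modules.pullbackComp p₂ f).app L).inv ≫ (Scheme.Modules.pullback p₂).map φ ≫
          ((Scheme.Modules.pullbackComp p₂ f).app M).hom).app _
          (((Scheme.Modules.pullbackCongr w).app L).hom.app _ s)) := rfl
  rw [(pullbackCongr_unitSec w L (le_refl _) x).1, e2, e3] at e5
  have key := e1.symm.trans (e4.trans e5)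
  have hu : ∀ i, QCPull72.unitSec (p₁ ≫ f) M (le_refl ((p₁ ≫ f) ⁻¹ᵁ W)) (tW i) =
      (show Γ((Scheme.Modules.pullback (p₁ ≫ f)).obj M, (p₁ ≫ f) ⁻¹ᵁ W) from
        (QCPull72.pullUnit (p₁ ≫ f) M).app W (tW i)) := fun i => res_self _
  simp only [hu] at key
  exact congrFun ((frame_bijective (p₁ ≫ f) M hV ht hWV).1 key) i

/-- A morphism of modules vanishing on all small opens is zero. -/
theorem eq_zero_of_small {A B : Y.Modules} (φ : A ⟶ B)
    (h : ∀ y : Y, ∃ V : Y.Opens, y ∈ V ∧ ∀ W ≤ V, ∀ z : Γ(A, W), φ.app W z = 0) : φ = 0 := by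
  refine Scheme.Modules.hom_ext _ _ fun W => AddCommGrpCat.hom_ext (AddMonoidHom.ext fun z => ?_)
  refine section_ext B _ _ fun y hy => ?_
  obtain ⟨V, hyV, hV⟩ := h y
  refine ⟨W ⊓ V, inf_le_left, ⟨hy, hyV⟩, ?_⟩
  exact ((app_res φ _ z).symm.trans (hV _ inf_le_right _)).trans (res_zero (M := B) _).symm

/-- Descent of homomorphisms of finite locally free modules. -/
theorem existsUnique_descend
    (hU : ∀ U : Y.Opens, (pullback.fst f f) ⁻¹ᵁ (f ⁻¹ᵁ U) = (pullback.snd f f) ⁻¹ᵁ (f ⁻¹ᵁ U))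
    (hinj : ∀ U : Y.Opens, Function.Injective (f.app U))
    (hex : ∀ (U : Y.Opens) (a : Γ(X, f ⁻¹ᵁ U)),
      (pullback.fst f f).app (f ⁻¹ᵁ U) a =
        ((pullback f f).presheaf.map (eqToHom (hU U)).op) ((pullback.snd f f).app (f ⁻¹ᵁ U) a) →
      a ∈ Set.range (f.app U))
    (L M : Y.Modules) (hM : FlatMod.IsFinLocFree M)
    (φ : (Scheme.Modules.pullback f).obj L ⟶ (Scheme.Modules.pullback f).obj M)
    (hφ : ((Scheme.Modules.pullbackComp (pullback.fst f f) f).app L).inv ≫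
        (Scheme.Modules.pullback (pullback.fst f f)).map φ ≫ ((Scheme.Modules.pullbackComp (pullback.fst f f) f).app M).hom =
      ((Scheme.Modules.pullbackCongr (pullback.condition (f := f) (g := f))).app L).hom ≫
        ((Scheme.Modules.pullbackComp (pullback.snd f f) f).app L).inv ≫
        (Scheme.Modules.pullback (pullback.snd f f)).map φ ≫ ((Scheme.Modules.pullbackComp (pullback.snd f f) f).app M).hom ≫
        ((Scheme.Modules.pullbackCongr (pullback.condition (f := f) (g := f))).app M).inv) :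
    ∃! ψ : L ⟶ M, (Scheme.Modules.pullback f).map ψ = φ := by
  have := Props58.LocFree.isQuasicoherent_of_isFinLocFree hM
  let adj := Scheme.Modules.pullbackPushforwardAdjunction f
  let η := QCPull72.pullUnit f M
  let q := adj.homEquiv L _ φ
  have hframe : ∀ y : Y, ∃ (V : Y.Opens) (_ : IsAffineOpen V) (n : ℕ) (t : Fin n → Γ(M, V)),
      y ∈ V ∧ StalkBasis t := by
    intro y
    obtain ⟨U, n, hy, ⟨e⟩⟩ := hM y
    obtain ⟨s₀, hs₀⟩ := Props58.LocFree.exists_stalkBasis_of_iso e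
    obtain ⟨V, hV, hyV, hVU⟩ := exists_isAffineOpen_mem_and_subset hy
    exact ⟨V, hV, n, _, hyV, hs₀.restrict (show V ≤ U from hVU)⟩
  have hηi : ∀ y : Y, ∃ V : Y.Opens, y ∈ V ∧ ∀ W ≤ V, Function.Injective (η.app W) := by
    intro y
    obtain ⟨V, hV, n, t, hyV, ht⟩ := hframe y
    refine ⟨V, hyV, fun W hWV => ?_⟩
    refine (Function.Injective.of_comp_iff' _ (ht.bijective hWV)).1 ?_
    intro b b' h
    simp only [Function.comp_apply] at h
    have h' := (Groth.Agent.AbSch7.pullUnit_sum f M b (fun i => QC70.res M hWV (t i))).symm.trans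
      (Eq.trans h (Groth.Agent.AbSch7.pullUnit_sum f M b' (fun i => QC70.res M hWV (t i))))
    exact funext fun i => hinj W (congrFun ((frame_bijective f M hV ht hWV).1 h') i)
  have : Mono η := by
    refine Preadditive.mono_of_kernel_zero (eq_zero_of_small (kernel.ι η) fun y => ?_)
    obtain ⟨V, hyV, hV⟩ := hηi y
    refine ⟨V, hyV, fun W hW z => hV W hW ?_⟩
    rw [map_zero]
    exact congr(Scheme.Modules.Hom.app $(kernel.condition η) W z)
  have hq : ∀ (W : Y.Opens) (x : Γ(L, W)), q.app W x = φ.app (f ⁻¹ᵁ W) ((QCPull72.pullUnit f L).app W x) :=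
    fun W x => congr(Scheme.Modules.Hom.app $(adj.homEquiv_unit (f := φ)) W x)
  have hrange : q ≫ cokernel.π η = 0 := by
    refine eq_zero_of_small _ fun y => ?_
    obtain ⟨V, hV, n, t, hyV, ht⟩ := hframe y
    refine ⟨V, hyV, fun W hWV x => ?_⟩
    suffices hz : ∃ z, η.app W z = q.app W x by
      obtain ⟨z, hz⟩ := hz
      show (cokernel.π η).app W (q.app W x) = 0
      rw [← hz]
      exact congr(Scheme.Modules.Hom.app $(cokernel.condition η) W z)
    obtain ⟨a, ha⟩ := (frame_bijective f M hV ht hWV).2 (q.app W x)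
    have hqa : φ.app (f ⁻¹ᵁ W) ((QCPull72.pullUnit f L).app W x) = _ := (hq W x).symm.trans ha.symm
    have hb : ∀ i, a i ∈ Set.range (f.app W) := fun i => by
      refine hex W (a i) ?_
      have h1 := coeff_eq f (pullback.fst f f) (pullback.snd f f) pullback.condition L M φ hφ hV ht hWV
        (le_of_eq (hU W)) x a hqa i
      rw [Scheme.Hom.app_eq_appLE, Scheme.Hom.app_eq_appLE, ← ConcreteCategory.comp_apply]
      erw [Scheme.Hom.appLE_map]
      exact h1
    choose b hb using hb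
    refine ⟨∑ i, b i • QC70.res M hWV (t i), ?_⟩
    refine (Groth.Agent.AbSch7.pullUnit_sum f M b (fun i => QC70.res M hWV (t i))).trans (Eq.trans ?_ ha)
    exact Finset.sum_congr rfl fun i _ => congrArg (· • _) (hb i)
  let ψ : L ⟶ M := (Abelian.monoIsKernelOfCokernel _ (cokernelIsCokernel η)).lift (KernelFork.ofι q hrange)
  have hψ : ψ ≫ η = q :=
    (Abelian.monoIsKernelOfCokernel _ (cokernelIsCokernel η)).fac (KernelFork.ofι q hrange) WalkingParallelPair.zero
  have htr : ∀ χ : L ⟶ M, adj.homEquiv L _ ((Scheme.Modules.pullback f).map χ) = χ ≫ η := fun χ => by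
    rw [Adjunction.homEquiv_unit]
    exact (adj.unit.naturality χ).symm
  refine ⟨ψ, (adj.homEquiv L _).injective ((htr ψ).trans hψ), fun χ hχ => ?_⟩
  rw [← cancel_mono η, hψ, ← htr χ, hχ]

end Groth.Agent.FlatMor67.LocFreeDescent
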