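import Groth.Agent.FlatMor67.MorSGlobal
import Groth.Agent.Grpd80.FiniteInAffine
import Mathlib.AlgebraicGeometry.Morphisms.QuasiFinite

/-! Representability of relative morphisms into a scheme whose finite subsets of fibres lie in affines. -/

set_option autoImplicit false
set_option backward.isDefEq.respectTransparency false
set_option backward.isDefEq.respectTransparency.types false

universe u

open CategoryTheory CategoryTheory.Limits AlgebraicGeometry Opposite

namespace Groth.Agent.FlatMor67.MorSAF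

open MorSRep MorSGlobal

variable {Z X S : Scheme.{u}} (g : Z ⟶ S) (f : X ⟶ S)

theorem isRepresentable_of_AF (hg : Mor2.IsFinLocFree g)
    (hAF : ∀ (s : S) (d : ℕ) (x : Fin d → ↥X), (∀ k, f (x k) = s) → ∃ U : X.Opens, IsAffineOpen U ∧ ∀ k, x k ∈ U) :
    (Flatn.morS g f).IsRepresentable := by
  classical
  choose V t hV ht hs hfin hfree using exists_free_chart g hg
  let J := Σ s : S, {U : X.Opens // IsAffineOpen U ∧ Set.range (U.ι ≫ f) ⊆ Set.range (t s)}
  have hloc : ∀ j : J, ∃ (W : Over (V j.1)) (u : (Flatn.morS g (j.2.1.ι ≫ f)).obj (op ((Over.map (t j.1)).obj W))),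
      ∀ T : Over S, (∃ a : T.left ⟶ V j.1, a ≫ t j.1 = T.hom) →
        Function.Bijective fun φ : T ⟶ (Over.map (t j.1)).obj W => (Flatn.morS g (j.2.1.ι ≫ f)).map φ.op u := by
    rintro ⟨s, U, hU, hUs⟩
    have := hV s
    have := ht s
    have := hfin s
    have := hfree s
    have : IsFinite (pullback.fst (t s) g) := MorphismProperty.pullback_fst _ _ hg.1
    have : IsAffine (pullback (t s) g) := isAffine_of_isAffineHom (pullback.fst (t s) g)
    have : IsAffine U.toScheme := hU
    let fU : U.toScheme ⟶ V s := IsOpenImmersion.lift (t s) (U.ι ≫ f) hUs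
    have hfU : fU ≫ t s = U.ι ≫ f := IsOpenImmersion.lift_fac _ _ _
    obtain ⟨W, -, ⟨r⟩⟩ := exists_affine_rep (pullback.fst (t s) g) fU
    obtain ⟨u, hu⟩ := exists_universal_of_restrict g (U.ι ≫ f) (t s) _ fU (pullback.snd (t s) g) (𝟙 _)
      (IsPullback.of_hasPullback (t s) g).flip (IsPullback.of_horiz_isIso_mono ⟨by rw [Category.id_comp, hfU]⟩) W r
    exact ⟨W, u, hu⟩
  choose W u' hu using hloc
  let Wg : J → Over S := fun j => (Over.map (t j.1)).obj (W j)
  let u : ∀ j : J, (Flatn.morS g f).obj (op (Wg j)) := fun j => Over.homMk ((u' j).left ≫ j.2.1.ι)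
    ((Category.assoc _ _ _).trans (Over.w (u' j)))
  have hpost : ∀ (j : J) (T : Over S) (φ : T ⟶ Wg j),
      ((Flatn.morS g f).map φ.op (u j)).left =
        ((Flatn.morS g (j.2.1.ι ≫ f)).map φ.op (u' j)).left ≫ j.2.1.ι := fun j T φ => by
    rw [morS_map_left, morS_map_left]
    exact (Category.assoc _ _ _).symm
  let η : ∀ j, yoneda.obj (Wg j) ⟶ Flatn.morS g f := fun j => yonedaEquiv.symm (u j)
  have hη : ∀ j (T : Over S) (φ : T ⟶ Wg j),
      (η j).app (op T) φ = (Flatn.morS g f).map φ.op (u j) := fun j T φ => rfl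
  have hlift : ∀ (j : J) (T : Over S), Set.range T.hom ⊆ Set.range (t j.1) →
      ∃ a : T.left ⟶ V j.1, a ≫ t j.1 = T.hom :=
    fun j T h => have := ht j.1; ⟨IsOpenImmersion.lift (t j.1) T.hom h, IsOpenImmersion.lift_fac _ _ _⟩
  have hmem : ∀ (j : J) (T : Over S) (b : (Flatn.morS g f).obj (op T)),
      b ∈ Set.range ((η j).app (op T)) ↔
        Set.range T.hom ⊆ Set.range (t j.1) ∧ Set.range b.left ⊆ (j.2.1 : Set X) := by
    intro j T b
    constructor
    · rintro ⟨φ, rfl⟩
      refine ⟨?_, ?_⟩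
      · rintro _ ⟨z, rfl⟩
        refine ⟨(W j).hom (φ.left z), ?_⟩
        refine Eq.trans ?_ (congrArg (fun m : T.left ⟶ S => m z) (Over.w φ))
        rfl
      · rw [hη, hpost]
        rintro _ ⟨z, rfl⟩
        rw [Scheme.Hom.comp_apply]
        exact (((Flatn.morS g (j.2.1.ι ≫ f)).map φ.op (u' j)).left z).2
    · rintro ⟨hT, hb⟩
      let b' : (Flatn.morS g (j.2.1.ι ≫ f)).obj (op T) :=
        Over.homMk (IsOpenImmersion.lift j.2.1.ι b.left (fun y hy => ⟨⟨y, hb hy⟩, rfl⟩)) (by
          show IsOpenImmersion.lift _ _ _ ≫ j.2.1.ι ≫ f = _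
          rw [IsOpenImmersion.lift_fac_assoc]
          exact Over.w b)
      obtain ⟨φ, hφ⟩ := (hu j T (hlift j T hT)).2 b'
      refine ⟨φ, Over.OverMorphism.ext ?_⟩
      rw [hη, hpost, show (Flatn.morS g (j.2.1.ι ≫ f)).map φ.op (u' j) = b' from hφ]
      exact IsOpenImmersion.lift_fac _ _ _
  have hcl : ∀ (T : Over S), IsClosedMap (pullback.fst T.hom g) := fun T => by
    have : IsFinite (pullback.fst T.hom g) := MorphismProperty.pullback_fst _ _ hg.1
    exact (pullback.fst T.hom g).isClosedMap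
  obtain ⟨Q, ⟨r⟩⟩ := Mag88.OverRep.exists_representableBy (Flatn.morS g f) (isSheaf_morS g f) Wg η
    (fun j T φ ψ h => by
      refine (hu j T ⟨φ.left ≫ (W j).hom, (Category.assoc _ _ _).trans (Over.w φ)⟩).1 ?_
      refine Over.OverMorphism.ext ?_
      rw [← cancel_mono j.2.1.ι, ← hpost, ← hpost]
      exact congrArg (fun z => z.left) h)
    (fun T x j => have := ht j.1; T.hom ⁻¹ᵁ (t j.1).opensRange ⊓
      ⟨(pullback.fst T.hom g '' ((((x.left : pullback T.hom g ⟶ X) ⁻¹ᵁ j.2.1 :
          (pullback T.hom g).Opens) : Set ↑(pullback T.hom g)))ᶜ)ᶜ,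
        (hcl T _ ((x.left : pullback T.hom g ⟶ X) ⁻¹ᵁ j.2.1).isOpen.isClosed_compl).isOpen_compl⟩)
    (fun T T' x s j => by
      rw [hmem, morS_map_left]
      constructor
      · rintro ⟨h1, h2⟩ _ ⟨z, rfl⟩
        refine ⟨?_, ?_⟩
        · refine h1 ⟨z, ?_⟩
          rw [← Over.w s, Scheme.Hom.comp_apply]
        · rintro ⟨q, hq, hqz⟩
          obtain ⟨w, -, hw⟩ := Scheme.Pullback.exists_preimage_pullback
            (f := s.left) (g := pullback.fst T.hom g) z q hqz.symm
          let l : pullback s.left (pullback.fst T.hom g) ⟶ pullback T'.hom g :=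
            pullback.lift (pullback.fst _ _) (pullback.snd _ _ ≫ pullback.snd T.hom g) (by
              rw [Category.assoc, ← pullback.condition, ← Category.assoc, ← pullback.condition,
                Category.assoc, Over.w s])
          have hl : l ≫ pullback.lift (pullback.fst T'.hom g ≫ s.left) (pullback.snd T'.hom g)
              (by rw [Category.assoc, Over.w s, pullback.condition]) = pullback.snd _ _ := by
            apply pullback.hom_ext
            · simp [l, pullback.condition]
            · simp [l]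
          refine hq (h2 ⟨l w, ?_⟩)
          exact congrArg (x.left : pullback T.hom g ⟶ X)
            ((congrArg (fun m : pullback s.left (pullback.fst T.hom g) ⟶ pullback T.hom g => m w) hl).trans hw)
      · intro hsub
        refine ⟨?_, ?_⟩
        · rintro _ ⟨z, rfl⟩
          rw [← Over.w s]
          exact (hsub ⟨z, rfl⟩).1
        · rintro _ ⟨z, rfl⟩
          by_contra hz
          refine (hsub ⟨pullback.fst T'.hom g z, rfl⟩).2 ?_
          refine ⟨pullback.lift (pullback.fst T'.hom g ≫ s.left) (pullback.snd T'.hom g)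
              (by rw [Category.assoc, Over.w s, pullback.condition]) z, ?_, ?_⟩
          · intro hmem'
            rw [Scheme.Hom.comp_apply] at hz
            exact hz hmem'
          · rw [← Scheme.Hom.comp_apply, pullback.lift_fst, Scheme.Hom.comp_apply])
    (fun T x p => by
      have : IsFinite (pullback.fst T.hom g) := MorphismProperty.pullback_fst _ _ hg.1
      let s0 : S := T.hom p
      have hF : (x.left '' (pullback.fst T.hom g ⁻¹' {p})).Finite :=
        ((pullback.fst T.hom g).finite_preimage_singleton p).image _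
      have hover : ∀ y ∈ x.left '' (pullback.fst T.hom g ⁻¹' {p}), f y = s0 := by
        rintro _ ⟨z, hz, rfl⟩
        have h : x.left ≫ f = pullback.fst T.hom g ≫ T.hom := (Over.w x).trans pullback.condition.symm
        exact (congrArg (fun m : pullback T.hom g ⟶ S => m z) h).trans (congrArg T.hom hz)
      let e := hF.toFinset.equivFin.symm
      obtain ⟨U, hU, hxU⟩ := hAF s0 _ (fun k => (e k).1) fun k => hover _ (hF.mem_toFinset.1 (e k).2)
      have hsubU : x.left '' (pullback.fst T.hom g ⁻¹' {p}) ⊆ (U : Set X) := fun y hy => by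
        have := hxU (e.symm ⟨y, hF.mem_toFinset.2 hy⟩)
        rwa [e.apply_symm_apply] at this
      have := ht s0
      obtain ⟨h, hle, hsub⟩ := Grpd80.exists_basicOpen_of_finite hU (O := f ⁻¹ᵁ (t s0).opensRange) hF hsubU
        fun y hy => by
          show f y ∈ Set.range (t s0)
          rw [hover y hy]
          exact hs s0
      refine ⟨⟨s0, X.basicOpen h, hU.basicOpen h, ?_⟩, hs s0, ?_⟩
      · rintro _ ⟨z, rfl⟩
        exact hle z.2
      · rintro ⟨q, hq, hqp⟩
        exact hq (hsub ⟨q, hqp, rfl⟩))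
  exact r.isRepresentable

theorem isRepresentable_of_separated_lqf (hg : Mor2.IsFinLocFree g) [IsSeparated f] [LocallyQuasiFinite f]
    [LocallyOfFiniteType f] : (Flatn.morS g f).IsRepresentable := by
  refine isRepresentable_of_AF g f hg fun s d x hx => ?_
  obtain ⟨U, hU, hsU, -⟩ := exists_isAffineOpen_mem_and_subset (X := S) (x := s) (U := ⊤) trivial
  have : IsAffine U.toScheme := hU
  have hmem : ∀ k, x k ∈ f ⁻¹ᵁ U := fun k => by
    show f (x k) ∈ U
    rw [hx]; exact hsU
  obtain ⟨A, hA, hxA⟩ := Grpd80.exists_affine_of_lqf (f ∣_ U)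
    (Set.finite_range fun k => (⟨x k, hmem k⟩ : (f ⁻¹ᵁ U).toScheme))
  exact ⟨(f ⁻¹ᵁ U).ι ''ᵁ A, hA.image_of_isOpenImmersion _, fun k => ⟨_, hxA ⟨k, rfl⟩, rfl⟩⟩

end Groth.Agent.FlatMor67.MorSAF
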