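import Groth.Agent.FlatMor67.MorSRep
import Groth.Agent.Mag88.OverRep
import Groth.Prelude.Def_Mor2
import Mathlib.AlgebraicGeometry.Morphisms.FlatRank
import Mathlib.AlgebraicGeometry.Morphisms.FinitePresentation
import Mathlib.RingTheory.Localization.Free
import Mathlib.RingTheory.LocalRing.Module
import Mathlib.RingTheory.Finiteness.ModuleFinitePresentation

/-! Representability of relative morphisms from a finite locally free scheme to an affine one. -/

set_option autoImplicit false
set_option backward.isDefEq.respectTransparency false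
set_option backward.isDefEq.respectTransparency.types false

universe u

open CategoryTheory CategoryTheory.Limits AlgebraicGeometry Opposite TensorProduct

namespace Groth.Agent.FlatMor67.MorSGlobal

open MorSRep

/-- Sections of `Spec R` over an affine base. -/
theorem exists_algEquiv_sections {S : Scheme.{u}} [IsAffine S] (R : Type u) [CommRing R] [Algebra Γ(S, ⊤) R] :
    Nonempty (Γt (Spec.map (CommRingCat.ofHom (algebraMap Γ(S, ⊤) R)) ≫ S.isoSpec.inv) ≃ₐ[Γ(S, ⊤)] R) := by
  let a : Γ(S, ⊤) ⟶ CommRingCat.of R := CommRingCat.ofHom (algebraMap Γ(S, ⊤) R)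
  have hinv : S.isoSpec.inv.appTop = (Scheme.ΓSpecIso Γ(S, ⊤)).inv := by
    rw [← cancel_epi (Scheme.ΓSpecIso Γ(S, ⊤)).hom, Iso.hom_inv_id, ← Scheme.toSpecΓ_appTop,
      ← Scheme.Hom.comp_appTop]
    show (S.isoSpec.inv ≫ S.isoSpec.hom).appTop = _
    rw [Iso.inv_hom_id]
    rfl
  have hw : (Spec.map a ≫ S.isoSpec.inv).appTop ≫ (Scheme.ΓSpecIso (CommRingCat.of R)).hom = a := by
    rw [Scheme.Hom.comp_appTop, hinv, Category.assoc, Scheme.ΓSpecIso_naturality, Iso.inv_hom_id_assoc]
  exact ⟨AlgEquiv.ofRingEquiv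
    (f := ((Scheme.ΓSpecIso (CommRingCat.of R)).commRingCatIsoToRingEquiv :
      Γt (Spec.map a ≫ S.isoSpec.inv) ≃+* R)) fun x => congr($hw x)⟩

theorem exists_free_away {A M : Type u} [CommRing A] [AddCommGroup M] [Module A M]
    [Module.Flat A M] [Module.FinitePresentation A M] (p : Ideal A) [p.IsPrime] :
    ∃ r ∉ p, ∀ (L : Type u) [CommRing L] [Algebra A L] [IsLocalization.Away r L],
      Module.Free L (L ⊗[A] M) := by
  have : Module.Free (Localization.AtPrime p) (LocalizedModule p.primeCompl M) :=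
    Module.free_of_flat_of_isLocalRing
  obtain ⟨r, hr, hfree, -⟩ := Module.FinitePresentation.exists_free_localizedModule_powers
    p.primeCompl (LocalizedModule.mkLinearMap p.primeCompl M) (Localization.AtPrime p)
  refine ⟨r, hr, fun L _ _ _ => ?_⟩
  let L₀ := Localization (Submonoid.powers r)
  let e : L₀ ≃ₐ[A] L := IsLocalization.algEquiv (Submonoid.powers r) L₀ L
  let _ : Algebra L₀ L := e.toRingEquiv.toRingHom.toAlgebra
  have : IsScalarTower A L₀ L := IsScalarTower.of_algebraMap_eq fun a => (e.commutes a).symm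
  have : Module.Free L₀ (L₀ ⊗[A] M) := Module.Free.of_equiv
    (IsLocalizedModule.isBaseChange (Submonoid.powers r) L₀
      (LocalizedModule.mkLinearMap (Submonoid.powers r) M)).equiv.symm
  exact Module.Free.of_equiv (TensorProduct.AlgebraTensorModule.cancelBaseChange A L₀ L L M)

/-- The base change of a free algebra of sections is free. -/
theorem free_finite_fst {Z S T : Scheme.{u}} [IsAffine S] [IsAffine Z] [IsAffine T] (g : Z ⟶ S) (t : T ⟶ S)
    [Module.Free (Γt t) (Γt t ⊗[Γ(S, ⊤)] Γt g)] [Module.Finite Γ(S, ⊤) (Γt g)] :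
    Module.Finite Γ(T, ⊤) (Γt (pullback.fst t g)) ∧ Module.Free Γ(T, ⊤) (Γt (pullback.fst t g)) := by
  let _ : Algebra (Γt t) (Γt (pullback.fst t g ≫ t)) := (mapHom (pullback.fst t g) rfl).toRingHom.toAlgebra
  let e : Γt t ⊗[Γ(S, ⊤)] Γt g ≃ₗ[Γt t] Γt (pullback.fst t g ≫ t) :=
    LinearEquiv.ofBijective
      { toFun := comparison g t
        map_add' := map_add _
        map_smul' := fun c x => by
          rw [Algebra.smul_def, Algebra.smul_def, map_mul, RingHom.id_apply]
          congr 1
          rw [Algebra.TensorProduct.algebraMap_apply, Algebra.algebraMap_self, RingHom.id_apply, comparison,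
            Algebra.TensorProduct.lift_tmul, map_one, mul_one]
          rfl } (bijective_comparison g t)
  have hfree : Module.Free (Γt t) (Γt (pullback.fst t g ≫ t)) := Module.Free.of_equiv e
  have hfin : Module.Finite (Γt t) (Γt (pullback.fst t g ≫ t)) := Module.Finite.equiv e
  exact ⟨hfin, hfree⟩

/-- A finite locally free morphism to an affine scheme is free over small affine opens. -/
theorem exists_free_chart_affine {Z U : Scheme.{u}} [IsAffine U] (g : Z ⟶ U) [IsFinite g] [Flat g]
    [LocallyOfFinitePresentation g] (s : U) :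
    ∃ (V : Scheme.{u}) (t : V ⟶ U), IsAffine V ∧ IsOpenImmersion t ∧ s ∈ Set.range t ∧
      Module.Finite Γ(V, ⊤) (Γt (pullback.fst t g)) ∧ Module.Free Γ(V, ⊤) (Γt (pullback.fst t g)) := by
  have : IsAffine Z := isAffine_of_isAffineHom g
  have : Module.Finite Γ(U, ⊤) (Γt g) := g.finite_appTop
  have : Module.Flat Γ(U, ⊤) (Γt g) := g.flat_appTop
  have : Algebra.FinitePresentation Γ(U, ⊤) (Γt g) :=
    HasRingHomProperty.appTop (P := @LocallyOfFinitePresentation) g inferInstance
  have : Module.FinitePresentation Γ(U, ⊤) (Γt g) :=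
    Module.FinitePresentation.of_finite_of_finitePresentation Γ(U, ⊤) (Γt g)
  obtain ⟨r, hr, hfree⟩ := exists_free_away (A := Γ(U, ⊤)) (M := Γt g) (U.isoSpec.hom s).asIdeal
  let a : Γ(U, ⊤) ⟶ CommRingCat.of (Localization.Away r) :=
    CommRingCat.ofHom (algebraMap Γ(U, ⊤) (Localization.Away r))
  have : IsOpenImmersion (Spec.map a) := IsOpenImmersion.of_isLocalization r
  let t : Spec (CommRingCat.of (Localization.Away r)) ⟶ U := Spec.map a ≫ U.isoSpec.inv
  have : IsLocalization.Away r (Γt t) := by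
    obtain ⟨e⟩ := exists_algEquiv_sections (S := U) (Localization.Away r)
    exact IsLocalization.isLocalization_of_algEquiv (Submonoid.powers r) e.symm
  have := hfree (Γt t)
  refine ⟨_, t, inferInstance, inferInstance, ?_, free_finite_fst g t⟩
  obtain ⟨x, hx⟩ : U.isoSpec.hom s ∈ Set.range (Spec.map a) := by
    rw [show Set.range (Spec.map a) = (PrimeSpectrum.basicOpen r : Set (PrimeSpectrum Γ(U, ⊤))) from
      PrimeSpectrum.localization_away_comap_range (Localization.Away r) r]
    exact hr
  refine ⟨x, ?_⟩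
  rw [Scheme.Hom.comp_apply, hx, ← Scheme.Hom.comp_apply, Iso.hom_inv_id]
  rfl

/-- A finite locally free morphism is free over small affine opens. -/
theorem exists_free_chart {Z S : Scheme.{u}} (g : Z ⟶ S) (hg : Mor2.IsFinLocFree g) (s : S) :
    ∃ (V : Scheme.{u}) (t : V ⟶ S), IsAffine V ∧ IsOpenImmersion t ∧ s ∈ Set.range t ∧
      Module.Finite Γ(V, ⊤) (Γt (pullback.fst t g)) ∧ Module.Free Γ(V, ⊤) (Γt (pullback.fst t g)) := by
  obtain ⟨hfin, hflat, hfp⟩ := hg
  obtain ⟨U, hU, hsU, -⟩ := exists_isAffineOpen_mem_and_subset (X := S) (x := s) (U := ⊤) trivial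
  have : IsAffine U.toScheme := hU
  have : IsFinite (pullback.fst U.ι g) := MorphismProperty.pullback_fst _ _ hfin
  have : Flat (pullback.fst U.ι g) := MorphismProperty.pullback_fst _ _ hflat
  have : LocallyOfFinitePresentation (pullback.fst U.ι g) := MorphismProperty.pullback_fst _ _ hfp
  obtain ⟨V, t, hV, ht, ⟨x, hx⟩, hfin', hfree'⟩ := exists_free_chart_affine (pullback.fst U.ι g) ⟨s, hsU⟩
  refine ⟨V, t ≫ U.ι, hV, inferInstance, ⟨x, by rw [Scheme.Hom.comp_apply, hx]; rfl⟩, ?_⟩
  let i := pullbackRightPullbackFstIso U.ι g t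
  let m := mapHom (S := V) i.inv (pullbackRightPullbackFstIso_inv_fst U.ι g t)
  have : IsIso i.inv.appTop := inferInstanceAs (IsIso (Scheme.Γ.map i.inv.op))
  have hm : Function.Bijective m := ConcreteCategory.bijective_of_isIso i.inv.appTop
  exact ⟨Module.Finite.equiv (LinearEquiv.ofBijective m.toLinearMap hm),
    Module.Free.of_equiv (LinearEquiv.ofBijective m.toLinearMap hm)⟩

variable {Z X S : Scheme.{u}} (g : Z ⟶ S) (f : X ⟶ S)

/-- A representative over a chart of the base computes `morS` on schemes over that chart. -/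
theorem exists_universal_of_restrict {U ZU XU : Scheme.{u}} (ι : U ⟶ S) [Mono ι] (gU : ZU ⟶ U) (fU : XU ⟶ U)
    (jZ : ZU ⟶ Z) (jX : XU ⟶ X) (hZ : IsPullback jZ gU g ι) (hX : IsPullback jX fU f ι) (W : Over U)
    (r : (Flatn.morS gU fU).RepresentableBy W) :
    ∃ u : (Flatn.morS g f).obj (op ((Over.map ι).obj W)), ∀ T : Over S, (∃ t : T.left ⟶ U, t ≫ ι = T.hom) →
      Function.Bijective fun φ : T ⟶ (Over.map ι).obj W => (Flatn.morS g f).map φ.op u := by
  let u₀ : (Flatn.morS gU fU).obj (op W) := r.homEquiv (𝟙 W)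
  let eW : pullback (W.hom ≫ ι) g ⟶ pullback W.hom gU :=
    pullback.lift (pullback.fst _ _) (hZ.lift (pullback.snd _ _) (pullback.fst _ _ ≫ W.hom)
      (by rw [Category.assoc, ← pullback.condition])) (hZ.lift_snd _ _ _).symm
  have hu0 : u₀.left ≫ fU = pullback.snd W.hom gU ≫ gU := Over.w u₀
  let u : (Flatn.morS g f).obj (op ((Over.map ι).obj W)) := Over.homMk (eW ≫ u₀.left ≫ jX) (by
    show (eW ≫ u₀.left ≫ jX) ≫ f = pullback.snd (W.hom ≫ ι) g ≫ g
    simp only [Category.assoc, hX.w, reassoc_of% hu0, eW, pullback.lift_snd_assoc, hZ.lift_snd_assoc]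
    exact pullback.condition)
  refine ⟨u, fun T ⟨t, ht⟩ => ?_⟩
  let T₀ : Over U := Over.mk t
  let e : pullback T.hom g ⟶ pullback t gU :=
    pullback.lift (pullback.fst _ _) (hZ.lift (pullback.snd _ _) (pullback.fst _ _ ≫ t)
      (by rw [Category.assoc, ht, ← pullback.condition])) (hZ.lift_snd _ _ _).symm
  let e' : pullback t gU ⟶ pullback T.hom g :=
    pullback.lift (pullback.fst _ _) (pullback.snd _ _ ≫ jZ)
      (by rw [← ht, pullback.condition_assoc, Category.assoc, hZ.w])
  have hee : e' ≫ e = 𝟙 _ := by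
    dsimp only [e, e']
    apply pullback.hom_ext
    · rw [Category.assoc, Category.id_comp]
      erw [pullback.lift_fst, pullback.lift_fst]
    · apply hZ.hom_ext
      · rw [Category.id_comp, Category.assoc, Category.assoc]
        erw [pullback.lift_snd_assoc, hZ.lift_fst, pullback.lift_snd]
      · rw [Category.id_comp, Category.assoc, Category.assoc]
        erw [pullback.lift_snd_assoc, hZ.lift_snd, pullback.lift_fst_assoc, pullback.condition]
  have hee' : e ≫ e' = 𝟙 _ := by
    dsimp only [e, e']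
    apply pullback.hom_ext
    · rw [Category.assoc, Category.id_comp]
      erw [pullback.lift_fst, pullback.lift_fst]
    · rw [Category.assoc, Category.id_comp]
      erw [pullback.lift_snd, pullback.lift_snd_assoc, hZ.lift_fst]
  have key : ∀ (φ : T ⟶ (Over.map ι).obj W) (φ₀ : T₀ ⟶ W), φ₀.left = φ.left →
      ((Flatn.morS g f).map φ.op u).left = e ≫ ((Flatn.morS gU fU).map φ₀.op u₀).left ≫ jX := by
    intro φ φ₀ hφ
    rw [morS_map_left, morS_map_left]
    show pullback.lift (pullback.fst T.hom g ≫ φ.left) (pullback.snd T.hom g) _ ≫ eW ≫ u₀.left ≫ jX = _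
    simp only [← Category.assoc]
    congr 2
    have hw : φ.left ≫ W.hom = t := by
      rw [← hφ]; exact Over.w φ₀
    apply pullback.hom_ext
    · simp [eW, e, T₀, hφ]
    · apply hZ.hom_ext
      · simp [eW, e, T₀]
      · simp [eW, e, T₀, hw]
  have hw : ∀ φ : T ⟶ (Over.map ι).obj W, φ.left ≫ W.hom = t := fun φ => by
    rw [← cancel_mono ι, Category.assoc, ht]
    exact Over.w φ
  have he : Epi e := ⟨fun a b h => by
    have := congrArg (e' ≫ ·) h
    simpa [reassoc_of% hee] using this⟩
  constructor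
  · intro φ ψ h
    have h' := congrArg (fun z => z.left) h
    let φ₀ : T₀ ⟶ W := Over.homMk φ.left (hw φ)
    let ψ₀ : T₀ ⟶ W := Over.homMk ψ.left (hw ψ)
    have h1 : ((Flatn.morS gU fU).map φ₀.op u₀).left ≫ jX = ((Flatn.morS gU fU).map ψ₀.op u₀).left ≫ jX := by
      rw [← cancel_epi e, ← key φ φ₀ rfl, ← key ψ ψ₀ rfl]
      exact h'
    have h2 : (Flatn.morS gU fU).map φ₀.op u₀ = (Flatn.morS gU fU).map ψ₀.op u₀ :=
      Over.OverMorphism.ext (hX.hom_ext h1 ((Over.w _).trans (Over.w _).symm))
    have h3 : φ₀ = ψ₀ := r.homEquiv.injective (by rwa [r.homEquiv_eq φ₀, r.homEquiv_eq ψ₀])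
    exact Over.OverMorphism.ext (congrArg (fun z => z.left) h3 : φ₀.left = ψ₀.left)
  · intro b
    have hbw : b.left ≫ f = pullback.snd T.hom g ≫ g := Over.w b
    let b₀ : (Flatn.morS gU fU).obj (op T₀) := Over.homMk (hX.lift (e' ≫ b.left) (pullback.fst t gU ≫ t)
      (by rw [Category.assoc, hbw, ← pullback.condition]; simp [e', ht])) (by
        show hX.lift _ _ _ ≫ fU = pullback.snd t gU ≫ gU
        rw [hX.lift_snd, pullback.condition])
    let φ₀ : T₀ ⟶ W := r.homEquiv.symm b₀
    let φ : T ⟶ (Over.map ι).obj W := Over.homMk φ₀.left (by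
      show φ₀.left ≫ W.hom ≫ ι = T.hom
      rw [← Category.assoc, Over.w φ₀]
      exact ht)
    refine ⟨φ, Over.OverMorphism.ext ((key φ φ₀ rfl).trans ?_)⟩
    rw [← r.homEquiv_eq φ₀, show r.homEquiv φ₀ = b₀ from r.homEquiv.apply_symm_apply b₀]
    show e ≫ hX.lift (e' ≫ b.left) _ _ ≫ jX = b.left
    rw [hX.lift_fst, reassoc_of% hee']

/-- `morS` is a Zariski sheaf. -/
theorem isSheaf_morS : Presheaf.IsSheaf (Scheme.zariskiTopology.over S) (Flatn.morS g f) := by
  rw [isSheaf_iff_isSheaf_of_type]
  intro T R hR x hx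
  let F := Flatn.morS g f
  let pr := pullback.fst T.hom g
  let R' : Sieve (pullback T.hom g) := (Sieve.overEquiv T R).pullback pr
  have hR' : R' ∈ Scheme.zariskiTopology (pullback T.hom g) :=
    Scheme.zariskiTopology.pullback_stable pr ((GrothendieckTopology.mem_over_iff _ R).1 hR)
  have hX : Presieve.IsSheafFor (yoneda.obj X) R'.arrows :=
    (GrothendieckTopology.Subcanonical.isSheaf_of_isRepresentable (J := Scheme.zariskiTopology.{u}) (yoneda.obj X)) R' hR'
  have hmem : ∀ {Y : Scheme.{u}} (k : Y ⟶ pullback T.hom g), R' k →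
      R (Over.homMk (k ≫ pr) rfl : Over.mk ((k ≫ pr) ≫ T.hom) ⟶ T) := fun k hk =>
    (Sieve.overEquiv_iff R (k ≫ pr)).1 hk
  let y : Presieve.FamilyOfElements (yoneda.obj X) R'.arrows := fun Y k hk =>
    pullback.lift (𝟙 Y) (k ≫ pullback.snd T.hom g) (by simp [pr, pullback.condition]) ≫
      (x _ (hmem k hk)).left
  have hxl : ∀ {A B : Over S} (a : A ⟶ T) (c : B ⟶ T) (ha : R a) (hc : R c) (l : B ⟶ A), l ≫ a = c →
      (x c hc).left = pullback.lift (pullback.fst B.hom g ≫ l.left) (pullback.snd B.hom g)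
        (by rw [Category.assoc, Over.w l, pullback.condition]) ≫ (x a ha).left := by
    intro A B a c ha hc l e
    have := hx l (𝟙 B) ha hc (by simp [e])
    rw [op_id, F.map_id] at this
    rw [← morS_map_left]
    exact congrArg (fun z => z.left) this.symm
  have hy : y.Compatible := by
    rw [Presieve.compatible_iff_sieveCompatible]
    intro Y Y' k l hk
    show y (l ≫ k) (R'.downward_closed hk l) = l ≫ y k hk
    let L : Over.mk (((l ≫ k) ≫ pr) ≫ T.hom) ⟶ Over.mk ((k ≫ pr) ≫ T.hom) := Over.homMk l (by simp)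
    dsimp only [y]
    rw [hxl _ _ (hmem k hk) (hmem (l ≫ k) (R'.downward_closed hk l)) L (Over.OverMorphism.ext (Category.assoc _ _ _).symm)]
    simp only [← Category.assoc]
    congr 1
    apply pullback.hom_ext <;> simp [L] <;> exact Category.id_comp _
  obtain ⟨a, ha, hau⟩ := hX y hy
  have hres : ∀ {A : Over S} (c : A ⟶ T) (hc : R c), ∀ (hm : R' (pullback.lift (pullback.fst A.hom g ≫ c.left) (pullback.snd A.hom g)
      (by rw [Category.assoc, Over.w c, pullback.condition]))), y _ hm = (x c hc).left := by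
    intro A c hc hm
    let m : pullback A.hom g ⟶ pullback T.hom g := pullback.lift (pullback.fst A.hom g ≫ c.left) (pullback.snd A.hom g)
      (by rw [Category.assoc, Over.w c, pullback.condition])
    let l : Over.mk ((m ≫ pr) ≫ T.hom) ⟶ A := Over.homMk (pullback.fst A.hom g) (by simp [m, pr])
    show pullback.lift (𝟙 _) (m ≫ pullback.snd T.hom g) _ ≫ (x _ (hmem m hm)).left = _
    rw [hxl c _ hc (hmem m hm) l (Over.OverMorphism.ext (by simp [l, m, pr])), ← Category.assoc]
    conv_rhs => rw [← Category.id_comp (x c hc).left]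
    congr 1
    apply pullback.hom_ext <;> simp [l, m] <;> exact Category.id_comp _
  have hmemR : ∀ {A : Over S} (c : A ⟶ T), R c → R' (pullback.lift (pullback.fst A.hom g ≫ c.left) (pullback.snd A.hom g)
      (by rw [Category.assoc, Over.w c, pullback.condition])) := by
    intro A c hc
    show (Sieve.overEquiv T R) (_ ≫ pr)
    rw [pullback.lift_fst, Sieve.overEquiv_iff]
    have e : Over.homMk (pullback.fst A.hom g ≫ c.left) rfl =
        (Over.homMk (pullback.fst A.hom g) (by simp) : Over.mk ((pullback.fst A.hom g ≫ c.left) ≫ T.hom) ⟶ A) ≫ c :=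
      Over.OverMorphism.ext rfl
    exact e ▸ R.downward_closed hc _
  have haf : a ≫ f = pullback.snd T.hom g ≫ g := by
    have hS : Presieve.IsSheafFor (yoneda.obj S) R'.arrows :=
      (GrothendieckTopology.Subcanonical.isSheaf_of_isRepresentable (J := Scheme.zariskiTopology.{u}) (yoneda.obj S)) R' hR'
    refine hS.isSeparatedFor.ext fun Y k hk => ?_
    show k ≫ a ≫ f = k ≫ pullback.snd T.hom g ≫ g
    rw [← Category.assoc, show k ≫ a = y k hk from ha k hk]
    show (pullback.lift _ _ _ ≫ (x _ (hmem k hk)).left) ≫ f = _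
    have := Over.w (x _ (hmem k hk))
    rw [Category.assoc, show (x _ (hmem k hk)).left ≫ f = pullback.snd _ g ≫ g from this,
      pullback.lift_snd_assoc, Category.assoc]
  refine ⟨Over.homMk a haf, fun A c hc => Over.OverMorphism.ext ?_, fun b hb => Over.OverMorphism.ext ?_⟩
  · rw [morS_map_left]
    exact (ha _ (hmemR c hc)).trans (hres c hc (hmemR c hc))
  · refine hau b.left fun Y k hk => ?_
    have h := congrArg (fun z => z.left) (hb _ (hmem k hk))
    simp only [morS_map_left] at h
    show k ≫ b.left = pullback.lift _ _ _ ≫ (x _ (hmem k hk)).left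
    rw [← h, ← Category.assoc]
    congr 1
    apply pullback.hom_ext <;> simp [pr] <;> exact (Category.id_comp _).symm

/-- `morS` of a finite locally free `Z` and an affine `X` is represented by an affine `S`-scheme. -/
theorem exists_affineHom_rep (hg : Mor2.IsFinLocFree g) [IsAffineHom f] :
    ∃ W : Over S, IsAffineHom W.hom ∧ Nonempty ((Flatn.morS g f).RepresentableBy W) := by
  choose V t hV ht hs hfin hfree using exists_free_chart g hg
  have hloc : ∀ j : S, ∃ (W : Over (V j)) (u : (Flatn.morS g f).obj (op ((Over.map (t j)).obj W))),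
      IsAffine W.left ∧ ∀ T : Over S, (∃ s : T.left ⟶ V j, s ≫ t j = T.hom) →
        Function.Bijective fun φ : T ⟶ (Over.map (t j)).obj W => (Flatn.morS g f).map φ.op u := by
    intro j
    have := hV j
    have := ht j
    have := hfin j
    have := hfree j
    have : IsFinite (pullback.fst (t j) g) := MorphismProperty.pullback_fst _ _ hg.1
    have : IsAffine (pullback (t j) g) := isAffine_of_isAffineHom (pullback.fst (t j) g)
    have : IsAffine (pullback (t j) f) := isAffine_of_isAffineHom (pullback.fst (t j) f)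
    obtain ⟨W, hW, ⟨r⟩⟩ := exists_affine_rep (pullback.fst (t j) g) (pullback.fst (t j) f)
    obtain ⟨u, hu⟩ := exists_universal_of_restrict g f (t j) _ _ (pullback.snd (t j) g) (pullback.snd (t j) f)
      (IsPullback.of_hasPullback (t j) g).flip (IsPullback.of_hasPullback (t j) f).flip W r
    exact ⟨W, u, hW, hu⟩
  choose W u hW hu using hloc
  let η : ∀ j, yoneda.obj ((Over.map (t j)).obj (W j)) ⟶ Flatn.morS g f := fun j => yonedaEquiv.symm (u j)
  have hη : ∀ j (T : Over S) (φ : T ⟶ (Over.map (t j)).obj (W j)),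
      (η j).app (op T) φ = (Flatn.morS g f).map φ.op (u j) := fun j T φ => rfl
  have hlift : ∀ j (T : Over S), Set.range T.hom ⊆ Set.range (t j) → ∃ s : T.left ⟶ V j, s ≫ t j = T.hom :=
    fun j T h => have := ht j; ⟨IsOpenImmersion.lift (t j) T.hom h, IsOpenImmersion.lift_fac _ _ _⟩
  obtain ⟨Q, ⟨r⟩⟩ := Mag88.OverRep.exists_representableBy (Flatn.morS g f) (isSheaf_morS g f)
    (fun j => (Over.map (t j)).obj (W j)) η
    (fun j T φ ψ h => (hu j T ⟨φ.left ≫ (W j).hom, (Category.assoc _ _ _).trans (Over.w φ)⟩).1 h)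
    (fun T _ j => have := ht j; T.hom ⁻¹ᵁ (t j).opensRange)
    (fun T T' x s j => by
      constructor
      · rintro ⟨φ, -⟩ _ ⟨z, rfl⟩
        have h : (s.left ≫ T.hom) z = (φ.left ≫ (W j).hom ≫ t j) z := by
          rw [show s.left ≫ T.hom = φ.left ≫ (W j).hom ≫ t j from (Over.w s).trans (Over.w φ).symm]
        exact ⟨(W j).hom (φ.left z), h.symm⟩
      · intro hsub
        obtain ⟨φ, hφ⟩ := (hu j T' (hlift j T' (by
          rintro _ ⟨z, rfl⟩
          rw [← Over.w s]
          exact hsub ⟨z, rfl⟩))).2 ((Flatn.morS g f).map s.op x)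
        exact ⟨φ, hφ⟩)
    (fun T _ p => ⟨T.hom p, hs (T.hom p)⟩)
  refine ⟨Q, ?_, ⟨r⟩⟩
  -- the representing scheme is affine over each chart
  refine IsZariskiLocalAtTarget.of_openCover (P := @IsAffineHom)
    (Scheme.Cover.mkOfCovers (P := @IsOpenImmersion) S V t (fun s => ⟨s, hs s⟩) ht) fun j => ?_
  show IsAffineHom (pullback.snd Q.hom (t j))
  have := hV j
  have := ht j
  let Qj : Over S := Over.mk (pullback.fst Q.hom (t j) ≫ Q.hom)
  let π : Qj ⟶ Q := Over.homMk (pullback.fst Q.hom (t j))
  obtain ⟨a, ha⟩ := (hu j Qj ⟨pullback.snd Q.hom (t j), pullback.condition.symm⟩).2 (r.homEquiv π)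
  let ω : (Over.map (t j)).obj (W j) ⟶ Q := r.homEquiv.symm (u j)
  have hω : (Flatn.morS g f).map ω.op (r.homEquiv (𝟙 Q)) = u j :=
    (r.homEquiv_eq ω).symm.trans (r.homEquiv.apply_symm_apply _)
  have h1 : a ≫ ω = π := r.homEquiv.injective (by
    rw [r.homEquiv_comp, show r.homEquiv ω = u j from r.homEquiv.apply_symm_apply _]
    exact ha)
  let b : (W j).left ⟶ pullback Q.hom (t j) :=
    pullback.lift ω.left (W j).hom (Over.w ω)
  let B : (Over.map (t j)).obj (W j) ⟶ Qj := Over.homMk b (by
    show b ≫ pullback.fst Q.hom (t j) ≫ Q.hom = (W j).hom ≫ t j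
    rw [pullback.lift_fst_assoc]
    exact Over.w ω)
  have h2 : B ≫ π = ω := Over.OverMorphism.ext (pullback.lift_fst _ _ _)
  have h3 : B ≫ a = 𝟙 _ := (hu j _ ⟨(W j).hom, rfl⟩).1 (by
    show (Flatn.morS g f).map (B ≫ a).op (u j) = (Flatn.morS g f).map (𝟙 _ : _ ⟶ _).op (u j)
    rw [op_comp, Functor.map_comp, op_id, CategoryTheory.Functor.map_id]
    show (Flatn.morS g f).map B.op ((Flatn.morS g f).map a.op (u j)) = u j
    rw [show (Flatn.morS g f).map a.op (u j) = r.homEquiv π from ha, ← r.homEquiv_comp, h2]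
    exact r.homEquiv.apply_symm_apply _)
  have hamb : a.left ≫ (W j).hom = pullback.snd Q.hom (t j) := by
    rw [← cancel_mono (t j), Category.assoc]
    exact (Over.w a).trans pullback.condition
  have : IsIso a.left := ⟨b, by
    refine pullback.hom_ext ?_ ?_
    · rw [Category.assoc, pullback.lift_fst, Category.id_comp]
      exact congrArg (fun z => z.left) h1
    · rw [Category.assoc, pullback.lift_snd, Category.id_comp, hamb], congrArg (fun z => z.left) h3⟩
  have : IsAffine (W j).left := hW j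
  have : IsAffine ((Over.map (t j)).obj (W j)).left := hW j
  have : IsAffine (pullback Q.hom (t j)) := .of_isIso a.left
  exact inferInstance

end Groth.Agent.FlatMor67.MorSGlobal
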