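import Mathlib.RingTheory.TensorProduct.Free
import Mathlib.RingTheory.TensorProduct.Maps
import Mathlib.Algebra.MvPolynomial.Eval
import Mathlib.RingTheory.Ideal.Quotient.Operations
import Mathlib.LinearAlgebra.Dimension.Free

/-! Weil restriction of an algebra along a finite free algebra. -/

set_option autoImplicit false

universe u

open TensorProduct

namespace Groth.Agent.FlatMor67.WeilAlg

variable (A B C : Type u) [CommRing A] [CommRing B] [CommRing C] [Algebra A B] [Algebra A C]

theorem repr_map {ι : Type u} (b : Module.Basis ι A B) {R R' : Type u} [CommRing R] [CommRing R']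
    [Algebra A R] [Algebra A R'] (ψ : R →ₐ[A] R') (x : R ⊗[A] B) (i : ι) :
    (Algebra.TensorProduct.basis R' b).repr (Algebra.TensorProduct.map ψ (AlgHom.id A B) x) i =
      ψ ((Algebra.TensorProduct.basis R b).repr x i) := by
  induction x using TensorProduct.induction_on with
  | zero => simp
  | tmul r y =>
    rw [Algebra.TensorProduct.map_tmul, Algebra.TensorProduct.basis_repr_tmul,
      Algebra.TensorProduct.basis_repr_tmul]
    simp
  | add x y hx hy => simp [map_add, hx, hy]

/-- For a finite free `A`-algebra `B`, the functor `R ↦ Hom_A(C, R ⊗ B)` is corepresentable. -/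
theorem exists_weilAlg [Module.Free A B] [Module.Finite A B] :
    ∃ (R₀ : Type u) (_ : CommRing R₀) (_ : Algebra A R₀) (uv : C →ₐ[A] R₀ ⊗[A] B),
      ∀ (R : Type u) [CommRing R] [Algebra A R],
        Function.Bijective fun ψ : R₀ →ₐ[A] R => (Algebra.TensorProduct.map ψ (AlgHom.id A B)).comp uv := by
  classical
  let b := Module.Free.chooseBasis A B
  let ι := Module.Free.ChooseBasisIndex A B
  let P := MvPolynomial (C × ι) A
  let U : C → P ⊗[A] B := fun c => ∑ i, (MvPolynomial.X (c, i) : P) ⊗ₜ b i
  let gen : Set (P ⊗[A] B) :=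
    Set.range (fun p : C × C => U (p.1 + p.2) - (U p.1 + U p.2)) ∪
      Set.range (fun p : C × C => U (p.1 * p.2) - U p.1 * U p.2) ∪
        Set.range (fun a : A => U (algebraMap A C a) - algebraMap A (P ⊗[A] B) a)
  let J : Ideal P := Ideal.span {x | ∃ z ∈ gen, ∃ i, (Algebra.TensorProduct.basis P b).repr z i = x}
  let π : P →ₐ[A] P ⧸ J := Ideal.Quotient.mkₐ A J
  let M := Algebra.TensorProduct.map π (AlgHom.id A B)
  have hgen : ∀ z ∈ gen, M z = 0 := fun z hz => by
    refine (Algebra.TensorProduct.basis (P ⧸ J) b).ext_elem fun i => ?_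
    rw [repr_map, map_zero]
    exact Ideal.Quotient.eq_zero_iff_mem.2 (Ideal.subset_span ⟨z, hz, i, rfl⟩)
  have hadd : ∀ c c', M (U (c + c')) = M (U c) + M (U c') := fun c c' => by
    have := hgen _ (Or.inl (Or.inl ⟨(c, c'), rfl⟩))
    rwa [map_sub, map_add, sub_eq_zero] at this
  have hmul : ∀ c c', M (U (c * c')) = M (U c) * M (U c') := fun c c' => by
    have := hgen _ (Or.inl (Or.inr ⟨(c, c'), rfl⟩))
    rwa [map_sub, map_mul, sub_eq_zero] at this
  have halg : ∀ a, M (U (algebraMap A C a)) = algebraMap A _ a := fun a => by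
    have := hgen _ (Or.inr ⟨a, rfl⟩)
    rwa [map_sub, AlgHom.commutes, sub_eq_zero] at this
  let uv : C →ₐ[A] (P ⧸ J) ⊗[A] B :=
    { toFun := fun c => M (U c)
      map_one' := by rw [← map_one (algebraMap A C), halg, map_one]
      map_mul' := hmul
      map_zero' := by rw [← map_zero (algebraMap A C), halg, map_zero]
      map_add' := hadd
      commutes' := halg }
  have hcoef : ∀ {R : Type u} [CommRing R] [Algebra A R] (θ : P →ₐ[A] R) (c : C) (j : ι),
      (Algebra.TensorProduct.basis R b).repr (Algebra.TensorProduct.map θ (AlgHom.id A B) (U c)) j =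
        θ (MvPolynomial.X (c, j)) := by
    intro R _ _ θ c j
    rw [repr_map]
    congr 1
    simp [U, Finsupp.single_apply]
  refine ⟨P ⧸ J, inferInstance, inferInstance, uv, fun R _ _ => ⟨fun ψ ψ' h => ?_, fun h => ?_⟩⟩
  · refine Ideal.Quotient.algHom_ext A (MvPolynomial.algHom_ext fun ⟨c, j⟩ => ?_)
    have key : ∀ φ : P ⧸ J →ₐ[A] R,
        (φ.comp π) (MvPolynomial.X (c, j)) =
          (Algebra.TensorProduct.basis R b).repr ((Algebra.TensorProduct.map φ (AlgHom.id A B)).comp uv c) j := by
      intro φ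
      rw [← hcoef (φ.comp π) c j]
      congr 2
      show _ = Algebra.TensorProduct.map φ (AlgHom.id A B) (M (U c))
      rw [show Algebra.TensorProduct.map (φ.comp π) (AlgHom.id A B) =
        (Algebra.TensorProduct.map φ (AlgHom.id A B)).comp M from by ext <;> simp [M]]
      rfl
    exact (key ψ).trans ((congrArg (fun f : C →ₐ[A] R ⊗[A] B => (Algebra.TensorProduct.basis R b).repr (f c) j) h).trans (key ψ').symm)
  · let θ : P →ₐ[A] R := MvPolynomial.aeval fun p => (Algebra.TensorProduct.basis R b).repr (h p.1) p.2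
    have hθ : ∀ c, Algebra.TensorProduct.map θ (AlgHom.id A B) (U c) = h c := fun c =>
      (Algebra.TensorProduct.basis R b).ext_elem fun j => by rw [hcoef θ c j, MvPolynomial.aeval_X]
    have hJ : ∀ x ∈ J, θ x = 0 := by
      intro x hx
      induction hx using Submodule.span_induction with
      | mem x hx =>
        obtain ⟨z, hz, i, rfl⟩ := hx
        rw [← repr_map]
        suffices Algebra.TensorProduct.map θ (AlgHom.id A B) z = 0 by rw [this, map_zero]; rfl
        rcases hz with (⟨⟨c, c'⟩, rfl⟩ | ⟨⟨c, c'⟩, rfl⟩) | ⟨a, rfl⟩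
        · rw [map_sub, map_add, hθ, hθ, hθ, map_add, sub_self]
        · rw [map_sub, map_mul, hθ, hθ, hθ, map_mul, sub_self]
        · rw [map_sub, hθ, AlgHom.commutes, AlgHom.commutes, sub_self]
      | zero => exact map_zero θ
      | add u v _ _ hu hv => rw [map_add, hu, hv, add_zero]
      | smul r v _ hv => rw [smul_eq_mul, map_mul, hv, mul_zero]
    refine ⟨Ideal.Quotient.liftₐ J θ hJ, AlgHom.ext fun c => ?_⟩
    show Algebra.TensorProduct.map (Ideal.Quotient.liftₐ J θ hJ) (AlgHom.id A B) (M (U c)) = h c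
    rw [← hθ c, show Algebra.TensorProduct.map θ (AlgHom.id A B) =
      (Algebra.TensorProduct.map (Ideal.Quotient.liftₐ J θ hJ) (AlgHom.id A B)).comp M from by
        ext <;> simp [M, π]]
    rfl

end Groth.Agent.FlatMor67.WeilAlg
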