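import Groth.Prelude.Def_Flatn
import Groth.Agent.FlatMor67.WeilAlg
import Mathlib.AlgebraicGeometry.Morphisms.Affine
import Mathlib.Algebra.Category.Ring.Constructions

/-! Representability of the functor of relative morphisms, checked on affine schemes. -/

set_option autoImplicit false
set_option backward.isDefEq.respectTransparency.types false

universe u

open CategoryTheory CategoryTheory.Limits AlgebraicGeometry Opposite TensorProduct

namespace Groth.Agent.FlatMor67.MorSRep

variable {Z X S : Scheme.{u}} (g : Z ⟶ S) (f : X ⟶ S)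

theorem morS_map_left {T T' : Over S} (φ : T' ⟶ T) (b : (Flatn.morS g f).obj (op T)) :
    ((Flatn.morS g f).map φ.op b).left =
      pullback.lift (pullback.fst T'.hom g ≫ φ.left) (pullback.snd T'.hom g)
        (by rw [Category.assoc, Over.w φ, pullback.condition]) ≫ b.left := rfl

/-- A candidate which is bijective on affine schemes represents `morS`. -/
theorem representableBy_of_affine (W : Over S) (u : (Flatn.morS g f).obj (op W))
    (h : ∀ (T : Over S) [IsAffine T.left],
      Function.Bijective fun φ : T ⟶ W => (Flatn.morS g f).map φ.op u) :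
    Nonempty ((Flatn.morS g f).RepresentableBy W) := by
  let F := Flatn.morS g f
  have hinj : ∀ T : Over S, Function.Injective fun φ : T ⟶ W => F.map φ.op u := by
    intro T φ ψ e
    refine Over.OverMorphism.ext (T.left.affineCover.hom_ext _ _ fun i => ?_)
    let ι : Over.mk (T.left.affineCover.f i ≫ T.hom) ⟶ T := Over.homMk (T.left.affineCover.f i)
    have e' : F.map (ι ≫ φ).op u = F.map (ι ≫ ψ).op u := by
      rw [op_comp, op_comp, Functor.map_comp, Functor.map_comp]
      exact congrArg (F.map ι.op) e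
    exact congrArg CommaMorphism.left ((@h _ (inferInstanceAs (IsAffine (T.left.affineCover.X i)))).1 e')
  have hsurj : ∀ T : Over S, Function.Surjective fun φ : T ⟶ W => F.map φ.op u := by
    intro T b
    let 𝒰 := T.left.affineCover
    let ι : ∀ i, Over.mk (𝒰.f i ≫ T.hom) ⟶ T := fun i => Over.homMk (𝒰.f i)
    choose φ hφ using fun i => (@h (Over.mk (𝒰.f i ≫ T.hom)) (inferInstanceAs (IsAffine (T.left.affineCover.X i)))).2 (F.map (ι i).op b)
    have hov : ∀ i j, pullback.fst (𝒰.f i) (𝒰.f j) ≫ (φ i).left = pullback.snd _ _ ≫ (φ j).left := by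
      intro i j
      let p₁ : Over.mk (pullback.fst (𝒰.f i) (𝒰.f j) ≫ 𝒰.f i ≫ T.hom) ⟶ Over.mk (𝒰.f i ≫ T.hom) :=
        Over.homMk (pullback.fst _ _)
      let p₂ : Over.mk (pullback.fst (𝒰.f i) (𝒰.f j) ≫ 𝒰.f i ≫ T.hom) ⟶ Over.mk (𝒰.f j ≫ T.hom) :=
        Over.homMk (pullback.snd _ _) (pullback.condition_assoc _).symm
      have hp : p₁ ≫ ι i = p₂ ≫ ι j := Over.OverMorphism.ext pullback.condition
      have e : F.map (p₁ ≫ φ i).op u = F.map (p₂ ≫ φ j).op u := by
        simp only [op_comp, Functor.map_comp]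
        show F.map p₁.op (F.map (φ i).op u) = F.map p₂.op (F.map (φ j).op u)
        have hφ' : ∀ i, F.map (φ i).op u = F.map (ι i).op b := hφ
        rw [hφ' i, hφ' j]
        show (F.map (ι i).op ≫ F.map p₁.op) b = (F.map (ι j).op ≫ F.map p₂.op) b
        rw [← F.map_comp, ← F.map_comp, ← op_comp, ← op_comp, hp]
      exact congrArg CommaMorphism.left (hinj _ e)
    obtain ⟨G, hG⟩ : ∃ G : T.left ⟶ W.left, ∀ i, 𝒰.f i ≫ G = (φ i).left :=
      ⟨𝒰.glueMorphisms (fun i => (φ i).left) hov, fun i => Scheme.Cover.ι_glueMorphisms 𝒰 _ hov i⟩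
    let Φ : T ⟶ W := Over.homMk G (𝒰.hom_ext _ _ fun i => by
      rw [← Category.assoc, hG]
      exact Over.w (φ i))
    refine ⟨Φ, Over.OverMorphism.ext (Scheme.Cover.hom_ext (𝒰.pullback₁ (pullback.fst T.hom g)) _ _ fun i => ?_)⟩
    have hι : ι i ≫ Φ = φ i := by
      apply Over.OverMorphism.ext
      show 𝒰.f i ≫ G = _
      exact hG i
    have e : F.map (ι i).op (F.map Φ.op u) = F.map (ι i).op b := by
      show (F.map Φ.op ≫ F.map (ι i).op) u = _
      rw [← F.map_comp, ← op_comp, hι]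
      exact hφ i
    let m : pullback (pullback.fst T.hom g) (𝒰.f i) ⟶ pullback (𝒰.f i ≫ T.hom) g :=
      pullback.lift (pullback.snd _ _) (pullback.fst _ _ ≫ pullback.snd T.hom g)
        (by rw [← Category.assoc, ← pullback.condition, Category.assoc, Category.assoc, pullback.condition])
    have hm : m ≫ pullback.lift (pullback.fst (𝒰.f i ≫ T.hom) g ≫ 𝒰.f i) (pullback.snd _ _)
        (by rw [Category.assoc, pullback.condition]) = pullback.fst (pullback.fst T.hom g) (𝒰.f i) := by
      apply pullback.hom_ext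
      · rw [Category.assoc, pullback.lift_fst, pullback.lift_fst_assoc, pullback.condition]
      · rw [Category.assoc, pullback.lift_snd, pullback.lift_snd]
    have e' := congrArg (fun x => m ≫ x) (congrArg CommaMorphism.left e)
    simp only [morS_map_left, F] at e'
    show pullback.fst (pullback.fst T.hom g) (𝒰.f i) ≫ _ = pullback.fst (pullback.fst T.hom g) (𝒰.f i) ≫ _
    refine (congrArg (· ≫ _) hm).symm.trans (Eq.trans ?_ (congrArg (· ≫ _) hm))
    simp only [Category.assoc]
    exact e'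
  exact ⟨{ homEquiv := fun {T} => Equiv.ofBijective _ ⟨hinj T, hsurj T⟩
           homEquiv_comp := fun {T T'} a b => by
             show F.map (a ≫ b).op u = F.map a.op (F.map b.op u)
             rw [op_comp, F.map_comp]
             rfl }⟩

/-- Global sections of an `S`-scheme, as an algebra over those of `S`. -/
def Γt {T : Scheme.{u}} (_t : T ⟶ S) : Type u := Γ(T, ⊤)

noncomputable instance {T : Scheme.{u}} (t : T ⟶ S) : CommRing (Γt t) :=
  inferInstanceAs (CommRing Γ(T, ⊤))

noncomputable instance {T : Scheme.{u}} (t : T ⟶ S) : Algebra Γ(S, ⊤) (Γt t) :=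
  RingHom.toAlgebra (R := Γ(S, ⊤)) (S := Γt t) t.appTop.hom

/-- Pullback of sections. -/
noncomputable def mapHom {T T' : Scheme.{u}} {t : T ⟶ S} {t' : T' ⟶ S} (φ : T' ⟶ T) (w : φ ≫ t = t') :
    Γt t →ₐ[Γ(S, ⊤)] Γt t' :=
  { (φ.appTop.hom : Γt t →+* Γt t') with
    commutes' := fun a => by subst w; rfl }

theorem mapHom_comp {T T' T'' : Scheme.{u}} {t : T ⟶ S} {t' : T' ⟶ S} {t'' : T'' ⟶ S} (φ : T' ⟶ T)
    (ψ : T'' ⟶ T') (w : φ ≫ t = t') (w' : ψ ≫ t' = t'') :
    mapHom (ψ ≫ φ) (by rw [Category.assoc, w, w']) = (mapHom ψ w').comp (mapHom φ w) :=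
  AlgHom.ext fun _ => rfl

theorem mapHom_congr {T T' : Scheme.{u}} {t : T ⟶ S} {t' : T' ⟶ S} {φ ψ : T' ⟶ T} (h : φ = ψ)
    (w : φ ≫ t = t') : mapHom φ w = mapHom ψ (h ▸ w) := by subst h; rfl

theorem mapHom_injective {T T' : Scheme.{u}} [IsAffine T] {t : T ⟶ S} {t' : T' ⟶ S} {φ ψ : T' ⟶ T}
    {w : φ ≫ t = t'} {w' : ψ ≫ t = t'} (h : mapHom φ w = mapHom ψ w') : φ = ψ :=
  ext_of_isAffine (CommRingCat.hom_ext (RingHom.ext fun x => DFunLike.congr_fun h x))

theorem mapHom_surjective [IsAffine S] {T T' : Scheme.{u}} [IsAffine T] {t : T ⟶ S} {t' : T' ⟶ S}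
    (a : Γt t →ₐ[Γ(S, ⊤)] Γt t') : ∃ (φ : T' ⟶ T) (w : φ ≫ t = t'), mapHom φ w = a := by
  let α : Γ(T, ⊤) ⟶ Γ(T', ⊤) := CommRingCat.ofHom a.toRingHom
  obtain ⟨φ, hφ⟩ : ∃ φ : T' ⟶ T, φ.appTop = α := by
    refine ⟨T'.toSpecΓ ≫ Spec.map α ≫ T.isoSpec.inv, ?_⟩
    have hinv : T.isoSpec.inv.appTop = (Scheme.ΓSpecIso Γ(T, ⊤)).inv := by
      rw [← cancel_epi (Scheme.ΓSpecIso Γ(T, ⊤)).hom, Iso.hom_inv_id, ← Scheme.toSpecΓ_appTop,
        ← Scheme.Hom.comp_appTop]
      show (T.isoSpec.inv ≫ T.isoSpec.hom).appTop = _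
      rw [Iso.inv_hom_id]
      rfl
    simp only [Scheme.Hom.comp_appTop, Scheme.toSpecΓ_appTop, hinv, Scheme.ΓSpecIso_naturality,
      Category.assoc, Iso.inv_hom_id_assoc]
  have w : φ ≫ t = t' := ext_of_isAffine (by
    rw [Scheme.Hom.comp_appTop, hφ]
    exact CommRingCat.hom_ext (RingHom.ext fun x => a.commutes x))
  exact ⟨φ, w, AlgHom.ext fun x => congr($hφ x)⟩

/-- The comparison map to the sections of a fibre product. -/
noncomputable def comparison {T : Scheme.{u}} (t : T ⟶ S) :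
    Γt t ⊗[Γ(S, ⊤)] Γt g →ₐ[Γ(S, ⊤)] Γt (pullback.fst t g ≫ t) :=
  Algebra.TensorProduct.lift (mapHom (pullback.fst t g) rfl)
    (mapHom (pullback.snd t g) pullback.condition.symm) fun _ _ => Commute.all _ _

theorem comparison_natural {T T' : Scheme.{u}} {t : T ⟶ S} {t' : T' ⟶ S} (φ : T' ⟶ T) (w : φ ≫ t = t') :
    (mapHom (t := pullback.fst t g ≫ t) (t' := pullback.fst t' g ≫ t')
      (pullback.lift (pullback.fst t' g ≫ φ) (pullback.snd t' g)
        (by rw [Category.assoc, w, pullback.condition]))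
      (by rw [pullback.lift_fst_assoc, Category.assoc, w])).comp (comparison g t) =
      (comparison g t').comp (Algebra.TensorProduct.map (mapHom φ w) (AlgHom.id _ _)) := by
  refine Algebra.TensorProduct.ext (AlgHom.ext fun x => ?_) (AlgHom.ext fun x => ?_)
  · simp [comparison]
    rw [← AlgHom.comp_apply, ← AlgHom.comp_apply, ← mapHom_comp, ← mapHom_comp,
      mapHom_congr (pullback.lift_fst _ _ _)]
  · simp [comparison]
    rw [← AlgHom.comp_apply, ← mapHom_comp, mapHom_congr (pullback.lift_snd _ _ _)]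

theorem bijective_comparison [IsAffine S] [IsAffine Z] {T : Scheme.{u}} [IsAffine T] (t : T ⟶ S) :
    Function.Bijective (comparison g t) := by
  have h := isPushout_appTop_of_isPullback (IsPullback.of_hasPullback t g)
  let _ : Algebra (Γt t) (Γt (pullback.fst t g ≫ t)) := (mapHom (pullback.fst t g) rfl).toRingHom.toAlgebra
  let _ : Algebra (Γt g) (Γt (pullback.fst t g ≫ t)) :=
    (mapHom (pullback.snd t g) pullback.condition.symm).toRingHom.toAlgebra
  have : IsScalarTower Γ(S, ⊤) (Γt t) (Γt (pullback.fst t g ≫ t)) :=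
    IsScalarTower.of_algebraMap_eq fun a => ((mapHom (pullback.fst t g) rfl).commutes a).symm
  have : IsScalarTower Γ(S, ⊤) (Γt g) (Γt (pullback.fst t g ≫ t)) :=
    IsScalarTower.of_algebraMap_eq fun a => ((mapHom (pullback.snd t g) pullback.condition.symm).commutes a).symm
  have : Algebra.IsPushout Γ(S, ⊤) (Γt t) (Γt g) (Γt (pullback.fst t g ≫ t)) :=
    CommRingCat.isPushout_iff_isPushout.1 h
  convert (Algebra.IsPushout.equiv Γ(S, ⊤) (Γt t) (Γt g) (Γt (pullback.fst t g ≫ t))).bijective using 1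
  funext x
  induction x using TensorProduct.induction_on with
  | zero => simp
  | tmul a b =>
    rw [Algebra.IsPushout.equiv_tmul, comparison, Algebra.TensorProduct.lift_tmul]
    rfl
  | add a b ha hb => rw [map_add, map_add, ha, hb]

/-- An `S`-scheme of sections `R` exists for every algebra `R`. -/
theorem exists_scheme_of_algebra [IsAffine S] (R : Type u) [CommRing R] [Algebra Γ(S, ⊤) R] :
    ∃ W : Over S, IsAffine W.left ∧ Nonempty (Γt W.hom ≃ₐ[Γ(S, ⊤)] R) := by
  let a : Γ(S, ⊤) ⟶ CommRingCat.of R := CommRingCat.ofHom (algebraMap Γ(S, ⊤) R)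
  have hinv : S.isoSpec.inv.appTop = (Scheme.ΓSpecIso Γ(S, ⊤)).inv := by
    rw [← cancel_epi (Scheme.ΓSpecIso Γ(S, ⊤)).hom, Iso.hom_inv_id, ← Scheme.toSpecΓ_appTop,
      ← Scheme.Hom.comp_appTop]
    show (S.isoSpec.inv ≫ S.isoSpec.hom).appTop = _
    rw [Iso.inv_hom_id]
    rfl
  have hw : (Spec.map a ≫ S.isoSpec.inv).appTop ≫ (Scheme.ΓSpecIso (CommRingCat.of R)).hom = a := by
    rw [Scheme.Hom.comp_appTop, hinv, Category.assoc, Scheme.ΓSpecIso_naturality, Iso.inv_hom_id_assoc]
  exact ⟨Over.mk (Spec.map a ≫ S.isoSpec.inv), inferInstanceAs (IsAffine (Spec _)), ⟨AlgEquiv.ofRingEquiv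
    (f := ((Scheme.ΓSpecIso (CommRingCat.of R)).commRingCatIsoToRingEquiv :
      Γt (Spec.map a ≫ S.isoSpec.inv) ≃+* R)) fun x => congr($hw x)⟩⟩

theorem comp_left_cancel {A P Q R : Type u} [CommRing A] [CommRing P] [CommRing Q] [CommRing R]
    [Algebra A P] [Algebra A Q] [Algebra A R] (κ : P →ₐ[A] Q) (hκ : Function.Injective κ)
    {a b : R →ₐ[A] P} (h : κ.comp a = κ.comp b) : a = b :=
  AlgHom.ext fun c => hκ (DFunLike.congr_fun h c)

theorem comp_symm_comp {A P Q R : Type u} [CommRing A] [CommRing P] [CommRing Q] [CommRing R]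
    [Algebra A P] [Algebra A Q] [Algebra A R] (κ : P →ₐ[A] Q) (hκ : Function.Bijective κ)
    (α : R →ₐ[A] Q) : κ.comp ((AlgEquiv.ofBijective κ hκ).symm.toAlgHom.comp α) = α :=
  AlgHom.ext fun x => (AlgEquiv.ofBijective κ hκ).apply_symm_apply (α x)

/-- An affine `S`-scheme with a universal algebra map represents `morS`. -/
theorem representableBy_of_universal [IsAffine Z] [IsAffine X] [IsAffine S] (W : Over S) [IsAffine W.left]
    (uv : Γt f →ₐ[Γ(S, ⊤)] Γt W.hom ⊗[Γ(S, ⊤)] Γt g)
    (huv : ∀ (R : Type u) [CommRing R] [Algebra Γ(S, ⊤) R],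
      Function.Bijective fun ψ : Γt W.hom →ₐ[Γ(S, ⊤)] R =>
        (Algebra.TensorProduct.map ψ (AlgHom.id _ (Γt g))).comp uv) :
    Nonempty ((Flatn.morS g f).RepresentableBy W) := by
  obtain ⟨u₀, hu₀, hu⟩ := mapHom_surjective (t := f) (t' := pullback.fst W.hom g ≫ W.hom)
    ((comparison g W.hom).comp uv)
  let u : (Flatn.morS g f).obj (op W) := Over.homMk u₀ (hu₀.trans pullback.condition)
  refine representableBy_of_affine g f W u fun T hT => ?_
  have key : ∀ φ : T ⟶ W, ∃ hb : ((Flatn.morS g f).map φ.op u).left ≫ f = pullback.fst T.hom g ≫ T.hom,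
      mapHom ((Flatn.morS g f).map φ.op u).left hb = (comparison g T.hom).comp
        ((Algebra.TensorProduct.map (mapHom φ.left (Over.w φ)) (AlgHom.id _ _)).comp uv) := by
    intro φ
    refine ⟨(Over.w ((Flatn.morS g f).map φ.op u)).trans pullback.condition.symm, ?_⟩
    rw [mapHom_congr (morS_map_left g f φ u)]
    refine (mapHom_comp (t := f) (t' := pullback.fst W.hom g ≫ W.hom) u₀ _ hu₀
      ((pullback.lift_fst_assoc _ _ _ _).trans ((Category.assoc _ _ _).trans
        (congrArg (pullback.fst T.hom g ≫ ·) (Over.w φ))))).trans ?_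
    rw [hu, ← AlgHom.comp_assoc, comparison_natural g φ.left (Over.w φ), AlgHom.comp_assoc]
  constructor
  · intro φ ψ h
    obtain ⟨hb, h1⟩ := key φ
    obtain ⟨_, h2⟩ := key ψ
    change (Flatn.morS g f).map φ.op u = (Flatn.morS g f).map ψ.op u at h
    revert hb h1
    rw [h]
    intro hb h1
    have h3 := h1.symm.trans h2
    have h4 := (huv (Γt T.hom)).1 (comp_left_cancel _ (bijective_comparison g T.hom).1 h3)
    exact Over.OverMorphism.ext (mapHom_injective (w := Over.w φ) (w' := Over.w ψ) h4)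
  · intro b
    let α := mapHom (t' := pullback.fst T.hom g ≫ T.hom) b.left ((Over.w b).trans pullback.condition.symm)
    obtain ⟨ψ, hψ⟩ := (huv (Γt T.hom)).2
      ((AlgEquiv.ofBijective _ (bijective_comparison g T.hom)).symm.toAlgHom.comp α)
    obtain ⟨φ, hφw, hφ⟩ := mapHom_surjective (t := W.hom) (t' := T.hom) ψ
    obtain ⟨hb, h1⟩ := key (Over.homMk φ hφw)
    have : IsAffine (Over.mk f).left := inferInstanceAs (IsAffine X)
    refine ⟨Over.homMk φ hφw, Over.OverMorphism.ext (mapHom_injective (w := hb)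
      (w' := (Over.w b).trans pullback.condition.symm) (h1.trans ?_))⟩
    rw [show mapHom (Over.homMk φ hφw : T ⟶ W).left (Over.w _) = ψ from hφ]
    exact (congrArg (comparison g T.hom).comp hψ).trans (comp_symm_comp _ (bijective_comparison g T.hom) α)

/-- For affine schemes with `Z` finite free, `morS` is represented by an affine scheme. -/
theorem exists_affine_rep [IsAffine Z] [IsAffine X] [IsAffine S]
    [Module.Finite Γ(S, ⊤) (Γt g)] [Module.Free Γ(S, ⊤) (Γt g)] :
    ∃ W : Over S, IsAffine W.left ∧ Nonempty ((Flatn.morS g f).RepresentableBy W) := by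
  obtain ⟨R₀, _, _, uv, huv⟩ := WeilAlg.exists_weilAlg Γ(S, ⊤) (Γt g) (Γt f)
  obtain ⟨W, hW, ⟨e⟩⟩ := exists_scheme_of_algebra (S := S) R₀
  refine ⟨W, hW, representableBy_of_universal g f W
    ((Algebra.TensorProduct.map e.symm.toAlgHom (AlgHom.id _ _)).comp uv) fun R _ _ => ?_⟩
  have hb : Function.Bijective fun ψ : Γt W.hom →ₐ[Γ(S, ⊤)] R => ψ.comp e.symm.toAlgHom :=
    ⟨fun a b h => AlgHom.ext fun x => by simpa using DFunLike.congr_fun h (e x),
      fun θ => ⟨θ.comp e.toAlgHom, AlgHom.ext fun x => by simp⟩⟩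
  convert (huv R).comp hb using 1
  funext ψ
  show (Algebra.TensorProduct.map ψ (AlgHom.id _ _)).comp _ = _
  simp only [Function.comp_apply]
  rw [← AlgHom.comp_assoc, ← Algebra.TensorProduct.map_comp, AlgHom.id_comp]

end Groth.Agent.FlatMor67.MorSRep
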