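import Groth.Prelude.Def_SheafNL
import Groth.Agent.LCI19.NL
import Mathlib.RingTheory.TensorProduct.MvPolynomial
import Mathlib.RingTheory.Flat.Equalizer
import Mathlib.LinearAlgebra.TensorProduct.RightExactness

/-!
# Base change of the naive cotangent complex of a presentation
-/

set_option autoImplicit false

universe u

open TensorProduct MvPolynomial

namespace Groth.Agent.FlatMor67

variable {R S R' S' : Type u} [CommRing R] [CommRing S] [CommRing R'] [CommRing S'] [Algebra R S]
  [Algebra R' S'] [Algebra R R'] [Algebra S S'] [Algebra R S'] [IsScalarTower R R' S'] [IsScalarTower R S S']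
  {ι : Type u} (G : Algebra.Generators R S ι) (G' : Algebra.Generators R' S' ι)
  (h : ∀ i, G'.val i = algebraMap S S' (G.val i))

/-- the map of extensions keeping the variables -/
noncomputable abbrev sameHom : G.toExtension.Hom G'.toExtension := (NLCx.sameVarsHom G G' h).toExtensionHom

lemma sameHom_X (i : ι) : (sameHom G G' h).toAlgHom (X i) = X i :=
  Algebra.Generators.Hom.toAlgHom_X (NLCx.sameVarsHom G G' h) i

lemma sameHom_apply (p : MvPolynomial ι R) :
    (sameHom G G' h).toAlgHom p = MvPolynomial.map (algebraMap R R') p := by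
  show MvPolynomial.aeval (fun i => (X i : MvPolynomial ι R')) p = MvPolynomial.map (algebraMap R R') p
  have : (MvPolynomial.aeval (fun i => (X i : MvPolynomial ι R')) : MvPolynomial ι R →ₐ[R] MvPolynomial ι R') =
      MvPolynomial.mapAlgHom (Algebra.ofId R R') := MvPolynomial.algHom_ext fun i => by simp
  exact AlgHom.congr_fun this p

/-- the maps on cotangent spaces are bijective after base change -/
theorem cotangentSpace_bijective :
    Function.Bijective (LinearMap.liftBaseChange S' (Algebra.Extension.CotangentSpace.map (sameHom G G' h))) := by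
  have e : LinearMap.liftBaseChange S' (Algebra.Extension.CotangentSpace.map (sameHom G G' h)) =
      ((G.cotangentSpaceBasis.baseChange S').equiv G'.cotangentSpaceBasis (Equiv.refl ι)).toLinearMap := by
    refine (G.cotangentSpaceBasis.baseChange S').ext fun i => ?_
    rw [LinearEquiv.coe_coe, Module.Basis.equiv_apply, Equiv.refl_apply, Module.Basis.baseChange_apply,
      LinearMap.liftBaseChange_tmul, one_smul, Algebra.Generators.cotangentSpaceBasis_apply,
      Algebra.Generators.cotangentSpaceBasis_apply]
    erw [Algebra.Extension.CotangentSpace.map_tmul, map_one]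
    congr 2
    exact sameHom_X G G' h i
  rw [e]
  exact LinearEquiv.bijective _

/-- the kernel of the presentation as an `R`-module -/
noncomputable abbrev kerR : Submodule R (MvPolynomial ι R) := LinearMap.ker (MvPolynomial.aeval (R := R) G.val).toLinearMap

lemma mem_ker_iff (p : MvPolynomial ι R) : p ∈ G.toExtension.ker ↔ MvPolynomial.aeval G.val p = 0 := by
  rw [← G.algebraMap_apply]
  exact Iff.rfl

lemma mem_kerR_iff (p : MvPolynomial ι R) : p ∈ kerR G ↔ MvPolynomial.aeval G.val p = 0 := Iff.rfl

/-- an element of the kernel as an element of the ideal -/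
noncomputable def toKer (a : kerR G) : G.toExtension.ker :=
  ⟨(a : MvPolynomial ι R), (mem_ker_iff G _).2 ((mem_kerR_iff G _).1 a.2)⟩

/-- extension of scalars of the kernel -/
noncomputable def kerIota : R' ⊗[R] kerR G →ₗ[R] MvPolynomial ι R' :=
  ((MvPolynomial.algebraTensorAlgEquiv (σ := ι) R R').toLinearEquiv.restrictScalars R).toLinearMap ∘ₗ
    LinearMap.lTensor R' (kerR G).subtype

lemma kerIota_tmul (r : R') (a : kerR G) :
    kerIota (R' := R') G (r ⊗ₜ a) = r • MvPolynomial.map (algebraMap R R') (a : MvPolynomial ι R) :=
  MvPolynomial.algebraTensorAlgEquiv_tmul _ _ r _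

variable [hpo : Algebra.IsPushout R R' S S']

include h hpo in
/-- the kernel of the base change is generated by the kernel -/
theorem range_kerIota : Set.range (kerIota (R' := R') G) = (RingHom.ker (MvPolynomial.aeval (R := R') G'.val) : Set (MvPolynomial ι R')) := by
  let g : MvPolynomial ι R →ₐ[R] S := MvPolynomial.aeval G.val
  have hexact : Function.Exact (LinearMap.lTensor R' (kerR G).subtype) (LinearMap.lTensor R' g.toLinearMap) :=
    lTensor_exact R' (LinearMap.exact_subtype_ker_map g.toLinearMap) (fun s => ⟨G.σ s, G.aeval_val_σ s⟩)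
  let E := MvPolynomial.algebraTensorAlgEquiv (σ := ι) R R'
  let e := Algebra.IsPushout.equiv R R' S S'
  have hcomm : ∀ z, e (LinearMap.lTensor R' g.toLinearMap z) = MvPolynomial.aeval G'.val (E z) := by
    intro z
    induction z using TensorProduct.induction_on with
    | zero => simp
    | add x y hx hy => rw [map_add, map_add, hx, hy, map_add, map_add]
    | tmul r p =>
      rw [LinearMap.lTensor_tmul, Algebra.IsPushout.equiv_tmul, MvPolynomial.algebraTensorAlgEquiv_tmul, map_smul,
        Algebra.smul_def, MvPolynomial.aeval_map_algebraMap]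
      congr 1
      show algebraMap S S' (MvPolynomial.aeval G.val p) = _
      rw [show G'.val = fun i => algebraMap S S' (G.val i) from funext h]
      exact (MvPolynomial.aeval_algebraMap_apply (B := S') G.val p).symm
  ext x
  constructor
  · rintro ⟨z, rfl⟩
    show MvPolynomial.aeval G'.val (E (LinearMap.lTensor R' (kerR G).subtype z)) = 0
    rw [← hcomm, hexact.apply_apply_eq_zero, map_zero]
  · intro hx
    obtain ⟨z, hz⟩ := E.surjective x
    have h0 : LinearMap.lTensor R' g.toLinearMap z = 0 := e.injective (by
      rw [hcomm, hz, map_zero]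
      exact hx)
    obtain ⟨w, rfl⟩ := (hexact z).1 h0
    exact ⟨w, hz⟩

include hpo in
lemma kerIota_mem (z : R' ⊗[R] kerR G) (h : ∀ i, G'.val i = algebraMap S S' (G.val i)) :
    kerIota (R' := R') G z ∈ RingHom.ker (MvPolynomial.aeval (R := R') G'.val) :=
  (range_kerIota G G' h).le ⟨z, rfl⟩

/-- the class in the base changed conormal module of an element of the extended kernel -/
noncomputable def kerClass : R' ⊗[R] kerR G →ₗ[R] S' ⊗[S] G.toExtension.Cotangent :=
  TensorProduct.lift <| LinearMap.mk₂ R
    (fun (r : R') (a : kerR G) => algebraMap R' S' r ⊗ₜ[S] Algebra.Extension.Cotangent.mk (toKer G a))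
    (fun r r' a => by rw [map_add, add_tmul])
    (fun c r a => by
      rw [Algebra.smul_def, map_mul, ← IsScalarTower.algebraMap_apply R R' S', smul_tmul', Algebra.smul_def])
    (fun r a b => by
      rw [← tmul_add, ← map_add]
      rfl)
    (fun c r a => by
      rw [show toKer G (c • a) = (algebraMap R G.toExtension.Ring c) • toKer G a from
        Subtype.ext (Algebra.smul_def c (a : MvPolynomial ι R)), map_smul,
        ← algebraMap_smul S (algebraMap R G.toExtension.Ring c), ← IsScalarTower.algebraMap_apply, tmul_smul,
        smul_tmul', smul_tmul', algebraMap_smul])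

omit hpo in
lemma kerClass_tmul (r : R') (a : kerR G) : kerClass (S' := S') G (r ⊗ₜ a) =
    algebraMap R' S' r ⊗ₜ[S] Algebra.Extension.Cotangent.mk (toKer G a) := rfl

lemma liftBaseChange_kerClass (z : R' ⊗[R] kerR G) :
    LinearMap.liftBaseChange S' (Algebra.Extension.Cotangent.map (sameHom G G' h)) (kerClass (S' := S') G z) =
      Algebra.Extension.Cotangent.mk (P := G'.toExtension) ⟨kerIota (R' := R') G z, (mem_ker_iff G' _).2 (kerIota_mem G G' z h)⟩ := by
  induction z using TensorProduct.induction_on with
  | zero =>
    rw [map_zero, map_zero]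
    refine (map_zero (Algebra.Extension.Cotangent.mk (P := G'.toExtension))).symm.trans (congrArg _ ?_)
    exact Subtype.ext (map_zero (kerIota (R' := R') G)).symm
  | add x y hx hy =>
    rw [map_add, map_add, hx, hy, ← map_add]
    exact congrArg _ (Subtype.ext (map_add (kerIota (R' := R') G) x y).symm)
  | tmul r a =>
    rw [kerClass_tmul, LinearMap.liftBaseChange_tmul, Algebra.Extension.Cotangent.map_mk,
      IsScalarTower.algebraMap_apply R' G'.toExtension.Ring S', algebraMap_smul, ← map_smul]
    refine congrArg _ (Subtype.ext ?_)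
    show algebraMap R' (MvPolynomial ι R') r * (show MvPolynomial ι R' from (sameHom G G' h).toAlgHom (a : MvPolynomial ι R)) = _
    erw [sameHom_apply]
    rw [← Algebra.smul_def]
    exact (kerIota_tmul G r a).symm

include hpo in
theorem kerClass_surjective : Function.Surjective (kerClass (R := R) (R' := R') (S' := S') G) := by
  intro x
  induction x using TensorProduct.induction_on with
  | zero => exact ⟨0, map_zero _⟩
  | add x y hx hy =>
    obtain ⟨a, rfl⟩ := hx
    obtain ⟨b, rfl⟩ := hy
    exact ⟨a + b, map_add _ _ _⟩
  | tmul s' c =>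
    induction s' using (Algebra.IsPushout.out (R := R) (S := R') (R' := S) (S' := S')).inductionOn generalizing c with
    | zero => exact ⟨0, by rw [map_zero, zero_tmul]⟩
    | tmul s =>
      obtain ⟨a, ha⟩ := Algebra.Extension.Cotangent.mk_surjective (s • c)
      refine ⟨(1 : R') ⊗ₜ[R] (⟨a.1, (mem_kerR_iff G _).2 ((mem_ker_iff G _).1 a.2)⟩ : kerR G), ?_⟩
      rw [kerClass_tmul, map_one]
      refine (congrArg ((1 : S') ⊗ₜ[S] ·) ha).trans ?_
      rw [tmul_smul, smul_tmul', Algebra.smul_def, mul_one]
      rfl
    | smul r s' ih =>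
      obtain ⟨z, hz⟩ := ih c
      refine ⟨TensorProduct.map (LinearMap.mulLeft R r) LinearMap.id z, ?_⟩
      have key : ∀ z, kerClass (S' := S') G (TensorProduct.map (LinearMap.mulLeft R r) LinearMap.id z) =
          algebraMap R' S' r • kerClass (S' := S') G z := by
        intro z
        induction z using TensorProduct.induction_on with
        | zero => simp
        | add x y hx hy => rw [map_add, map_add, hx, hy, map_add, smul_add]
        | tmul r' a =>
          rw [TensorProduct.map_tmul, LinearMap.id_apply, LinearMap.mulLeft_apply, kerClass_tmul, kerClass_tmul,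
            smul_tmul', map_mul, smul_eq_mul]
      rw [key, hz, smul_tmul', smul_eq_mul, Algebra.smul_def]
    | add s t hs ht =>
      obtain ⟨a, ha⟩ := hs c
      obtain ⟨b, hb⟩ := ht c
      exact ⟨a + b, by rw [map_add, ha, hb, add_tmul]⟩

include hpo in
/-- surjectivity on conormal modules -/
theorem cotangent_surjective :
    Function.Surjective (LinearMap.liftBaseChange S' (Algebra.Extension.Cotangent.map (sameHom G G' h))) := by
  intro y
  obtain ⟨⟨x, hx⟩, rfl⟩ := Algebra.Extension.Cotangent.mk_surjective y
  obtain ⟨z, rfl⟩ := (range_kerIota G G' h).ge ((mem_ker_iff G' x).1 hx)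
  exact ⟨kerClass (S' := S') G z, liftBaseChange_kerClass G G' h z⟩

include hpo in
/-- injectivity on conormal modules when the kernel stays a submodule -/
theorem cotangent_injective (hinj : Function.Injective (LinearMap.lTensor R' (kerR G).subtype)) :
    Function.Injective (LinearMap.liftBaseChange S' (Algebra.Extension.Cotangent.map (sameHom G G' h))) := by
  have hι : Function.Injective (kerIota (R' := R') G) :=
    ((MvPolynomial.algebraTensorAlgEquiv (σ := ι) R R').toLinearEquiv.restrictScalars R).injective.comp hinj
  have hmul : ∀ k k' : R' ⊗[R] kerR G, ∃ z, kerIota (R' := R') G z = kerIota (R' := R') G k * kerIota (R' := R') G k' ∧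
      kerClass (S' := S') G z = 0 := by
    intro k k'
    induction k using TensorProduct.induction_on with
    | zero => exact ⟨0, by rw [map_zero, zero_mul], map_zero _⟩
    | add x y hx hy =>
      obtain ⟨a, ha, ha'⟩ := hx
      obtain ⟨b, hb, hb'⟩ := hy
      exact ⟨a + b, by rw [map_add, map_add, add_mul, ha, hb], by rw [map_add, ha', hb', add_zero]⟩
    | tmul r a =>
      induction k' using TensorProduct.induction_on with
      | zero => exact ⟨0, by rw [map_zero, mul_zero], map_zero _⟩
      | add x y hx hy =>
        obtain ⟨c, hc, hc'⟩ := hx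
        obtain ⟨d, hd, hd'⟩ := hy
        exact ⟨c + d, by rw [map_add, map_add, mul_add, hc, hd], by rw [map_add, hc', hd', add_zero]⟩
      | tmul r' a' =>
        refine ⟨(r * r') ⊗ₜ (⟨(a : MvPolynomial ι R) * a', (RingHom.ker (MvPolynomial.aeval (R := R) G.val)).mul_mem_left _ a'.2⟩ : kerR G), ?_, ?_⟩
        · rw [kerIota_tmul G, kerIota_tmul G, kerIota_tmul G, smul_mul_smul_comm, map_mul]
        · rw [kerClass_tmul, (Algebra.Extension.Cotangent.mk_eq_zero_iff _).2 (by
            rw [pow_two]; exact Ideal.mul_mem_mul (toKer G a).2 (toKer G a').2), tmul_zero]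
  rw [injective_iff_map_eq_zero]
  intro x hx
  obtain ⟨z, hz⟩ := kerClass_surjective (R' := R') G x
  subst hz
  rw [liftBaseChange_kerClass G G' h z, Algebra.Extension.Cotangent.mk_eq_zero_iff, pow_two] at hx
  obtain ⟨z₂, hz₂, hz₂'⟩ : ∃ z₂, kerIota (R' := R') G z₂ = kerIota (R' := R') G z ∧ kerClass (S' := S') G z₂ = 0 := by
    have hmem : kerIota (R' := R') G z ∈ RingHom.ker (MvPolynomial.aeval (R := R') G'.val) *
        RingHom.ker (MvPolynomial.aeval (R := R') G'.val) := by
      have hker : (G'.toExtension.ker : Ideal (MvPolynomial ι R')) = RingHom.ker (MvPolynomial.aeval (R := R') G'.val) :=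
        Ideal.ext fun p => mem_ker_iff G' p
      rw [← hker]
      exact hx
    generalize kerIota (R' := R') G z = w at hmem
    induction hmem using Submodule.mul_induction_on' with
    | mem_mul_mem m hm n hn =>
      obtain ⟨k, rfl⟩ := (range_kerIota G G' h).ge hm
      obtain ⟨k', rfl⟩ := (range_kerIota G G' h).ge hn
      exact hmul k k'
    | add x _ y _ hx hy =>
      obtain ⟨a, rfl, ha'⟩ := hx
      obtain ⟨b, rfl, hb'⟩ := hy
      exact ⟨a + b, map_add _ _ _, by rw [map_add, ha', hb', add_zero]⟩
  rwa [hι hz₂] at hz₂'

lemma lTensor_kerR_injective_of_flat_base [Module.Flat R R'] :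
    Function.Injective (LinearMap.lTensor R' (kerR G).subtype) :=
  Module.Flat.lTensor_preserves_injective_linearMap _ Subtype.val_injective

lemma lTensor_kerR_injective_of_flat_top [Module.Flat R S] :
    Function.Injective (LinearMap.lTensor R' (kerR G).subtype) := by
  refine LinearMap.lTensor_injective_of_exact_of_flat (P := S) (MvPolynomial.aeval G.val).toLinearMap
    (fun s => ⟨G.σ s, G.aeval_val_σ s⟩) _ Subtype.val_injective (LinearMap.exact_subtype_ker_map _) R'

end Groth.Agent.FlatMor67
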