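import Groth.Agent.FlatMor67.NLHomotopy
import Groth.Agent.LCI19.NLFlat
import Groth.Agent.DR39.Derived
import Groth.Agent.DR39.TensorDual

/-!
# Derived base change of the naive cotangent complex of tor amplitude `[-1, 0]`
-/

set_option autoImplicit false

universe u

open CategoryTheory CategoryTheory.Limits TensorProduct

attribute [local instance] HasDerivedCategory.standard

namespace Groth.Agent.FlatMor67

/-- an additive functor applied to a two-term complex -/
noncomputable def mapDoubleIso {C D : Type*} [Category C] [Category D] [Preadditive C] [Preadditive D]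
    [HasZeroObject C] [HasZeroObject D] (F : C ⥤ D) [F.Additive] {X₀ X₁ : C} (f : X₀ ⟶ X₁)
    (h : (ComplexShape.up ℤ).Rel (-1) 0) :
    HomologicalComplex.double (F.map f) h ≅
      (F.mapHomologicalComplex (ComplexShape.up ℤ)).obj (HomologicalComplex.double f h) :=
  let φ : HomologicalComplex.double (F.map f) h ⟶
      (F.mapHomologicalComplex (ComplexShape.up ℤ)).obj (HomologicalComplex.double f h) :=
    HomologicalComplex.mkHomFromDouble h (by decide) (F.map (HomologicalComplex.doubleXIso₀ f h).inv)
      (F.map (HomologicalComplex.doubleXIso₁ f h (by decide)).inv)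
      (by
        simp [Functor.mapHomologicalComplex, HomologicalComplex.double_d f h (by decide), ← Functor.map_comp])
      (fun k hk => (F.map_isZero (HomologicalComplex.isZero_double_X f h k (by simp at hk; omega)
        (by simp at hk; omega))).eq_of_tgt _ _)
  have : ∀ k, IsIso (φ.f k) := fun k => by
    by_cases hk : k = -1
    · subst hk
      simp only [φ, HomologicalComplex.mkHomFromDouble_f₀]
      exact IsIso.comp_isIso' (Iso.isIso_hom _) (F.mapIso (HomologicalComplex.doubleXIso₀ f h)).isIso_inv
    by_cases hk' : k = 0
    · subst hk'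
      simp only [φ, HomologicalComplex.mkHomFromDouble_f₁]
      exact IsIso.comp_isIso' (Iso.isIso_hom _) (F.mapIso (HomologicalComplex.doubleXIso₁ f h (by decide))).isIso_inv
    · exact ⟨0, (HomologicalComplex.isZero_double_X _ _ k hk hk').eq_of_src _ _,
        (F.map_isZero (HomologicalComplex.isZero_double_X f h k hk hk')).eq_of_src _ _⟩
  haveI := HomologicalComplex.Hom.isIso_of_components φ
  asIso φ

variable {R S : Type u} [CommRing R] [CommRing S] [Algebra R S] {S' : Type u} [CommRing S']

/-- base change of the complex is the tensored complex -/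
theorem nonempty_bcCx_iso (P : Algebra.Extension.{u} R S) (φ : S →+* S') :
    Nonempty (((ModuleCat.extendScalars φ).mapHomologicalComplex (ComplexShape.up ℤ)).obj (NLCx.cx P) ≅
      @NLCx.bcCx R S _ _ _ P S' _ φ.toAlgebra) :=
  ⟨(mapDoubleIso (ModuleCat.extendScalars φ) (ModuleCat.ofHom P.cotangentComplex) (by simp)).symm⟩

theorem nonempty_lBaseChange_NL (A B : Type u) [CommRing A] [CommRing B] [Algebra A B] (φ : B →+* S')
    (h : DRing.HasTorAmplitudeIn B (-1) 0 (LCI.NL A B)) [DRing.HasLBaseChange φ] :
    Nonempty ((DRing.LBaseChange φ).obj (LCI.NL A B) ≅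
      DerivedCategory.Q.obj (@NLCx.bcCx A B _ _ _ (Algebra.Generators.self A B).toExtension S' _ φ.toAlgebra)) := by
  let P := (Algebra.Generators.self A B).toExtension
  have hfree : Module.Free B P.CotangentSpace :=
    Module.Free.of_basis (Algebra.Generators.self A B).cotangentSpaceBasis
  have hflat : Module.Flat B P.Cotangent :=
    LCI19.flat_of_ta_double (F := ModuleCat.of B P.CotangentSpace) (ModuleCat.ofHom P.cotangentComplex) h
  have hE : ∀ k, Module.Flat B ((NLCx.cx P).X k) := by
    intro k
    by_cases hk : k = -1
    · subst hk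
      exact Module.Flat.of_linearEquiv
        (HomologicalComplex.doubleXIso₀ (ModuleCat.ofHom P.cotangentComplex) (by simp)).toLinearEquiv
    by_cases hk' : k = 0
    · subst hk'
      exact Module.Flat.of_linearEquiv
        (HomologicalComplex.doubleXIso₁ (ModuleCat.ofHom P.cotangentComplex) (by simp) (by decide)).toLinearEquiv
    · have : Subsingleton ((NLCx.cx P).X k) :=
        ModuleCat.subsingleton_of_isZero (HomologicalComplex.isZero_double_X _ _ k hk hk')
      infer_instance
  obtain ⟨e⟩ := nonempty_bcCx_iso P φ
  exact ⟨DR39.LBaseChangeIso φ (NLCx.cx P) (DR39.isKFlat_of_flat 0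
    (fun i hi => HomologicalComplex.isZero_double_X _ _ i (by omega) (by omega)) hE) ≪≫
      DerivedCategory.Q.mapIso e⟩

end Groth.Agent.FlatMor67
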