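import Groth.Agent.FlatMor67.NLHomotopy
import Groth.Agent.DR39.Elem
import Mathlib.RingTheory.Etale.Kaehler
import Mathlib.RingTheory.Flat.Basic

/-!
# The naive cotangent complex under formally étale extensions of base and total ring
-/

set_option autoImplicit false

universe u

open TensorProduct CategoryTheory CategoryTheory.Limits

namespace Groth.Agent.FlatMor67

/-- criterion for a quasi-isomorphism of two-term complexes -/
theorem quasiIso_mkHomFromDouble {S : Type u} [CommRing S] {M₀ M₁ N₀ N₁ : Type u}
    [AddCommGroup M₀] [Module S M₀] [AddCommGroup M₁] [Module S M₁] [AddCommGroup N₀] [Module S N₀]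
    [AddCommGroup N₁] [Module S N₁] (d : M₀ →ₗ[S] M₁) (d' : N₀ →ₗ[S] N₁) (a : M₀ →ₗ[S] N₀) (b : M₁ →ₗ[S] N₁)
    (hr : (ComplexShape.up ℤ).Rel (-1) 0)
    (φ : HomologicalComplex.double (ModuleCat.ofHom d) hr ⟶ HomologicalComplex.double (ModuleCat.ofHom d') hr)
    (h₀ : φ.f (-1) = (HomologicalComplex.doubleXIso₀ (ModuleCat.ofHom d) hr).hom ≫ ModuleCat.ofHom a ≫
      (HomologicalComplex.doubleXIso₀ (ModuleCat.ofHom d') hr).inv)
    (h₁ : φ.f 0 = (HomologicalComplex.doubleXIso₁ (ModuleCat.ofHom d) hr (by decide)).hom ≫ ModuleCat.ofHom b ≫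
      (HomologicalComplex.doubleXIso₁ (ModuleCat.ofHom d') hr (by decide)).inv)
    (hki : ∀ x, d x = 0 → a x = 0 → x = 0) (hks : ∀ y, d' y = 0 → ∃ x, d x = 0 ∧ a x = y)
    (hci : ∀ x, b x ∈ LinearMap.range d' → x ∈ LinearMap.range d)
    (hcs : ∀ y, ∃ x, b x - y ∈ LinearMap.range d') : QuasiIso φ := by
  have hz : ∀ (e : M₀ →ₗ[S] M₁) (k : ℤ), k ≠ -1 → k ≠ 0 →
      Subsingleton ((HomologicalComplex.double (ModuleCat.ofHom e) hr).X k) := fun e k hk hk' =>
    ModuleCat.subsingleton_of_isZero (HomologicalComplex.isZero_double_X _ _ k hk hk')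
  have hz' : ∀ k : ℤ, k ≠ -1 → k ≠ 0 →
      Subsingleton ((HomologicalComplex.double (ModuleCat.ofHom d') hr).X k) := fun k hk hk' =>
    ModuleCat.subsingleton_of_isZero (HomologicalComplex.isZero_double_X _ _ k hk hk')
  let i₀ := (HomologicalComplex.doubleXIso₀ (ModuleCat.ofHom d) hr).toLinearEquiv
  let i₁ := (HomologicalComplex.doubleXIso₁ (ModuleCat.ofHom d) hr (by decide)).toLinearEquiv
  let j₀ := (HomologicalComplex.doubleXIso₀ (ModuleCat.ofHom d') hr).toLinearEquiv
  let j₁ := (HomologicalComplex.doubleXIso₁ (ModuleCat.ofHom d') hr (by decide)).toLinearEquiv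
  have hd : ∀ x, ((HomologicalComplex.double (ModuleCat.ofHom d) hr).d (-1) 0).hom x = i₁.symm (d (i₀ x)) :=
    fun x => by rw [HomologicalComplex.double_d _ _ (by decide)]; rfl
  have hd' : ∀ x, ((HomologicalComplex.double (ModuleCat.ofHom d') hr).d (-1) 0).hom x = j₁.symm (d' (j₀ x)) :=
    fun x => by rw [HomologicalComplex.double_d _ _ (by decide)]; rfl
  have ha : ∀ x, (φ.f (-1)).hom x = j₀.symm (a (i₀ x)) := fun x => by rw [h₀]; rfl
  have hb : ∀ x, (φ.f 0).hom x = j₁.symm (b (i₁ x)) := fun x => by rw [h₁]; rfl
  refine ⟨fun i => ?_⟩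
  by_cases hi : i = -1
  · subst hi
    have := hz d (-1 - 1) (by omega) (by omega)
    refine DR39.quasiIsoAt_of_elements φ (-1) (fun x hx y hy => ⟨0, ?_⟩) (fun z hz0 => ?_)
    · rw [map_zero, eq_comm]
      have hy' : y = 0 := (hz' (-1 - 1) (by omega) (by omega)).elim _ _
      rw [hy', map_zero, ha, eq_comm, LinearEquiv.map_eq_zero_iff] at hy
      have hx' : i₁.symm (d (i₀ x)) = 0 := by rw [← hd]; exact hx
      rw [LinearEquiv.map_eq_zero_iff] at hx'
      exact i₀.map_eq_zero_iff.1 (hki _ hx' hy)
    · have hz1 : j₁.symm (d' (j₀ z)) = 0 := by rw [← hd']; exact hz0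
      rw [LinearEquiv.map_eq_zero_iff] at hz1
      obtain ⟨x, hx, hax⟩ := hks _ hz1
      refine ⟨i₀.symm x, ?_, ⟨0, ?_⟩⟩
      · show ((HomologicalComplex.double (ModuleCat.ofHom d) hr).d (-1) 0).hom _ = 0
        rw [hd, i₀.apply_symm_apply, hx, map_zero]
      · rw [map_zero, ha, i₀.apply_symm_apply, hax, j₀.symm_apply_apply, sub_self]
  by_cases hi' : i = 0
  · subst hi'
    refine DR39.quasiIsoAt_of_elements φ 0 (fun x _ y hy => ?_) (fun z _ => ?_)
    · have hy' : j₁.symm (d' (j₀ y)) = (φ.f 0).hom x := by rw [← hd']; exact hy
      rw [hb] at hy'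
      obtain ⟨x₀, hx₀⟩ := hci _ ⟨_, j₁.symm.injective hy'⟩
      refine ⟨i₀.symm x₀, ?_⟩
      show ((HomologicalComplex.double (ModuleCat.ofHom d) hr).d (-1) 0).hom _ = x
      rw [hd, i₀.apply_symm_apply, hx₀, i₁.symm_apply_apply]
    · obtain ⟨x, y, hy⟩ := hcs (j₁ z)
      refine ⟨i₁.symm x, (hz d (0 + 1) (by omega) (by omega)).elim _ _, ⟨j₀.symm y, ?_⟩⟩
      show ((HomologicalComplex.double (ModuleCat.ofHom d') hr).d (-1) 0).hom _ = _
      rw [hd', j₀.apply_symm_apply, hb, i₁.apply_symm_apply, hy, map_sub, j₁.symm_apply_apply]
  · have := hz d i hi hi'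
    refine DR39.quasiIsoAt_of_elements φ i (fun x _ _ _ => ⟨0, Subsingleton.elim _ _⟩)
      (fun z _ => ⟨0, map_zero _, ⟨0, ?_⟩⟩)
    exact (hz' i hi hi').elim _ _

variable {A B Ah T : Type u} [CommRing A] [CommRing B] [CommRing Ah] [CommRing T] [Algebra A B] [Algebra Ah T]
  [Algebra A Ah] [Algebra B T] [Algebra A T] [IsScalarTower A Ah T] [IsScalarTower A B T]

section Lift

variable (A B T) in
/-- injectivity on `H^{-1}` from a flat lift of `T` over the infinitesimal extension of `B` -/
theorem eq_zero_of_liftBaseChange_eq_zero {S : Type u} [CommRing S]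
    [Algebra (Algebra.Generators.self A B).toExtension.infinitesimal.Ring S]
    [Module.Flat (Algebra.Generators.self A B).toExtension.infinitesimal.Ring S] (π : S →+* T)
    (hπ : ∀ a, π (algebraMap (Algebra.Generators.self A B).toExtension.infinitesimal.Ring S a) =
      algebraMap B T (algebraMap (Algebra.Generators.self A B).toExtension.infinitesimal.Ring B a))
    (hsurj : Function.Surjective π)
    (hker : RingHom.ker π = (Algebra.Generators.self A B).toExtension.infinitesimal.ker.map
      (algebraMap (Algebra.Generators.self A B).toExtension.infinitesimal.Ring S))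
    (x : T ⊗[B] (Algebra.Generators.self A B).toExtension.Cotangent)
    (hd : (Algebra.Generators.self A B).toExtension.cotangentComplex.baseChange T x = 0)
    (h : LinearMap.liftBaseChange T (Algebra.Extension.Cotangent.map
      ((Algebra.Generators.self A B).defaultHom (Algebra.Generators.self A T)).toExtensionHom) x = 0) :
    x = 0 := by
  let P := (Algebra.Generators.self A B).toExtension
  let P1 := P.infinitesimal
  let iAS : Algebra A S := ((algebraMap P1.Ring S).comp (algebraMap A P1.Ring)).toAlgebra
  let fS : S →ₐ[A] T :=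
    { π with
      commutes' := fun a => by
        show π (algebraMap P1.Ring S (algebraMap A P1.Ring a)) = _
        rw [hπ, ← IsScalarTower.algebraMap_apply A P1.Ring B, ← IsScalarTower.algebraMap_apply A B T] }
  let Q : Algebra.Extension.{u} A T := Algebra.Extension.ofSurjective fS hsurj
  let iPQ : Algebra P1.Ring Q.Ring := (inferInstance : Algebra P1.Ring S)
  let f : P1.Hom Q :=
    { toRingHom := algebraMap P1.Ring S
      toRingHom_algebraMap := fun a => rfl
      algebraMap_toRingHom := fun a => hπ a }
  have halg : algebraMap P1.Ring Q.Ring = f.toRingHom := rfl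
  have hflat : Module.Flat P1.Ring Q.Ring := (inferInstance : Module.Flat P1.Ring S)
  have hrange : ∀ y : Q.Ring ⊗[P1.Ring] P1.ker, (((f.mapKer halg).liftBaseChange Q.Ring) y : Q.Ring) =
      TensorProduct.rid P1.Ring Q.Ring (LinearMap.lTensor Q.Ring P1.ker.subtype y) := by
    intro y
    induction y with
    | zero => simp
    | add a b ha hb => simp only [map_add, Submodule.coe_add, ha, hb]
    | tmul s a =>
      simp only [LinearMap.liftBaseChange_tmul, LinearMap.lTensor_tmul, TensorProduct.rid_tmul,
        Submodule.coe_smul, smul_eq_mul, Algebra.smul_def, Submodule.coe_subtype]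
      rw [mul_comm]
      rfl
  have H : Function.Bijective ((f.mapKer halg).liftBaseChange Q.Ring) := by
    refine ⟨(injective_iff_map_eq_zero _).2 fun y hy => ?_, fun z => ?_⟩
    · refine Module.Flat.lTensor_preserves_injective_linearMap P1.ker.subtype
        Subtype.val_injective ?_
      apply (TensorProduct.rid P1.Ring Q.Ring).injective
      rw [← hrange, hy, map_zero, map_zero]
      rfl
    · have hz : (z : Q.Ring) ∈ P1.ker.map (algebraMap P1.Ring S) := by
        rw [← hker]; exact z.2
      suffices hsuff : ∀ w ∈ P1.ker.map (algebraMap P1.Ring S),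
          ∃ y, (((f.mapKer halg).liftBaseChange Q.Ring) y : Q.Ring) = w by
        obtain ⟨y, hy⟩ := hsuff _ hz
        exact ⟨y, Subtype.ext hy⟩
      intro w hw
      refine Submodule.span_induction ?_ ?_ ?_ ?_ hw
      · rintro _ ⟨a, ha, rfl⟩
        exact ⟨1 ⊗ₜ ⟨a, ha⟩, by rw [LinearMap.liftBaseChange_tmul, one_smul]; rfl⟩
      · exact ⟨0, by rw [map_zero]; rfl⟩
      · rintro w₁ w₂ - - ⟨y₁, h₁⟩ ⟨y₂, h₂⟩
        exact ⟨y₁ + y₂, by rw [map_add, Submodule.coe_add, h₁, h₂]; rfl⟩
      · rintro c w₁ - ⟨y₁, h₁⟩
        exact ⟨(show Q.Ring from c) • y₁, by rw [map_smul, Submodule.coe_smul, h₁]; rfl⟩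
  let g : (Algebra.Generators.self A T).toExtension.Hom Q :=
    { toRingHom := (MvPolynomial.aeval (R := A) (fun t : T => Q.σ t)).toRingHom
      toRingHom_algebraMap := fun a => MvPolynomial.aeval_C _ a
      algebraMap_toRingHom := fun y => by
        have hh : (fS : Q.Ring →ₐ[A] T).comp (MvPolynomial.aeval (fun t : T => Q.σ t)) =
            MvPolynomial.aeval (Algebra.Generators.self A T).val :=
          MvPolynomial.algHom_ext fun t => by
            rw [AlgHom.comp_apply, MvPolynomial.aeval_X, MvPolynomial.aeval_X]
            exact Q.algebraMap_σ t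
        exact (AlgHom.congr_fun hh y).trans ((Algebra.Generators.self A T).algebraMap_apply y).symm }
  let ψ := ((Algebra.Generators.self A B).defaultHom (Algebra.Generators.self A T)).toExtensionHom
  have hcomp : ∀ {P' : Algebra.Extension.{u} A T} (χ : P'.Hom Q) (φ : P.Hom P'),
      LinearMap.liftBaseChange T (Algebra.Extension.Cotangent.map (χ.comp φ)) x =
        Algebra.Extension.Cotangent.map χ (LinearMap.liftBaseChange T (Algebra.Extension.Cotangent.map φ) x) := by
    intro P' χ φ
    clear h hd
    induction x with
    | zero => simp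
    | add a b ha hb => simp only [map_add, ha, hb]
    | tmul t c => simp [Algebra.Extension.Cotangent.map_comp]
  have hinf : ∀ y, LinearMap.liftBaseChange T (Algebra.Extension.Cotangent.map (f.comp P.toInfinitesimal)) y =
      LinearMap.liftBaseChange T (Algebra.Extension.Cotangent.map f)
        ((Algebra.Extension.Cotangent.map P.toInfinitesimal).baseChange T y) := by
    intro y
    induction y with
    | zero => simp
    | add a b ha hb => simp only [map_add, ha, hb]
    | tmul t c => simp [Algebra.Extension.Cotangent.map_comp]
  have e1 : LinearMap.liftBaseChange T (Algebra.Extension.Cotangent.map (g.comp ψ)) x = 0 := by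
    rw [hcomp g ψ, h, map_zero]
  rw [cotangent_lift_sub (g.comp ψ) (f.comp P.toInfinitesimal), LinearMap.add_apply, LinearMap.comp_apply,
    hd, map_zero, add_zero, hinf] at e1
  have e2 := (Algebra.Extension.tensorCotangent f halg H).injective (a₂ := 0) (e1.trans (map_zero _).symm)
  exact ((LinearEquiv.ofBijective _ (Algebra.Extension.Cotangent.map_toInfinitesimal_bijective P)).baseChange
    B T).injective (e2.trans (map_zero _).symm)

end Lift

section Base

/-- the cotangent complex of a formally étale algebra is an isomorphism -/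
theorem cotangentComplex_bijective [Algebra.FormallyEtale A Ah] :
    Function.Bijective (Algebra.Generators.self A Ah).toExtension.cotangentComplex := by
  refine ⟨(Algebra.Extension.subsingleton_h1Cotangent _).1 inferInstance, fun y => ?_⟩
  exact ((Algebra.Generators.self A Ah).toExtension.exact_cotangentComplex_toKaehler y).1
    (Subsingleton.elim _ _)

/-- extending the base along a formally étale map does not change `H¹` -/
theorem h1Cotangent_map_injective [Algebra.FormallyEtale A Ah] :
    Function.Injective (Algebra.Extension.H1Cotangent.map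
      ((Algebra.Generators.self A T).defaultHom (Algebra.Generators.self Ah T)).toExtensionHom) := by
  refine (injective_iff_map_eq_zero _).2 fun x hx => ?_
  let Q' := Algebra.Generators.self Ah T
  let P' := Algebra.Generators.self A Ah
  let e := Algebra.Generators.H1Cotangent.equiv (Algebra.Generators.self A T) (Q'.comp P')
  refine e.injective ((Subtype.ext ?_).trans (map_zero _).symm)
  have h1 : Algebra.Extension.H1Cotangent.map (Q'.ofComp P').toExtensionHom (e x) = 0 := by
    show Algebra.Extension.H1Cotangent.map _ (Algebra.Extension.H1Cotangent.map _ x) = 0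
    rw [← Algebra.Extension.H1Cotangent.map_comp_apply,
      Algebra.Extension.H1Cotangent.map_eq _
        ((Algebra.Generators.self A T).defaultHom (Algebra.Generators.self Ah T)).toExtensionHom]
    exact hx
  obtain ⟨y, hy⟩ := (Algebra.Generators.Cotangent.exact Q' P' _).1 (congrArg Subtype.val h1)
  have h2 : ((Algebra.Extension.CotangentSpace.map (Q'.toComp P').toExtensionHom).liftBaseChange T)
      (P'.toExtension.cotangentComplex.baseChange T y) = 0 := by
    refine Eq.trans ?_ ((congrArg _ hy).trans (e x).2)
    clear hy
    induction y with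
    | zero => simp
    | add a b ha hb => simp only [map_add, ha, hb]
    | tmul t c =>
      simp only [LinearMap.baseChange_tmul, LinearMap.liftBaseChange_tmul, map_smul]
      rw [Algebra.Extension.CotangentSpace.map_cotangentComplex]
  have h3 : P'.toExtension.cotangentComplex.baseChange T y = 0 :=
    Algebra.Generators.CotangentSpace.map_toComp_injective Q' P' (h2.trans (map_zero _).symm)
  have h4 : y = 0 := ((LinearEquiv.ofBijective _ cotangentComplex_bijective).baseChange Ah T).injective
    (h3.trans (map_zero _).symm)
  refine hy.symm.trans ?_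
  rw [h4, map_zero]
  rfl

/-- extending the base along a formally étale map: surjectivity on `H¹` -/
theorem h1Cotangent_map_surjective [Algebra.FormallyEtale A Ah] :
    Function.Surjective (Algebra.Extension.H1Cotangent.map
      ((Algebra.Generators.self A T).defaultHom (Algebra.Generators.self Ah T)).toExtensionHom) :=
  fun y => (Algebra.H1Cotangent.exact_map_δ A Ah T y).1 (Subsingleton.elim _ _)

end Base

section Square

variable {P : Algebra.Extension.{u} A B} {P' : Algebra.Extension.{u} Ah T}

/-- functoriality of the projection to the differentials -/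
theorem toKaehler_map (φ : P.Hom P') (w : P.CotangentSpace) :
    P'.toKaehler (Algebra.Extension.CotangentSpace.map φ w) = KaehlerDifferential.map A Ah B T (P.toKaehler w) := by
  induction w using TensorProduct.induction_on with
  | zero => simp
  | add u v hu hv => simp only [map_add, hu, hv]
  | tmul s ω =>
    have hω : ω ∈ Submodule.span P.Ring (Set.range (KaehlerDifferential.D A P.Ring)) := by
      rw [KaehlerDifferential.span_range_derivation]; trivial
    induction hω using Submodule.span_induction generalizing s with
    | mem w hw =>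
      obtain ⟨p, rfl⟩ := hw
      rw [Algebra.Extension.CotangentSpace.map_tmul]
      simp only [Algebra.Extension.toKaehler, KaehlerDifferential.mapBaseChange_tmul, KaehlerDifferential.map_D,
        map_smul, Algebra.Extension.Hom.toAlgHom_apply, φ.algebraMap_toRingHom, algebraMap_smul]
    | zero => simp
    | add u v _ _ hu hv => simp only [TensorProduct.tmul_add, map_add, hu, hv]
    | smul p u _ hu =>
      rw [← TensorProduct.smul_tmul]
      exact hu _

/-- the square on differentials after base change -/
theorem toKaehler_liftBaseChange (φ : P.Hom P') (x : T ⊗[B] P.CotangentSpace) :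
    P'.toKaehler (LinearMap.liftBaseChange T (Algebra.Extension.CotangentSpace.map φ) x) =
      NLCx.bcH0Map A B Ah T (P.toKaehler.baseChange T x) := by
  induction x using TensorProduct.induction_on with
  | zero => simp
  | add u v hu hv => simp only [map_add, hu, hv]
  | tmul t w => simp only [LinearMap.liftBaseChange_tmul, LinearMap.baseChange_tmul, NLCx.bcH0Map, map_smul,
      toKaehler_map φ w]

end Square

/-- the comparison of naive cotangent complexes along formally étale extensions -/
theorem quasiIso_bcMapSelf_of_formallyEtale [Algebra.FormallyEtale A Ah] [Algebra.FormallyEtale B T]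
    [Module.Flat B T]
    (hinj : ∀ x, (Algebra.Generators.self A B).toExtension.cotangentComplex.baseChange T x = 0 →
      LinearMap.liftBaseChange T (Algebra.Extension.Cotangent.map
        ((Algebra.Generators.self A B).defaultHom (Algebra.Generators.self A T)).toExtensionHom) x = 0 →
      x = 0) :
    QuasiIso (NLCx.bcMapSelf A B Ah T) := by
  let P := (Algebra.Generators.self A B).toExtension
  let P' := (Algebra.Generators.self Ah T).toExtension
  let φ := ((Algebra.Generators.self A B).defaultHom (Algebra.Generators.self Ah T)).toExtensionHom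
  let ψ := ((Algebra.Generators.self A B).defaultHom (Algebra.Generators.self A T)).toExtensionHom
  let χ := ((Algebra.Generators.self A T).defaultHom (Algebra.Generators.self Ah T)).toExtensionHom
  let a := LinearMap.liftBaseChange T (Algebra.Extension.Cotangent.map φ)
  let b := LinearMap.liftBaseChange T (Algebra.Extension.CotangentSpace.map φ)
  -- the map on `H^{-1}` through `A → T`
  have key : ∀ x, P.cotangentComplex.baseChange T x = 0 →
      a x = Algebra.Extension.Cotangent.map χ (LinearMap.liftBaseChange T (Algebra.Extension.Cotangent.map ψ) x) := by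
    intro x hx
    show LinearMap.liftBaseChange T (Algebra.Extension.Cotangent.map φ) x = _
    rw [cotangent_lift_sub φ (χ.comp ψ), LinearMap.add_apply, LinearMap.comp_apply, hx, map_zero, add_zero]
    clear hx
    induction x with
    | zero => simp
    | add u v hu hv => simp only [map_add, hu, hv]
    | tmul t c => simp [Algebra.Extension.Cotangent.map_comp]
  have hψd : ∀ x, (Algebra.Generators.self A T).toExtension.cotangentComplex
      (LinearMap.liftBaseChange T (Algebra.Extension.Cotangent.map ψ) x) =
      LinearMap.liftBaseChange T (Algebra.Extension.CotangentSpace.map ψ) (P.cotangentComplex.baseChange T x) := by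
    intro x
    induction x with
    | zero => simp
    | add u v hu hv => simp only [map_add, hu, hv]
    | tmul t c =>
      simp only [LinearMap.baseChange_tmul, LinearMap.liftBaseChange_tmul, map_smul]
      rw [Algebra.Extension.CotangentSpace.map_cotangentComplex]
  -- degree zero
  have hH : Function.Bijective (NLCx.bcH0Map A B Ah T) := by
    have e : ∀ z, NLCx.bcH0Map A B Ah T z =
        KaehlerDifferential.map A Ah T T (KaehlerDifferential.mapBaseChange A B T z) := by
      have h' : NLCx.bcH0Map A B Ah T =
          (KaehlerDifferential.map A Ah T T).restrictScalars T ∘ₗ KaehlerDifferential.mapBaseChange A B T := by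
        refine TensorProduct.AlgebraTensorModule.ext fun t w => ?_
        rw [NLCx.bcH0Map, LinearMap.liftBaseChange_tmul, LinearMap.comp_apply,
          KaehlerDifferential.mapBaseChange_tmul, map_smul]
        congr 1
        have h'' : KaehlerDifferential.map A Ah B T = (((KaehlerDifferential.map A Ah T T).restrictScalars T).restrictScalars B) ∘ₗ
            KaehlerDifferential.map A A B T := by
          refine Derivation.liftKaehlerDifferential_unique _ _ ?_
          ext s
          simp
        exact LinearMap.congr_fun h'' w
      exact fun z => LinearMap.congr_fun h' z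
    have h1 : Function.Bijective (KaehlerDifferential.mapBaseChange A B T) :=
      (KaehlerDifferential.tensorKaehlerEquivOfFormallyEtale A B T).bijective
    have h2 : Function.Bijective (KaehlerDifferential.map A Ah T T) := by
      refine ⟨(injective_iff_map_eq_zero _).2 fun w hw => ?_, KaehlerDifferential.map_surjective A Ah T⟩
      obtain ⟨v, rfl⟩ := (KaehlerDifferential.exact_mapBaseChange_map A Ah T w).1 hw
      rw [Subsingleton.elim v 0, map_zero]
    exact (funext e : (NLCx.bcH0Map A B Ah T : _ → _) = _) ▸ h2.comp h1
  have hsq : ∀ x, P'.toKaehler (b x) = NLCx.bcH0Map A B Ah T (P.toKaehler.baseChange T x) :=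
    toKaehler_liftBaseChange φ
  have hex : Function.Exact (P.cotangentComplex.baseChange T) (P.toKaehler.baseChange T) :=
    lTensor_exact T P.exact_cotangentComplex_toKaehler P.toKaehler_surjective
  refine quasiIso_mkHomFromDouble (P.cotangentComplex.baseChange T) P'.cotangentComplex a b _
    (NLCx.bcMapSelf A B Ah T) ?_ ?_ ?_ ?_ ?_ ?_
  · simp only [NLCx.bcMapSelf, NLCx.bcMap, NLCx.cx]
    exact HomologicalComplex.mkHomFromDouble_f₀ _ _ _ _ _ _
  · simp only [NLCx.bcMapSelf, NLCx.bcMap, NLCx.cx]
    exact HomologicalComplex.mkHomFromDouble_f₁ _ _ _ _ _ _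
  · intro x hx hax
    rw [key x hx] at hax
    refine hinj x hx ?_
    have hc : (Algebra.Generators.self A T).toExtension.cotangentComplex
        (LinearMap.liftBaseChange T (Algebra.Extension.Cotangent.map ψ) x) = 0 := by
      rw [hψd, hx, map_zero]
    exact congrArg Subtype.val (h1Cotangent_map_injective (A := A) (Ah := Ah) (T := T) (a₁ := ⟨_, hc⟩) (a₂ := 0)
      ((Subtype.ext hax).trans (map_zero _).symm))
  · intro y hy
    obtain ⟨z, hz⟩ := h1Cotangent_map_surjective (A := A) (Ah := Ah) (T := T) ⟨y, hy⟩
    obtain ⟨w, rfl⟩ := (Algebra.H1Cotangent.exact_liftBaseChange_map_of_flat A B T z).1 (Subsingleton.elim _ _)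
    let ι := (Algebra.Extension.h1Cotangentι (P := P)).baseChange T
    have hw : P.cotangentComplex.baseChange T (ι w) = 0 := by
      clear hz
      induction w with
      | zero => simp
      | add u v hu hv => simp only [map_add, hu, hv, add_zero]
      | tmul t c =>
        simp only [ι, LinearMap.baseChange_tmul, Algebra.Extension.h1Cotangentι_apply]
        rw [LinearMap.map_coe_ker, TensorProduct.tmul_zero]
    refine ⟨ι w, hw, ?_⟩
    rw [key _ hw]
    refine Eq.trans ?_ (congrArg Subtype.val hz)
    show _ = Algebra.Extension.Cotangent.map χ _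
    congr 1
    clear hz hw
    induction w with
    | zero => simp
    | add u v hu hv => simp only [map_add, hu, hv]; rfl
    | tmul t c => simp [ι, LinearMap.baseChange_tmul]; rfl
  · intro x hx
    refine (hex x).1 (hH.1 ?_)
    rw [← hsq, map_zero]
    exact (P'.exact_cotangentComplex_toKaehler (b x)).2 hx
  · intro y
    obtain ⟨z, hz⟩ := hH.2 (P'.toKaehler y)
    obtain ⟨x, rfl⟩ := LinearMap.lTensor_surjective T P.toKaehler_surjective z
    refine ⟨x, (P'.exact_cotangentComplex_toKaehler _).1 ?_⟩
    rw [map_sub, hsq, sub_eq_zero]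
    exact hz

end Groth.Agent.FlatMor67
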