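import Groth.Agent.Henz21.FaithfullyFlat
import Groth.Agent.Henz21.Quotient
import Groth.Agent.EtAlg23.HenselBasic

/-!
# Lifting (strict) henselizations along nilpotent thickenings
-/

set_option autoImplicit false

universe u

open IsLocalRing

namespace Groth.Agent.FlatMor67

variable {L B T : Type u} [CommRing L] [CommRing B] [IsLocalRing B] [CommRing T] [IsLocalRing T]
  [Algebra B T] [IsLocalHom (algebraMap B T)]

/-- a thickening of a local ring is local -/
theorem isLocalRing_of_surjective_nil (p : L →+* B) (hp : Function.Surjective p)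
    (hn : ∀ x, p x = 0 → IsNilpotent x) : IsLocalRing L := by
  have := EtAlg23.isLocalHom_of_surjective_nil p hp hn
  exact p.domain_isLocalRing

/-- a henselization lifts to a flat algebra over a nilpotent thickening -/
theorem exists_flat_lift_henselization [Hensel.IsHenselization B T] (p : L →+* B)
    (hp : Function.Surjective p) (hn : ∀ x, p x = 0 → IsNilpotent x) :
    ∃ (S : Type u) (_ : CommRing S) (_ : Algebra L S) (π : S →+* T), Module.Flat L S ∧
      π.comp (algebraMap L S) = (algebraMap B T).comp p ∧ Function.Surjective π ∧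
      RingHom.ker π = (RingHom.ker p).map (algebraMap L S) := by
  have hL := isLocalRing_of_surjective_nil p hp hn
  have hloc : IsLocalHom p := EtAlg23.isLocalHom_of_surjective_nil p hp hn
  have hT := (inferInstance : Hensel.IsHenselization B T)
  have := hT.henselian
  let S := Henz21.Henselization L
  have hS := Henz21.Henselization.isHenselization L
  have := hS.henselian
  have hflat := Henz21.henselization_faithfullyFlat (R := L) S
  obtain ⟨π, hπ, -⟩ := hS.universal T ((algebraMap B T).comp p) (RingHom.isLocalHom_comp _ _)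
  let J : Ideal S := (RingHom.ker p).map (algebraMap L S)
  have hJ : J ≤ RingHom.ker π := Ideal.map_le_iff_le_comap.2 fun a ha => by
    rw [Ideal.mem_comap, RingHom.mem_ker, ← RingHom.comp_apply, hπ, RingHom.comp_apply,
      RingHom.mem_ker.1 ha, map_zero]
  have hJtop : J ≠ ⊤ := fun h => RingHom.ker_ne_top π (top_le_iff.1 (h.ge.trans hJ))
  have : Nontrivial (S ⧸ J) := Ideal.Quotient.nontrivial_iff.2 hJtop
  have := Henz21.henselianLocalRing_of_surjective (Ideal.Quotient.mk J) Ideal.Quotient.mk_surjective
  have : IsLocalHom (Ideal.Quotient.mk J) :=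
    IsLocalHom.of_surjective _ Ideal.Quotient.mk_surjective
  have hker : RingHom.ker p ≤ RingHom.ker ((Ideal.Quotient.mk J).comp (algebraMap L S)) :=
    fun a ha => Ideal.Quotient.eq_zero_iff_mem.2 (Ideal.mem_map_of_mem _ ha)
  let j : B →+* S ⧸ J := p.liftOfSurjective hp ⟨(Ideal.Quotient.mk J).comp (algebraMap L S), hker⟩
  have hj : j.comp p = (Ideal.Quotient.mk J).comp (algebraMap L S) :=
    p.liftOfRightInverse_comp _ _ _
  have hjloc : IsLocalHom j := ⟨fun b hb => by
    obtain ⟨a, rfl⟩ := hp b
    have hb' : IsUnit ((Ideal.Quotient.mk J) (algebraMap L S a)) := by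
      rw [← RingHom.comp_apply, ← hj]; exact hb
    exact (isUnit_of_map_unit (algebraMap L S) a (isUnit_of_map_unit _ _ hb')).map p⟩
  obtain ⟨k, hk, -⟩ := hT.universal (S ⧸ J) j hjloc
  have : IsLocalHom ((Ideal.Quotient.mk J).comp (algebraMap L S)) := RingHom.isLocalHom_comp _ _
  obtain ⟨_, -, hSu⟩ := hS.universal (S ⧸ J) ((Ideal.Quotient.mk J).comp (algebraMap L S)) this
  have h1 : k.comp π = Ideal.Quotient.mk J :=
    (hSu _ (by dsimp only; rw [RingHom.comp_assoc, hπ, ← RingHom.comp_assoc, hk, hj])).trans
      (hSu _ rfl).symm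
  let πb : S ⧸ J →+* T := Ideal.Quotient.lift J π fun a ha => hJ ha
  obtain ⟨_, -, hTu⟩ := hT.universal T (algebraMap B T) inferInstance
  have h2 : πb.comp k = RingHom.id T := by
    refine (hTu _ ?_).trans (hTu _ (RingHom.id_comp _)).symm
    dsimp only
    rw [RingHom.comp_assoc, hk]
    refine RingHom.ext fun b => ?_
    obtain ⟨a, rfl⟩ := hp b
    show πb (j (p a)) = algebraMap B T (p a)
    rw [← RingHom.comp_apply j p, hj]
    exact RingHom.congr_fun hπ a
  refine ⟨S, inferInstance, inferInstance, π, inferInstance, hπ, fun t => ?_, le_antisymm (fun a ha => ?_) hJ⟩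
  · obtain ⟨a, ha⟩ := Ideal.Quotient.mk_surjective (k t)
    exact ⟨a, (congrArg πb ha).trans (RingHom.congr_fun h2 t)⟩
  · refine Ideal.Quotient.eq_zero_iff_mem.1 ?_
    rw [← RingHom.congr_fun h1 a, RingHom.comp_apply, RingHom.mem_ker.1 ha, map_zero]

/-- a strict henselization lifts to a flat algebra over a nilpotent thickening -/
theorem exists_flat_lift_strictHenselization [Hensel.IsStrictHenselization B T] (p : L →+* B)
    (hp : Function.Surjective p) (hn : ∀ x, p x = 0 → IsNilpotent x) :
    ∃ (S : Type u) (_ : CommRing S) (_ : Algebra L S) (π : S →+* T), Module.Flat L S ∧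
      π.comp (algebraMap L S) = (algebraMap B T).comp p ∧ Function.Surjective π ∧
      RingHom.ker π = (RingHom.ker p).map (algebraMap L S) := by
  have hL := isLocalRing_of_surjective_nil p hp hn
  have hloc : IsLocalHom p := EtAlg23.isLocalHom_of_surjective_nil p hp hn
  have hT := (inferInstance : Hensel.IsStrictHenselization B T)
  have := hT.henselian
  let S := Henz21.StrictHenselization L
  have hS := Henz21.StrictHenselization.isStrictHenselization L
  have := hS.henselian
  have hflat := Henz21.strictHenselization_faithfullyFlat (R := L) S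
  let f0 : L →+* T := (algebraMap B T).comp p
  have hf0 : IsLocalHom f0 := RingHom.isLocalHom_comp _ _
  -- the residue fields
  let eB : ResidueField L ≃+* ResidueField B := RingEquiv.ofBijective (ResidueField.map p)
    ⟨RingHom.injective _, fun y => by
      obtain ⟨z, rfl⟩ := residue_surjective y
      obtain ⟨a, rfl⟩ := hp z
      exact ⟨residue L a, rfl⟩⟩
  let iT : Algebra (ResidueField L) (ResidueField T) := (ResidueField.map f0).toAlgebra
  have hscB := hT.isSepClosure
  have : IsSepClosure (ResidueField L) (ResidueField T) := by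
    refine ⟨hscB.sep_closed, ?_⟩
    have := hscB.separable
    refine Algebra.IsSeparable.of_equiv_equiv eB.symm (RingEquiv.refl _) (RingHom.ext fun x => ?_)
    obtain ⟨b, rfl⟩ := residue_surjective x
    obtain ⟨a, rfl⟩ := hp b
    show ResidueField.map f0 (eB.symm (residue B (p a))) = ResidueField.map (algebraMap B T) (residue B (p a))
    rw [show residue B (p a) = eB (residue L a) from rfl, RingEquiv.symm_apply_apply]
    rfl
  have hscS : IsSepClosure (ResidueField L) (ResidueField S) := hS.isSepClosure
  let τ : ResidueField S ≃ₐ[ResidueField L] ResidueField T := IsSepClosure.equiv (ResidueField L) _ _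
  obtain ⟨π, ⟨hπ, hπr⟩, -⟩ := hS.universal T f0 τ.toRingEquiv.toRingHom
    (RingHom.ext fun x => τ.commutes x)
  let J : Ideal S := (RingHom.ker p).map (algebraMap L S)
  have hJ : J ≤ RingHom.ker π := Ideal.map_le_iff_le_comap.2 fun a ha => by
    rw [Ideal.mem_comap, RingHom.mem_ker, ← RingHom.comp_apply, hπ, RingHom.comp_apply,
      RingHom.mem_ker.1 ha, map_zero]
  have hJtop : J ≠ ⊤ := fun h => RingHom.ker_ne_top π (top_le_iff.1 (h.ge.trans hJ))
  have : Nontrivial (S ⧸ J) := Ideal.Quotient.nontrivial_iff.2 hJtop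
  have := Henz21.henselianLocalRing_of_surjective (Ideal.Quotient.mk J) Ideal.Quotient.mk_surjective
  have : IsLocalHom (Ideal.Quotient.mk J) :=
    IsLocalHom.of_surjective _ Ideal.Quotient.mk_surjective
  have hker : RingHom.ker p ≤ RingHom.ker ((Ideal.Quotient.mk J).comp (algebraMap L S)) :=
    fun a ha => Ideal.Quotient.eq_zero_iff_mem.2 (Ideal.mem_map_of_mem _ ha)
  let j : B →+* S ⧸ J := p.liftOfSurjective hp ⟨(Ideal.Quotient.mk J).comp (algebraMap L S), hker⟩
  have hj : j.comp p = (Ideal.Quotient.mk J).comp (algebraMap L S) :=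
    p.liftOfRightInverse_comp _ _ _
  have hjloc : IsLocalHom j := ⟨fun b hb => by
    obtain ⟨a, rfl⟩ := hp b
    have hb' : IsUnit ((Ideal.Quotient.mk J) (algebraMap L S a)) := by
      rw [← RingHom.comp_apply, ← hj]; exact hb
    exact (isUnit_of_map_unit (algebraMap L S) a (isUnit_of_map_unit _ _ hb')).map p⟩
  let ρ : ResidueField S →+* ResidueField (S ⧸ J) := ResidueField.map (Ideal.Quotient.mk J)
  let τ' : ResidueField T →+* ResidueField (S ⧸ J) := ρ.comp τ.symm.toRingEquiv.toRingHom
  have hτ' : τ'.comp (ResidueField.map (algebraMap B T)) = ResidueField.map j := by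
    refine RingHom.ext fun x => ?_
    obtain ⟨b, rfl⟩ := residue_surjective x
    obtain ⟨a, rfl⟩ := hp b
    show ρ (τ.symm (algebraMap (ResidueField L) (ResidueField T) (residue L a))) =
      residue (S ⧸ J) (j (p a))
    rw [τ.symm.commutes, ← RingHom.comp_apply j p, hj]
    rfl
  obtain ⟨k, ⟨hk, hkr⟩, -⟩ := hT.universal (S ⧸ J) j τ' hτ'
  have : IsLocalHom ((Ideal.Quotient.mk J).comp (algebraMap L S)) := RingHom.isLocalHom_comp _ _
  obtain ⟨_, -, hSu⟩ := hS.universal (S ⧸ J) ((Ideal.Quotient.mk J).comp (algebraMap L S)) ρ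
    (RingHom.ext fun x => by
      obtain ⟨a, rfl⟩ := residue_surjective x
      rfl)
  have h1 : k.comp π = Ideal.Quotient.mk J :=
    (hSu _ ⟨by rw [RingHom.comp_assoc, hπ, ← RingHom.comp_assoc, hk, hj], fun x => by
      rw [RingHom.comp_apply, hkr, hπr]
      exact congrArg ρ (τ.symm_apply_apply _)⟩).trans (hSu _ ⟨rfl, fun x => rfl⟩).symm
  let πb : S ⧸ J →+* T := Ideal.Quotient.lift J π fun a ha => hJ ha
  obtain ⟨_, -, hTu⟩ := hT.universal T (algebraMap B T) (RingHom.id _) (RingHom.id_comp _)
  have h2 : πb.comp k = RingHom.id T := by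
    refine (hTu _ ⟨?_, fun x => ?_⟩).trans (hTu _ ⟨RingHom.id_comp _, fun _ => rfl⟩).symm
    · rw [RingHom.comp_assoc, hk]
      refine RingHom.ext fun b => ?_
      obtain ⟨a, rfl⟩ := hp b
      show πb (j (p a)) = algebraMap B T (p a)
      rw [← RingHom.comp_apply j p, hj]
      exact RingHom.congr_fun hπ a
    · obtain ⟨y, hy⟩ := Ideal.Quotient.mk_surjective (k x)
      have h3 : ρ (residue S y) = ρ (τ.symm (residue T x)) := by
        show residue (S ⧸ J) (Ideal.Quotient.mk J y) = _
        rw [hy, hkr]
        rfl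
      rw [RingHom.comp_apply, ← hy]
      show residue T (π y) = residue T x
      rw [hπr, ρ.injective h3]
      exact τ.apply_symm_apply _
  refine ⟨S, inferInstance, inferInstance, π, inferInstance, hπ, fun t => ?_, le_antisymm (fun a ha => ?_) hJ⟩
  · obtain ⟨a, ha⟩ := Ideal.Quotient.mk_surjective (k t)
    exact ⟨a, (congrArg πb ha).trans (RingHom.congr_fun h2 t)⟩
  · refine Ideal.Quotient.eq_zero_iff_mem.1 ?_
    rw [← RingHom.congr_fun h1 a, RingHom.comp_apply, RingHom.mem_ker.1 ha, map_zero]

end Groth.Agent.FlatMor67
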