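import Groth.Agent.FlatMor67.NLBaseChange

/-!
# Homotopies between base change maps of naive cotangent complexes
-/

set_option autoImplicit false

universe u

open TensorProduct CategoryTheory

namespace Groth.Agent.FlatMor67

variable {R S R' S' : Type u} [CommRing R] [CommRing S] [CommRing R'] [CommRing S'] [Algebra R S]
  [Algebra R' S'] [Algebra R R'] [Algebra S S'] [Algebra R S'] [IsScalarTower R R' S'] [IsScalarTower R S S']
  {P : Algebra.Extension.{u} R S} {P' P'' : Algebra.Extension.{u} R' S'}

lemma cotangent_lift_sub (φ ψ : P.Hom P') :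
    LinearMap.liftBaseChange S' (Algebra.Extension.Cotangent.map φ) =
      LinearMap.liftBaseChange S' (Algebra.Extension.Cotangent.map ψ) +
        LinearMap.liftBaseChange S' (φ.sub ψ) ∘ₗ P.cotangentComplex.baseChange S' := by
  ext x
  have h := LinearMap.congr_fun (Algebra.Extension.Cotangent.map_sub_map φ ψ) x
  simp only [LinearMap.sub_apply, LinearMap.comp_apply] at h
  simp only [AlgebraTensorModule.curry_apply, LinearMap.restrictScalars_self, curry_apply,
    LinearMap.coe_restrictScalars, LinearMap.add_apply, LinearMap.comp_apply, LinearMap.baseChange_tmul,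
    LinearMap.liftBaseChange_tmul, one_smul]
  rw [← h, add_sub_cancel]

lemma cotangentSpace_lift_sub (φ ψ : P.Hom P') :
    LinearMap.liftBaseChange S' (Algebra.Extension.CotangentSpace.map φ) =
      LinearMap.liftBaseChange S' (Algebra.Extension.CotangentSpace.map ψ) +
        P'.cotangentComplex ∘ₗ LinearMap.liftBaseChange S' (φ.sub ψ) := by
  refine TensorProduct.AlgebraTensorModule.ext fun s x => ?_
  have h := LinearMap.congr_fun (Algebra.Extension.CotangentSpace.map_sub_map φ ψ) x
  simp only [LinearMap.sub_apply, LinearMap.comp_apply, LinearMap.coe_restrictScalars] at h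
  simp only [LinearMap.add_apply, LinearMap.comp_apply, LinearMap.liftBaseChange_tmul, map_smul]
  rw [← h, ← smul_add, add_sub_cancel]

/-- the map on `H^{-1}` after base change does not depend on the map of extensions -/
theorem bcH1Map_eq (φ ψ : P.Hom P') : NLCx.bcH1Map (S' := S') φ = NLCx.bcH1Map (S' := S') ψ := by
  apply LinearMap.ext
  intro x
  apply Subtype.ext
  show LinearMap.liftBaseChange S' _ x.1 = LinearMap.liftBaseChange S' _ x.1
  rw [cotangent_lift_sub φ ψ, LinearMap.add_apply, LinearMap.comp_apply,
    show P.cotangentComplex.baseChange S' x.1 = 0 from x.2, map_zero, add_zero]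

/-- homotopy between two base change maps -/
noncomputable def bcMapHomotopy (φ ψ : P.Hom P') :
    Homotopy (NLCx.bcMap (S' := S') φ) (NLCx.bcMap (S' := S') ψ) :=
  LCI19.doubleHomotopy (f := ModuleCat.ofHom (P.cotangentComplex.baseChange S'))
    (g := ModuleCat.ofHom P'.cotangentComplex) _ _ (ModuleCat.ofHom (LinearMap.liftBaseChange S' (φ.sub ψ)))
    (by
      have h : ModuleCat.ofHom (LinearMap.liftBaseChange S' (Algebra.Extension.Cotangent.map φ)) =
          ModuleCat.ofHom (LinearMap.liftBaseChange S' (Algebra.Extension.Cotangent.map ψ)) +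
          ModuleCat.ofHom (P.cotangentComplex.baseChange S') ≫
            ModuleCat.ofHom (LinearMap.liftBaseChange S' (φ.sub ψ)) := by
        rw [← ModuleCat.ofHom_comp]
        exact congrArg ModuleCat.ofHom (cotangent_lift_sub φ ψ)
      simp [NLCx.bcMap, NLCx.bcCx, NLCx.cx, h])
    (by
      have h : ModuleCat.ofHom (LinearMap.liftBaseChange S' (Algebra.Extension.CotangentSpace.map φ)) =
          ModuleCat.ofHom (LinearMap.liftBaseChange S' (Algebra.Extension.CotangentSpace.map ψ)) +
          ModuleCat.ofHom (LinearMap.liftBaseChange S' (φ.sub ψ)) ≫ ModuleCat.ofHom P'.cotangentComplex := by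
        rw [← ModuleCat.ofHom_comp]
        exact congrArg ModuleCat.ofHom (cotangentSpace_lift_sub φ ψ)
      simp [NLCx.bcMap, NLCx.bcCx, NLCx.cx, h])

lemma nlMap_eq_cxMap (φ : P'.Hom P'') : NLCx.map φ = LCI19.cxMap φ := by
  apply HomologicalComplex.from_double_hom_ext
  · simp [NLCx.map, LCI19.cxMap, NLCx.cx]
  · simp [NLCx.map, LCI19.cxMap, NLCx.cx]

/-- composition with a map of extensions of the target -/
lemma bcMap_comp (φ : P.Hom P') (χ : P'.Hom P'') :
    NLCx.bcMap (S' := S') φ ≫ NLCx.map χ = NLCx.bcMap (S' := S') (χ.comp φ) := by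
  have h0 : LinearMap.liftBaseChange S' (Algebra.Extension.Cotangent.map (χ.comp φ)) =
      Algebra.Extension.Cotangent.map χ ∘ₗ LinearMap.liftBaseChange S' (Algebra.Extension.Cotangent.map φ) := by
    ext x
    simp [Algebra.Extension.Cotangent.map_comp]
  have h1 : LinearMap.liftBaseChange S' (Algebra.Extension.CotangentSpace.map (χ.comp φ)) =
      Algebra.Extension.CotangentSpace.map χ ∘ₗ LinearMap.liftBaseChange S' (Algebra.Extension.CotangentSpace.map φ) := by
    refine TensorProduct.AlgebraTensorModule.ext fun s x => ?_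
    simp [Algebra.Extension.CotangentSpace.map_comp_apply]
  apply HomologicalComplex.from_double_hom_ext
  · simp [NLCx.bcMap, NLCx.map, NLCx.bcCx, NLCx.cx, h0]
  · simp [NLCx.bcMap, NLCx.map, NLCx.bcCx, NLCx.cx, h1]

/-- criterion for an isomorphism of complexes -/
theorem isIso_bcMap (φ : P.Hom P')
    (h₀ : Function.Bijective (LinearMap.liftBaseChange S' (Algebra.Extension.Cotangent.map φ)))
    (h₁ : Function.Bijective (LinearMap.liftBaseChange S' (Algebra.Extension.CotangentSpace.map φ))) :
    IsIso (NLCx.bcMap (S' := S') φ) := by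
  have i₀ : IsIso (ModuleCat.ofHom (LinearMap.liftBaseChange S' (Algebra.Extension.Cotangent.map φ))) :=
    (ConcreteCategory.isIso_iff_bijective _).2 h₀
  have i₁ : IsIso (ModuleCat.ofHom (LinearMap.liftBaseChange S' (Algebra.Extension.CotangentSpace.map φ))) :=
    (ConcreteCategory.isIso_iff_bijective _).2 h₁
  have : ∀ k, IsIso ((NLCx.bcMap (S' := S') φ).f k) := by
    intro k
    by_cases hk : k = -1
    · subst hk
      simp only [NLCx.bcMap, NLCx.bcCx, NLCx.cx, HomologicalComplex.mkHomFromDouble_f₀]
      infer_instance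
    by_cases hk' : k = 0
    · subst hk'
      simp only [NLCx.bcMap, NLCx.bcCx, NLCx.cx, HomologicalComplex.mkHomFromDouble_f₁]
      infer_instance
    · exact ⟨0, (HomologicalComplex.isZero_double_X _ _ k hk hk').eq_of_src _ _,
        (HomologicalComplex.isZero_double_X _ _ k hk hk').eq_of_src _ _⟩
  exact HomologicalComplex.Hom.isIso_of_components _

/-- criterion for an isomorphism of complexes with the same top ring -/
theorem isIso_map [Algebra R' S] [IsScalarTower R R' S] {Q : Algebra.Extension.{u} R' S} (φ : P.Hom Q)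
    (h₀ : Function.Bijective (Algebra.Extension.Cotangent.map φ))
    (h₁ : Function.Bijective (Algebra.Extension.CotangentSpace.map φ)) : IsIso (NLCx.map φ) := by
  have i₀ : IsIso (ModuleCat.ofHom (Algebra.Extension.Cotangent.map φ)) :=
    (ConcreteCategory.isIso_iff_bijective _).2 h₀
  have i₁ : IsIso (ModuleCat.ofHom (Algebra.Extension.CotangentSpace.map φ)) :=
    (ConcreteCategory.isIso_iff_bijective _).2 h₁
  have : ∀ k, IsIso ((NLCx.map φ).f k) := by
    intro k
    by_cases hk : k = -1
    · subst hk
      simp only [NLCx.map, NLCx.cx, HomologicalComplex.mkHomFromDouble_f₀]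
      infer_instance
    by_cases hk' : k = 0
    · subst hk'
      simp only [NLCx.map, NLCx.cx, HomologicalComplex.mkHomFromDouble_f₁]
      infer_instance
    · exact ⟨0, (HomologicalComplex.isZero_double_X _ _ k hk hk').eq_of_src _ _,
        (HomologicalComplex.isZero_double_X _ _ k hk hk').eq_of_src _ _⟩
  exact HomologicalComplex.Hom.isIso_of_components _

/-- the two complexes of two presentations are homotopy equivalent -/
noncomputable def presHomotopyEquiv {ι κ : Type u} (G : Algebra.Generators R' S' ι) (H : Algebra.Generators R' S' κ) :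
    HomotopyEquiv (NLCx.cx G.toExtension) (NLCx.cx H.toExtension) where
  hom := LCI19.cxMap (G.defaultHom H).toExtensionHom
  inv := LCI19.cxMap (H.defaultHom G).toExtensionHom
  homotopyHomInvId := (Homotopy.ofEq (LCI19.cxMap_comp _ _).symm).trans
    ((LCI19.cxMapHomotopy _ (Algebra.Extension.Hom.id _)).trans (Homotopy.ofEq (LCI19.cxMap_id _)))
  homotopyInvHomId := (Homotopy.ofEq (LCI19.cxMap_comp _ _).symm).trans
    ((LCI19.cxMapHomotopy _ (Algebra.Extension.Hom.id _)).trans (Homotopy.ofEq (LCI19.cxMap_id _)))

/-- a homotopy equivalence may be altered by a homotopy -/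
def homotopyEquivOfHomotopy {V : Type*} [Category V] [Preadditive V] {c : ComplexShape ℤ}
    {C D : HomologicalComplex V c} (e : HomotopyEquiv C D) (φ : C ⟶ D) (H : Homotopy e.hom φ) :
    HomotopyEquiv C D where
  hom := φ
  inv := e.inv
  homotopyHomInvId := (H.symm.compRight e.inv).trans e.homotopyHomInvId
  homotopyInvHomId := (H.symm.compLeft e.inv).trans e.homotopyInvHomId

/-- presentations on all elements: homotopy equivalence -/
theorem exists_homotopyEquiv_bcMapSelf [Algebra.IsPushout R R' S S']
    (hinj : Function.Injective (LinearMap.lTensor R' (kerR (Algebra.Generators.self R S)).subtype)) :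
    ∃ e : HomotopyEquiv (NLCx.bcCx (Algebra.Generators.self R S).toExtension S')
        (NLCx.cx (Algebra.Generators.self R' S').toExtension),
      e.hom = NLCx.bcMapSelf R S R' S' := by
  let G := Algebra.Generators.self R S
  have hsurj : Function.Surjective (MvPolynomial.aeval (R := R') (fun s : S => algebraMap S S' s)) := by
    intro s'
    induction s' using (Algebra.IsPushout.out (R := R) (S := R') (R' := S) (S' := S')).inductionOn with
    | zero => exact ⟨0, map_zero _⟩
    | tmul s => exact ⟨MvPolynomial.X s, MvPolynomial.aeval_X _ _⟩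
    | smul r s' ih => obtain ⟨p, rfl⟩ := ih; exact ⟨r • p, map_smul _ _ _⟩
    | add s t hs ht =>
      obtain ⟨a, rfl⟩ := hs
      obtain ⟨b, rfl⟩ := ht
      exact ⟨a + b, map_add _ _ _⟩
  let G' : Algebra.Generators R' S' S := Algebra.Generators.ofSurjective _ hsurj
  have hval : ∀ i, G'.val i = algebraMap S S' (G.val i) := fun i => rfl
  have := isIso_bcMap (sameHom G G' hval)
    ⟨cotangent_injective G G' hval hinj, cotangent_surjective G G' hval⟩ (cotangentSpace_bijective G G' hval)
  let e := (HomotopyEquiv.ofIso (asIso (NLCx.bcMap (S' := S') (sameHom G G' hval)))).trans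
    (presHomotopyEquiv G' (Algebra.Generators.self R' S'))
  refine ⟨homotopyEquivOfHomotopy e _ ?_, rfl⟩
  refine (Homotopy.ofEq ?_).trans (bcMapHomotopy
    ((G'.defaultHom (Algebra.Generators.self R' S')).toExtensionHom.comp (sameHom G G' hval)) _)
  rw [← bcMap_comp, nlMap_eq_cxMap]
  rfl

/-- surjectivity on `H^{-1}` -/
theorem bcH1Map_surjective_same {ι : Type u} [Algebra.IsPushout R R' S S'] (G : Algebra.Generators R S ι)
    (G' : Algebra.Generators R' S' ι) (h : ∀ i, G'.val i = algebraMap S S' (G.val i)) :
    Function.Surjective (NLCx.bcH1Map (S' := S') (sameHom G G' h)) := by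
  rintro ⟨x, hx⟩
  obtain ⟨y, rfl⟩ := cotangent_surjective G G' h x
  refine ⟨⟨y, ?_⟩, rfl⟩
  apply LinearMap.mem_ker.2
  apply (cotangentSpace_bijective G G' h).1
  rw [map_zero, ← LinearMap.mem_ker.1 hx]
  have key : G'.toExtension.cotangentComplex ∘ₗ
      LinearMap.liftBaseChange S' (Algebra.Extension.Cotangent.map (sameHom G G' h)) =
      LinearMap.liftBaseChange S' (Algebra.Extension.CotangentSpace.map (sameHom G G' h)) ∘ₗ
        G.toExtension.cotangentComplex.baseChange S' := by
    ext z
    simpa using (Algebra.Extension.CotangentSpace.map_cotangentComplex (sameHom G G' h) z).symm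
  exact (LinearMap.congr_fun key y).symm

end Groth.Agent.FlatMor67
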