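import Groth.Agent.FlatMor67.NLHomotopy
import Groth.Agent.LCI19.NLPerfect
import Groth.Agent.LCI19.Presentation

/-!
# The kernel of the comparison map on `H^{-1}` for local complete intersection maps
-/

set_option autoImplicit false

universe u

open TensorProduct MvPolynomial

namespace Groth.Agent.FlatMor67

/-- the conormal module of any finite presentation of an lci map is finite projective -/
theorem projective_cotangent_of_isLCI {A B : Type u} [CommRing A] [CommRing B] [Algebra A B] {n : ℕ}
    (h : LCI.IsLCI A B) (G : Algebra.Generators A B (ULift.{u} (Fin n))) :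
    Module.Finite B G.toExtension.Cotangent ∧ Module.Projective B G.toExtension.Cotangent := by
  refine LCI19.projective_extension_cotangent G.toExtension ?_
  let α : MvPolynomial (Fin n) A →ₐ[A] B := MvPolynomial.aeval (fun i => G.val ⟨i⟩)
  have hα : Function.Surjective α := fun b => by
    refine ⟨MvPolynomial.rename ULift.down (G.σ b), ?_⟩
    rw [MvPolynomial.aeval_rename]
    exact G.aeval_val_σ b
  have hk := LCI19.isKoszulRegularIdeal_ker_of_isLCI h α hα
  have hker : (G.toExtension.ker : Ideal (MvPolynomial (ULift.{u} (Fin n)) A)) =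
      (RingHom.ker α.toRingHom).comap (renameEquiv A Equiv.ulift.{u}).toRingEquiv.toRingHom := by
    refine Ideal.ext fun (x : MvPolynomial (ULift.{u} (Fin n)) A) => (mem_ker_iff G x).trans ?_
    show _ ↔ α (MvPolynomial.rename ULift.down x) = 0
    rw [MvPolynomial.aeval_rename]
    rfl
  exact (congrArg LCI.IsKoszulRegularIdeal hker).mpr ((LCI19.isKoszulRegularIdeal_comap_equiv _).2 hk)

/-- the kernel of a surjection onto a projective module is finite projective -/
theorem finite_projective_ker {S M N : Type u} [CommRing S] [AddCommGroup M] [Module S M] [AddCommGroup N]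
    [Module S N] [Module.Finite S M] [Module.Projective S M] [Module.Projective S N] (L : M →ₗ[S] N)
    (hL : Function.Surjective L) :
    Module.Finite S (LinearMap.ker L) ∧ Module.Projective S (LinearMap.ker L) := by
  obtain ⟨s, hs⟩ := Module.projective_lifting_property L LinearMap.id hL
  let p : M →ₗ[S] LinearMap.ker L := (LinearMap.id - s ∘ₗ L).codRestrict _ fun x => by
    rw [LinearMap.mem_ker, LinearMap.sub_apply, map_sub, LinearMap.id_apply, LinearMap.comp_apply,
      ← LinearMap.comp_apply L s, hs, LinearMap.id_apply, sub_self]
  have hp : p ∘ₗ (LinearMap.ker L).subtype = LinearMap.id := by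
    ext x
    simp [p, LinearMap.mem_ker.1 x.2]
  exact ⟨Module.Finite.of_surjective p fun x => ⟨x, LinearMap.congr_fun hp x⟩,
    Module.Projective.of_split (LinearMap.ker L).subtype p hp⟩

section Transfer

variable {R S R' S' : Type u} [CommRing R] [CommRing S] [CommRing R'] [CommRing S'] [Algebra R S]
  [Algebra R' S'] [Algebra R R'] [Algebra S S'] [Algebra R S'] [IsScalarTower R R' S'] [IsScalarTower R S S']
  {P Q : Algebra.Extension.{u} R S}

lemma baseChange_map_comm (φ : P.Hom Q) (x : S' ⊗[S] P.Cotangent) :
    Q.cotangentComplex.baseChange S' ((Algebra.Extension.Cotangent.map φ).baseChange S' x) =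
      (Algebra.Extension.CotangentSpace.map φ).baseChange S' (P.cotangentComplex.baseChange S' x) := by
  induction x using TensorProduct.induction_on with
  | zero => simp
  | add x y hx hy => simp [map_add, hx, hy]
  | tmul s z => simp [Algebra.Extension.CotangentSpace.map_cotangentComplex]

/-- the map induced on `bcH1` by a map of extensions -/
noncomputable def bcH1Trans (φ : P.Hom Q) : NLCx.bcH1 P S' →ₗ[S'] NLCx.bcH1 Q S' :=
  ((Algebra.Extension.Cotangent.map φ).baseChange S').restrict fun x hx => by
    show Q.cotangentComplex.baseChange S' _ = 0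
    rw [baseChange_map_comm, show P.cotangentComplex.baseChange S' x = 0 from hx, map_zero]

lemma bcH1Trans_inv (φ : P.Hom Q) (ψ : Q.Hom P) (x : NLCx.bcH1 P S') :
    bcH1Trans ψ (bcH1Trans φ x) = x := by
  apply Subtype.ext
  show (Algebra.Extension.Cotangent.map ψ).baseChange S' ((Algebra.Extension.Cotangent.map φ).baseChange S' x.1) = x.1
  have h : ∀ y : S' ⊗[S] P.Cotangent, (Algebra.Extension.Cotangent.map ψ).baseChange S'
      ((Algebra.Extension.Cotangent.map φ).baseChange S' y) = y +
        ((ψ.comp φ).sub (Algebra.Extension.Hom.id P)).baseChange S' (P.cotangentComplex.baseChange S' y) := by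
    intro y
    induction y using TensorProduct.induction_on with
    | zero => simp
    | add a b ha hb => simp only [map_add, ha, hb]; abel
    | tmul s z =>
      have h1 := LinearMap.congr_fun
        (Algebra.Extension.Cotangent.map_sub_map (ψ.comp φ) (Algebra.Extension.Hom.id P)) z
      simp only [LinearMap.sub_apply, LinearMap.comp_apply, Algebra.Extension.Cotangent.map_id,
        LinearMap.id_apply, Algebra.Extension.Cotangent.map_comp, LinearMap.coe_restrictScalars] at h1
      simp only [LinearMap.baseChange_tmul, ← tmul_add]
      rw [← h1, add_sub_cancel]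
  rw [h, show P.cotangentComplex.baseChange S' x.1 = 0 from x.2, map_zero, add_zero]

lemma bcH1Map_trans {Q' : Algebra.Extension.{u} R' S'} (φ : P.Hom Q) (χ : Q.Hom Q') (x : NLCx.bcH1 P S') :
    NLCx.bcH1Map χ (bcH1Trans φ x) = NLCx.bcH1Map (χ.comp φ) x := by
  apply Subtype.ext
  show LinearMap.liftBaseChange S' (Algebra.Extension.Cotangent.map χ)
      ((Algebra.Extension.Cotangent.map φ).baseChange S' x.1) =
    LinearMap.liftBaseChange S' (Algebra.Extension.Cotangent.map (χ.comp φ)) x.1
  generalize x.1 = y
  induction y using TensorProduct.induction_on with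
  | zero => simp
  | add a b ha hb => simp only [map_add, ha, hb]
  | tmul s z => simp [Algebra.Extension.Cotangent.map_comp]

lemma bcH1Map_comp {Q' Q'' : Algebra.Extension.{u} R' S'} (φ : P.Hom Q') (χ : Q'.Hom Q'') (x : NLCx.bcH1 P S') :
    NLCx.bcH1Map (χ.comp φ) x = Algebra.Extension.H1Cotangent.map χ (NLCx.bcH1Map φ x) := by
  apply Subtype.ext
  show LinearMap.liftBaseChange S' (Algebra.Extension.Cotangent.map (χ.comp φ)) x.1 =
    Algebra.Extension.Cotangent.map χ (LinearMap.liftBaseChange S' (Algebra.Extension.Cotangent.map φ) x.1)
  generalize x.1 = y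
  induction y using TensorProduct.induction_on with
  | zero => simp
  | add a b ha hb => simp only [map_add, ha, hb]
  | tmul s z => simp [Algebra.Extension.Cotangent.map_comp]

end Transfer

end Groth.Agent.FlatMor67
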