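import Groth.Agent.FlatMor67.NilStalk
import Groth.Agent.RelPCSch41.PushPC
import Groth.Agent.DCX42.LpullLoc
import Groth.Agent.DCX42.QCohPull
import Groth.Agent.DR39.Nilpotent
import Groth.Agent.DCK91.LpullKFlat

/-!
Pseudo-coherence is reflected by the derived inverse image along thickenings.
-/

set_option autoImplicit false
set_option backward.isDefEq.respectTransparency.types false
set_option linter.style.haveILetI false
set_option linter.unusedSectionVars false
set_option maxHeartbeats 1000000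

noncomputable section

universe u

open CategoryTheory Limits AlgebraicGeometry TopologicalSpace Opposite DerivedCategory
open CategoryTheory.Pretriangulated
open Groth.Agent.DCX42 Groth.Agent.RelPCSch41
attribute [local instance] HasDerivedCategory.standard

namespace Groth.Agent.FlatMor67.NilLpull

open NilStalk

variable {X X' : Scheme.{u}}

/-- Homology commutes with taking stalks. -/
def stalkHomIso (x : X) (Z : CochainComplex X.Modules ℤ) (j : ℤ) :
    ((DCK91.SPc x).obj Z).homology j ≅ (DCK91.SP x).obj (Z.homology j) :=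
  (Z.sc j).mapHomologyIso (DCK91.SP x)

/-- Stalks of an inverse image complex are base changes of stalks. -/
def stalkPullIso (i : X ⟶ X') (z : X) (P : CochainComplex X'.Modules ℤ) :
    ((DCK91.extF i z).mapHomologicalComplex (ComplexShape.up ℤ)).obj ((DCK91.SPc (i z)).obj P) ≅
      (DCK91.SPc z).obj (((Scheme.Modules.pullback i).mapHomologicalComplex (ComplexShape.up ℤ)).obj P) :=
  HomologicalComplex.Hom.isoOfComponents (fun j => (DCK91.pullStalkIso i z).app (P.X j))
    (fun j k _ => ((DCK91.pullStalkIso i z).hom.naturality (P.d j k)).symm)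

/-- An upper bound of the derived inverse image is an upper bound. -/
theorem isLE_of_Lpull (i : X ⟶ X') [hi : StalkNil i] [DCoh.HasLpull i] (K : DCoh.D X') (b : ℤ)
    (h : ((DCoh.Lpull i).obj K).IsLE b) : K.IsLE b := by
  obtain ⟨P, p, hP, -, hp, -⟩ := Mod48.exists_resolution (O := X'.sheaf) (Q.objPreimage K)
  have hp' : IsIso (DerivedCategory.Q.map (C := CochainComplex X'.Modules ℤ) p) :=
    (DerivedCategory.isIso_Q_map_iff_quasiIso X'.Modules p).2 hp
  obtain ⟨eL⟩ := DCK91.nonempty_lpullIso i P hP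
  let eK : Q.obj P ≅ K := @asIso _ _ _ _ (DerivedCategory.Q.map (C := CochainComplex X'.Modules ℤ) p) hp' ≪≫ rep K
  refine (DerivedCategory.isLE_iff K b).2 fun j hj => ?_
  refine IsZero.of_iso ?_ ((homologyFunctor X'.Modules j).mapIso eK.symm ≪≫
    (homologyFunctorFactors X'.Modules j).app P)
  refine DCK91.isZero_of_stalks fun x => ?_
  haveI := hi.surjective
  obtain ⟨z, rfl⟩ := i.surjective x
  let φ := (i.stalkMap z).hom
  haveI := DCX42.hasLBaseChange φ
  have hk : DRing.IsKFlat (X'.presheaf.stalk (i z)) ((DCK91.SPc (i z)).obj P) := DCK91.isKFlat_stalk hP _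
  let K₀ : Dual.D (X'.presheaf.stalk (i z)) := (DR39.QA _).obj ((DCK91.SPc (i z)).obj P)
  let L₀ := (DRing.LBaseChange φ).obj K₀
  have hL : DR39.Acyc (b + 1) L₀ := fun k hk' => by
    refine IsZero.of_iso ?_ ((DR39.HF _ k).mapIso (DR39.LBaseChangeIso φ _ hk) ≪≫ DR39.HQIso _ k ≪≫
      (HomologicalComplex.homologyFunctor _ _ k).mapIso (stalkPullIso i z P) ≪≫ stalkHomIso z _ k)
    exact (DCK91.SP z).map_isZero (((DerivedCategory.isLE_iff _ b).1 h k (by omega)).of_iso
      ((homologyFunctor X.Modules k).mapIso ((DCoh.Lpull i).mapIso eK.symm ≪≫ eL) ≪≫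
        (homologyFunctorFactors X.Modules k).app _).symm)
  obtain ⟨E, hE1, hE2, ⟨eE⟩⟩ := DR39.rep_free_of_acyc hL
  obtain ⟨P', hP'b, -, ⟨eP'⟩, -⟩ := DR39.exists_projective_lift_rep (StalkNil.stalkMap_surjective i z)
    (hi.isNilpotent_ker z) K₀ E b ((DR39.vanishesAbove_iff E b).2 hE1)
    (fun k => DR39.proj_of_FR (hE2 k)) ⟨eE⟩
  have h0 : IsZero ((DR39.HF _ j).obj K₀) := by
    refine IsZero.of_iso ?_ ((DR39.HF _ j).mapIso eP'.symm ≪≫ DR39.HQIso P' j)
    exact (HomologicalComplex.ExactAt.isZero_homology (HomologicalComplex.ExactAt.of_isZero (hP'b j hj)))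
  exact h0.of_iso ((DR39.HQIso ((DCK91.SPc (i z)).obj P) j) ≪≫ stalkHomIso (i z) P j).symm

/-- Finite type is reflected by inverse image along a thickening. -/
theorem isFT_of_pullback (i : X ⟶ X') [hi : StalkNil i] (M : X'.Modules)
    (h : CohB1.IsFT ((Scheme.Modules.pullback i).obj M)) : CohB1.IsFT M := by
  classical
  haveI := hi.surjective
  haveI := hi.isClosedImmersion
  haveI : ((Scheme.Modules.pullback i).obj M).IsFiniteType := h
  suffices H : ∀ x : X', ∃ (A : X'.Opens) (ι : Type u) (_ : Fintype ι) (t : ι → Γ(M, A)),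
      x ∈ A ∧ QC70.LocGenBy M A t by
    choose A ι hι t hx ht using H
    exact QC70.isFiniteType_of_locGenBy M A
      (IsOpenCover.mk (eq_top_iff.2 fun x _ => Opens.mem_iSup.2 ⟨x, hx x⟩)) fun x => ⟨ι x, hι x, t x, ht x⟩
  intro x
  obtain ⟨z, rfl⟩ := i.surjective x
  obtain ⟨V, κ, hκ, s, hzV, hs⟩ := QC70.exists_locGenBy ((Scheme.Modules.pullback i).obj M) z
  let N := (Scheme.Modules.pullback i).obj M
  have key : ∀ (w : X), letI := (i.stalkMap w).hom.toAlgebra
      letI := Module.compHom (N.presheaf.stalk w) (i.stalkMap w).hom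
      ∀ {ι : Type u} [Fintype ι] (t : ι → M.presheaf.stalk (i w)),
        Submodule.span (X.presheaf.stalk w) (Set.range fun j => DCK91.pullη i M w (t j)) = ⊤ →
          Submodule.span (X'.presheaf.stalk (i w)) (Set.range t) = ⊤ := by
    intro w
    letI := (i.stalkMap w).hom.toAlgebra
    letI := Module.compHom (N.presheaf.stalk w) (i.stalkMap w).hom
    haveI : IsScalarTower (X'.presheaf.stalk (i w)) (X.presheaf.stalk w) (N.presheaf.stalk w) :=
      IsScalarTower.of_algebraMap_smul fun r e => rfl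
    intro ι _ t ht
    exact span_eq_top_of_isBaseChange (StalkNil.stalkMap_surjective i w) (hi.isNilpotent_ker w)
      (DCK91.isBaseChange_pullη i M w) t ht
  letI := (i.stalkMap z).hom.toAlgebra
  letI := Module.compHom (N.presheaf.stalk z) (i.stalkMap z).hom
  haveI : IsScalarTower (X'.presheaf.stalk (i z)) (X.presheaf.stalk z) (N.presheaf.stalk z) :=
    IsScalarTower.of_algebraMap_smul fun r e => rfl
  have hbc := DCK91.isBaseChange_pullη i M z
  have hgen : ∀ k, ∃ S : Finset (M.presheaf.stalk (i z)), QC70.germM N V z hzV (s k) ∈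
      Submodule.span (X.presheaf.stalk z) ((DCK91.pullη i M z) '' (S : Set (M.presheaf.stalk (i z)))) := by
    intro k
    have : QC70.germM N V z hzV (s k) ∈ Submodule.span (X.presheaf.stalk z) (Set.range (DCK91.pullη i M z)) := by
      obtain ⟨e, he⟩ := hbc.equiv.surjective (QC70.germM N V z hzV (s k))
      rw [← he]
      clear he
      induction e using TensorProduct.induction_on with
      | zero => simp
      | tmul b m =>
        rw [hbc.equiv_tmul]
        exact Submodule.smul_mem _ _ (Submodule.subset_span ⟨m, rfl⟩)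
      | add a b ha hb => rw [map_add]; exact add_mem ha hb
    obtain ⟨T, hT, hT'⟩ := Submodule.mem_span_finite_of_mem_span this
    refine ⟨T.attach.image fun e => (hT e.2).choose, ?_⟩
    refine Submodule.span_mono (fun e he => ?_) hT'
    exact ⟨(hT he).choose, Finset.mem_coe.2 (Finset.mem_image.2 ⟨⟨e, he⟩, Finset.mem_attach _ _, rfl⟩),
      (hT he).choose_spec⟩
  choose S hS using hgen
  let T := Finset.univ.biUnion S
  choose W hW t ht using fun m : T => QC70.germM_exist (M := M) (x := i z) m.1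
  let A : X'.Opens := ⟨⋂ m, (W m : Set X'), isOpen_iInter_of_finite fun m => (W m).2⟩
  have hAW : ∀ m, A ≤ W m := fun m y hy => Set.mem_iInter.1 hy m
  have hxA : i z ∈ A := Set.mem_iInter.2 hW
  let tA : T → Γ(M, A) := fun m => QC70.res M (hAW m) (t m)
  let σ : T → Γ(N, i ⁻¹ᵁ A) := fun m =>
    ((Scheme.Modules.pullbackPushforwardAdjunction i).unit.app M).app A (tA m)
  have hσ : ∀ (w : X) (hw : i w ∈ A) (m : T),
      QC70.germM N (i ⁻¹ᵁ A) w hw (σ m) = DCK91.pullη i M w (QC70.germM M A (i w) hw (tA m)) :=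
    fun w hw m => (DCK91.pullη_germ i M w hw (tA m)).symm
  have hmem : ∀ k, QC70.germM N V z hzV (s k) ∈
      Submodule.span (X.presheaf.stalk z) (Set.range fun m => QC70.germM N (i ⁻¹ᵁ A) z hxA (σ m)) := by
    intro k
    refine Submodule.span_mono ?_ (hS k)
    rintro _ ⟨e, he, rfl⟩
    refine ⟨⟨e, Finset.mem_biUnion.2 ⟨k, Finset.mem_univ k, he⟩⟩, ?_⟩
    simp only [hσ, tA, QC70.germM_res, ht]
  choose Nk hkA hkV b hzk hk using fun k => exists_nhd_comb σ (s k) hxA hzV (hmem k)
  let O : X.Opens := ⟨(V : Set X) ∩ ⋂ k, (Nk k : Set X), V.2.inter (isOpen_iInter_of_finite fun k => (Nk k).2)⟩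
  let hh : X ≃ₜ X' := (i.isClosedEmbedding.isEmbedding.toHomeomorphOfSurjective i.surjective)
  let A' : X'.Opens := A ⊓ ⟨hh '' O, hh.isOpenMap _ O.2⟩
  refine ⟨A', T, inferInstance, fun m => QC70.res M inf_le_left (tA m),
    ⟨hxA, ⟨z, ⟨hzV, Set.mem_iInter.2 hzk⟩, rfl⟩⟩, ?_⟩
  intro W₀ hW₀ g y hy
  have hyA : y ∈ A := (hW₀ hy).1
  obtain ⟨w, hwO, rfl⟩ := (hW₀ hy).2
  have hwk : ∀ k, w ∈ Nk k := fun k => Set.mem_iInter.1 hwO.2 k
  have hspan : Submodule.span (X.presheaf.stalk w)
      (Set.range fun m => DCK91.pullη i M w (QC70.germM M A (i w) hyA (tA m))) = ⊤ := by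
    rw [eq_top_iff, ← span_germ_eq_top hs w hwO.1, Submodule.span_le]
    rintro _ ⟨k, rfl⟩
    have h1 := congrArg (QC70.germM N (Nk k) w (hwk k)) (hk k)
    rw [QC70.germM_res, Props58.LocFree.germM_sum] at h1
    simp only
    rw [h1]
    refine Submodule.sum_mem _ fun m _ => ?_
    rw [QC70.germM_smul, QC70.germM_res, hσ]
    exact Submodule.smul_mem _ _ (Submodule.subset_span ⟨m, rfl⟩)
  have h2 := key w (fun m => QC70.germM M A (i w) hyA (tA m)) hspan
  have hg : QC70.germM M W₀ (i w) hy g ∈ Submodule.span (X'.presheaf.stalk (i w))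
      (Set.range fun m => QC70.germM M A' (i w) (hW₀ hy) (QC70.res M inf_le_left (tA m))) := by
    simp only [QC70.germM_res]
    exact h2 ▸ Submodule.mem_top
  obtain ⟨N', hN'A, hN'W, c, hyN', hc⟩ := exists_nhd_comb _ g (hW₀ hy) hy hg
  exact ⟨N', hN'W, hN'A, c, hyN', hc⟩

end Groth.Agent.FlatMor67.NilLpull
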