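import Groth.Agent.FlatMor67.NilLpull
import Groth.Agent.RelPCSch41.Square

/-!
Pseudo-coherence is reflected along thickenings: induction on the top degree.
-/

set_option autoImplicit false
set_option backward.isDefEq.respectTransparency.types false
set_option linter.style.haveILetI false
set_option linter.unusedSectionVars false
set_option maxHeartbeats 1000000

noncomputable section

universe u

open CategoryTheory Limits AlgebraicGeometry TopologicalSpace Opposite DerivedCategory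
open CategoryTheory.Pretriangulated
open Groth.Agent.DCX42 Groth.Agent.RelPCSch41
attribute [local instance] HasDerivedCategory.standard

namespace Groth.Agent.FlatMor67.NilPC

open NilStalk NilLpull

variable {X X' : Scheme.{u}}

/-- Top homology as a cokernel. -/
def topIso {A : Type*} [Category* A] [Abelian A] (Z : CochainComplex A ℤ) (b : ℤ)
    (hz : IsZero (Z.X (b + 1))) : Z.homology b ≅ cokernel (Z.d (b - 1) b) :=
  haveI := Z.isIso_homologyι b (b + 1) (by simp) (hz.eq_of_tgt _ _)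
  asIso (Z.homologyι b) ≪≫
    ((cokernelIsCokernel (Z.d (b - 1) b)).coconePointUniqueUpToIso
      (Z.opcyclesIsCokernel (b - 1) b (by simp))).symm

/-- Top cohomology of a derived inverse image. -/
theorem nonempty_top_Lpull (i : X ⟶ X') [DCoh.HasLpull i] (K : DCoh.D X') (b : ℤ) (hK : K.IsLE b) :
    Nonempty (DCoh.HD ((DCoh.Lpull i).obj K) b ≅ (Scheme.Modules.pullback i).obj (DCoh.HD K b)) := by
  obtain ⟨F, hF, ⟨e⟩⟩ := exists_iso_Q_obj_of_isLE K b
  obtain ⟨P, c, hP, hfl, hc⟩ := DCK91.exists_flat_res_le (O := X'.sheaf) F b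
    (inferInstanceAs (CochainComplex.IsLE (C := X'.Modules) F b))
  have hk := DCK91.kff_of_le (X := X') P b hP fun j => DCK91.flatMod_of_isFlat _ (hfl j)
  have hc' : IsIso (DerivedCategory.Q.map (C := CochainComplex X'.Modules ℤ) c) :=
    (DerivedCategory.isIso_Q_map_iff_quasiIso X'.Modules c).2 hc
  let eK : K ≅ Q.obj P := e ≪≫ (@asIso _ _ _ _ (DerivedCategory.Q.map (C := CochainComplex X'.Modules ℤ) c) hc').symm
  let G := Scheme.Modules.pullback i
  haveI : G.IsLeftAdjoint := (Scheme.Modules.pullbackPushforwardAdjunction i).isLeftAdjoint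
  let Z := (G.mapHomologicalComplex (ComplexShape.up ℤ)).obj P
  exact ⟨(homologyFunctor X.Modules b).mapIso ((DCoh.Lpull i).mapIso eK ≪≫ DCK91.lpullIso i P hk.1 hk.2) ≪≫
    (homologyFunctorFactors X.Modules b).app Z ≪≫ topIso Z b (G.map_isZero (hP (b + 1) (by omega))) ≪≫
    (PreservesCokernel.iso G (P.d (b - 1) b)).symm ≪≫
    G.mapIso ((topIso P b (hP (b + 1) (by omega))).symm ≪≫
      ((homologyFunctorFactors X'.Modules b).app P).symm ≪≫ (homologyFunctor X'.Modules b).mapIso eK.symm)⟩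

theorem isPC_of_Lpull_of_isLE (m : ℤ) (d : ℕ) : ∀ {X X' : Scheme.{u}} (i : X ⟶ X') [StalkNil i]
    [DCoh.HasLpull i] (K : DCoh.D X'), K.IsLE (m - 1 + d) →
    DCoh.IsPseudoCoherentD m ((DCoh.Lpull i).obj K) → DCoh.IsPseudoCoherentD m K := by
  induction d with
  | zero => intro X X' i _ _ K hK _; exact isPC_of_isLE (by simpa using hK)
  | succ d ih =>
    intro X X' i hi _ K hK hL
    have hb : K.IsLE (m + d) := by convert hK using 1; push_cast; omega
    obtain ⟨et⟩ := nonempty_top_Lpull i K (m + d) hb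
    have hft : CohB1.IsFT (DCoh.HD K (m + d)) := isFT_of_pullback i _ (isFT_of_iso' et
      (isFT_HD (isPC_mono (by omega) hL) fun j hj =>
        haveI := isLE_Lpull i hb
        DerivedCategory.isZero_of_isLE _ (m + d) j hj))
    refine DCX42.isPC_of_local fun x => ?_
    obtain ⟨V, n, α, hxV, hα⟩ := exists_top_map hb hft x
    refine ⟨V, hxV, ?_⟩
    haveI := DCK91.hasLpull (i ∣_ V)
    haveI := StalkNil.restrict i V
    obtain ⟨er⟩ := nonempty_Lpull_resD i V.ι (i ⁻¹ᵁ V).ι (i ∣_ V) (morphismRestrict_ι i V)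
    have hLV : DCoh.IsPseudoCoherentD m ((DCoh.Lpull (i ∣_ V)).obj ((resD V.ι).obj K)) :=
      isPC_of_iso (er.app K) (isPC_resD _ hL)
    obtain ⟨C, β, γ, hT⟩ := distinguished_cocone_triangle α
    have hbV : ((resD V.ι).obj K).IsLE (m + d) := isLE_map (Scheme.Modules.restrictFunctor V.ι) hb
    have hpc : PCMap (m + d) α := ⟨fun j hj => by
      have hKz : IsZero ((homologyFunctor _ j).obj ((resD V.ι).obj K)) :=
        haveI := hbV
        DerivedCategory.isZero_of_isLE _ (m + d) j hj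
      exact (DerivedCategory.isZero_of_isLE _ (m + d) j hj).isIso hKz _, hα⟩
    have hC : C.IsLE (m - 1 + d) := by
      convert (pcMap_iff_isLE hT (m + d)).1 hpc using 1; omega
    have hE : ∀ k, DCoh.IsPseudoCoherentD k ((singleFunctor _ (m + d)).obj (FlatMod.freeMod (V : Scheme.{u}) n)) :=
      fun k => isPC_of_isPerfect (isPerfect_single (QC70.isFinLocFree_freeMod _ n) _) k
    obtain ⟨T', hT', ⟨e₁⟩, ⟨e₂⟩, ⟨e₃⟩⟩ := exists_Lpull_triangle (i ∣_ V) _ hT
    have hC' : DCoh.IsPseudoCoherentD m ((DCoh.Lpull (i ∣_ V)).obj C) :=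
      isPC_of_iso e₃ (isPC₃ _ hT' (isPC_of_iso e₁.symm (DCX42.isPC_Lpull _ (hE _))) (isPC_of_iso e₂.symm hLV))
    exact isPC₂ _ hT (hE m) (ih (i ∣_ V) C hC hC')

/-- Pseudo-coherence is reflected along thickenings. -/
theorem isPC_of_Lpull (i : X ⟶ X') [hi : StalkNil i] [DCoh.HasLpull i] {m : ℤ} {K : DCoh.D X'}
    (h : DCoh.IsPseudoCoherentD m ((DCoh.Lpull i).obj K)) : DCoh.IsPseudoCoherentD m K := by
  haveI := hi.surjective
  haveI := hi.isClosedImmersion
  refine DCX42.isPC_of_local fun x => ?_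
  obtain ⟨z, rfl⟩ := i.surjective x
  obtain ⟨A, b, hzA, hmb, hA⟩ := exists_isLE_nhd h z
  let hh : X ≃ₜ X' := (i.isClosedEmbedding.isEmbedding.toHomeomorphOfSurjective i.surjective)
  let V : X'.Opens := ⟨hh '' A, hh.isOpenMap _ A.2⟩
  refine ⟨V, ⟨z, hzA, rfl⟩, ?_⟩
  haveI := DCK91.hasLpull (i ∣_ V)
  haveI := StalkNil.restrict i V
  obtain ⟨er⟩ := nonempty_Lpull_resD i V.ι (i ⁻¹ᵁ V).ι (i ∣_ V) (morphismRestrict_ι i V)
  have hle : i ⁻¹ᵁ V ≤ A := fun w hw => by
    obtain ⟨w', hw', he⟩ := hw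
    rwa [← hh.injective he]
  have hbV : ((DCoh.Lpull (i ∣_ V)).obj ((resD V.ι).obj K)).IsLE b := by
    haveI : TStructure.t.IsLE ((resD A.ι ⋙ resD (X.homOfLE hle)).obj ((DCoh.Lpull i).obj K)) b :=
      isLE_map (Scheme.Modules.restrictFunctor (X.homOfLE hle)) hA
    exact TStructure.t.isLE_of_iso ((resDComp (X.homOfLE hle) A.ι).app _ ≪≫
      (resDCongr (X.homOfLE_ι hle)).app _ ≪≫ er.app K) b
  refine isPC_of_Lpull_of_isLE m (b + 1 - m).toNat (i ∣_ V) _ ?_ (isPC_of_iso (er.app K) (isPC_resD _ h))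
  convert isLE_of_Lpull (i ∣_ V) _ b hbV using 1
  omega

end Groth.Agent.FlatMor67.NilPC
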