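import Groth.Agent.DCK91.KFlatPull
import Groth.Agent.FlatMor68.FlatInfNbhd
import Groth.Agent.QC70.FiniteType
import Groth.Agent.Props58.LocFree.Basis
import Groth.Agent.CAlg8.NilFlat
import Groth.Prelude.Def_MoreMor

/-!
Closed immersions with nilpotent kernels on stalks: finite type is reflected by inverse image.
-/

set_option autoImplicit false
set_option backward.isDefEq.respectTransparency.types false
set_option linter.style.haveILetI false
set_option linter.unusedSectionVars false

noncomputable section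

universe u

open CategoryTheory Limits AlgebraicGeometry TopologicalSpace Opposite
open Groth.Agent.QC70 Groth.Agent.Props58.LocFree
open scoped TensorProduct

namespace Groth.Agent.FlatMor67.NilStalk

/-- A surjective closed immersion all whose stalk maps have nilpotent kernel. -/
class StalkNil {X X' : Scheme.{u}} (i : X ⟶ X') : Prop where
  isClosedImmersion : IsClosedImmersion i
  surjective : Surjective i
  isNilpotent_ker : ∀ x : X, IsNilpotent (RingHom.ker (i.stalkMap x).hom)

variable {X X' : Scheme.{u}}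

/-- Finite order thickenings have nilpotent kernels on stalks. -/
theorem stalkNil_of_finiteOrderThickening (i : X ⟶ X') (hi : MoreMor.IsFiniteOrderThickening i) : StalkNil i := by
  obtain ⟨⟨h1, h2⟩, n, hn⟩ := hi
  refine ⟨h1, h2, fun x => ⟨n, ?_⟩⟩
  obtain ⟨U, hU⟩ := Groth.Agent.Div89.exists_affine_mem (i x)
  rw [FlatMor68.FlatInfNbhd.ker_stalkMap_closedImmersion, Groth.Agent.Div89.stalkIdeal_eq _ U _ hU, ← Ideal.map_pow]
  have h := congrArg (fun I : X'.IdealSheafData => I.ideal U) hn
  simp only [Scheme.IdealSheafData.ideal_pow, Pi.pow_apply] at h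
  rw [h]
  exact Ideal.map_bot

/-- Nilpotence of kernels descends along injective comparison maps. -/
theorem isNilpotent_ker_of_square {A B A' B' : Type u} [CommRing A] [CommRing B] [CommRing A'] [CommRing B']
    (f : A →+* B) (g : A' →+* B') (l : A →+* A') (r : B →+* B') (hl : Function.Injective l)
    (w : g.comp l = r.comp f) (hg : IsNilpotent (RingHom.ker g)) : IsNilpotent (RingHom.ker f) := by
  obtain ⟨n, hn⟩ := hg
  refine ⟨n, eq_bot_iff.2 ?_⟩
  have h1 : (RingHom.ker f).map l ≤ RingHom.ker g := Ideal.map_le_iff_le_comap.2 fun a ha => by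
    rw [Ideal.mem_comap, RingHom.mem_ker, ← RingHom.comp_apply, w, RingHom.comp_apply, RingHom.mem_ker.1 ha, map_zero]
  have h2 : ((RingHom.ker f) ^ n).map l ≤ ⊥ := by
    rw [Ideal.map_pow]
    exact (Ideal.pow_right_mono h1 n).trans hn.le
  intro a ha
  exact Ideal.mem_bot.2 (hl ((Ideal.mem_bot.1 (h2 (Ideal.mem_map_of_mem l ha))).trans (map_zero l).symm))

/-- Restriction to an open keeps nilpotent kernels. -/
theorem StalkNil.restrict (i : X ⟶ X') [hi : StalkNil i] (U : X'.Opens) : StalkNil (i ∣_ U) where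
  isClosedImmersion := by haveI := hi.isClosedImmersion; exact IsZariskiLocalAtTarget.restrict ‹_› U
  surjective := by haveI := hi.surjective; exact IsZariskiLocalAtTarget.restrict ‹_› U
  isNilpotent_ker x :=
    let e := morphismRestrictStalkMap i U x
    isNilpotent_ker_of_square _ (i.stalkMap x.1).hom e.hom.left.hom e.hom.right.hom
      (ConcreteCategory.bijective_of_isIso e.hom.left).1
      (RingHom.ext fun a => congr($(e.hom.w) a)) (hi.isNilpotent_ker x.1)

theorem StalkNil.stalkMap_surjective (i : X ⟶ X') [hi : StalkNil i] (x : X) :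
    Function.Surjective (i.stalkMap x).hom := by
  haveI := hi.isClosedImmersion
  exact i.stalkMap_surjective x

/-- Generation may be tested modulo a nilpotent kernel. -/
theorem span_eq_top_of_isBaseChange {A B : Type u} [CommRing A] [CommRing B] [Algebra A B]
    (hs : Function.Surjective (algebraMap A B)) (hn : IsNilpotent (RingHom.ker (algebraMap A B)))
    {M N : Type u} [AddCommGroup M] [Module A M] [AddCommGroup N] [Module A N] [Module B N] [IsScalarTower A B N]
    {η : M →ₗ[A] N} (h : IsBaseChange B η) {ι : Type*} (t : ι → M)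
    (ht : Submodule.span B (Set.range (η ∘ t)) = ⊤) : Submodule.span A (Set.range t) = ⊤ := by
  let P := Submodule.span A (Set.range t)
  let f := P.subtype
  have hB : Function.Surjective (f.lTensor B) := by
    intro z
    have hz : h.equiv z ∈ Submodule.span B (Set.range (η ∘ t)) := ht ▸ Submodule.mem_top
    obtain ⟨w, hw⟩ : h.equiv z ∈ LinearMap.range ((h.equiv.toLinearMap).comp (f.baseChange B)) := by
      refine Submodule.span_le.2 ?_ hz
      rintro _ ⟨k, rfl⟩
      exact ⟨(1 : B) ⊗ₜ[A] (⟨t k, Submodule.subset_span ⟨k, rfl⟩⟩ : P), by simp [h.equiv_tmul, f]⟩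
    exact ⟨w, h.equiv.injective hw⟩
  let I := RingHom.ker (algebraMap A B)
  let e : (A ⧸ I) ≃ₗ[A] B := (Algebra.linearMap A B).quotKerEquivOfSurjective hs
  have hI : Function.Surjective (f.lTensor (A ⧸ I)) := by
    intro z
    obtain ⟨w, hw⟩ := hB (e.rTensor M z)
    refine ⟨e.symm.rTensor P w, (e.rTensor M).injective ?_⟩
    rw [← hw]
    have : ∀ v : (A ⧸ I) ⊗[A] P, e.rTensor M (f.lTensor _ v) = f.lTensor B (e.rTensor P v) := fun v => by
      induction v using TensorProduct.induction_on with
      | zero => simp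
      | tmul a b => simp
      | add a b ha hb => simp only [map_add, ha, hb]
    rw [this, ← LinearEquiv.symm_rTensor, LinearEquiv.apply_symm_apply]
  refine eq_top_iff.2 fun m _ => ?_
  obtain ⟨⟨p, hp⟩, rfl⟩ := CAlg8.NilFlat.surjective_of_lTensor_quotient hn f hI m
  exact hp

/-- Germs of generators span the stalks. -/
theorem span_germ_eq_top {M : X.Modules} {V : X.Opens} {ι : Type u} [Fintype ι] {s : ι → Γ(M, V)}
    (hs : LocGenBy M V s) (z : X) (hz : z ∈ V) :
    Submodule.span (X.presheaf.stalk z) (Set.range fun k => germM M V z hz (s k)) = ⊤ := by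
  refine eq_top_iff.2 fun e _ => ?_
  obtain ⟨W, hzW, x, rfl⟩ := germM_exist (M := M) e
  obtain ⟨W', hW'W, hW'V, a, hzW', he⟩ :=
    hs (W ⊓ V) inf_le_right (res M inf_le_left x) z ⟨hzW, hz⟩
  have h := congrArg (germM M W' z hzW') he
  rw [germM_res, germM_res, germM_sum] at h
  rw [h]
  refine Submodule.sum_mem _ fun k _ => ?_
  rw [germM_smul, germM_res]
  exact Submodule.smul_mem _ _ (Submodule.subset_span ⟨k, rfl⟩)

/-- An element of the span of finitely many germs is a combination near the point. -/
theorem exists_nhd_comb {M : X.Modules} {A V : X.Opens} {ι : Type u} [Fintype ι] (σ : ι → Γ(M, A)) (s : Γ(M, V))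
    {z : X} (hzA : z ∈ A) (hzV : z ∈ V)
    (h : germM M V z hzV s ∈ Submodule.span (X.presheaf.stalk z) (Set.range fun j => germM M A z hzA (σ j))) :
    ∃ (N : X.Opens) (hA : N ≤ A) (hV : N ≤ V) (b : ι → Γ(X, N)), z ∈ N ∧
      res M hV s = ∑ j, b j • res M hA (σ j) := by
  obtain ⟨c, hc⟩ := (Submodule.mem_span_range_iff_exists_fun _).1 h
  obtain ⟨n, ⟨eq⟩⟩ : ∃ n, Nonempty (ι ≃ Fin n) := ⟨_, ⟨Fintype.equivFin ι⟩⟩
  obtain ⟨W, hWA, hzW, a, ha⟩ := exists_common_lift (U := A ⊓ V) (y := z) ⟨hzA, hzV⟩ fun i => c (eq.symm i)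
  have hWA' : W ≤ A := hWA.trans inf_le_left
  have hWV' : W ≤ V := hWA.trans inf_le_right
  have h0 : germM M W z hzW (res M hWV' s - ∑ j, a (eq j) • res M hWA' (σ j)) = 0 := by
    rw [show germM M W z hzW (res M hWV' s - ∑ j, a (eq j) • res M hWA' (σ j)) =
      germM M W z hzW (res M hWV' s) - germM M W z hzW (∑ j, a (eq j) • res M hWA' (σ j)) from map_sub _ _ _,
      germM_sum, germM_res, sub_eq_zero, ← hc]
    refine Finset.sum_congr rfl fun j _ => ?_
    rw [germM_smul, germM_res, ha, Equiv.symm_apply_apply]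
  obtain ⟨N, hN, hzN, hN0⟩ := germM_eq_zero h0
  refine ⟨N, hN.trans hWA', hN.trans hWV', fun j => resO X hN (a (eq j)), hzN, ?_⟩
  rw [show res M hN (res M hWV' s - ∑ j, a (eq j) • res M hWA' (σ j)) =
    res M hN (res M hWV' s) - res M hN (∑ j, a (eq j) • res M hWA' (σ j)) from map_sub _ _ _,
    sub_eq_zero, res_res, res_sum] at hN0
  rw [hN0]
  exact Finset.sum_congr rfl fun j _ => by rw [res_smul, res_res]

end Groth.Agent.FlatMor67.NilStalk
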