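import Groth.Agent.FlatMor67.NilPC
import Groth.Agent.RelPC41.BaseChange
import Groth.Agent.TorStalk41.Stalk
import Groth.Agent.Div89.Comap

/-!
Tor amplitude relative to the base is reflected along thickenings of the base.
-/

set_option autoImplicit false
set_option backward.isDefEq.respectTransparency.types false
set_option linter.style.haveILetI false
set_option linter.unusedSectionVars false
set_option maxHeartbeats 1000000

noncomputable section

universe u

open CategoryTheory Limits AlgebraicGeometry TopologicalSpace Opposite DerivedCategory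
open Groth.Agent.DCX42
open scoped TensorProduct
attribute [local instance] HasDerivedCategory.standard

namespace Groth.Agent.FlatMor67.NilTA

open DR39 NilStalk NilLpull

/-- A surjection with extended kernel is a pushout. -/
theorem isPushout_of_ker {R' R A' A : Type u} [CommRing R'] [CommRing R] [CommRing A'] [CommRing A]
    [Algebra R' R] [Algebra R' A'] [Algebra R' A] [Algebra R A] [Algebra A' A] [IsScalarTower R' R A]
    [IsScalarTower R' A' A] (hR : Function.Surjective (algebraMap R' R))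
    (hA : Function.Surjective (algebraMap A' A))
    (hker : RingHom.ker (algebraMap A' A) = (RingHom.ker (algebraMap R' R)).map (algebraMap R' A')) :
    Algebra.IsPushout R' R A' A := by
  let Φ : R ⊗[R'] A' →ₐ[R'] A :=
    Algebra.TensorProduct.lift (IsScalarTower.toAlgHom R' R A) (IsScalarTower.toAlgHom R' A' A) fun _ _ => Commute.all _ _
  have hΦ : ∀ (r : R) (a : A'), Φ (r ⊗ₜ a) = algebraMap R A r * algebraMap A' A a := fun r a => by
    simp [Φ]
  have hone : ∀ z : R ⊗[R'] A', ∃ a : A', z = 1 ⊗ₜ a := by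
    intro z
    induction z using TensorProduct.induction_on with
    | zero => exact ⟨0, by simp⟩
    | tmul r a =>
      obtain ⟨s, rfl⟩ := hR r
      exact ⟨s • a, by rw [Algebra.algebraMap_eq_smul_one, TensorProduct.smul_tmul]⟩
    | add x y hx hy =>
      obtain ⟨a, rfl⟩ := hx
      obtain ⟨b, rfl⟩ := hy
      exact ⟨a + b, by rw [TensorProduct.tmul_add]⟩
  have hbij : Function.Bijective Φ := by
    refine ⟨(injective_iff_map_eq_zero Φ).2 fun z hz => ?_, fun a => ?_⟩
    · obtain ⟨a, rfl⟩ := hone z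
      rw [hΦ, map_one, one_mul] at hz
      have ha : a ∈ (RingHom.ker (algebraMap R' R)).map (algebraMap R' A') := hker ▸ hz
      clear hz
      induction ha using Submodule.span_induction with
      | mem x hx =>
        obtain ⟨r, hr, rfl⟩ := hx
        rw [Algebra.algebraMap_eq_smul_one, ← TensorProduct.smul_tmul, ← Algebra.algebraMap_eq_smul_one,
          RingHom.mem_ker.1 hr, TensorProduct.zero_tmul]
      | zero => simp
      | add x y _ _ hx hy => rw [TensorProduct.tmul_add, hx, hy, add_zero]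
      | smul c x _ hx =>
        rw [smul_eq_mul, show (1 : R) ⊗ₜ[R'] (c * x) = ((1 : R) ⊗ₜ c) * (1 ⊗ₜ x) by
          rw [Algebra.TensorProduct.tmul_mul_tmul, one_mul], hx, mul_zero]
    · obtain ⟨a', rfl⟩ := hA a
      exact ⟨1 ⊗ₜ a', by rw [hΦ, map_one, one_mul]⟩
  let e₀ : R ⊗[R'] A' ≃ₐ[R] A :=
    AlgEquiv.ofRingEquiv (f := RingEquiv.ofBijective Φ.toRingHom hbij) fun r => by
      show Φ (r ⊗ₜ 1) = _
      rw [hΦ, map_one, mul_one]
  letI : Algebra A' (R ⊗[R'] A') := Algebra.TensorProduct.rightAlgebra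
  exact Algebra.IsPushout.of_equiv e₀ (RingHom.ext fun a => by
    show Φ (1 ⊗ₜ a) = _
    rw [hΦ, map_one, one_mul])

/-- Tor amplitude over the base descends from the thickened base. -/
theorem ta_descend {R' R A' A : Type u} [CommRing R'] [CommRing R] [CommRing A'] [CommRing A]
    [Algebra R' R] [Algebra R' A'] [Algebra R' A] [Algebra R A] [Algebra A' A] [IsScalarTower R' R A]
    [IsScalarTower R' A' A] [Algebra.IsPushout R' R A' A] [Module.Flat R' A']
    (hR : Function.Surjective (algebraMap R' R)) (hn : IsNilpotent (RingHom.ker (algebraMap R' R)))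
    (hA : Function.Surjective (algebraMap A' A)) (hnA : IsNilpotent (RingHom.ker (algebraMap A' A)))
    [DRing.HasLBaseChange (algebraMap A' A)] (M : Dual.D A') {a b : ℤ}
    (h : TA a b ((DRing.restrictD (algebraMap R A)).obj ((DRing.LBaseChange (algebraMap A' A)).obj M))) :
    TA a b ((DRing.restrictD (algebraMap R' A')).obj M) := by
  haveI := DCX42.hasLBaseChange (algebraMap R' R)
  have hb : Acyc (b + 1) M := acyc_of_LBaseChange hA hnA ((RelPC41.acyc_restrictD_iff _ _ _).1 h.acyc)
  obtain ⟨E, hE1, hE2, ⟨eE⟩⟩ := rep_free_of_acyc hb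
  have hEk : DRing.IsKFlat A' E := isKFlat_of_rep (fun M => flat_of_FR) hE1 hE2
  have hfl : (algebraMap R' A').Flat := RingHom.flat_algebraMap_iff.2 inferInstance
  have hres : DRing.IsKFlat R' ((DRing.restrictCx (algebraMap R' A')).obj E) :=
    isKFlat_of_flat b (fun i hi => (ModuleCat.restrictScalars (algebraMap R' A')).map_isZero
        (hE1 i fun hm => absurd (Set.mem_Iic.1 hm) (by omega)))
      fun i => TorStalk41.flat_restrictScalars _ hfl (E.X i) (flat_of_FR (hE2 i))
  obtain ⟨ν⟩ := RelPC41.pushoutNatIso R' R A' A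
  let e1 := (NatIso.mapHomologicalComplex ν (ComplexShape.up ℤ)).app E
  refine TA.of_iso (ta_of_LBaseChange hR hn (a := a) (b := b) (K := (QA R').obj ((DRing.restrictCx (algebraMap R' A')).obj E)) ?_)
    ((restrictDIso _ E).symm ≪≫ (DRing.restrictD _).mapIso eE)
  refine h.of_iso ?_
  exact (DRing.restrictD _).mapIso ((DRing.LBaseChange _).mapIso eE.symm ≪≫ LBaseChangeIso _ E hEk) ≪≫
    restrictDIso _ _ ≪≫ (QA R).mapIso e1 ≪≫ (LBaseChangeIso (algebraMap R' R) _ hres).symm

variable {X X' Y Y' : Scheme.{u}}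

/-- The kernel on stalks of a closed immersion, along an equality of points. -/
theorem ker_congr_stalkMap (j : Y ⟶ Y') [IsClosedImmersion j] (y₀ : Y) : ∀ (y : Y') (h : y = j y₀),
    RingHom.ker ((j.stalkMap y₀).hom.comp (Y'.presheaf.stalkCongr (Inseparable.of_eq h)).hom.hom) =
      Groth.Agent.Div89.stalkIdeal j.ker y := by
  rintro y rfl
  rw [← FlatMor68.FlatInfNbhd.ker_stalkMap_closedImmersion]
  simp

/-- Stalks of a nilpotent ideal sheaf are nilpotent. -/
theorem stalkIdeal_pow_eq_bot {Z : Scheme.{u}} (I : Z.IdealSheafData) {n : ℕ} (h : I ^ n = 0) (z : Z) :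
    Groth.Agent.Div89.stalkIdeal I z ^ n = ⊥ := by
  obtain ⟨U, hU⟩ := Groth.Agent.Div89.exists_affine_mem z
  rw [Groth.Agent.Div89.stalkIdeal_eq _ U _ hU, ← Ideal.map_pow]
  have h' := congrArg (fun I : Z.IdealSheafData => I.ideal U) h
  simp only [Scheme.IdealSheafData.ideal_pow, Pi.pow_apply] at h'
  rw [h']
  exact Ideal.map_bot

/-- Thickenings of the base give thickenings. -/
theorem stalkNil_of_isPullback {f : X ⟶ Y} {f' : X' ⟶ Y'} {i : X ⟶ X'} {j : Y ⟶ Y'} (sq : IsPullback i f f' j)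
    (hj : MoreMor.IsFiniteOrderThickening j) : StalkNil i := by
  haveI := hj.1.1
  haveI : IsClosedImmersion i := MorphismProperty.of_isPullback sq.flip ‹_›
  haveI := hj.1.2
  haveI : Surjective i := MorphismProperty.of_isPullback sq.flip ‹_›
  refine ⟨‹_›, ‹_›, fun x => ?_⟩
  obtain ⟨n, hn⟩ := hj.2
  refine ⟨n, ?_⟩
  have hk : i.ker = j.ker.comap f' := by
    rw [← sq.isoPullback_hom_fst, Scheme.Hom.ker_comp_of_isIso, Scheme.IdealSheafData.ker_fst_of_isClosedImmersion]
  rw [FlatMor68.FlatInfNbhd.ker_stalkMap_closedImmersion, hk, Groth.Agent.Div89.stalkIdeal_comap, ← Ideal.map_pow,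
    stalkIdeal_pow_eq_bot _ hn]
  exact Ideal.map_bot

/-- Tor amplitude at a point, from the thickened base. -/
theorem hasTorAmplitudeAt_of_thickening (f : X ⟶ Y) (f' : X' ⟶ Y') (i : X ⟶ X') (j : Y ⟶ Y')
    (sq : IsPullback i f f' j) [Flat f'] (hj : MoreMor.IsFiniteOrderThickening j)
    (P : CochainComplex X'.Modules ℤ) (hP : DCoh.IsKFlat P) (x : X) {a b : ℤ}
    (h : DerSch.HasTorAmplitudeAt f a b (((Scheme.Modules.pullback i).mapHomologicalComplex (ComplexShape.up ℤ)).obj P) x) :
    DerSch.HasTorAmplitudeAt f' a b P (i x) := by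
  haveI := hj.1.1
  haveI hi := stalkNil_of_isPullback sq hj
  haveI := hi.isClosedImmersion
  have hy : f' (i x) = j (f x) := congr($(sq.w).base x)
  let ψ := (j.stalkMap (f x)).hom.comp (Y'.presheaf.stalkCongr (Inseparable.of_eq hy)).hom.hom
  letI : Algebra (Y'.presheaf.stalk (f' (i x))) (Y.presheaf.stalk (f x)) := ψ.toAlgebra
  letI : Algebra (Y'.presheaf.stalk (f' (i x))) (X'.presheaf.stalk (i x)) := (f'.stalkMap (i x)).hom.toAlgebra
  letI : Algebra (Y.presheaf.stalk (f x)) (X.presheaf.stalk x) := (f.stalkMap x).hom.toAlgebra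
  letI : Algebra (X'.presheaf.stalk (i x)) (X.presheaf.stalk x) := (i.stalkMap x).hom.toAlgebra
  letI : Algebra (Y'.presheaf.stalk (f' (i x))) (X.presheaf.stalk x) :=
    ((i.stalkMap x).hom.comp (f'.stalkMap (i x)).hom).toAlgebra
  haveI : IsScalarTower (Y'.presheaf.stalk (f' (i x))) (X'.presheaf.stalk (i x)) (X.presheaf.stalk x) :=
    IsScalarTower.of_algebraMap_eq' rfl
  haveI : IsScalarTower (Y'.presheaf.stalk (f' (i x))) (Y.presheaf.stalk (f x)) (X.presheaf.stalk x) :=
    IsScalarTower.of_algebraMap_eq' (by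
      have h1 := Scheme.Hom.stalkMap_congr_hom (i ≫ f') (f ≫ j) sq.w x
      rw [Scheme.Hom.stalkMap_comp, Scheme.Hom.stalkMap_comp] at h1
      exact congrArg (fun t => t.hom) h1)
  haveI : Module.Flat (Y'.presheaf.stalk (f' (i x))) (X'.presheaf.stalk (i x)) := Flat.stalkMap f' (i x)
  have hψs : Function.Surjective ψ :=
    (j.stalkMap_surjective (f x)).comp
      (ConcreteCategory.bijective_of_isIso (Y'.presheaf.stalkCongr (Inseparable.of_eq hy)).hom).2
  have hkerψ : RingHom.ker ψ = Groth.Agent.Div89.stalkIdeal j.ker (f' (i x)) := ker_congr_stalkMap j (f x) _ hy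
  have hψn : IsNilpotent (RingHom.ker ψ) := by
    obtain ⟨n, hn⟩ := hj.2
    refine ⟨n, ?_⟩
    rw [hkerψ, stalkIdeal_pow_eq_bot _ hn]
    rfl
  have hker : RingHom.ker (i.stalkMap x).hom = (RingHom.ker ψ).map (f'.stalkMap (i x)).hom := by
    rw [FlatMor68.FlatInfNbhd.ker_stalkMap_closedImmersion, hkerψ, ← Groth.Agent.Div89.stalkIdeal_comap,
      ← sq.isoPullback_hom_fst, Scheme.Hom.ker_comp_of_isIso, Scheme.IdealSheafData.ker_fst_of_isClosedImmersion]
  haveI := isPushout_of_ker (R' := Y'.presheaf.stalk (f' (i x))) (R := Y.presheaf.stalk (f x))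
    (A' := X'.presheaf.stalk (i x)) (A := X.presheaf.stalk x) hψs (i.stalkMap_surjective x) hker
  haveI := DCX42.hasLBaseChange (i.stalkMap x).hom
  haveI : DRing.HasLBaseChange (algebraMap (X'.presheaf.stalk (i x)) (X.presheaf.stalk x)) :=
    DCX42.hasLBaseChange _
  have hMk : DRing.IsKFlat (X'.presheaf.stalk (i x)) ((DCK91.SPc (i x)).obj P) := DCK91.isKFlat_stalk hP _
  refine TA.of_iso (ta_descend (R := Y.presheaf.stalk (f x)) (A := X.presheaf.stalk x) hψs hψn
    (i.stalkMap_surjective x) (hi.isNilpotent_ker x) ((QA _).obj ((DCK91.SPc (i x)).obj P)) (a := a) (b := b) ?_)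
    (restrictDIso (f'.stalkMap (i x)).hom _)
  exact TA.of_iso h ((QA _).mapIso (((DRing.restrictCx (f.stalkMap x).hom).mapIso (stalkPullIso i x P)).symm) ≪≫
    (restrictDIso (f.stalkMap x).hom _).symm ≪≫
    (DRing.restrictD _).mapIso (LBaseChangeIso (algebraMap (X'.presheaf.stalk (i x)) (X.presheaf.stalk x)) _ hMk).symm)

/-- Local finiteness of tor amplitude is reflected along thickenings of the base. -/
theorem locFiniteTorAmplitudeD_of_thickening (f : X ⟶ Y) (f' : X' ⟶ Y') (i : X ⟶ X') (j : Y ⟶ Y')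
    (sq : IsPullback i f f' j) [Flat f'] (hj : MoreMor.IsFiniteOrderThickening j) [DCoh.HasLpull i]
    (E : DCoh.D X') (F : CochainComplex X.Modules ℤ) (e : DCoh.toD X F ≅ (DCoh.Lpull i).obj E)
    (h : DerSch.LocFiniteTorAmplitude f F) : DerSch.LocFiniteTorAmplitudeD f' E := by
  rintro G ⟨eG⟩
  haveI hi := stalkNil_of_isPullback sq hj
  haveI := hi.isClosedImmersion
  haveI := hi.surjective
  obtain ⟨P, p, hP, -, hp, -⟩ := Mod48.exists_resolution (O := X'.sheaf) G
  have hp' : IsIso (DerivedCategory.Q.map (C := CochainComplex X'.Modules ℤ) p) :=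
    (DerivedCategory.isIso_Q_map_iff_quasiIso X'.Modules p).2 hp
  let eP : DCoh.toD X' P ≅ DCoh.toD X' G := @asIso _ _ _ _ (DerivedCategory.Q.map (C := CochainComplex X'.Modules ℤ) p) hp'
  obtain ⟨eL⟩ := DCK91.nonempty_lpullIso i P hP
  let eF : DCoh.toD X F ≅ DCoh.toD X (((Scheme.Modules.pullback i).mapHomologicalComplex (ComplexShape.up ℤ)).obj P) :=
    e ≪≫ (DCoh.Lpull i).mapIso (eP ≪≫ eG).symm ≪≫ eL
  intro x'
  obtain ⟨x, rfl⟩ := i.surjective x'
  obtain ⟨V, a, b, hxV, hV⟩ := h x
  let hh : X ≃ₜ X' := (i.isClosedEmbedding.isEmbedding.toHomeomorphOfSurjective i.surjective)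
  refine ⟨⟨hh '' V, hh.isOpenMap _ V.2⟩, a, b, ⟨x, hxV, rfl⟩, ?_⟩
  rintro _ ⟨z, hz, rfl⟩
  exact TorStalk41.hasTorAmplitudeAt_congr f' (i z) eP
    (hasTorAmplitudeAt_of_thickening f f' i j sq hj P hP z (TorStalk41.hasTorAmplitudeAt_congr f z eF (hV z hz)))

end Groth.Agent.FlatMor67.NilTA
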