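import Groth.Agent.FlatMor67.PCFinite
import Mathlib.RingTheory.Unramified.Finite
import Mathlib.RingTheory.RingHom.StandardSmooth
import Mathlib.AlgebraicGeometry.Morphisms.Smooth

/-! Cancellation of perfect morphisms along smooth morphisms. -/

set_option autoImplicit false
set_option backward.isDefEq.respectTransparency.types false
set_option linter.style.haveILetI false

universe u

open CategoryTheory Limits AlgebraicGeometry TensorProduct

attribute [local instance] HasDerivedCategory.standard

namespace Groth.Agent.FlatMor67.PCSm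

open DR39 PCM PCH PCS

theorem flat_of_etale {P B : Type u} [CommRing P] [CommRing B] [Algebra P B] [Algebra.Etale P B] :
    Module.Flat P B := inferInstance

/-- Tor amplitude passes up along etale maps. -/
theorem ta_etale {P B : Type u} [CommRing P] [CommRing B] [Algebra P B] [Algebra.Etale P B]
    (C : Type u) [AddCommGroup C] [Module P C] [Module B C] [IsScalarTower P B C] {a b : ℤ}
    (h : TA a b (Dual.inD P C)) : TA a b (Dual.inD B C) := by
  haveI : Algebra.EssFiniteType P B := inferInstance
  obtain ⟨e⟩ := rep_inD_baseChange (A := P) (B := B) C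
  let F := DerivedCategory.singleFunctor (ModuleCat.{u} B) 0
  refine TA.of_retract (TA.of_iso (ta_map h) e)
    (F.map (ModuleCat.ofHom (Algebra.FormallyUnramified.sec P B C)))
    (F.map (ModuleCat.ofHom (TensorProduct.AlgebraTensorModule.lift
      ((Algebra.lsmul B B C).toLinearMap.flip.restrictScalars P).flip))) ?_
  rw [← F.map_comp, ← ModuleCat.ofHom_comp, Algebra.FormallyUnramified.comp_sec]
  exact F.map_id _

theorem pfH_cancel_standardSmooth {A B C : Type u} [CommRing A] [CommRing B] [CommRing C]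
    {f : A →+* B} {g : B →+* C} (hf : f.IsStandardSmooth) (hfg : pfH (g.comp f)) (hg : pcH g) : pfH g := by
  obtain ⟨n, h, hh, het⟩ := hf.exists_etale_mvPolynomial
  letI := f.toAlgebra
  letI := g.toAlgebra
  letI := (g.comp f).toAlgebra
  letI := h.toAlgebra
  letI := (g.comp h).toAlgebra
  haveI : Algebra.Etale (MvPolynomial (Fin n) A) B := het
  haveI : IsScalarTower (MvPolynomial (Fin n) A) B C := IsScalarTower.of_algebraMap_eq fun _ => rfl
  haveI : IsScalarTower A (MvPolynomial (Fin n) A) C := IsScalarTower.of_algebraMap_eq fun a => by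
    show g (f a) = g (h (MvPolynomial.C a))
    rw [← hh]; rfl
  obtain ⟨d, hd⟩ := hfg.2
  exact ⟨hg, d + n, (hasTorDimLE_iff C _).2
    ((ta_etale (P := MvPolynomial (Fin n) A) (B := B) C
      (LCI19.ta_mvPolynomial n C ((hasTorDimLE_iff C d).1 hd))).mono (by push_cast; omega) le_rfl)⟩

theorem pfMor_cancel_smooth {X Y S : Scheme.{u}} (f : X ⟶ Y) (g : Y ⟶ S) [Smooth g]
    (h : MoreMor.IsPerfectMor (f ≫ g)) : MoreMor.IsPerfectMor f := by
  have hg : MoreMor.IsPseudoCoherentMor g := by
    intro U V hU hV e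
    letI := (g.appLE V U e).hom.toAlgebra
    haveI : Module.Flat Γ(S, V) Γ(Y, U) := Flat.flat_appLE g hV hU e
    haveI : Algebra.FinitePresentation Γ(S, V) Γ(Y, U) :=
      LocallyOfFinitePresentation.finitePresentation_appLE g hV hU e
    exact (FlatMor68.PerfHom.t7068 _ _).1
  have hpc : MoreMor.IsPseudoCoherentMor f := pcMor_cancel f g (fun U V hU hV e => (h U V hU hV e).1) hg
  refine (pfMor_iff_exists f).2 fun x => ?_
  obtain ⟨W, hW, V, hV, hxV, hVW, hsm⟩ := Smooth.exists_isStandardSmooth g (f x)
  obtain ⟨_, ⟨U, hU, rfl⟩, hxU, hUV⟩ :=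
    X.isBasis_affineOpens.exists_subset_of_mem_open (show x ∈ f ⁻¹ᵁ V from hxV) (f ⁻¹ᵁ V).isOpen
  refine ⟨U, V, hUV, hU, hV, hxU, pfH_cancel_standardSmooth hsm ?_ (hpc U V hU hV hUV)⟩
  rw [← CommRingCat.hom_comp, Scheme.Hom.appLE_comp_appLE]
  exact h U W hU hW _

end Groth.Agent.FlatMor67.PCSm
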