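import Groth.Agent.FlatMor67.PCScheme
import Groth.Agent.FlatMor68.PerfKoszul
import Mathlib.RingTheory.Spectrum.Prime.FreeLocus
import Mathlib.RingTheory.Flat.Equalizer
import Mathlib.RingTheory.Localization.BaseChange

/-! Perfection of a pseudo-coherent morphism is detected on stalks. -/

set_option autoImplicit false
set_option backward.isDefEq.respectTransparency.types false
set_option linter.style.haveILetI false

universe u

open CategoryTheory Limits AlgebraicGeometry TensorProduct

attribute [local instance] HasDerivedCategory.standard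

namespace Groth.Agent.FlatMor67.PCStalk

open DR39 PCM PCH PCS

/-- A module over a localization is its own base change. -/
theorem loc_self {P : Type u} [CommRing P] (T : Submonoid P) (L : Type u) [CommRing L] [Algebra P L]
    [IsLocalization T L] (S : Type u) [AddCommGroup S] [Module L S] [Module P S] [IsScalarTower P L S] :
    Nonempty ((L ⊗[P] S) ≃ₗ[L] S) := by
  haveI : IsLocalizedModule T (LinearMap.id : S →ₗ[P] S) :=
    { map_units := fun x => by
        obtain ⟨v, hv⟩ := (IsLocalization.map_units L x).exists_left_inv
        rw [Module.End.isUnit_iff]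
        refine Function.bijective_iff_has_inverse.2 ⟨fun s => v • s, fun s => ?_, fun s => ?_⟩
        · show v • ((x : P) • s) = s
          rw [← algebraMap_smul L (x : P) s, smul_smul, hv, one_smul]
        · show (x : P) • (v • s) = s
          rw [← algebraMap_smul L (x : P) (v • s), smul_smul, mul_comm, hv, one_smul]
      surj := fun y => ⟨(y, 1), by simp⟩
      exists_of_eq := fun {x y} hxy => ⟨1, by simpa using hxy⟩ }
  exact ⟨(IsLocalizedModule.isBaseChange T L (LinearMap.id : S →ₗ[P] S)).equiv⟩

/-- Tor amplitude of a module over a localization. -/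
theorem ta_localize {P : Type u} [CommRing P] (T : Submonoid P) (L : Type u) [CommRing L] [Algebra P L]
    [IsLocalization T L] (S : Type u) [AddCommGroup S] [Module L S] [Module P S] [IsScalarTower P L S]
    {a b : ℤ} (h : TA a b (Dual.inD P S)) : TA a b (Dual.inD L S) := by
  haveI : Module.Flat P L := IsLocalization.flat L T
  obtain ⟨e⟩ := loc_self T L S
  obtain ⟨e'⟩ := rep_inD_baseChange (A := P) (B := L) S
  exact TA.of_iso (ta_map h) (e' ≪≫ inDIso e)

/-- Finite tor dimension in the form of tor amplitude. -/
theorem finiteTorDim_iff_ta {A : Type u} [CommRing A] (M : Type u) [AddCommGroup M] [Module A M] :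
    DRing.HasFiniteTorDim A M ↔ ∃ d : ℕ, TA (-(d : ℤ)) 0 (Dual.inD A M) :=
  exists_congr fun d => hasTorDimLE_iff M d

theorem finiteTorDim_congr {A : Type u} [CommRing A] {M N : Type u} [AddCommGroup M] [Module A M]
    [AddCommGroup N] [Module A N] (e : M ≃ₗ[A] N) (h : DRing.HasFiniteTorDim A M) :
    DRing.HasFiniteTorDim A N := by
  obtain ⟨d, hd⟩ := (finiteTorDim_iff_ta M).1 h
  exact (finiteTorDim_iff_ta N).2 ⟨d, TA.of_iso hd (inDIso e)⟩

/-- Finite tor dimension of a ring homomorphism. -/
def ftdH {A B : Type u} [CommRing A] [CommRing B] (f : A →+* B) : Prop :=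
  letI := f.toAlgebra; DRing.HasFiniteTorDim A B

theorem ftdH_respectsIso : RingHom.RespectsIso @ftdH where
  left {R S T} _ _ _ f e hf := by
    letI := f.toAlgebra
    letI := (e.toRingHom.comp f).toAlgebra
    let l : S ≃ₗ[R] T := { e.toAddEquiv with map_smul' := fun r x => e.map_mul (f r) x }
    exact finiteTorDim_congr l hf
  right {R S T} _ _ _ f e hf := by
    letI := f.toAlgebra
    letI := (f.comp e.toRingHom).toAlgebra
    obtain ⟨d, hd⟩ := (finiteTorDim_iff_ta T).1 hf
    refine (finiteTorDim_iff_ta T).2 ⟨d, LCI19.ta_of_ringEquiv e.symm T (fun a m => ?_) hd⟩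
    show f (e (e.symm a)) * m = f a * m
    rw [e.apply_symm_apply]

theorem exists_away_perfect {P : Type u} [CommRing P] (Q : Ideal P) [Q.IsPrime] : ∀ (d : ℕ) (M : Type u)
    [AddCommGroup M] [Module P M], DRing.IsPseudoCoherentModule' P M →
    TA (-(d : ℤ)) 0 (Dual.inD (Localization.AtPrime Q) (Localization.AtPrime Q ⊗[P] M)) →
    ∃ g : P, g ∉ Q ∧ DRing.IsPerfectModule (Localization.Away g) (Localization.Away g ⊗[P] M) := by
  intro d
  induction d with
  | zero =>
    intro M _ _ hpc h
    haveI : Module.FinitePresentation P M := (pcModule_negOne_iff M).1 (pc_of_pc' hpc _)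
    haveI : Module.Flat (Localization.AtPrime Q) (Localization.AtPrime Q ⊗[P] M) :=
      LCI19.flat_of_ta le_rfl (by simpa using h)
    haveI : Module.Finite P M := inferInstance
    have hmem : (⟨Q, inferInstance⟩ : PrimeSpectrum P) ∈ Module.freeLocus P M := by
      rw [Module.mem_freeLocus_iff_tensor _ (Localization.AtPrime Q)]
      exact Module.free_of_flat_of_isLocalRing
    obtain ⟨_, ⟨_, ⟨g, rfl⟩, rfl⟩, hg, hsub⟩ :=
      PrimeSpectrum.isBasis_basic_opens.exists_subset_of_mem_open hmem Module.isOpen_freeLocus
    haveI := (Module.basicOpen_subset_freeLocus_iff (f := g)).1 hsub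
    let e := (IsLocalizedModule.isBaseChange (Submonoid.powers g) (Localization.Away g)
      (LocalizedModule.mkLinearMap (Submonoid.powers g) M)).equiv
    haveI : Module.Projective (Localization.Away g) (Localization.Away g ⊗[P] M) :=
      Module.Projective.of_equiv e.symm
    exact ⟨g, hg, FlatMor68.PerfKoszul.perfect_inD_free _⟩
  | succ d ih =>
    intro M _ _ hpc h
    haveI : Module.Finite P M := (pcModule_zero_iff M).1 (pc_of_pc' hpc _)
    obtain ⟨n, φ, hφ⟩ := Module.Finite.exists_fin' P M
    let L := Localization.AtPrime Q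
    haveI : Module.Flat P L := IsLocalization.flat L Q.primeCompl
    have hK : DRing.IsPseudoCoherentModule' P (LinearMap.ker φ) := by
      obtain ⟨T, hT, e1, e2, e3⟩ := exists_triangle_of_surjective φ hφ
      refine (pc'_iff_forall_pc _).2 fun m => ?_
      have h1 : PC (m - 1 + 1) T.obj₁ :=
        PC.obj₁ hT (by rw [e2]; exact pc_of_bff (bff_inD_of_free _)) (by rw [e3]; exact pc_of_pc' hpc _)
      rw [e1] at h1
      exact h1.mono (by omega)
    have hker : TA (-(d : ℤ)) 0 (Dual.inD L (L ⊗[P] LinearMap.ker φ)) := by
      refine TA.of_iso (LCI19.ta_ker (TensorProduct.AlgebraTensorModule.lTensor L L φ)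
        (LinearMap.lTensor_surjective L hφ) d ?_) (inDIso (LinearMap.tensorKerEquiv L L φ).symm)
      exact h.mono (by push_cast; omega) le_rfl
    obtain ⟨g, hg, hp⟩ := ih _ hK hker
    refine ⟨g, hg, ?_⟩
    let G := Localization.Away g
    haveI : Module.Flat P G := IsLocalization.flat G (Submonoid.powers g)
    obtain ⟨T, hT, e1, e2, e3⟩ := exists_triangle_of_surjective
      (TensorProduct.AlgebraTensorModule.lTensor G G φ) (LinearMap.lTensor_surjective G hφ)
    show DRing.IsPerfect G (Dual.inD G (G ⊗[P] M))
    rw [← e3]
    refine perfect_obj₃ hT ?_ ?_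
    · rw [e1]
      exact perfect_of_iso hp (inDIso (LinearMap.tensorKerEquiv G G φ))
    · rw [e2]
      exact FlatMor68.PerfKoszul.perfect_inD_free _

section

variable {A B : Type u} [CommRing A] [CommRing B] [Algebra A B]

/-- A perfect ring map has localizations of finite tor dimension. -/
theorem ftd_local (h : MoreMor.IsPerfectHom A B) (J : Ideal B) [J.IsPrime] :
    ftdH (Localization.localRingHom _ J (algebraMap A B) rfl) := by
  let p := J.comap (algebraMap A B)
  letI : Algebra (Localization.AtPrime p) (Localization.AtPrime J) :=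
    (Localization.localRingHom _ J (algebraMap A B) rfl).toAlgebra
  haveI : IsScalarTower A (Localization.AtPrime p) (Localization.AtPrime J) :=
    IsScalarTower.of_algebraMap_eq fun a => by
      show _ = Localization.localRingHom _ J (algebraMap A B) rfl (algebraMap A _ a)
      rw [Localization.localRingHom_to_map, ← IsScalarTower.algebraMap_apply]
  obtain ⟨d, hd⟩ := (finiteTorDim_iff_ta B).1 h.2
  haveI : Module.Flat B (Localization.AtPrime J) := IsLocalization.flat _ J.primeCompl
  have hB : TA (-(d : ℤ)) 0 (Dual.inD A ((ModuleCat.restrictScalars (algebraMap A B)).obj (ModuleCat.of B B))) := by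
    obtain ⟨e⟩ := rest_self_iso (A := A) B
    exact TA.of_iso hd (inDIso e.toLinearEquiv).symm
  obtain ⟨e⟩ := rest_inD (A := A) (B := B) (Localization.AtPrime J)
  have h1 : TA (0 + -(d : ℤ)) (0 + max 0 0) (Dual.inD A (Localization.AtPrime J)) :=
    TA.of_iso (ta_restrict (algebraMap A B) hB (ta_inD_of_flat (A := B) (Localization.AtPrime J))) e
  exact (finiteTorDim_iff_ta _).2 ⟨d, ta_localize p.primeCompl (Localization.AtPrime p) (Localization.AtPrime J)
    (h1.mono (by omega) (by simp))⟩

/-- A pseudo-coherent ring map with all localizations of finite tor dimension is perfect. -/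
theorem perfect_of_ftd_local (hpc : MoreMor.IsPseudoCoherentHom A B)
    (h : ∀ (J : Ideal B) [J.IsPrime], ftdH (Localization.localRingHom _ J (algebraMap A B) rfl)) :
    MoreMor.IsPerfectHom A B := by
  obtain ⟨n, φ, hφ, hB⟩ := hpc
  letI := φ.toRingHom.toAlgebra
  haveI : IsScalarTower A (MvPolynomial (Fin n) A) B := IsScalarTower.of_algHom φ
  let P := MvPolynomial (Fin n) A
  have key : ∀ Q : PrimeSpectrum P, ∃ g : P, g ∉ Q.asIdeal ∧
      DRing.IsPerfectModule (Localization.Away g) (Localization.Away g ⊗[P] B) := by
    intro Q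
    by_cases hQ : RingHom.ker φ.toRingHom ≤ Q.asIdeal
    · let J : Ideal B := Q.asIdeal.map φ.toRingHom
      haveI : J.IsPrime := Ideal.map_isPrime_of_surjective hφ hQ
      have hJc : J.comap (algebraMap P B) = Q.asIdeal :=
        (Ideal.comap_map_of_surjective _ hφ _).trans (sup_eq_left.2 hQ)
      let p := J.comap (algebraMap A B)
      letI : Algebra (Localization.AtPrime p) (Localization.AtPrime J) :=
        (Localization.localRingHom _ J (algebraMap A B) rfl).toAlgebra
      haveI : IsScalarTower A (Localization.AtPrime p) (Localization.AtPrime J) :=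
        IsScalarTower.of_algebraMap_eq fun a => by
          show _ = Localization.localRingHom _ J (algebraMap A B) rfl (algebraMap A _ a)
          rw [Localization.localRingHom_to_map, ← IsScalarTower.algebraMap_apply]
      obtain ⟨d, hd⟩ := (finiteTorDim_iff_ta (Localization.AtPrime J)).1 (h J)
      haveI : Module.Flat A (Localization.AtPrime p) := IsLocalization.flat _ p.primeCompl
      obtain ⟨e⟩ := rest_inD (A := A) (B := Localization.AtPrime p) (Localization.AtPrime J)
      have hA : TA (-(d : ℤ)) 0 (Dual.inD A (Localization.AtPrime J)) := by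
        obtain ⟨e0⟩ := rest_self_iso (A := A) (Localization.AtPrime p)
        have h0 : TA 0 0 (Dual.inD A ((ModuleCat.restrictScalars (algebraMap A (Localization.AtPrime p))).obj
            (ModuleCat.of (Localization.AtPrime p) (Localization.AtPrime p)))) :=
          TA.of_iso (ta_inD_of_flat (A := A) (Localization.AtPrime p)) (inDIso e0.toLinearEquiv).symm
        exact (TA.of_iso (ta_restrict (algebraMap A (Localization.AtPrime p)) h0 hd) e).mono
          (by omega) (by simp)
      haveI : IsScalarTower A P (Localization.AtPrime J) := IsScalarTower.of_algebraMap_eq fun a => by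
        rw [IsScalarTower.algebraMap_apply P B (Localization.AtPrime J),
          ← IsScalarTower.algebraMap_apply A P B, ← IsScalarTower.algebraMap_apply A B (Localization.AtPrime J)]
      have hP := LCI19.ta_mvPolynomial n (Localization.AtPrime J) hA
      haveI : IsLocalization (Algebra.algebraMapSubmonoid B Q.asIdeal.primeCompl) (Localization.AtPrime J) := by
        have heq : Algebra.algebraMapSubmonoid B Q.asIdeal.primeCompl = J.primeCompl := by
          ext b
          constructor
          · rintro ⟨x, hx, rfl⟩ hb
            exact hx (hJc.le hb)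
          · intro hb
            obtain ⟨x, rfl⟩ := hφ b
            exact ⟨x, fun hx => hb (Ideal.mem_map_of_mem _ hx), rfl⟩
        rw [heq]; infer_instance
      haveI : IsLocalizedModule Q.asIdeal.primeCompl (IsScalarTower.toAlgHom P B (Localization.AtPrime J)).toLinearMap :=
        isLocalizedModule_iff_isLocalization.mpr inferInstance
      letI : Algebra (Localization.AtPrime Q.asIdeal) (Localization.AtPrime J) :=
        (Localization.localRingHom Q.asIdeal J (algebraMap P B) hJc.symm).toAlgebra
      haveI : IsScalarTower P (Localization.AtPrime Q.asIdeal) (Localization.AtPrime J) :=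
        IsScalarTower.of_algebraMap_eq fun a => by
          show _ = Localization.localRingHom _ J (algebraMap P B) hJc.symm (algebraMap P _ a)
          rw [Localization.localRingHom_to_map, ← IsScalarTower.algebraMap_apply]
      let eB := (IsLocalizedModule.isBaseChange Q.asIdeal.primeCompl (Localization.AtPrime Q.asIdeal)
        (IsScalarTower.toAlgHom P B (Localization.AtPrime J)).toLinearMap).equiv
      refine exists_away_perfect Q.asIdeal (d + n) B hB ?_
      exact TA.of_iso ((ta_localize Q.asIdeal.primeCompl (Localization.AtPrime Q.asIdeal) _ hP).mono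
        (by push_cast; omega) le_rfl) (inDIso eB.symm)
    · obtain ⟨g, hgk, hg⟩ := SetLike.not_le_iff_exists.1 hQ
      refine ⟨g, hg, ?_⟩
      have hz : ∀ b : B, g • b = 0 := fun b => by
        rw [Algebra.smul_def]
        show φ g * b = 0
        rw [show φ g = 0 from hgk, zero_mul]
      haveI : Subsingleton (Localization.Away g ⊗[P] B) := by
        refine subsingleton_of_forall_eq 0 fun z => ?_
        induction z using TensorProduct.induction_on with
        | zero => rfl
        | add x y hx hy => rw [hx, hy, add_zero]
        | tmul x b =>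
          obtain ⟨v, hv⟩ := (IsLocalization.Away.algebraMap_isUnit (S := Localization.Away g) g).exists_left_inv
          have hx : x = g • (v * x) := by
            rw [Algebra.smul_def, ← mul_assoc, mul_comm _ v, hv, one_mul]
          rw [hx, TensorProduct.smul_tmul, hz, TensorProduct.tmul_zero]
      exact perfect_of_isZero (Functor.map_isZero _ (ModuleCat.isZero_of_subsingleton (ModuleCat.of _ _)))
  choose g hg hP using key
  obtain ⟨s, hs⟩ := (Ideal.span_eq_top_iff_finite (Set.range g)).1 (by
    by_contra hne
    obtain ⟨m, hm, hle⟩ := Ideal.exists_le_maximal _ hne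
    exact hg ⟨m, hm.isPrime⟩ (hle (Ideal.subset_span ⟨_, rfl⟩)))
  let f : Fin s.card → P := fun i => (s.equivFin.symm i).1
  have hf : Ideal.span (Set.range f) = ⊤ := by
    rw [eq_top_iff, ← hs.2]
    exact Ideal.span_mono fun x hx => ⟨s.equivFin ⟨x, hx⟩, by simp [f]⟩
  refine perfectHom_of_module P hφ (perfect_of_away f hf fun i => ?_)
  have hall : ∀ x ∈ Set.range g, DRing.IsPerfectModule (Localization.Away x) (Localization.Away x ⊗[P] B) := by
    rintro _ ⟨q, rfl⟩
    exact hP q
  exact hall _ (hs.1 (s.equivFin.symm i).2)

end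

theorem ftdH_congr {A B : Type u} [CommRing A] [CommRing B] (f : A →+* B) {J J' : Ideal B} (h : J = J')
    [J.IsPrime] [J'.IsPrime] (I : Ideal A) [I.IsPrime] (hI : I = J.comap f)
    (H : ftdH (Localization.localRingHom I J f hI)) : ftdH (Localization.localRingHom _ J' f rfl) := by
  subst h hI
  exact H

theorem pfMor_iff_stalks {X S : Scheme.{u}} (f : X ⟶ S) (hf : MoreMor.IsPseudoCoherentMor f) :
    MoreMor.IsPerfectMor f ↔ ∀ x : X, ftdH (f.stalkMap x).hom := by
  constructor
  · intro h x
    refine HasRingHomProperty.stalkMap_of_respectsIso (P := pfMor) (Q' := @ftdH) ftdH_respectsIso ?_ h x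
    intro R S _ _ f hf J _
    letI := f.toAlgebra
    exact ftd_local hf J
  · intro h U V hU hV e
    letI := (f.appLE V U e).hom.toAlgebra
    refine perfect_of_ftd_local (hf U V hU hV e) fun J hJ => ?_
    let x : U := ⟨hU.fromSpec ⟨J, hJ⟩, hU.range_fromSpec.le ⟨_, rfl⟩⟩
    have hx : (hU.primeIdealOf x).asIdeal = J := by
      rw [show hU.primeIdealOf x = ⟨J, hJ⟩ from
        hU.fromSpec.isOpenEmbedding.injective (hU.fromSpec_primeIdealOf x)]
    exact ftdH_congr _ hx _ congr($(IsAffineOpen.comap_primeIdealOf_appLE V hV U hU e x.2).1).symm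
      ((ftdH_respectsIso.arrow_mk_iso_iff (IsAffineOpen.arrowStalkMapIso f V hV U hU e x.2)).1 (h x.1))

end Groth.Agent.FlatMor67.PCStalk
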