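import Groth.Agent.FlatMor67.PCFinite
import Groth.Agent.FlatMor67.PCStalk
import Groth.Agent.S9436
import Mathlib.RingTheory.Etale.Basic
import Mathlib.RingTheory.Flat.FaithfullyFlat.Algebra

/-!
# Pseudo-coherent and perfect ring maps descend along covers of the source: ring level
-/

set_option autoImplicit false
set_option backward.isDefEq.respectTransparency.types false
set_option linter.style.haveILetI false

universe u

open CategoryTheory CategoryTheory.Limits
open scoped TensorProduct

attribute [local instance] HasDerivedCategory.standard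

namespace Groth.Agent.FlatMor67.PCSource

open DR39 PCM PCH PCS PCStalk PCF

/-- A faithfully flat finite projective algebra has a retraction. -/
theorem exists_retraction {B C : Type u} [CommRing B] [CommRing C] [Algebra B C] [Module.Finite B C]
    [Module.Projective B C] [Module.FaithfullyFlat B C] : ∃ φ : C →ₗ[B] B, φ 1 = 1 := by
  let J : Ideal B := LinearMap.range (LinearMap.applyₗ (1 : C) : (C →ₗ[B] B) →ₗ[B] B)
  suffices hJ : J = ⊤ by
    have h1 : (1 : B) ∈ J := hJ ▸ Submodule.mem_top
    exact h1
  by_contra hne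
  obtain ⟨m, hm, hle⟩ := Ideal.exists_le_maximal J hne
  obtain ⟨s, hs⟩ := Module.projective_def.1 ‹Module.Projective B C›
  have h1 : (1 : C) ∈ m • (⊤ : Submodule B C) := by
    rw [← hs (1 : C), Finsupp.linearCombination_apply, Finsupp.sum]
    refine Submodule.sum_mem _ fun c _ => Submodule.smul_mem_smul (hle ?_) Submodule.mem_top
    exact ⟨(Finsupp.lapply c).comp s, rfl⟩
  refine Module.FaithfullyFlat.submodule_ne_top (M := C) hm (eq_top_iff.2 fun x _ => ?_)
  have h2 : ∀ y ∈ m • (⊤ : Submodule B C), x * y ∈ m • (⊤ : Submodule B C) := fun y hy => by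
    refine Submodule.smul_induction_on hy (fun r hr z _ => ?_) (fun a b ha hb => ?_)
    · rw [mul_smul_comm]
      exact Submodule.smul_mem_smul hr Submodule.mem_top
    · rw [mul_add]
      exact add_mem ha hb
  have := h2 1 h1
  rwa [mul_one] at this

/-- A direct factor of a pseudo-coherent module is pseudo-coherent. -/
theorem pc'_of_retract {A M N : Type u} [CommRing A] [AddCommGroup M] [Module A M] [AddCommGroup N] [Module A N]
    (i : M →ₗ[A] N) (p : N →ₗ[A] M) (h : p.comp i = LinearMap.id) (hN : DRing.IsPseudoCoherentModule' A N) :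
    DRing.IsPseudoCoherentModule' A M := by
  let e : (M × LinearMap.ker p) ≃ₗ[A] N := LinearEquiv.ofLinear
    (i.coprod (LinearMap.ker p).subtype)
    (p.prod (LinearMap.codRestrict (LinearMap.ker p) (LinearMap.id - i.comp p) fun x => by
      simp [LinearMap.mem_ker, show ∀ y, p (i y) = y from fun y => DFunLike.congr_fun h y]))
    (by ext x; simp)
    (by
      have h' : ∀ y, p (i y) = y := fun y => DFunLike.congr_fun h y
      ext x <;> simp [h'])
  let F := DerivedCategory.singleFunctor (ModuleCat.{u} A) 0
  let K := ModuleCat.of A (LinearMap.ker p)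
  haveI : PreservesBinaryBiproducts F := preservesBinaryBiproducts_of_preservesBiproducts F
  let eN : F.obj (ModuleCat.of A M) ⊞ F.obj K ≅ Dual.inD A N :=
    (F.mapBiprod (ModuleCat.of A M) K).symm ≪≫
      F.mapIso ((ModuleCat.biprodIsoProd (ModuleCat.of A M) K) ≪≫ e.toModuleIso)
  exact (pc'_iff_forall_pc _).2 fun n => PC.of_biprod ((pc_of_pc' hN n).of_iso eN.symm)

/-- Finiteness descends along a jointly conservative family of algebras. -/
theorem finite_of_cover {P : Type u} [CommRing P] {ι : Type*} [Finite ι] (R : ι → Type u) [∀ i, CommRing (R i)]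
    [∀ i, Algebra P (R i)] (M : Type u) [AddCommGroup M] [Module P M]
    (hz : ∀ (N : Type u) [AddCommGroup N] [Module P N], (∀ i, Subsingleton (R i ⊗[P] N)) → Subsingleton N)
    (h : ∀ i, Module.Finite (R i) (R i ⊗[P] M)) : Module.Finite P M := by
  classical
  cases nonempty_fintype ι
  have hgen : ∀ i, ∃ T : Finset M, ∀ z : R i ⊗[P] M, z ∈ Submodule.span (R i) ((fun m => (1 : R i) ⊗ₜ[P] m) '' T) := by
    intro i
    obtain ⟨S, hS⟩ := (h i).fg_top
    choose σ hσ using fun z : R i ⊗[P] M => TensorProduct.exists_finset z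
    refine ⟨S.biUnion fun z => (σ z).image Prod.snd, fun z => ?_⟩
    have hz : z ∈ Submodule.span (R i) (S : Set (R i ⊗[P] M)) := hS ▸ Submodule.mem_top
    refine Submodule.span_le.2 (fun w hw => ?_) hz
    rw [SetLike.mem_coe, hσ w]
    refine Submodule.sum_mem _ fun j hj => ?_
    rw [show j.1 ⊗ₜ[P] j.2 = j.1 • ((1 : R i) ⊗ₜ[P] j.2) by rw [TensorProduct.smul_tmul', smul_eq_mul, mul_one]]
    exact Submodule.smul_mem _ _ (Submodule.subset_span
      ⟨j.2, Finset.mem_coe.2 (Finset.mem_biUnion.2 ⟨w, hw, Finset.mem_image_of_mem _ hj⟩), rfl⟩)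
  choose T hT using hgen
  let N : Submodule P M := Submodule.span P (Finset.univ.biUnion T : Finset M)
  suffices hN : Subsingleton (M ⧸ N) by
    rw [Submodule.Quotient.subsingleton_iff] at hN
    exact ⟨⟨_, hN⟩⟩
  refine hz _ fun i => subsingleton_of_forall_eq 0 fun w => ?_
  obtain ⟨z, rfl⟩ := (N.mkQ.baseChange (R i)).range_eq_top.1
    (by rw [LinearMap.range_eq_top]; exact LinearMap.lTensor_surjective _ N.mkQ_surjective) w
  refine Submodule.span_induction ?_ (map_zero _) (fun a b _ _ ha hb => by rw [map_add, ha, hb, add_zero])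
    (fun c a _ ha => by rw [map_smul, ha, smul_zero]) (hT i z)
  rintro _ ⟨m, hm, rfl⟩
  rw [LinearMap.baseChange_tmul, show N.mkQ m = 0 from (Submodule.Quotient.mk_eq_zero N).2
    (Submodule.subset_span (Finset.mem_biUnion.2 ⟨i, Finset.mem_univ i, hm⟩)), TensorProduct.tmul_zero]

variable {A B C : Type u} [CommRing A] [CommRing B] [CommRing C]

/-- The lift of an étale algebra along a surjection, tensored down again. -/
theorem nonempty_tensorEquiv {P : Type u} [CommRing P] [Algebra P B] (φ : Function.Surjective (algebraMap P B))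
    (P' : Type u) [CommRing P'] [Algebra P P'] [Algebra P C] [Algebra P' C] [IsScalarTower P P' C]
    (ψ : (P ⧸ RingHom.ker (algebraMap P B)) ⊗[P] P' ≃+* C)
    (hψ : ∀ (p : P) (x : P'), ψ (Ideal.Quotient.mk _ p ⊗ₜ x) = algebraMap P C p * algebraMap P' C x) :
    Nonempty ((P' ⊗[P] B) ≃ₗ[P'] C) := by
  let e : (P ⧸ RingHom.ker (algebraMap P B)) ≃ₗ[P] B :=
    (Algebra.linearMap P B).quotKerEquivOfSurjective φ
  let L : P' ⊗[P] B ≃+ C := ((TensorProduct.congr (LinearEquiv.refl P P') e.symm).trans
    (TensorProduct.comm P P' _)).toAddEquiv.trans ψ.toAddEquiv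
  refine ⟨L.toLinearEquiv fun a z => ?_⟩
  induction z using TensorProduct.induction_on with
  | zero => simp
  | add x y hx hy => rw [smul_add, map_add, map_add, hx, hy, smul_add]
  | tmul x b =>
    obtain ⟨p, rfl⟩ := φ b
    have he : e.symm (algebraMap P B p) = Ideal.Quotient.mk _ p := by
      rw [LinearEquiv.symm_apply_eq]; rfl
    rw [TensorProduct.smul_tmul', smul_eq_mul]
    show ψ (e.symm (algebraMap P B p) ⊗ₜ (a * x)) = a • ψ (e.symm (algebraMap P B p) ⊗ₜ x)
    rw [he, hψ, hψ, Algebra.smul_def, map_mul]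
    ring

/-- Exactness after tensoring with a faithfully flat algebra is exactness after tensoring with the ring. -/
theorem exT_of_faithfullyFlat {A B : Type u} [CommRing A] [CommRing B] [Algebra A B] (F : DRing.Cx A) (i : ℤ)
    (M : Type u) [AddCommGroup M] [Module A M] [Module B M] [IsScalarTower A B M] [Module.FaithfullyFlat B M]
    (h : ExT F (ModuleCat.of A M) i) : ExT F (ModuleCat.of A B) i := by
  rw [exT_iff_exact] at h ⊢
  have h2 := (Function.Exact.iff_of_ladder_addEquiv (e₁ := cancelX (B := B) (F.X (i - 1)) M)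
    (e₂ := cancelX (B := B) (F.X i) M) (e₃ := cancelX (B := B) (F.X (i + 1)) M)
    (f₁₂ := (((F.d (i - 1) i).hom.baseChange B).lTensor M).toAddMonoidHom)
    (f₂₃ := (((F.d i (i + 1)).hom.baseChange B).lTensor M).toAddMonoidHom)
    (g₁₂ := ((F.d (i - 1) i).hom.rTensor M).toAddMonoidHom)
    (g₂₃ := ((F.d i (i + 1)).hom.rTensor M).toAddMonoidHom) (cancelX_natural _ M) (cancelX_natural _ M)).1 h
  have hB : Function.Exact ((F.d (i - 1) i).hom.baseChange B) ((F.d i (i + 1)).hom.baseChange B) :=
    Module.FaithfullyFlat.lTensor_reflects_exact B M _ _ h2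
  refine (Function.Exact.iff_of_ladder_addEquiv (e₁ := (TensorProduct.comm A (F.X (i - 1)) B).toAddEquiv)
      (e₂ := (TensorProduct.comm A (F.X i) B).toAddEquiv)
      (e₃ := (TensorProduct.comm A (F.X (i + 1)) B).toAddEquiv)
      (f₁₂ := ((F.d (i - 1) i).hom.rTensor B).toAddMonoidHom)
      (f₂₃ := ((F.d i (i + 1)).hom.rTensor B).toAddMonoidHom)
      (g₁₂ := ((F.d (i - 1) i).hom.baseChange B).toAddMonoidHom)
      (g₂₃ := ((F.d i (i + 1)).hom.baseChange B).toAddMonoidHom) ?_ ?_).1 hB
  all_goals
    refine AddMonoidHom.ext fun z => ?_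
    induction z using TensorProduct.induction_on with
    | zero => simp
    | tmul x b => simp
    | add x y hx hy => simp only [map_add, hx, hy]

/-- Finite tor dimension descends along faithfully flat maps of the source. -/
theorem ftdH_of_faithfullyFlat (f : A →+* B) (g : B →+* C) (hg : g.FaithfullyFlat) (h : ftdH (g.comp f)) :
    ftdH f := by
  letI := f.toAlgebra
  letI := g.toAlgebra
  letI := (g.comp f).toAlgebra
  haveI : IsScalarTower A B C := IsScalarTower.of_algebraMap_eq' rfl
  haveI : Module.FaithfullyFlat B C := hg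
  obtain ⟨d, hd⟩ := (finiteTorDim_iff_ta C).1 h
  refine (finiteTorDim_iff_ta B).2 ⟨d, ?_⟩
  rw [ta_inD_iff _ _ _ le_rfl] at hd ⊢
  intro N F c hFb hFp eF i hi
  rw [isZero_tensorCx_iff]
  exact exT_of_faithfullyFlat F i C ((isZero_tensorCx_iff _ _ _).1 (hd N F c hFb hFp eF i hi))

/-- Pseudo-coherence descends along finite flat finitely presented covers of the source. -/
theorem pcH_of_finite_cover [Algebra B C] [Module.Finite B C] [Module.Flat B C] [Module.FaithfullyFlat B C]
    [Algebra.FinitePresentation B C] (f : A →+* B) (hf : f.FiniteType) (h : pcH ((algebraMap B C).comp f)) :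
    pcH f := by
  letI := f.toAlgebra
  letI := ((algebraMap B C).comp f).toAlgebra
  haveI : IsScalarTower A B C := IsScalarTower.of_algebraMap_eq' rfl
  haveI : Algebra.FiniteType A B := hf
  obtain ⟨n, φ, hφ⟩ := PCH.exists_surj A B
  let P := MvPolynomial (Fin n) A
  letI : Algebra P B := φ.toRingHom.toAlgebra
  haveI : IsScalarTower A P B := IsScalarTower.of_algHom φ
  letI : Algebra P C := ((algebraMap B C).comp φ.toRingHom).toAlgebra
  haveI : IsScalarTower P B C := IsScalarTower.of_algebraMap_eq' rfl
  haveI : Module.FinitePresentation B C := Module.FinitePresentation.of_finite_of_finitePresentation B C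
  haveI : Module.Projective B C := Module.Flat.projective_of_finitePresentation
  haveI : Module.Finite P B := Module.Finite.of_surjective (Algebra.linearMap P B) hφ
  haveI : Module.Finite P C := Module.Finite.trans B C
  have hAP : pcH (algebraMap A P) := pcH_of_pfH pfH_of_flat_fp
  have hPC : pcH (algebraMap P C) := by
    refine pcH_cancel hAP ?_
    have : (algebraMap P C).comp (algebraMap A P) = (algebraMap B C).comp f := by
      show ((algebraMap B C).comp φ.toRingHom).comp (algebraMap A P) = (algebraMap B C).comp f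
      rw [RingHom.comp_assoc, show φ.toRingHom.comp (algebraMap A P) = f from φ.comp_algebraMap]
    rwa [this]
  have hC : DRing.IsPseudoCoherentModule' P C := (pcHom_iff_module_of_finite P C).1 (pcH_algebraMap.1 hPC)
  obtain ⟨r, hr⟩ := exists_retraction (B := B) (C := C)
  show pcH f
  have hB : DRing.IsPseudoCoherentModule' P B :=
    pc'_of_retract ((Algebra.linearMap B C).restrictScalars P) (r.restrictScalars P) (by
      refine LinearMap.ext fun b => ?_
      show r (algebraMap B C b) = b
      rw [Algebra.algebraMap_eq_smul_one, map_smul, hr, smul_eq_mul, mul_one]) hC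
  exact (pcHom_iff P hφ).2 hB

/-- Pseudo-coherence descends along étale covers of the source. -/
theorem pcH_of_etale_cover [Algebra B C] [Algebra.Etale B C] [Module.FaithfullyFlat B C]
    (f : A →+* B) (hf : f.FiniteType) (h : pcH ((algebraMap B C).comp f)) : pcH f := by
  classical
  letI := f.toAlgebra
  haveI : Algebra.FiniteType A B := hf
  obtain ⟨n, φ, hφ⟩ := PCH.exists_surj A B
  let P := MvPolynomial (Fin n) A
  letI : Algebra P B := φ.toRingHom.toAlgebra
  haveI : IsScalarTower A P B := IsScalarTower.of_algHom φ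
  let I := RingHom.ker φ.toRingHom
  let eI : (P ⧸ I) ≃+* B := RingHom.quotientKerEquivOfSurjective hφ
  letI : Algebra (P ⧸ I) C := ((algebraMap B C).comp eI.toRingHom).toAlgebra
  haveI : Algebra.Etale (P ⧸ I) C := by
    rw [← RingHom.etale_algebraMap, RingHom.algebraMap_toAlgebra]
    exact RingHom.Etale.stableUnderComposition _ _ (RingHom.Etale.of_bijective eI.bijective) (RingHom.etale_algebraMap.2 inferInstance)
  obtain ⟨P', _, _, _, ⟨ψ⟩⟩ := S9436.result P I C
  letI : Algebra P C := ((algebraMap B C).comp φ.toRingHom).toAlgebra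
  haveI : IsScalarTower P B C := IsScalarTower.of_algebraMap_eq' rfl
  let π : P' →+* C := ψ.toRingHom.comp Algebra.TensorProduct.includeRight.toRingHom
  letI : Algebra P' C := π.toAlgebra
  have hψ : ∀ x : P, ψ ((1 : P ⧸ I) ⊗ₜ algebraMap P P' x) = algebraMap P C x := fun x => by
    rw [Algebra.algebraMap_eq_smul_one, TensorProduct.tmul_smul, TensorProduct.smul_tmul',
      Algebra.smul_def, mul_one]
    refine (ψ.commutes (Ideal.Quotient.mk I x)).trans ?_
    show algebraMap B C (eI (Ideal.Quotient.mk I x)) = algebraMap B C (φ x)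
    rfl
  haveI : IsScalarTower P P' C := .of_algebraMap_eq fun x => (hψ x).symm
  have hπ : Function.Surjective (algebraMap P' C) := by
    intro c
    obtain ⟨t, rfl⟩ := ψ.surjective c
    induction t using TensorProduct.induction_on with
    | zero => exact ⟨0, by simp⟩
    | tmul q x =>
      obtain ⟨p, rfl⟩ := Ideal.Quotient.mk_surjective q
      refine ⟨p • x, ?_⟩
      show ψ ((1 : P ⧸ I) ⊗ₜ (p • x)) = _
      rw [TensorProduct.tmul_smul, TensorProduct.smul_tmul', Algebra.smul_def, mul_one]
      rfl
    | add x y hx hy =>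
      obtain ⟨a, ha⟩ := hx; obtain ⟨b, hb⟩ := hy
      exact ⟨a + b, by rw [map_add, ha, hb, map_add]⟩
  have hψ' : ∀ (p : P) (x : P'), ψ (Ideal.Quotient.mk I p ⊗ₜ x) = algebraMap P C p * algebraMap P' C x := by
    intro p x
    rw [show (Ideal.Quotient.mk I p) ⊗ₜ[P] x = (Ideal.Quotient.mk I p ⊗ₜ[P] (1 : P')) * ((1 : P ⧸ I) ⊗ₜ[P] x) by
      rw [Algebra.TensorProduct.tmul_mul_tmul, mul_one, one_mul], map_mul]
    congr 1
    exact ψ.commutes (Ideal.Quotient.mk I p)
  letI : Algebra A P' := ((algebraMap P P').comp (algebraMap A P)).toAlgebra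
  haveI : IsScalarTower A P P' := .of_algebraMap_eq' rfl
  letI : Algebra A C := ((algebraMap B C).comp f).toAlgebra
  haveI : IsScalarTower A P' C := .of_algebraMap_eq fun a => by
    show algebraMap B C (f a) = algebraMap P' C (algebraMap P P' (algebraMap A P a))
    rw [← IsScalarTower.algebraMap_apply P P' C]
    show _ = algebraMap B C (φ (algebraMap A P a))
    rw [φ.commutes]; rfl
  haveI : Module.Flat A P' := Module.Flat.trans A P P'
  haveI : Algebra.FinitePresentation A P' := Algebra.FinitePresentation.trans A P P'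
  have hC : DRing.IsPseudoCoherentModule' P' C := (pcHom_iff P' hπ).1 h
  -- the image of `Spec P'` together with finitely many `D(g)`, `g ∈ I`, covers `Spec P`
  have hopen : IsOpen (Set.range (PrimeSpectrum.comap (algebraMap P P'))) :=
    haveI := Algebra.HasGoingDown.of_flat (R := P) (S := P')
    (PrimeSpectrum.isOpenMap_comap_of_hasGoingDown_of_finitePresentation (R := P) (S := P')).isOpen_range
  have hV : ∀ Q : PrimeSpectrum P, Q ∉ Set.range (PrimeSpectrum.comap (algebraMap P P')) → ¬ I ≤ Q.asIdeal := by
    intro Q hQ hle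
    let q : PrimeSpectrum B := ⟨Q.asIdeal.map φ.toRingHom, Ideal.map_isPrime_of_surjective hφ hle⟩
    obtain ⟨c, hc⟩ := PrimeSpectrum.comap_surjective_of_faithfullyFlat (A := B) (B := C) q
    refine hQ ⟨PrimeSpectrum.comap (algebraMap P' C) c, ?_⟩
    refine PrimeSpectrum.ext ?_
    show (c.asIdeal.comap (algebraMap P' C)).comap (algebraMap P P') = Q.asIdeal
    rw [Ideal.comap_comap, ← IsScalarTower.algebraMap_eq, IsScalarTower.algebraMap_eq P B C, ← Ideal.comap_comap,
      show c.asIdeal.comap (algebraMap B C) = q.asIdeal from congrArg PrimeSpectrum.asIdeal hc]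
    exact (Ideal.comap_map_of_surjective _ hφ _).trans (sup_eq_left.2 hle)
  obtain ⟨s, hsI, hs⟩ : ∃ s : Finset P, (s : Set P) ⊆ I ∧
      (Set.range (PrimeSpectrum.comap (algebraMap P P')))ᶜ ⊆ ⋃ g ∈ s, (PrimeSpectrum.basicOpen g : Set (PrimeSpectrum P)) := by
    obtain ⟨s, hs⟩ := hopen.isClosed_compl.isCompact.elim_finite_subcover
      (fun g : I => (PrimeSpectrum.basicOpen (g : P) : Set (PrimeSpectrum P))) (fun g => (PrimeSpectrum.basicOpen _).2)
      fun Q hQ => by
        obtain ⟨g, hg, hgQ⟩ := SetLike.not_le_iff_exists.1 (hV Q hQ)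
        exact Set.mem_iUnion.2 ⟨⟨g, hg⟩, hgQ⟩
    refine ⟨s.map (Function.Embedding.subtype _), fun g hg => ?_, fun Q hQ => ?_⟩
    · obtain ⟨⟨g, hgI⟩, -, rfl⟩ := Finset.mem_map.1 hg
      exact hgI
    · obtain ⟨g, hg, hgQ⟩ := Set.mem_iUnion₂.1 (hs hQ)
      exact Set.mem_iUnion₂.2 ⟨g.1, Finset.mem_map.2 ⟨g, hg, rfl⟩, hgQ⟩
  -- descent along that cover
  let R : Option s → CommAlgCat.{u} P := fun o =>
    o.elim (CommAlgCat.of P P') fun g => CommAlgCat.of P (Localization.Away (g : P))
  haveI instF : ∀ o, Module.Flat P (R o) := by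
    rintro (_ | g)
    · exact (inferInstance : Module.Flat P P')
    · change Module.Flat P (Localization.Away (g : P))
      exact IsLocalization.flat (Localization.Away (g : P)) (Submonoid.powers (g : P))
  haveI hpi : Module.FaithfullyFlat P ((o : Option s) → R o) := by
    haveI : Module.Flat P ((o : Option s) → R o) :=
      Module.Flat.of_linearEquiv (DirectSum.linearEquivFunOnFintype P (Option s) fun o => (R o : Type u)).symm
    refine Module.FaithfullyFlat.of_comap_surjective fun Q => ?_
    by_cases hQ : Q ∈ Set.range (PrimeSpectrum.comap (algebraMap P P'))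
    · obtain ⟨w, rfl⟩ := hQ
      exact ⟨PrimeSpectrum.comap (S := (R none : Type u)) (Pi.evalRingHom (fun o => (R o : Type u)) none) w,
        PrimeSpectrum.ext rfl⟩
    · obtain ⟨g, hg, hgQ⟩ := Set.mem_iUnion₂.1 (hs hQ)
      obtain ⟨w, hw⟩ : Q ∈ Set.range (PrimeSpectrum.comap (algebraMap P (Localization.Away g))) := by
        rw [PrimeSpectrum.localization_away_comap_range (Localization.Away g) g]; exact hgQ
      exact ⟨PrimeSpectrum.comap (S := (R (some ⟨g, hg⟩) : Type u))
        (Pi.evalRingHom (fun o => (R o : Type u)) (some ⟨g, hg⟩)) w, by rw [← hw]; exact PrimeSpectrum.ext rfl⟩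
  have hz' : ∀ (M : Type u) [AddCommGroup M] [Module P M], (∀ o, Subsingleton (R o ⊗[P] M)) → Subsingleton M := by
    intro M _ _ hM
    let e : (((o : Option s) → R o) ⊗[P] M) ≃ₗ[P] ((o : Option s) → M ⊗[P] R o) :=
      (TensorProduct.comm P _ M).trans (TensorProduct.piRight P P M fun o => (R o : Type u))
    haveI : ∀ o, Subsingleton (M ⊗[P] R o) := fun o => (TensorProduct.comm P M (R o)).toEquiv.subsingleton
    haveI : Subsingleton (((o : Option s) → R o) ⊗[P] M) := e.toEquiv.subsingleton
    exact (Module.FaithfullyFlat.subsingleton_tensorProduct_iff_right P ((o : Option s) → R o) (N := M)).1 inferInstance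
  have hz : ∀ M : ModuleCat.{u} P, (∀ o, IsZero ((extA P (R o)).obj M)) → IsZero M := fun M hM => by
    haveI := hz' M fun o => subsingleton_tensor_of_isZero_extA (R o) M (hM o)
    exact ModuleCat.isZero_of_subsingleton M
  have hfin : ∀ M : ModuleCat.{u} P, (∀ o, Module.Finite (R o) ((extA P (R o)).obj M)) → Module.Finite P M :=
    fun M hM => finite_of_cover (fun o => (R o : Type u)) M hz' fun o => finite_tensor_of_finite_extA (R o) M (hM o)
  have hPB : DRing.IsPseudoCoherentModule' P B := by
    let e := fun o => (rep_inD_baseChange (A := P) (B := R o) B).some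
    refine (pc'_iff_forall_pc _).2 fun k => pc_descent (B := fun o => (R o : Type u)) hz hfin (b := 1)
      (fun o j hj => (acyc_inD (A := R o) (R o ⊗[P] B) one_pos).of_iso (e o).symm j hj)
      fun o => (pc_of_pc' ?_ k).of_iso (e o).symm
    rcases o with _ | ⟨g, hg⟩
    · show DRing.IsPseudoCoherentModule' P' (P' ⊗[P] B)
      obtain ⟨L⟩ := nonempty_tensorEquiv (B := B) (C := C) hφ P' ψ.toRingEquiv fun p x => hψ' p x
      exact pc'_congr L.symm hC
    · show DRing.IsPseudoCoherentModule' (Localization.Away g) (Localization.Away g ⊗[P] B)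
      haveI : Subsingleton (Localization.Away g ⊗[P] B) := by
        refine subsingleton_of_forall_eq 0 fun z => ?_
        induction z using TensorProduct.induction_on with
        | zero => rfl
        | add x y hx hy => rw [hx, hy, add_zero]
        | tmul x b =>
          obtain ⟨v, hv⟩ := (IsLocalization.Away.algebraMap_isUnit (S := Localization.Away g) g).exists_left_inv
          have hgb : g • b = 0 := by
            rw [Algebra.smul_def, RingHom.algebraMap_toAlgebra]
            show φ g * b = 0
            rw [show φ g = 0 from hsI hg, zero_mul]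
          rw [show x = g • (v * x) by rw [Algebra.smul_def, ← mul_assoc, mul_comm _ v, hv, one_mul],
            TensorProduct.smul_tmul, hgb, TensorProduct.tmul_zero]
      haveI : Module.Finite (Localization.Away g) (Localization.Away g ⊗[P] B) :=
        ⟨⟨∅, Subsingleton.elim _ _⟩⟩
      haveI : Module.Free (Localization.Away g) (Localization.Away g ⊗[P] B) :=
        Module.Free.of_subsingleton (Localization.Away g) _
      exact (pc'_iff_forall_pc _).2 fun k => pc_of_bff (bff_inD_of_free _)
  exact (pcHom_iff P hφ).2 hPB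

end Groth.Agent.FlatMor67.PCSource
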