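import Groth.Agent.DCX42.PerfectRetract
import Groth.Agent.DR39.Perf
import Groth.Agent.Props58.LocFree.Affine
import Groth.Agent.QCTens72.Basic
import Groth.Agent.S9498
import Groth.Agent.FlatMor67.PCHom
import Mathlib.Algebra.Homology.DerivedCategory.ExactFunctor

/-!
A quasi-coherent module with perfect modules of sections on affine opens is a perfect object.
-/

set_option autoImplicit false
set_option backward.isDefEq.respectTransparency false
set_option backward.isDefEq.respectTransparency.types false
set_option linter.style.haveILetI false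

noncomputable section

universe u

open CategoryTheory Limits AlgebraicGeometry TopologicalSpace Opposite DerivedCategory

attribute [local instance] HasDerivedCategory.standard

namespace Groth.Agent.FlatMor67.PerfectSheaf

instance preservesFiniteLimits_tilde (R : CommRingCat.{u}) : PreservesFiniteLimits (tilde.functor R) :=
  (Groth.Agent.S9498.tilde_exact R).1

instance preservesFiniteColimits_tilde (R : CommRingCat.{u}) : PreservesFiniteColimits (tilde.functor R) :=
  (Groth.Agent.S9498.tilde_exact R).2

instance additive_tilde (R : CommRingCat.{u}) : (tilde.functor R).Additive :=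
  haveI := preservesBinaryBiproducts_of_preservesBinaryProducts (tilde.functor R)
  Functor.additive_of_preservesBinaryBiproducts _

/-- The tilde of a perfect module has a strictly perfect representative. -/
theorem hasPerfRep_tilde {R : CommRingCat.{u}} (N : ModuleCat.{u} R) (h : DRing.IsPerfectModule R N) :
    DCX42.HasPerfRep (DCoh.inD (Spec R) (tilde N)) := by
  obtain ⟨a, b, E, hE, hFP, ⟨e⟩⟩ := (DR39.perfect_iff_rep _).1 h
  let G := tilde.functor R
  refine ⟨(G.mapHomologicalComplex (ComplexShape.up ℤ)).obj E, ⟨⟨a, b, fun i hi => G.map_isZero (hE i ?_)⟩, fun i => ?_⟩, ⟨?_⟩⟩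
  · rw [Set.mem_Icc]; omega
  · exact (Props58.LocFree.isFinLocFree_tilde_iff (E.X i)).mpr (hFP i)
  · exact ((G.mapDerivedCategorySingleFunctor 0).app N).symm ≪≫ G.mapDerivedCategory.mapIso e.symm ≪≫
      G.mapDerivedCategoryFactors.app E

variable {X : Scheme.{u}}

theorem hasPerfRep_restrict (M : X.Modules) [M.IsQuasicoherent] {V : X.Opens} (hV : IsAffineOpen V)
    (h : DRing.IsPerfectModule Γ(X, V) Γ(M, V)) : DCX42.HasPerfRep ((DCX42.resD V.ι).obj (DCoh.inD X M)) := by
  have h1 : DCX42.HasPerfRep ((DCX42.resD hV.fromSpec).obj (DCoh.inD X M)) :=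
    (hasPerfRep_tilde (QCTens72.secMod M V) h).of_iso
      (((singleFunctor _ 0).mapIso (QCTens72.specResTilde M hV).symm) ≪≫
        (((Scheme.Modules.restrictFunctor hV.fromSpec).mapDerivedCategorySingleFunctor 0).app M).symm)
  exact (h1.restrict hV.isoSpec.hom).of_iso
    ((DCX42.resDComp hV.isoSpec.hom hV.fromSpec).app _ ≪≫ (DCX42.resDCongr hV.isoSpec_hom_fromSpec).app _)

/-- A quasi-coherent module with perfect sections near every point is perfect. -/
theorem isPerfect_inD (M : X.Modules) [M.IsQuasicoherent]
    (h : ∀ x : X, ∃ (V : X.Opens) (_ : IsAffineOpen V), x ∈ V ∧ DRing.IsPerfectModule Γ(X, V) Γ(M, V)) :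
    DCoh.IsPerfect (DCoh.inD X M) := by
  rw [DCX42.isPerfect_iff]
  intro x
  obtain ⟨V, hV, hx, hp⟩ := h x
  exact ⟨V, hx, hasPerfRep_restrict M hV hp⟩

/-- The target of a surjective perfect ring map is a perfect module. -/
theorem perfectModule_of_surjective (A B : Type u) [CommRing A] [CommRing B] [Algebra A B]
    (hs : Function.Surjective (algebraMap A B)) (h : MoreMor.IsPerfectHom A B) :
    DRing.IsPerfectModule A B := by
  obtain ⟨d, hd⟩ := h.2
  exact (DR39.perfect_iff _).2 ⟨(FlatMor67.PCH.pcHom_iff A hs).1 h.1, _, _, (DR39.hasTorDimLE_iff B d).1 hd⟩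

end Groth.Agent.FlatMor67.PerfectSheaf
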