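import Groth.Prelude.Def_FlatCA
import Groth.Agent.CAlg6.FiberMod
import Mathlib.RingTheory.LocalRing.Module
import Mathlib.Algebra.Module.LocalizedModule.Exact
import Mathlib.LinearAlgebra.FreeModule.Basic
import Mathlib.LinearAlgebra.Finsupp.Pi

/-! A map of projective modules over a local ring which is injective modulo the maximal ideal is
universally injective. -/

set_option autoImplicit false

universe u

open TensorProduct IsLocalRing

namespace Groth.Agent.FlatMor67.ProjUnivInj

variable {R : Type u} [CommRing R] [IsLocalRing R]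

/-- Injectivity modulo the maximal ideal, on elements. -/
def InjMod {N P : Type u} [AddCommGroup N] [Module R N] [AddCommGroup P] [Module R P]
    (u : N →ₗ[R] P) : Prop :=
  ∀ n, u n ∈ maximalIdeal R • (⊤ : Submodule R P) → n ∈ maximalIdeal R • (⊤ : Submodule R N)

theorem map_mem {N P : Type u} [AddCommGroup N] [Module R N] [AddCommGroup P] [Module R P]
    (u : N →ₗ[R] P) {n : N} (h : n ∈ maximalIdeal R • (⊤ : Submodule R N)) :
    u n ∈ maximalIdeal R • (⊤ : Submodule R P) :=
  Submodule.smul_mono le_rfl le_top (Submodule.map_smul'' (maximalIdeal R) ⊤ u ▸ Submodule.mem_map_of_mem h)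

theorem lTensor_injective {N P : Type u} [AddCommGroup N] [Module R N] [AddCommGroup P] [Module R P]
    {u : N →ₗ[R] P} (h : InjMod u) : Function.Injective (u.lTensor (ResidueField R)) := by
  rw [injective_iff_map_eq_zero]
  intro y hy
  obtain ⟨n, rfl⟩ := TensorProduct.mk_surjective R N (ResidueField R) Ideal.Quotient.mk_surjective y
  have hk : ∀ (M : Type u) [AddCommGroup M] [Module R M],
      LinearMap.ker (TensorProduct.mk R (ResidueField R) M 1) = maximalIdeal R • (⊤ : Submodule R M) :=
    fun M _ _ => LinearMap.ker_tensorProductMk M (I := maximalIdeal R)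
  rw [← LinearMap.mem_ker, hk]
  apply h
  rw [← hk, LinearMap.mem_ker]
  exact hy

/-- The inclusion of the coordinates in `s`. -/
noncomputable def incl {ι : Type u} (s : Finset ι) : (s → R) →ₗ[R] ι →₀ R :=
  ∑ i : s, Finsupp.lsingle (i : ι) ∘ₗ LinearMap.proj i

/-- The projection to the coordinates in `s`. -/
noncomputable def proj {ι : Type u} (s : Finset ι) : (ι →₀ R) →ₗ[R] (s → R) :=
  LinearMap.pi fun i => Finsupp.lapply (i : ι)

omit [IsLocalRing R] in
theorem proj_incl {ι : Type u} (s : Finset ι) (x : s → R) : proj s (incl s x) = x := by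
  classical
  ext j
  simp [proj, incl, Finsupp.single_apply]

omit [IsLocalRing R] in
theorem incl_proj {ι : Type u} (s : Finset ι) (x : ι →₀ R) (h : x.support ⊆ s) :
    incl s (proj s x) = x := by
  classical
  simp [incl, proj]
  exact (Finsupp.sum_of_support_subset x h _ (by simp)).symm.trans x.sum_single

theorem univInj_free {ι κ : Type u} (u : (ι →₀ R) →ₗ[R] κ →₀ R) (hu : InjMod u) :
    FlatCA.UnivInj R u := by
  classical
  intro Q _ _
  rw [injective_iff_map_eq_zero]
  intro y hy
  obtain ⟨s, hs⟩ : ∃ s : Finset ι, ∀ s', s ⊆ s' → y = (incl s' ∘ₗ proj s').lTensor Q y := by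
    clear hy
    induction y using TensorProduct.induction_on with
    | zero => exact ⟨∅, fun s' _ => (map_zero _).symm⟩
    | tmul q x =>
      exact ⟨x.support, fun s' h => by rw [LinearMap.lTensor_tmul, LinearMap.comp_apply, incl_proj _ _ h]⟩
    | add a b ha hb =>
      obtain ⟨s, hs⟩ := ha
      obtain ⟨t, ht⟩ := hb
      exact ⟨s ∪ t, fun s' h => by
        rw [map_add, ← hs s' (Finset.union_subset_left h), ← ht s' (Finset.union_subset_right h)]⟩
  let t : Finset κ := s.biUnion fun i => (u (Finsupp.single i 1)).support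
  let V := proj t ∘ₗ u ∘ₗ incl s
  have hV : ∀ x, incl t (V x) = u (incl s x) := fun x => by
    refine incl_proj _ _ ?_
    show (u (incl s x)).support ⊆ t
    simp only [incl, LinearMap.sum_apply, map_sum, LinearMap.comp_apply]
    refine Finsupp.support_finsetSum.trans (Finset.biUnion_subset.2 fun i _ => ?_)
    rw [Finsupp.lsingle_apply, ← Finsupp.smul_single_one, map_smul]
    exact Finsupp.support_smul.trans (Finset.subset_biUnion_of_mem (fun i => (u (Finsupp.single i 1)).support) i.2)
  have hVinj : InjMod V := fun x hx => by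
    have h1 : u (incl s x) ∈ maximalIdeal R • (⊤ : Submodule R (κ →₀ R)) := hV x ▸ map_mem (incl t) hx
    exact proj_incl s x ▸ map_mem (proj s) (hu _ h1)
  obtain ⟨l, hl⟩ :=
    (IsLocalRing.split_injective_iff_lTensor_residueField_injective V).2 (lTensor_injective hVinj)
  have hz : (V ∘ₗ proj s).lTensor Q y = 0 := by
    rw [show V ∘ₗ proj s = proj t ∘ₗ u ∘ₗ (incl s ∘ₗ proj s) from rfl, LinearMap.lTensor_comp,
      LinearMap.lTensor_comp, LinearMap.comp_apply, LinearMap.comp_apply, ← hs s le_rfl, hy, map_zero]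
  rw [hs s le_rfl, show incl s ∘ₗ proj s = (incl s ∘ₗ l) ∘ₗ V ∘ₗ proj s by
    rw [LinearMap.comp_assoc, ← LinearMap.comp_assoc _ V l, hl, LinearMap.id_comp],
    LinearMap.lTensor_comp, LinearMap.comp_apply, hz, map_zero]

/-- A map of projective modules over a local ring injective modulo the maximal ideal is universally
injective. -/
theorem univInj_of_injMod {N P : Type u} [AddCommGroup N] [Module R N] [AddCommGroup P] [Module R P]
    [Module.Projective R N] [Module.Projective R P] (u : N →ₗ[R] P) (hu : InjMod u) :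
    FlatCA.UnivInj R u := by
  classical
  obtain ⟨i, hi⟩ := Module.projective_def'.1 (‹Module.Projective R N›)
  obtain ⟨iP, hiP⟩ := Module.projective_def'.1 (‹Module.Projective R P›)
  let π := Finsupp.linearCombination R (id : N → N)
  let W := (P →₀ R) × (N →₀ R)
  let b := Module.Free.chooseBasis R W
  let U : (N →₀ R) →ₗ[R] W := (iP ∘ₗ u ∘ₗ π).prod (LinearMap.id - i ∘ₗ π)
  have hU : InjMod (b.repr.toLinearMap ∘ₗ U) := fun f hf => by
    have h0 : U f ∈ maximalIdeal R • (⊤ : Submodule R W) := by
      simpa using map_mem b.repr.symm.toLinearMap hf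
    have h1 : π f ∈ maximalIdeal R • (⊤ : Submodule R N) := by
      apply hu
      have := map_mem (Finsupp.linearCombination R (id : P → P) ∘ₗ LinearMap.fst R (P →₀ R) (N →₀ R)) h0
      exact (show (Finsupp.linearCombination R (id : P → P)) (iP (u (π f))) = u (π f) from
        LinearMap.congr_fun hiP _) ▸ this
    have h2 : f - i (π f) ∈ maximalIdeal R • (⊤ : Submodule R (N →₀ R)) :=
      map_mem (LinearMap.snd R (P →₀ R) (N →₀ R)) h0
    simpa using add_mem h2 (map_mem i h1)
  intro Q _ _
  rw [injective_iff_map_eq_zero]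
  intro y hy
  have hU0 : U ∘ₗ i = LinearMap.inl R (P →₀ R) (N →₀ R) ∘ₗ iP ∘ₗ u := by
    refine LinearMap.ext fun n => Prod.ext ?_ ?_
    · show iP (u (π (i n))) = iP (u n)
      rw [show π (i n) = n from LinearMap.congr_fun hi n]
    · show i n - i (π (i n)) = 0
      rw [show π (i n) = n from LinearMap.congr_fun hi n, sub_self]
  have h1 : i.lTensor Q y = 0 := by
    refine univInj_free _ hU Q ?_
    rw [map_zero, ← LinearMap.comp_apply, ← LinearMap.lTensor_comp, LinearMap.comp_assoc, hU0]
    simp only [LinearMap.lTensor_comp, LinearMap.comp_apply, hy, map_zero]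
  rw [← LinearMap.lTensor_id_apply Q N y, ← hi, LinearMap.lTensor_comp, LinearMap.comp_apply, h1,
    map_zero]

variable {S : Type u} [CommRing S] [Algebra R S] (N : Type u) [AddCommGroup N] [Module S N]
  [Module R N] [IsScalarTower R S N]

theorem injMod_of_mem_nzdFiber {s : S} (hs : s ∈ FlatCA.nzdFiber R S N) :
    InjMod ((LinearMap.lsmul S N s).restrictScalars R) := by
  have hker : ∀ n : N, FlatCA.toFiberMod (maximalIdeal R) S N n = 0 ↔
      n ∈ maximalIdeal R • (⊤ : Submodule R N) := fun n => by
    rw [CAlg6.toFiberMod_eq_zero_iff]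
    simp only [CAlg6.mem_map_smul_top_iff, algebraMap_smul]
    refine ⟨fun ⟨r, hr, h⟩ => ?_, fun h => ⟨1, (maximalIdeal R).primeCompl.one_mem, by rwa [one_smul]⟩⟩
    exact (Submodule.smul_mem_iff_of_isUnit _ (notMem_maximalIdeal.1 hr)).1 h
  intro n hn
  rw [← hker] at hn ⊢
  change FlatCA.toFiberMod (maximalIdeal R) S N (s • n) = 0 at hn
  rw [map_smul] at hn
  exact hs _ hn

theorem univInj_smul_and_toLocalization [Module.Projective R N] :
    (∀ s ∈ FlatCA.nzdFiber R S N, FlatCA.UnivInj R ((LinearMap.lsmul S N s).restrictScalars R)) ∧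
      FlatCA.UnivInj R ((LocalizedModule.mkLinearMap (FlatCA.nzdFiber R S N) N).restrictScalars R) := by
  have h : ∀ s ∈ FlatCA.nzdFiber R S N, FlatCA.UnivInj R ((LinearMap.lsmul S N s).restrictScalars R) :=
    fun s hs => univInj_of_injMod _ (injMod_of_mem_nzdFiber N hs)
  refine ⟨h, fun Q _ _ => ?_⟩
  let T := FlatCA.nzdFiber R S N
  let G := TensorProduct.AlgebraTensorModule.rTensor R Q (LocalizedModule.mkLinearMap T N)
  rw [LinearMap.lTensor_inj_iff_rTensor_inj]
  show Function.Injective G
  rw [injective_iff_map_eq_zero]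
  intro y hy
  obtain ⟨⟨t, ht⟩, h0⟩ := (IsLocalizedModule.eq_zero_iff T G).1 hy
  refine (LinearMap.lTensor_inj_iff_rTensor_inj _ _).1 (h t ht Q) ?_
  rw [map_zero]
  refine Eq.trans ?_ (h0 : t • y = 0)
  clear h0 hy
  induction y using TensorProduct.induction_on with
  | zero => simp
  | tmul n q => rfl
  | add a b ha hb => rw [map_add, smul_add, ha, hb]

end Groth.Agent.FlatMor67.ProjUnivInj
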