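import Groth.Agent.E4O.QuasiSection
import Groth.Agent.CAlg5.QFRefine
import Groth.Agent.SpecSp50.Basic
import Groth.Agent.FlatMor67.PurePush
import Groth.Agent.FlatMor66.FibCritScheme
import Mathlib.AlgebraicGeometry.Morphisms.QuasiFinite
import Mathlib.AlgebraicGeometry.Morphisms.FinitePresentation
import Mathlib.AlgebraicGeometry.Morphisms.Flat
import Mathlib.RingTheory.Spectrum.Prime.Chevalley

/-!
Locally quasi-finite refinements of surjective morphisms locally of finite presentation.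
-/

set_option autoImplicit false
set_option linter.style.haveILetI false

universe u

open CategoryTheory CategoryTheory.Limits AlgebraicGeometry Topology TensorProduct

namespace Groth.Agent.FlatMor67.QFCover

variable {X S : Scheme.{u}} (f : X ⟶ S)

theorem exists_qf_quotient {A B : Type u} [CommRing A] [CommRing B] [Algebra A B] [Algebra.FinitePresentation A B]
    (p : Ideal A) [p.IsPrime] (q₀ : Ideal B) [q₀.IsPrime] [q₀.LiesOver p] :
    ∃ (C : Type u) (_ : CommRing C) (_ : Algebra A C) (_ : B →ₐ[A] C), Algebra.FinitePresentation A C ∧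
      Algebra.QuasiFinite A C ∧ ∃ q : Ideal C, q.IsPrime ∧ q.LiesOver p := by
  classical
  let ι := (Algebra.TensorProduct.includeRight (R := A) (A := p.ResidueField) (B := B)).toRingHom
  haveI : IsNoetherianRing (p.Fiber B) := Algebra.FiniteType.isNoetherianRing p.ResidueField _
  haveI : Nontrivial (p.Fiber B) := PrimeSpectrum.nonempty_iff_nontrivial.mp
    ⟨PrimeSpectrum.primesOverOrderIsoFiber A B p ⟨q₀, inferInstance, inferInstance⟩⟩
  obtain ⟨Q, hQ⟩ := Ideal.exists_maximal (p.Fiber B)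
  haveI := hQ.isPrime
  let q := Q.comap ι
  have hqQ : FlatCA.fiberIdeal p q = Q := PurePush.fiberIdeal_comap p Q
  obtain ⟨T', hT', hTs⟩ := (Submodule.fg_span_iff_fg_span_finset_subset (R := p.Fiber B) (ι '' (q : Set B))).mp
    (IsNoetherian.noetherian _)
  obtain ⟨T, hT, rfl⟩ := Finset.subset_set_image_iff.mp hT'
  let I : Ideal B := Ideal.span (T : Set B)
  have hI : I ≤ q := Ideal.span_le.mpr hT
  have hQI : Q ≤ I.map ι := by
    rw [← hqQ]
    show Submodule.span (p.Fiber B) (ι '' (q : Set B)) ≤ _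
    rw [hTs, Finset.coe_image, Ideal.map_span]
  let C := B ⧸ I
  haveI : Algebra.FinitePresentation A C :=
    Algebra.FinitePresentation.quotient (Submodule.fg_span T.finite_toSet)
  haveI : q.LiesOver p := liesOver_q Q
  let q' : Ideal C := q.map (Ideal.Quotient.mk I)
  haveI : q'.IsPrime := Ideal.map_isPrime_of_surjective Ideal.Quotient.mk_surjective (by rwa [Ideal.mk_ker])
  have hc : q'.comap (Ideal.Quotient.mk I) = q := by
    rw [Ideal.comap_map_of_surjective _ Ideal.Quotient.mk_surjective, ← RingHom.ker_eq_comap_bot, Ideal.mk_ker]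
    exact sup_eq_left.2 hI
  have hqp : q'.under A = p := by
    rw [Ideal.under, IsScalarTower.algebraMap_eq A B C, ← Ideal.comap_comap]
    show Ideal.comap (algebraMap A B) (q'.comap (Ideal.Quotient.mk I)) = p
    rw [hc]
    exact (Ideal.over_def q p).symm
  haveI : Algebra.QuasiFiniteAt A q' := by
    refine E4O.quasiFiniteAt_of_forall_comparable q' fun r hr hrp _ => ?_
    let r₀ := r.comap (Ideal.Quotient.mk I)
    haveI : r₀.LiesOver p := ⟨by
      rw [← hqp, ← hrp, Ideal.under, Ideal.under, IsScalarTower.algebraMap_eq A B C, ← Ideal.comap_comap]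
      rfl⟩
    let o := PrimeSpectrum.primesOverOrderIsoFiber A B p
    let w := o ⟨r₀, inferInstance, inferInstance⟩
    have hw : w.asIdeal.comap ι = r₀ :=
      congrArg Subtype.val (o.symm_apply_apply ⟨r₀, inferInstance, inferInstance⟩)
    have hwf : FlatCA.fiberIdeal p r₀ = w.asIdeal := by rw [← hw]; exact PurePush.fiberIdeal_comap p _
    have hle : I ≤ r₀ := fun b hb => by
      show Ideal.Quotient.mk I b ∈ r
      rw [Ideal.Quotient.eq_zero_iff_mem.mpr hb]
      exact r.zero_mem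
    have hQw : Q = w.asIdeal := hQ.eq_of_le w.isPrime.ne_top
      (hQI.trans ((Ideal.map_mono hle).trans hwf.le))
    have hr₀ : r₀ = q := hw.symm.trans (congrArg (Ideal.comap ι) hQw.symm)
    rw [← Ideal.map_comap_of_surjective _ Ideal.Quotient.mk_surjective r]
    exact congrArg (Ideal.map (Ideal.Quotient.mk I)) hr₀
  obtain ⟨g, hg, hqf⟩ := CAlg5.exists_quasiFinite_away (R := A) q'
  haveI : Algebra.FinitePresentation C (Localization.Away g) := IsLocalization.Away.finitePresentation g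
  refine ⟨Localization.Away g, inferInstance, inferInstance,
    (IsScalarTower.toAlgHom A C (Localization.Away g)).comp (Ideal.Quotient.mkₐ A I),
    Algebra.FinitePresentation.trans A C _, hqf, ?_⟩
  have hdis : Disjoint (Submonoid.powers g : Set C) (q' : Set C) :=
    (Ideal.disjoint_powers_iff_notMem g (Ideal.IsPrime.isRadical inferInstance)).mpr hg
  refine ⟨q'.map (algebraMap C _), IsLocalization.isPrime_of_isPrime_disjoint (Submonoid.powers g) _ q' ‹_› hdis, ⟨?_⟩⟩
  have hcm : (q'.map (algebraMap C (Localization.Away g))).comap (algebraMap C (Localization.Away g)) = q' :=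
    IsLocalization.under_map_of_isPrime_disjoint (Submonoid.powers g) _ ‹_› hdis
  rw [Ideal.under, IsScalarTower.algebraMap_eq A C (Localization.Away g), ← Ideal.comap_comap, hcm]
  exact hqp.symm
where
  liesOver_q {A B : Type u} [CommRing A] [CommRing B] [Algebra A B] {p : Ideal A} [p.IsPrime]
      (Q : Ideal (p.Fiber B)) [Q.IsPrime] :
      (Q.comap (Algebra.TensorProduct.includeRight (R := A) (A := p.ResidueField) (B := B)).toRingHom).LiesOver p := by
    refine ⟨Ideal.ext fun r => ⟨fun hr => ?_, fun hr => ?_⟩⟩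
    · show (Algebra.TensorProduct.includeRight (R := A) (A := p.ResidueField) (B := B)) (algebraMap A B r) ∈ Q
      rw [AlgHom.commutes, IsScalarTower.algebraMap_apply A p.ResidueField (p.Fiber B),
        show algebraMap A p.ResidueField r = 0 from Ideal.algebraMap_residueField_eq_zero.mpr hr, map_zero]
      exact Q.zero_mem
    · by_contra hn
      exact Ideal.IsPrime.ne_top ‹Q.IsPrime›
        (Ideal.eq_top_of_isUnit_mem _ hr (CAlg6.isUnit_includeRight_algebraMap (S := B) hn))

theorem isClopen_constructible {A : Type u} [CommRing A] {s : Set (PrimeSpectrum A)}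
    (hs : Topology.IsConstructible s) :
    IsOpen[constructibleTopology (PrimeSpectrum A)] s ∧ IsClosed[constructibleTopology (PrimeSpectrum A)] s := by
  induction hs using Topology.IsConstructible.empty_union_induction with
  | open_retrocompact U hUo hUc =>
    have hc : IsCompact U := by simpa using hUc CompactSpace.isCompact_univ isOpen_univ
    exact ⟨SpecSp50.isOpen_cons_of_qc hUo hc, SpecSp50.isClosed_cons_of_qc hUo hc⟩
  | union s _ t _ h₁ h₂ =>
    exact ⟨@IsOpen.union _ s t (constructibleTopology _) h₁.1 h₂.1,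
      @IsClosed.union _ s t (constructibleTopology _) h₁.2 h₂.2⟩
  | compl s _ h =>
    exact ⟨@IsClosed.isOpen_compl _ (constructibleTopology _) _ h.2,
      @IsOpen.isClosed_compl _ (constructibleTopology _) _ h.1⟩

/-- An algebra version of the quasi-finite refinement over one affine base. -/
theorem exists_finite_qf_family (A : Type u) [CommRing A] {κ : Type u} (B : κ → Type u) [∀ k, CommRing (B k)]
    [∀ k, Algebra A (B k)] [∀ k, Algebra.FinitePresentation A (B k)]
    (hsurj : ∀ p : PrimeSpectrum A, ∃ (k : κ) (q : Ideal (B k)), q.IsPrime ∧ q.LiesOver p.asIdeal) :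
    ∃ (n : ℕ) (k : Fin n → κ) (C : Fin n → CommRingCat.{u}) (φ : ∀ i, A →+* C i) (ψ : ∀ i, B (k i) →+* C i),
      (∀ i, (φ i).FinitePresentation ∧ (φ i).QuasiFinite ∧ (ψ i).comp (algebraMap A (B (k i))) = φ i) ∧
      ∀ p : PrimeSpectrum A, ∃ i, p ∈ Set.range (PrimeSpectrum.comap (φ i)) := by
  classical
  have key : ∀ p : PrimeSpectrum A, ∃ (k : κ) (C : CommRingCat.{u}) (φ : A →+* C) (ψ : B k →+* C),
      (φ.FinitePresentation ∧ φ.QuasiFinite ∧ ψ.comp (algebraMap A (B k)) = φ) ∧
        p ∈ Set.range (PrimeSpectrum.comap φ) := fun p => by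
    obtain ⟨k, q₀, hq₀, hlo⟩ := hsurj p
    obtain ⟨C, _, _, ψ, hfp, hqf, q, hq, hqp⟩ := exists_qf_quotient p.asIdeal q₀
    exact ⟨k, CommRingCat.of C, algebraMap A C, ψ.toRingHom,
      ⟨RingHom.finitePresentation_algebraMap.mpr hfp, RingHom.quasiFinite_algebraMap.mpr hqf, ψ.comp_algebraMap⟩,
      ⟨q, hq⟩, PrimeSpectrum.ext hqp.over.symm⟩
  choose k C φ ψ hprop hmem using key
  have hc : CompactSpace (PrimeSpectrum A) := inferInstance
  have hK := @SpecSp50.compactSpace_cons (PrimeSpectrum A) _ inferInstance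
  obtain ⟨t, ht⟩ := @IsCompact.elim_finite_subcover _ (constructibleTopology (PrimeSpectrum A)) _ _
    (@CompactSpace.isCompact_univ _ (constructibleTopology (PrimeSpectrum A)) hK)
    (fun p => Set.range (PrimeSpectrum.comap (φ p)))
    (fun p => (isClopen_constructible (PrimeSpectrum.isConstructible_range_comap (hprop p).1)).1)
    (fun p _ => Set.mem_iUnion.mpr ⟨p, hmem p⟩)
  let e := t.equivFin
  refine ⟨t.card, fun i => k (e.symm i).1, fun i => C (e.symm i).1, fun i => φ (e.symm i).1,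
    fun i => ψ (e.symm i).1, fun i => hprop _, fun p => ?_⟩
  obtain ⟨p₀, hp₀, hp⟩ := Set.mem_iUnion₂.mp (ht (Set.mem_univ p))
  refine ⟨e ⟨p₀, hp₀⟩, ?_⟩
  show p ∈ Set.range (PrimeSpectrum.comap (φ (e.symm (e ⟨p₀, hp₀⟩)).1))
  rw [e.symm_apply_apply]; exact hp

/-- Quasi-finite refinements over an affine open of the base. -/
theorem exists_affine_pieces [LocallyOfFinitePresentation f] [Surjective f] {V : S.Opens} (hV : IsAffineOpen V) :
    ∃ (n : ℕ) (W : Fin n → Scheme.{u}) (h : ∀ i, W i ⟶ X), (∀ i, IsAffine (W i)) ∧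
      (∀ i, LocallyOfFinitePresentation (h i ≫ f) ∧ LocallyQuasiFinite (h i ≫ f)) ∧
      ∀ s ∈ V, ∃ (i : Fin n) (w : W i), (h i ≫ f) w = s := by
  let κ := {U : X.affineOpens // U.1 ≤ f ⁻¹ᵁ V}
  let B : κ → Type u := fun k => Γ(X, k.1.1)
  letI : ∀ k, CommRing (B k) := fun k => inferInstanceAs (CommRing Γ(X, k.1.1))
  letI : ∀ k, Algebra Γ(S, V) (B k) := fun k => (f.appLE V k.1.1 k.2).hom.toAlgebra
  haveI : ∀ k, Algebra.FinitePresentation Γ(S, V) (B k) := fun k =>
    LocallyOfFinitePresentation.finitePresentation_appLE f hV k.1.2 k.2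
  have hsurj : ∀ p : PrimeSpectrum Γ(S, V), ∃ (k : κ) (q : Ideal (B k)), q.IsPrime ∧ q.LiesOver p.asIdeal := by
    intro p
    obtain ⟨x, hx⟩ := f.surjective (hV.fromSpec p)
    have hxV : f x ∈ V := hx ▸ hV.range_fromSpec.subset ⟨p, rfl⟩
    obtain ⟨U, hU, hxU, e⟩ := exists_isAffineOpen_mem_and_subset (show x ∈ f ⁻¹ᵁ V from hxV)
    refine ⟨⟨⟨U, hU⟩, e⟩, (hU.primeIdealOf ⟨x, hxU⟩).asIdeal, inferInstance, ⟨?_⟩⟩
    have hp : hV.primeIdealOf ⟨f x, e hxU⟩ = p :=
      hV.fromSpec.isOpenEmbedding.injective ((hV.fromSpec_primeIdealOf _).trans hx)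
    rw [← hp]
    exact FlatMor66.primeIdealOf_image f hV hU e hxU
  obtain ⟨n, k, C, φ, ψ, hprop, hcov⟩ := exists_finite_qf_family Γ(S, V) B hsurj
  refine ⟨n, fun i => Spec (C i),
    fun i => Spec.map (CommRingCat.ofHom (ψ i)) ≫ (k i).1.2.fromSpec, fun i => inferInstance, ?_⟩
  have hcomp : ∀ i, (Spec.map (CommRingCat.ofHom (ψ i)) ≫ (k i).1.2.fromSpec) ≫ f =
      Spec.map (CommRingCat.ofHom (φ i)) ≫ hV.fromSpec := fun i => by
    rw [Category.assoc, ← IsAffineOpen.SpecMap_appLE_fromSpec f hV (k i).1.2 (k i).2, ← Category.assoc,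
      ← Spec.map_comp]
    congr 2
    exact CommRingCat.hom_ext (hprop i).2.2
  refine ⟨fun i => ⟨?_, ?_⟩, fun s hs => ?_⟩
  · rw [hcomp]
    haveI : LocallyOfFinitePresentation (Spec.map (CommRingCat.ofHom (φ i))) :=
      (HasRingHomProperty.Spec_iff (P := @LocallyOfFinitePresentation)).mpr (hprop i).1
    infer_instance
  · rw [hcomp]
    haveI : LocallyQuasiFinite (Spec.map (CommRingCat.ofHom (φ i))) :=
      (HasRingHomProperty.Spec_iff (P := @LocallyQuasiFinite)).mpr (hprop i).2.1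
    infer_instance
  · obtain ⟨i, w, hw⟩ := hcov (hV.primeIdealOf ⟨s, hs⟩)
    refine ⟨i, w, ?_⟩
    rw [hcomp]
    show hV.fromSpec (PrimeSpectrum.comap (φ i) w) = s
    rw [hw]
    exact hV.fromSpec_primeIdealOf ⟨s, hs⟩

/-- Glue refinements found over the affine opens of the base. -/
theorem exists_glue (P : MorphismProperty Scheme.{u}) [IsZariskiLocalAtSource P]
    (hpieces : ∀ V : S.affineOpens, ∃ (n : ℕ) (W : Fin n → Scheme.{u}) (h : ∀ i, W i ⟶ X),
      (∀ i, IsAffine (W i)) ∧ (∀ i, P (h i ≫ f)) ∧ ∀ s ∈ V.1, ∃ (i : Fin n) (w : W i), (h i ≫ f) w = s) :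
    ∃ (S' : Scheme.{u}) (g : S' ⟶ S) (h : S' ⟶ X), h ≫ f = g ∧ P g ∧ Surjective g ∧
      (CompactSpace S → IsAffine S') := by
  classical
  choose n W h hW hP hcov using hpieces
  obtain ⟨J, hJ, hfin⟩ : ∃ J : Set S.affineOpens, (∀ s : S, ∃ V ∈ J, s ∈ V.1) ∧ (CompactSpace S → J.Finite) := by
    by_cases hc : CompactSpace S
    · obtain ⟨t, ht⟩ := isCompact_univ.elim_finite_subcover (fun V : S.affineOpens => (V.1 : Set S))
        (fun V => V.1.2) (fun s _ => by
          obtain ⟨V, hV, hsV, -⟩ := exists_isAffineOpen_mem_and_subset (show s ∈ (⊤ : S.Opens) from trivial)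
          exact Set.mem_iUnion.mpr ⟨⟨V, hV⟩, hsV⟩)
      refine ⟨↑t, fun s => ?_, fun _ => t.finite_toSet⟩
      obtain ⟨V, hV, hs⟩ := Set.mem_iUnion₂.mp (ht (Set.mem_univ s))
      exact ⟨V, hV, hs⟩
    · refine ⟨Set.univ, fun s => ?_, fun h => absurd h hc⟩
      obtain ⟨V, hV, hsV, -⟩ := exists_isAffineOpen_mem_and_subset (show s ∈ (⊤ : S.Opens) from trivial)
      exact ⟨⟨V, hV⟩, trivial, hsV⟩
  let ι := Σ V : J, Fin (n V.1)
  refine ⟨∐ (fun i : ι => W i.1.1 i.2), Sigma.desc (fun i => h i.1.1 i.2) ≫ f,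
    Sigma.desc (fun i => h i.1.1 i.2), rfl, ?_, ⟨fun s => ?_⟩, fun hc => ?_⟩
  · rw [show Sigma.desc (fun i : ι => h i.1.1 i.2) ≫ f = Sigma.desc (fun i : ι => h i.1.1 i.2 ≫ f) from
      Sigma.hom_ext _ _ fun i => by simp]
    exact IsZariskiLocalAtSource.sigmaDesc fun i => hP i.1.1 i.2
  · obtain ⟨V, hV, hs⟩ := hJ s
    obtain ⟨i, w, hw⟩ := hcov V s hs
    refine ⟨Sigma.ι (fun i : ι => W i.1.1 i.2) ⟨⟨V, hV⟩, i⟩ w, ?_⟩
    rw [← Scheme.Hom.comp_apply, Sigma.ι_desc_assoc]
    exact hw
  · haveI := (hfin hc).to_subtype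
    haveI : ∀ i : ι, IsAffine (W i.1.1 i.2) := fun i => hW _ _
    infer_instance

end Groth.Agent.FlatMor67.QFCover
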