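import Groth.Agent.FlatMor67.QFTorsion
import Mathlib.RingTheory.Localization.BaseChange

/-!
# A nonzero element of a flat quasi-finite algebra lives in `F^r` after localisation
-/

set_option autoImplicit false

universe u

open TensorProduct

namespace Groth.Agent.FlatMor67

/-- **Main algebraic statement.** -/
theorem exists_free_over_ideal (A B : Type u) [CommRing A] [CommRing B] [Algebra A B]
    [Algebra.FinitePresentation A B] [Module.Flat A B] [Algebra.QuasiFinite A B] (g : B) (hg : g ≠ 0) :
    ∃ (s : A) (v : B), algebraMap A B s ∣ v ∧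
      ∀ (A' B' : Type u) [CommRing A'] [CommRing B'] [Algebra A A'] [Algebra B B'] [Algebra A' B'] [Algebra A B']
        [IsScalarTower A A' B'] [IsScalarTower A B B'] [IsLocalization.Away s A'] [IsLocalization.Away v B'],
        algebraMap B B' g ≠ 0 ∧ ∃ (F : Ideal A') (r : ℕ), 0 < r ∧ ∃ φ : (Fin r → F) →ₗ[A'] B',
          Function.Injective φ ∧ algebraMap B B' g ∈ LinearMap.range φ := by
  classical
  obtain ⟨D, C, _, _, _, _, _, _, _, _, _, _, _, hp⟩ := exists_flat_ft_model A B g
  have : IsNoetherianRing C := Algebra.FiniteType.isNoetherianRing D C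
  obtain ⟨q, Q, b, n, hqp, hQp, hbq, hQq, hne, hkill⟩ := exists_prime_killed (C := C) g hg
  let P : Ideal A := Q.comap (algebraMap A B)
  let p : Ideal D := q.comap (algebraMap D C)
  have hPp : P.comap (algebraMap D A) = p := by
    show Ideal.comap _ (Ideal.comap _ Q) = Ideal.comap _ q
    rw [← hQq, Ideal.comap_comap, Ideal.comap_comap, ← IsScalarTower.algebraMap_eq,
      ← IsScalarTower.algebraMap_eq]
  have : P.LiesOver p := ⟨hPp.symm⟩
  let C' := Localization.Away b
  let bB := algebraMap C B b
  let B1 := Localization.Away bB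
  let : Algebra C' B1 := (IsLocalization.Away.lift b (g := algebraMap C B1) (by
    rw [IsScalarTower.algebraMap_apply C B B1]
    exact IsLocalization.Away.algebraMap_isUnit bB)).toAlgebra
  have : IsScalarTower C C' B1 := IsScalarTower.of_algebraMap_eq fun c => by
    rw [RingHom.algebraMap_toAlgebra, IsLocalization.Away.lift_eq]
  have : IsScalarTower D C' B1 := IsScalarTower.of_algebraMap_eq fun d => by
    rw [IsScalarTower.algebraMap_apply D C C', ← IsScalarTower.algebraMap_apply C C' B1,
      ← IsScalarTower.algebraMap_apply D C B1]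
  have hloc1 : IsLocalization (Algebra.algebraMapSubmonoid B (Submonoid.powers b)) B1 := by
    rw [show Algebra.algebraMapSubmonoid B (Submonoid.powers b) = Submonoid.powers bB from
      Submonoid.map_powers _ b]
    infer_instance
  have hp1 : Algebra.IsPushout D A C' B1 := by
    have h1 : Algebra.IsPushout C C' B B1 :=
      (Algebra.isPushout_of_isLocalization (R := C) (A := C') (Submonoid.powers b) B B1).symm
    have : Algebra.IsPushout D C A B := hp.symm
    exact ((Algebra.IsPushout.comp_iff (R := D) (S := C) (R' := A) (S' := B) (T := C') (T' := B1)).2 h1).symm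
  have : Module.Flat D C' := Module.Flat.trans D C C'
  have : Algebra.FiniteType C C' := IsLocalization.finiteType_of_monoid_fg (Submonoid.powers b) C'
  have : Algebra.FiniteType D C' := Algebra.FiniteType.trans (R := D) (S := C) (A := C') inferInstance inferInstance
  have : Algebra.QuasiFinite A B1 := Algebra.QuasiFinite.of_isLocalization (S := B) (Submonoid.powers bB)
  have := finite_fibre_model (D := D) (A := A) (C := C') (B := B1) P p
  obtain ⟨s, r, e, hs, hgen, hind⟩ := exists_basis_mod_pow (C := C') p n
  let sA := algebraMap D A s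
  let v := algebraMap A B sA * bB
  refine ⟨sA, v, dvd_mul_right _ _, ?_⟩
  intro A' B' _ _ _ _ _ _ _ _ _ _
  -- `B'` over `B1`
  let : Algebra B1 B' := (IsLocalization.Away.lift bB (g := algebraMap B B') (by
    have h := IsLocalization.Away.algebraMap_isUnit (S := B') v
    rw [map_mul, IsUnit.mul_iff] at h
    exact h.2)).toAlgebra
  have : IsScalarTower B B1 B' := IsScalarTower.of_algebraMap_eq fun x => by
    rw [RingHom.algebraMap_toAlgebra, IsLocalization.Away.lift_eq]
  have : IsScalarTower A B1 B' := IsScalarTower.of_algebraMap_eq fun a => by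
    rw [IsScalarTower.algebraMap_apply A B B1, ← IsScalarTower.algebraMap_apply B B1 B',
      ← IsScalarTower.algebraMap_apply A B B']
  have hloc2 : IsLocalization.Away (algebraMap B B1 (algebraMap A B sA)) B' := by
    let B'' := Localization.Away (algebraMap B B1 (algebraMap A B sA))
    have : IsLocalization.Away v B'' := IsLocalization.Away.mul B1 B'' bB (algebraMap A B sA)
    let e₁ : B'' ≃ₐ[B] B' := IsLocalization.algEquiv (Submonoid.powers v) _ _
    let e₂ : B'' ≃ₐ[B1] B' := AlgEquiv.ofRingEquiv (f := e₁.toRingEquiv) (fun x => by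
      have h : (e₁.toRingEquiv.toRingHom).comp (algebraMap B1 B'') = algebraMap B1 B' :=
        IsLocalization.ringHom_ext (Submonoid.powers bB) (RingHom.ext fun y => by
          simp only [RingHom.comp_apply, ← IsScalarTower.algebraMap_apply B B1]
          exact e₁.commutes y)
      exact congr($h x))
    exact IsLocalization.isLocalization_of_algEquiv _ e₂
  let : Algebra D A' := ((algebraMap A A').comp (algebraMap D A)).toAlgebra
  have : IsScalarTower D A A' := IsScalarTower.of_algebraMap_eq fun _ => rfl
  let : Algebra C' B' := ((algebraMap B1 B').comp (algebraMap C' B1)).toAlgebra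
  have : IsScalarTower C' B1 B' := IsScalarTower.of_algebraMap_eq fun _ => rfl
  let : Algebra D B' := ((algebraMap A' B').comp (algebraMap D A')).toAlgebra
  have : IsScalarTower D A' B' := IsScalarTower.of_algebraMap_eq fun _ => rfl
  have : IsScalarTower D A B' := IsScalarTower.of_algebraMap_eq fun d => by
    show algebraMap A' B' (algebraMap A A' (algebraMap D A d)) = _
    rw [← IsScalarTower.algebraMap_apply A A' B']
  have : IsScalarTower D C' B' := IsScalarTower.of_algebraMap_eq fun d => by
    rw [IsScalarTower.algebraMap_apply C' B1 B', ← IsScalarTower.algebraMap_apply D C' B1,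
      IsScalarTower.algebraMap_apply D A B1, ← IsScalarTower.algebraMap_apply A B1 B',
      ← IsScalarTower.algebraMap_apply D A B']
  have : IsScalarTower D B1 B' := IsScalarTower.of_algebraMap_eq fun d => by
    rw [IsScalarTower.algebraMap_apply D A B1, ← IsScalarTower.algebraMap_apply A B1 B',
      ← IsScalarTower.algebraMap_apply D A B']
  have hp2 : Algebra.IsPushout D A' C' B' := by
    have hsub : IsLocalization (Algebra.algebraMapSubmonoid B1 (Submonoid.powers sA)) B' := by
      rw [show Algebra.algebraMapSubmonoid B1 (Submonoid.powers sA) =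
        Submonoid.powers (algebraMap B B1 (algebraMap A B sA)) by
          rw [← IsScalarTower.algebraMap_apply A B B1]; exact Submonoid.map_powers _ sA]
      exact hloc2
    have h2 : Algebra.IsPushout A A' B1 B' :=
      (Algebra.isPushout_of_isLocalization (R := A) (A := A') (Submonoid.powers sA) B1 B').symm
    exact (Algebra.IsPushout.comp_iff (R := D) (S := A) (R' := C') (S' := B1) (T := A') (T' := B')).2 h2
  have : Module.Flat A' B' := by
    have : Module.Flat A B1 := Module.Flat.trans A B B1
    have : Algebra.IsPushout A A' B1 B' :=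
      (Algebra.IsPushout.comp_iff (R := D) (S := A) (R' := C') (S' := B1) (T := A') (T' := B')).1 hp2
    exact Module.Flat.isBaseChange A A' B1 B' Algebra.IsPushout.out
  have hgne : algebraMap B B' g ≠ 0 := by
    intro h
    obtain ⟨⟨_, k, rfl⟩, hk⟩ := (IsLocalization.map_eq_zero_iff (Submonoid.powers v) B' g).1 h
    refine hne ((algebraMap D C s * b) ^ k) (fun hm => ?_) ?_
    · exact ((hqp.mem_or_mem (hqp.mem_of_pow_mem k hm)).elim (fun h' => hs h') hbq)
    · rw [Algebra.smul_def, map_pow, map_mul, ← IsScalarTower.algebraMap_apply D C B,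
        IsScalarTower.algebraMap_apply D A B]
      exact hk
  refine ⟨hgne, ?_⟩
  have hkill' : ∀ π ∈ p ^ n, π • algebraMap B B' g = 0 := by
    intro π hπ
    have hπq : algebraMap D C π ∈ q ^ n :=
      (Ideal.map_pow (algebraMap D C) p n ▸ Ideal.pow_right_mono Ideal.map_comap_le n :
        (p ^ n).map (algebraMap D C) ≤ q ^ n) (Ideal.mem_map_of_mem _ hπ)
    have h := congrArg (algebraMap B B') (hkill _ hπq)
    rw [map_zero, Algebra.smul_def, map_mul, map_mul, map_mul, mul_assoc] at h
    have hu : IsUnit (algebraMap B B' bB) := by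
      have h' := IsLocalization.Away.algebraMap_isUnit (S := B') v
      rw [map_mul, IsUnit.mul_iff] at h'
      exact h'.2
    rw [hu.mul_right_eq_zero] at h
    rw [Algebra.smul_def, ← h, ← IsScalarTower.algebraMap_apply D C B,
      IsScalarTower.algebraMap_apply D A B, IsScalarTower.algebraMap_apply D A B',
      ← IsScalarTower.algebraMap_apply A B B']
  obtain ⟨F, φ, hφ, hgφ⟩ := exists_free_over_killed (D := D) (C := C') (A := A') (B := B') (p ^ n) s
    (IsLocalization.Away.algebraMap_isUnit (S := A') sA) e hgen hind (algebraMap B B' g) hkill'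
  refine ⟨F, r, ?_, φ, hφ, hgφ⟩
  rcases Nat.eq_zero_or_pos r with rfl | h
  · obtain ⟨w, hw⟩ := hgφ
    exact absurd (hw.symm.trans ((congrArg φ (Subsingleton.elim w 0)).trans (map_zero φ))) hgne
  · exact h

end Groth.Agent.FlatMor67
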