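import Groth.Agent.FlatMor67.FibreBasis
import Groth.Agent.FlatStage64.Syzygy
import Mathlib.RingTheory.QuasiFinite.Basic
import Mathlib.RingTheory.IsTensorProduct
import Mathlib.RingTheory.Ideal.MinimalPrime.Basic
import Mathlib.RingTheory.Finiteness.Descent

/-!
# An element of a flat quasi-finite algebra lies in a free module over an ideal of the base
-/

set_option autoImplicit false

universe u

open TensorProduct

namespace Groth.Agent.FlatMor67

/-- a flat algebra of finite presentation has a flat model of finite type over a Noetherian ring -/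
theorem exists_flat_ft_model (A B : Type u) [CommRing A] [CommRing B] [Algebra A B]
    [Algebra.FinitePresentation A B] [Module.Flat A B] (g : B) :
    ∃ (D C : Type u) (_ : CommRing D) (_ : CommRing C) (_ : Algebra D A) (_ : Algebra D C) (_ : Algebra C B)
      (_ : Algebra D B) (_ : IsScalarTower D A B) (_ : IsScalarTower D C B),
      IsNoetherianRing D ∧ Algebra.FiniteType D C ∧ Module.Flat D C ∧ Algebra.IsPushout D A C B := by
  classical
  obtain ⟨A₀, B₀, _, _, e, hnoeth, hfp, -⟩ := Cons62.exists_model (A := A) (B := B) (Set.finite_singleton g)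
  let : Algebra B₀ B :=
    ((e.toAlgHom.restrictScalars A₀).comp Algebra.TensorProduct.includeRight).toRingHom.toAlgebra
  have : IsScalarTower A₀ B₀ B := IsScalarTower.of_algebraMap_eq fun a =>
    (((e.toAlgHom.restrictScalars A₀).comp Algebra.TensorProduct.includeRight).commutes a).symm
  have hp₀ : Algebra.IsPushout A₀ A B₀ B := by
    let : Algebra B₀ (A ⊗[A₀] B₀) := Algebra.TensorProduct.rightAlgebra
    have : IsScalarTower A₀ B₀ (A ⊗[A₀] B₀) := Algebra.TensorProduct.right_isScalarTower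
    have : Algebra.IsPushout A₀ A B₀ (A ⊗[A₀] B₀) := TensorProduct.isPushout
    exact Algebra.IsPushout.of_equiv (R := A₀) (R' := A) (S := B₀) (S' := A ⊗[A₀] B₀) e (RingHom.ext fun _ => rfl)
  have : Module.Flat A (A ⊗[A₀] B₀) := Module.Flat.of_linearEquiv e.toLinearEquiv
  have : Algebra.FiniteType A₀ B₀ := inferInstance
  obtain ⟨C₁, hC₁, hflat₁⟩ := FlatStage64.exists_fg_flat (R := A₀) B₀ (M := B₀) A inferInstance
  have : Algebra.FiniteType A₀ C₁ := (Subalgebra.fg_iff_finiteType C₁).mp hC₁
  have : IsNoetherianRing C₁ := Algebra.FiniteType.isNoetherianRing A₀ C₁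
  have : Module.Flat C₁ (C₁ ⊗[A₀] B₀) := hflat₁ C₁ le_rfl
  let : Algebra B₀ (C₁ ⊗[A₀] B₀) := Algebra.TensorProduct.rightAlgebra
  have : IsScalarTower A₀ B₀ (C₁ ⊗[A₀] B₀) := Algebra.TensorProduct.right_isScalarTower
  have : Algebra.IsPushout A₀ C₁ B₀ (C₁ ⊗[A₀] B₀) := TensorProduct.isPushout
  let φ : C₁ ⊗[A₀] B₀ →ₐ[C₁] B := Algebra.TensorProduct.lift (Algebra.ofId C₁ B)
    (IsScalarTower.toAlgHom A₀ B₀ B) fun _ _ => mul_comm _ _
  let : Algebra (C₁ ⊗[A₀] B₀) B := φ.toRingHom.toAlgebra
  have : IsScalarTower C₁ (C₁ ⊗[A₀] B₀) B := IsScalarTower.of_algebraMap_eq fun a => (φ.commutes a).symm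
  have : IsScalarTower B₀ (C₁ ⊗[A₀] B₀) B := IsScalarTower.of_algebraMap_eq fun b => by
    show algebraMap B₀ B b = φ (1 ⊗ₜ b)
    exact ((Algebra.TensorProduct.lift_tmul _ _ _ _ _).trans (by rw [map_one, one_mul]; rfl)).symm
  have : IsScalarTower A₀ (C₁ ⊗[A₀] B₀) B := IsScalarTower.of_algebraMap_eq fun a => by
    show algebraMap A₀ B a = φ (algebraMap A₀ (C₁ ⊗[A₀] B₀) a)
    exact (IsScalarTower.algebraMap_apply A₀ C₁ B a).trans (φ.commutes (algebraMap A₀ C₁ a)).symm
  have hp : Algebra.IsPushout C₁ A (C₁ ⊗[A₀] B₀) B :=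
    (Algebra.IsPushout.comp_iff (R := A₀) (S := C₁) (R' := B₀) (S' := C₁ ⊗[A₀] B₀) (T := A) (T' := B)).mp hp₀
  exact ⟨C₁, C₁ ⊗[A₀] B₀, inferInstance, inferInstance, inferInstance, inferInstance, inferInstance, inferInstance,
    inferInstance, inferInstance, inferInstance, inferInstance, inferInstance, hp⟩

/-- near a minimal prime of its annihilator an element is killed by a power of the prime -/
theorem exists_prime_killed {C B : Type u} [CommRing C] [IsNoetherianRing C] [CommRing B] [Algebra C B] (g : B)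
    (hg : g ≠ 0) :
    ∃ (q : Ideal C) (Q : Ideal B) (b : C) (n : ℕ), q.IsPrime ∧ Q.IsPrime ∧ b ∉ q ∧ Q.comap (algebraMap C B) = q ∧
      (∀ c ∉ q, c • g ≠ 0) ∧ ∀ c ∈ q ^ n, (b * c) • g = 0 := by
  classical
  let J : Ideal C := LinearMap.ker (LinearMap.toSpanSingleton C B g)
  have hJ : J ≠ ⊤ := fun h => hg (by simpa [J, Ideal.eq_top_iff_one] using h)
  obtain ⟨m, hm, hJm⟩ := Ideal.exists_le_maximal J hJ
  obtain ⟨q, hq, -⟩ := Ideal.exists_minimalPrimes_le (J := m) hJm
  have : q.IsPrime := hq.1.1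
  have hJq : J ≤ q := hq.1.2
  have hne : ∀ c ∉ q, c • g ≠ 0 := fun c hc h => hc (hJq h)
  -- a prime of `B` above
  obtain ⟨Q, hQ, hgQ, hQd⟩ := Ideal.exists_le_prime_disjoint
    (LinearMap.ker (LinearMap.toSpanSingleton B B g) : Ideal B) (q.primeCompl.map (algebraMap C B)) (by
      rw [Set.disjoint_left]
      rintro _ hker ⟨c, hc, rfl⟩
      exact hne c hc (by simpa [Algebra.smul_def] using hker))
  have hQq : Q.comap (algebraMap C B) = q := by
    have h1 : Q.comap (algebraMap C B) ≤ q := fun c hc => by_contra fun hcq =>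
      Set.disjoint_left.1 hQd hc ⟨c, hcq, rfl⟩
    refine le_antisymm h1 (hq.2 ⟨hQ.comap _, fun c hc => hgQ ?_⟩ h1)
    simpa [J, Algebra.smul_def] using hc
  -- the saturation of `J` at `q`
  let J' : Ideal C :=
    { carrier := {c | ∃ b ∉ q, b * c ∈ J}
      zero_mem' := ⟨1, q.ne_top_iff_one.1 hq.1.1.ne_top, by simp⟩
      add_mem' := by
        rintro c c' ⟨b, hb, h⟩ ⟨b', hb', h'⟩
        refine ⟨b * b', hq.1.1.mul_notMem hb hb', ?_⟩
        rw [mul_add]
        refine add_mem ?_ ?_
        · rw [mul_right_comm]; exact Ideal.mul_mem_right _ _ h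
        · rw [mul_assoc]; exact Ideal.mul_mem_left _ _ h'
      smul_mem' := by
        rintro d c ⟨b, hb, h⟩
        exact ⟨b, hb, by rw [smul_eq_mul, mul_left_comm]; exact Ideal.mul_mem_left _ _ h⟩ }
  have hrad : q ≤ J'.radical := by
    intro x hx
    by_contra hxr
    obtain ⟨P, hP, hJP, hPd⟩ := Ideal.exists_le_prime_disjoint J (q.primeCompl ⊔ Submonoid.powers x) (by
      rw [Set.disjoint_left]
      intro c hcJ hc
      obtain ⟨b, hb, _, ⟨k, rfl⟩, rfl⟩ := Submonoid.mem_sup.1 hc
      exact hxr ⟨k, b, hb, hcJ⟩)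
    have hPq : P ≤ q := fun c hc => by_contra fun hcq =>
      Set.disjoint_left.1 hPd hc (Submonoid.mem_sup_left hcq)
    exact Set.disjoint_left.1 hPd (hq.2 ⟨hP, hJP⟩ hPq hx)
      (Submonoid.mem_sup_right (Submonoid.mem_powers x))
  obtain ⟨n, hn⟩ := Ideal.exists_pow_le_of_le_radical_of_fg hrad (IsNoetherian.noetherian q)
  obtain ⟨T, hT⟩ := (IsNoetherian.noetherian (q ^ n) : (q ^ n).FG)
  choose b hb hbJ using fun c : T => hn (hT.le (Submodule.subset_span c.2))
  refine ⟨q, Q, ∏ c : T, b c, n, hq.1.1, hQ, prod_mem (S := q.primeCompl) fun c _ => hb c, hQq, hne, fun c hc => ?_⟩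
  have hle : q ^ n ≤ (Submodule.comap (LinearMap.mulLeft C (∏ c : T, b c)) J) := by
    rw [← hT]
    refine Submodule.span_le.2 fun c hc => ?_
    obtain ⟨w, hw⟩ : b ⟨c, hc⟩ ∣ ∏ c : T, b c := Finset.dvd_prod_of_mem _ (Finset.mem_univ (⟨c, hc⟩ : T))
    show (∏ c : T, b c) * c ∈ J
    rw [hw, mul_right_comm]
    exact Ideal.mul_mem_right _ _ (hbJ ⟨c, hc⟩)
  exact hle hc

/-- finiteness of the fibre descends to the model -/
theorem finite_fibre_model {D A C B : Type u} [CommRing D] [CommRing A] [CommRing C] [CommRing B]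
    [Algebra D A] [Algebra D C] [Algebra C B] [Algebra A B] [Algebra D B] [IsScalarTower D A B]
    [IsScalarTower D C B] [Algebra.IsPushout D A C B] [Algebra.QuasiFinite A B]
    (P : Ideal A) [P.IsPrime] (p : Ideal D) [p.IsPrime] [P.LiesOver p] :
    Module.Finite p.ResidueField (p.ResidueField ⊗[D] C) := by
  let := Localization.AtPrime.algebraOfLiesOver p P
  let e : P.ResidueField ⊗[p.ResidueField] (p.ResidueField ⊗[D] C) ≃ₗ[P.ResidueField] P.ResidueField ⊗[A] B :=
    AlgebraTensorModule.cancelBaseChange D p.ResidueField P.ResidueField P.ResidueField C ≪≫ₗ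
      (AlgebraTensorModule.cancelBaseChange D A P.ResidueField P.ResidueField C).symm ≪≫ₗ
      AlgebraTensorModule.congr (LinearEquiv.refl P.ResidueField P.ResidueField)
        (Algebra.IsPushout.equiv D A C B).toLinearEquiv
  have : Module.Finite P.ResidueField (P.ResidueField ⊗[p.ResidueField] (p.ResidueField ⊗[D] C)) :=
    Module.Finite.of_surjective e.symm.toLinearMap e.symm.surjective
  exact Module.Finite.of_finite_tensorProduct_of_faithfullyFlat P.ResidueField

/-- elements killed by finitely many scalars come from scalars killed by them -/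
theorem exists_repr_of_killed {A B : Type u} [CommRing A] [AddCommGroup B] [Module A B] [Module.Flat A B]
    (T : Finset A) (x : B) (hx : ∀ t ∈ T, t • x = 0) :
    ∃ (k : ℕ) (a : Fin k → A) (y : Fin k → B), x = ∑ j, a j • y j ∧ ∀ t ∈ T, ∀ j, t * a j = 0 := by
  classical
  induction T using Finset.induction with
  | empty => exact ⟨1, ![1], ![x], by simp, by simp⟩
  | insert t T _ ih =>
    obtain ⟨k, a, y, hxa, ha⟩ := ih fun t' ht' => hx t' (Finset.mem_insert_of_mem ht')
    have hrel : ∑ j, (t * a j) • y j = 0 := by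
      simp_rw [mul_smul, ← Finset.smul_sum, ← hxa]
      exact hx t (Finset.mem_insert_self _ _)
    obtain ⟨l, c, z, hy, hc⟩ := Module.Flat.iff_forall_isTrivialRelation.1 ‹_› hrel
    refine ⟨l, fun i => ∑ j, a j * c j i, z, ?_, ?_⟩
    · simp_rw [hxa, hy, Finset.smul_sum, ← mul_smul, Finset.sum_smul]
      exact Finset.sum_comm
    · intro t' ht' i
      rcases Finset.mem_insert.1 ht' with rfl | h
      · rw [Finset.mul_sum, ← hc i]; exact Finset.sum_congr rfl fun j _ => (mul_assoc _ _ _).symm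
      · rw [Finset.mul_sum]
        exact Finset.sum_eq_zero fun j _ => by rw [← mul_assoc, ha t' h j, zero_mul]

/-- **The free module over the ideal killed by `p ^ n`.** -/
theorem exists_free_over_killed {D C A B : Type u} [CommRing D] [IsNoetherianRing D] [CommRing C] [CommRing A]
    [CommRing B] [Algebra D A] [Algebra D C] [Algebra C B] [Algebra A B] [Algebra D B] [IsScalarTower D A B]
    [IsScalarTower D C B] [Algebra.IsPushout D A C B] [Module.Flat A B]
    (I₀ : Ideal D) (s : D) (hsA : IsUnit (algebraMap D A s)) {r : ℕ} (e : Fin r → C)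
    (hgen : ∀ c : C, ∃ (m : ℕ) (a : Fin r → D), s ^ m • c - ∑ k, a k • e k ∈ I₀ • (⊤ : Submodule D C))
    (hind : ∀ a : Fin r → D, ∑ k, a k • e k ∈ I₀ • (⊤ : Submodule D C) → ∀ k, s * a k ∈ I₀)
    (g : B) (hg : ∀ π ∈ I₀, π • g = 0) :
    ∃ (F : Ideal A) (φ : (Fin r → F) →ₗ[A] B), Function.Injective φ ∧ g ∈ LinearMap.range φ := by
  classical
  let I : Ideal A := I₀.map (algebraMap D A)
  let S := Fin r → A ⧸ I
  let F : Ideal A := Submodule.annihilator I
  have hF : ∀ f ∈ F, ∀ π ∈ I, π * f = 0 := fun f hf π hπ => by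
    have := Submodule.mem_annihilator.1 hf π hπ
    rwa [smul_eq_mul, mul_comm] at this
  let ē : Fin r → B := fun k => algebraMap C B (e k)
  -- the coordinates modulo `I`
  let mkI : D →+* A ⧸ I := (Ideal.Quotient.mk I).comp (algebraMap D A)
  have hmk0 : ∀ π ∈ I₀, mkI π = 0 := fun π hπ => Ideal.Quotient.eq_zero_iff_mem.2 (Ideal.mem_map_of_mem _ hπ)
  have hu : ∀ m : ℕ, IsUnit (mkI (s ^ m)) := fun m => by
    rw [map_pow]; exact (hsA.map (Ideal.Quotient.mk I)).pow m
  let Coord : C → S → Prop := fun c v => ∃ (m : ℕ) (a : Fin r → D),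
    s ^ m • c - ∑ k, a k • e k ∈ I₀ • (⊤ : Submodule D C) ∧ ∀ k, mkI (s ^ m) * v k = mkI (a k)
  have hex : ∀ c, ∃ v, Coord c v := fun c => by
    obtain ⟨m, a, ha⟩ := hgen c
    exact ⟨fun k => ↑(hu m).unit⁻¹ * mkI (a k), m, a, ha, fun k => by rw [← mul_assoc, IsUnit.mul_val_inv, one_mul]⟩
  have huniq : ∀ c v w, Coord c v → Coord c w → v = w := by
    rintro c v w ⟨m, a, ha, hv⟩ ⟨m', a', ha', hw⟩
    funext k
    have h : ∑ k, (s ^ m' * a k - s ^ m * a' k) • e k ∈ I₀ • (⊤ : Submodule D C) := by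
      have := sub_mem (Submodule.smul_mem _ (s ^ m) ha') (Submodule.smul_mem _ (s ^ m') ha)
      refine (congrArg (· ∈ _) ?_).mp this
      simp only [smul_sub, Finset.smul_sum, sub_smul, mul_smul, Finset.sum_sub_distrib, smul_comm (s ^ m) (s ^ m')]
      abel
    have h2 := hmk0 _ (hind _ h k)
    rw [map_mul, IsUnit.mul_right_eq_zero (by simpa using hu 1), map_sub, map_mul, map_mul, ← hv, ← hw,
      sub_eq_zero, mul_left_comm, (hu m).mul_right_inj, (hu m').mul_right_inj] at h2
    exact h2
  choose ψ₀ hψ₀ using hex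
  let ψ : C →ₗ[D] S :=
    { toFun := ψ₀
      map_add' := fun c c' => huniq _ _ _ (hψ₀ _) (by
        obtain ⟨m, a, ha, hv⟩ := hψ₀ c
        obtain ⟨m', a', ha', hv'⟩ := hψ₀ c'
        refine ⟨m + m', fun k => s ^ m' * a k + s ^ m * a' k, ?_, fun k => ?_⟩
        · have := add_mem (Submodule.smul_mem _ (s ^ m') ha) (Submodule.smul_mem _ (s ^ m) ha')
          refine (congrArg (· ∈ _) ?_).mp this
          simp only [smul_sub, Finset.smul_sum, add_smul, mul_smul, Finset.sum_add_distrib, smul_add, pow_add,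
            smul_comm (s ^ m) (s ^ m')]
          abel
        · rw [Pi.add_apply, map_add, map_mul, map_mul, ← hv, ← hv', pow_add, map_mul]
          ring)
      map_smul' := fun d c => huniq _ _ _ (hψ₀ _) (by
        obtain ⟨m, a, ha, hv⟩ := hψ₀ c
        refine ⟨m, fun k => d * a k, ?_, fun k => ?_⟩
        · have := Submodule.smul_mem _ d ha
          refine (congrArg (· ∈ _) ?_).mp this
          simp only [smul_sub, Finset.smul_sum, mul_smul, smul_comm d (s ^ m)]
        · rw [RingHom.id_apply, Pi.smul_apply, map_mul, ← hv, Algebra.smul_def, mul_left_comm]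
          rfl) }
  have hψe : ∀ k k', ψ (e k) k' = if k = k' then 1 else 0 := by
    intro k
    refine fun k' => congrFun (huniq _ (ψ (e k)) (fun k' => if k = k' then 1 else 0) (hψ₀ _)
      ⟨0, Pi.single k 1, ?_, fun k' => ?_⟩) k'
    · simp [Pi.single_apply]
    · by_cases h : k = k'
      · subst h; simp [mkI]
      · simp [h, mkI]
  have hbc : IsBaseChange A (IsScalarTower.toAlgHom D C B).toLinearMap := Algebra.IsPushout.out
  let Ψ : B →ₗ[A] S := hbc.lift ψ
  have hΨ : ∀ k, Ψ (ē k) = ψ (e k) := fun k => hbc.lift_eq ψ (e k)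
  -- spanning modulo `I`
  have hspan : ∀ y : B, ∃ a : Fin r → A, y - ∑ k, a k • ē k ∈ I • (⊤ : Submodule A B) := by
    intro y
    induction y using hbc.inductionOn with
    | zero => exact ⟨0, by simp⟩
    | tmul c =>
      obtain ⟨m, a, ha⟩ := hgen c
      refine ⟨fun k => ↑(hsA.pow m).unit⁻¹ * algebraMap D A (a k), ?_⟩
      have h1 : algebraMap C B (s ^ m • c - ∑ k, a k • e k) ∈ I • (⊤ : Submodule A B) := by
        generalize s ^ m • c - ∑ k, a k • e k = z at ha
        induction ha using Submodule.smul_induction_on' with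
        | smul π hπ c' _ =>
          rw [Algebra.smul_def π c', map_mul, ← IsScalarTower.algebraMap_apply D C B,
            IsScalarTower.algebraMap_apply D A B, ← Algebra.smul_def (algebraMap D A π) (algebraMap C B c')]
          exact Submodule.smul_mem_smul (Ideal.mem_map_of_mem _ hπ) trivial
        | add x _ y _ hx hy => rw [map_add]; exact add_mem hx hy
      have h2 := Submodule.smul_mem _ (↑(hsA.pow m).unit⁻¹ : A) h1
      refine (congrArg (· ∈ _) ?_).mp h2
      have hcast : ∀ (d : D) (c' : C), algebraMap C B (d • c') = algebraMap D A d • algebraMap C B c' := by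
        intro d c'
        rw [Algebra.smul_def, Algebra.smul_def, map_mul, ← IsScalarTower.algebraMap_apply D C B,
          ← IsScalarTower.algebraMap_apply D A B]
      simp only [map_sub, map_sum, hcast, smul_sub, Finset.smul_sum, ← mul_smul, map_pow, IsUnit.val_inv_mul,
        one_smul]
      rfl
    | smul d z ih =>
      obtain ⟨a, ha⟩ := ih
      refine ⟨fun k => d * a k, ?_⟩
      simpa [smul_sub, Finset.smul_sum, mul_smul] using Submodule.smul_mem _ d ha
    | add z z' ih ih' =>
      obtain ⟨a, ha⟩ := ih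
      obtain ⟨a', ha'⟩ := ih'
      refine ⟨a + a', ?_⟩
      have := add_mem ha ha'
      refine (congrArg (· ∈ _) ?_).mp this
      simp only [Pi.add_apply, add_smul, Finset.sum_add_distrib]
      abel
  have hFI : ∀ f ∈ F, ∀ z ∈ I • (⊤ : Submodule A B), f • z = 0 := by
    intro f hf z hz
    induction hz using Submodule.smul_induction_on' with
    | smul π hπ c _ => rw [← mul_smul, mul_comm, hF f hf π hπ, zero_smul]
    | add x _ y _ hx hy => rw [smul_add, hx, hy, add_zero]
  let φ : (Fin r → F) →ₗ[A] B :=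
    Fintype.linearCombination A ē ∘ₗ LinearMap.pi fun k => F.subtype ∘ₗ LinearMap.proj k
  have hφ : ∀ v, φ v = ∑ k, (v k : A) • ē k := fun v => Fintype.linearCombination_apply A ē _
  refine ⟨F, φ, ?_, ?_⟩
  · rw [← LinearMap.ker_eq_bot, LinearMap.ker_eq_bot']
    intro v hv
    rw [hφ] at hv
    obtain ⟨l, c, y, hc, hc0⟩ := Module.Flat.iff_forall_isTrivialRelation.1 ‹_› hv
    choose d hd using fun j k => Ideal.Quotient.mk_surjective (Ψ (y j) k)
    funext k'
    apply Subtype.ext
    have hmem : ∀ k, (if k = k' then (1 : A) else 0) - ∑ j, c k j * d j k' ∈ I := by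
      intro k
      rw [← Ideal.Quotient.eq_zero_iff_mem, map_sub, map_sum, sub_eq_zero]
      have h := congrFun ((hΨ k).symm.trans ((congrArg Ψ (hc k)).trans (map_sum Ψ _ _))) k'
      rw [hψe, Finset.sum_apply] at h
      rw [apply_ite (Ideal.Quotient.mk I), map_one, map_zero, h]
      refine Finset.sum_congr rfl fun j _ => ?_
      rw [map_smul, Pi.smul_apply, Algebra.smul_def, map_mul, hd]
      rfl
    have h0 : ∀ k, (v k : A) * ((if k = k' then (1 : A) else 0) - ∑ j, c k j * d j k') = 0 := fun k => by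
      rw [mul_comm]; exact hF _ (v k).2 _ (hmem k)
    have h1 : ∑ k, (v k : A) * ∑ j, c k j * d j k' = 0 := by
      simp_rw [Finset.mul_sum, ← mul_assoc]
      rw [Finset.sum_comm]
      exact Finset.sum_eq_zero fun j _ => by rw [← Finset.sum_mul, hc0 j, zero_mul]
    have h2 : ∑ k, (v k : A) * ((if k = k' then (1 : A) else 0) - ∑ j, c k j * d j k') = 0 :=
      Finset.sum_eq_zero fun k _ => h0 k
    simp_rw [mul_sub, Finset.sum_sub_distrib] at h2
    rw [h1, sub_zero] at h2
    simpa using h2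
  · obtain ⟨T, hT⟩ := (IsNoetherian.noetherian I₀ : I₀.FG)
    obtain ⟨l, a, y, hgy, ha⟩ := exists_repr_of_killed (T.image (algebraMap D A)) g (by
      intro t ht
      obtain ⟨π, hπ, rfl⟩ := Finset.mem_image.1 ht
      rw [algebraMap_smul]
      exact hg π (hT.le (Submodule.subset_span hπ)))
    have haF : ∀ j, a j ∈ F := by
      intro j
      refine Submodule.mem_annihilator.2 fun π hπ => ?_
      have hle : I ≤ LinearMap.ker (LinearMap.mulLeft A (a j)) := by
        show I₀.map (algebraMap D A) ≤ _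
        rw [← hT, show Submodule.span D (T : Set D) = Ideal.span (T : Set D) from rfl, Ideal.map_span]
        refine Ideal.span_le.2 ?_
        rintro _ ⟨π', hπ', rfl⟩
        exact (mul_comm _ _).trans (ha _ (Finset.mem_image_of_mem _ hπ') j)
      exact hle hπ
    choose b hb using fun j => hspan (y j)
    refine ⟨fun k => ∑ j, b j k • (⟨a j, haF j⟩ : F), ?_⟩
    rw [hφ, hgy]
    simp only [Submodule.coe_sum, Submodule.coe_smul, smul_eq_mul, Finset.sum_smul]
    rw [Finset.sum_comm]
    refine Finset.sum_congr rfl fun j _ => ?_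
    have h := hFI (a j) (haF j) _ (hb j)
    rw [smul_sub, sub_eq_zero] at h
    rw [h, Finset.smul_sum]
    exact Finset.sum_congr rfl fun k _ => by rw [mul_comm, mul_smul]

end Groth.Agent.FlatMor67
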