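import Groth.Agent.RelPC41.Comp
import Groth.Agent.RelPC41.BaseChange
import Groth.Agent.FlatMor67.PCSource
import Groth.Agent.S6984
import Mathlib.Algebra.Homology.HomologicalComplexAbelian
import Mathlib.Algebra.Homology.HomologicalComplexLimits

/-!
Descent of relative pseudo-coherence along finite locally free algebras and along
pseudo-coherent algebras.
-/

set_option autoImplicit false
set_option backward.isDefEq.respectTransparency.types false
set_option linter.style.haveILetI false
set_option linter.unusedSectionVars false
set_option maxHeartbeats 800000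

noncomputable section

universe u

open CategoryTheory CategoryTheory.Limits
open scoped TensorProduct

attribute [local instance] HasDerivedCategory.standard

namespace Groth.Agent.FlatMor67.RelDescRing

open DR39 RelPC41 PCS

variable {R A B C : Type u} [CommRing R] [CommRing A] [CommRing B] [CommRing C]

/-- A pseudo-coherent algebra is pseudo-coherent relative to the base, as a module. -/
theorem relModuleAll_of_pcH [Algebra A B] (h : pcH (algebraMap A B)) :
    DerCA.IsRelPseudoCoherentModuleAll A B B := by
  obtain ⟨n, φ, hφ, hpc⟩ := pcH_algebraMap.1 h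
  haveI : Algebra.FiniteType A B := Algebra.FiniteType.iff_quotient_mvPolynomial''.2 ⟨n, φ, hφ⟩
  exact fun m => (module_iff φ hφ m B).2 (pc_self' (φ : MvPolynomial (Fin n) A →+* B) hpc m)

/-- The retraction of the base change to a split algebra. -/
theorem exists_natural_retraction (φ : B →+* C)
    (r : letI := φ.toAlgebra; C →ₗ[B] B) (hr : r 1 = 1) :
    ∃ (ρ : ModuleCat.extendScalars.{u, u, u} φ ⋙ ModuleCat.restrictScalars φ ⟶ 𝟭 (ModuleCat.{u} B)),
      ∀ M, (ModuleCat.extendRestrictScalarsAdj.{u, u, u} φ).unit.app M ≫ ρ.app M = 𝟙 M := by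
  letI := φ.toAlgebra
  let L : ∀ M : ModuleCat.{u} B, C ⊗[B] M →ₗ[B] M := fun M =>
    TensorProduct.lift ((LinearMap.lsmul B M).comp r)
  let app : ∀ M : ModuleCat.{u} B,
      (ModuleCat.restrictScalars φ).obj ((ModuleCat.extendScalars.{u, u, u} φ).obj M) ⟶ M := fun M =>
    ModuleCat.ofHom (X := (ModuleCat.restrictScalars φ).obj ((ModuleCat.extendScalars.{u, u, u} φ).obj M))
      { toFun := fun z => L M z
        map_add' := fun x y => (L M).map_add x y
        map_smul' := fun b z => by
          have key : ∀ z : C ⊗[B] M, L M (φ b • z) = b • L M z := fun z => by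
            rw [← map_smul]
            congr 1
          exact key z }
  refine ⟨{ app := app, naturality := fun M N g => ?_ }, fun M => ?_⟩
  · refine ModuleCat.hom_ext (LinearMap.ext fun z => ?_)
    have key : ∀ z : C ⊗[B] M, L N (LinearMap.baseChange C g.hom z) = g.hom (L M z) := fun z => by
      induction z using TensorProduct.induction_on with
      | zero => simp
      | tmul c x => simp [L]
      | add x y hx hy => simp only [map_add, hx, hy]
    exact key z
  · refine ModuleCat.hom_ext (LinearMap.ext fun x => ?_)
    show L M ((1 : C) ⊗ₜ[B] x) = x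
    simp [L, hr]

/-- Relative pseudo-coherence descends along a finite faithfully flat projective algebra. -/
theorem rel_of_finite_cover [Algebra R B] [Algebra B C] [Algebra R C] [IsScalarTower R B C]
    [Algebra.FiniteType R B] [Module.Finite B C] [Module.Projective B C] [Module.FaithfullyFlat B C]
    (m : ℤ) (E : DRing.Cx B)
    (h : DerCA.IsRelPseudoCoherent R C m
      ((QA C).obj (((extA B C).mapHomologicalComplex (ComplexShape.up ℤ)).obj E))) :
    DerCA.IsRelPseudoCoherent R B m ((QA B).obj E) := by
  haveI : Algebra.FiniteType R C := finiteType_of_rel h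
  let φ := algebraMap B C
  have hr : ∃ r : (letI := φ.toAlgebra; C →ₗ[B] B), r 1 = 1 := by
    have : φ.toAlgebra = ‹Algebra B C› := toAlgebra_algebraMap
    rw [this]
    exact PCSource.exists_retraction
  obtain ⟨r, hr⟩ := hr
  obtain ⟨ρ, hρ⟩ := exists_natural_retraction φ r hr
  have h1 := rel_of_iso (restrictDIso φ _)
    ((S6984.result (R := R) (A := B) (B := C) _ m).1.1 h)
  let F := ModuleCat.extendScalars.{u, u, u} φ
  let G := ModuleCat.restrictScalars.{u} φ
  let X : DRing.Cx B := (G.mapHomologicalComplex (ComplexShape.up ℤ)).obj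
    ((F.mapHomologicalComplex (ComplexShape.up ℤ)).obj E)
  let i : E ⟶ X :=
    { f := fun k => (ModuleCat.extendRestrictScalarsAdj.{u, u, u} φ).unit.app (E.X k)
      comm' := fun k l _ => ((ModuleCat.extendRestrictScalarsAdj.{u, u, u} φ).unit.naturality (E.d k l)).symm }
  let p : X ⟶ E :=
    { f := fun k => ρ.app (E.X k)
      comm' := fun k l _ => (ρ.naturality (E.d k l)).symm }
  have hip : i ≫ p = 𝟙 E := HomologicalComplex.Hom.ext (funext fun k => hρ (E.X k))
  haveI : SplitEpi p := ⟨i, hip⟩
  let S := ShortComplex.mk (kernel.ι p) p (kernel.condition p)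
  haveI : Mono S.f := inferInstanceAs (Mono (kernel.ι p))
  let s : S.Splitting := ShortComplex.Splitting.ofExactOfSection S
    (ShortComplex.exact_of_f_is_kernel _ (kernelIsKernel p)) i hip inferInstance
  let Q := QA B
  haveI : PreservesBinaryBiproducts Q := preservesBinaryBiproducts_of_preservesBiproducts Q
  let e : Q.obj X ≅ Q.obj (kernel p) ⊞ Q.obj E :=
    Q.mapIso s.isoBinaryBiproduct ≪≫ Q.mapBiprod _ _
  exact (rel_biprod m _ _ (rel_of_iso e h1)).2

/-- Base change along a pseudo-coherent algebra, read from a flat intermediate algebra. -/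
theorem rel_ext_of_rel_ext [Algebra R A] [Algebra A C] [Algebra R C] [IsScalarTower R A C] [Algebra C B]
    [Algebra A B] [IsScalarTower A C B] [Algebra R B] [IsScalarTower R C B]
    [Algebra.FiniteType C B] (hB : pcH (algebraMap C B)) (m : ℤ) (E : DRing.Cx A) (b : ℤ)
    (hb : DRing.VanishesAbove E b) (hflat : ∀ i, Module.Flat A (E.X i))
    (h : DerCA.IsRelPseudoCoherent R C m
      ((QA C).obj (((extA A C).mapHomologicalComplex (ComplexShape.up ℤ)).obj E))) :
    DerCA.IsRelPseudoCoherent R B m
      ((QA B).obj (((extA A B).mapHomologicalComplex (ComplexShape.up ℤ)).obj E)) := by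
  haveI : Algebra.FiniteType R C := finiteType_of_rel h
  have h1 := rel_ext (R := R) (A := C) (B := B) (relModuleAll_of_pcH hB) m (b := b)
    (E := ((extA A C).mapHomologicalComplex (ComplexShape.up ℤ)).obj E)
    (fun i hi => (extA A C).map_isZero (hb i hi))
    (fun i => flat_extendScalars (algebraMap A C) (M := E.X i) (hflat i)) h
  obtain ⟨e⟩ := ext_comp_iso (algebraMap A C) (algebraMap C B) (algebraMap A B)
    (IsScalarTower.algebraMap_eq A C B) E
  exact rel_of_iso ((QA B).mapIso e.symm) h1

/-- Cohomological bounds descend along faithfully flat algebras. -/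
theorem acyc_of_ext [Algebra B C] [Module.FaithfullyFlat B C] (E : DRing.Cx B) (b : ℤ)
    (h : Acyc b ((QA C).obj (((extA B C).mapHomologicalComplex (ComplexShape.up ℤ)).obj E))) :
    Acyc b ((QA B).obj E) := fun i hi =>
  (isZero_DF_iff_of_faithful (extA B C) (isZero_of_faithfullyFlat C) _ i).1
    ((h i hi).of_iso ((HF C i).mapIso (DFQ (extA B C) E)))

end Groth.Agent.FlatMor67.RelDescRing
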