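import Groth.Agent.RelPCSch41.Basic

/-!
Charts of relative pseudo-coherence without a global finiteness hypothesis.
-/

set_option autoImplicit false
set_option backward.isDefEq.respectTransparency.types false
set_option linter.style.haveILetI false
set_option linter.unusedSectionVars false

noncomputable section

universe u

open CategoryTheory Limits AlgebraicGeometry TopologicalSpace DerivedCategory
open Groth.Agent.DCX42 Groth.Agent.RelPCSch41
attribute [local instance] HasDerivedCategory.standard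

namespace Groth.Agent.FlatMor67.RelGood

variable {X Y : Scheme.{u}} {f : X ⟶ Y} {m : ℤ} {K : DCoh.D X}

/-- A ring map of finite type gives a chart. -/
theorem exists_chart_of_appLE_ft {U : X.Opens} {V : Y.Opens} (h : U ≤ f ⁻¹ᵁ V)
    (hft : (f.appLE V U h).hom.FiniteType) :
    ∃ (n : ℕ) (φ : MvPolynomial (Fin n) Γ(Y, V) →+* Γ(X, U)), DerSch.IsChart f U V h φ := by
  letI := (f.appLE V U h).hom.toAlgebra
  haveI : Algebra.FiniteType Γ(Y, V) Γ(X, U) := hft
  obtain ⟨n, φ, hφ⟩ := FlatMor67.PCH.exists_surj Γ(Y, V) Γ(X, U)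
  exact ⟨n, φ.toRingHom, hφ, RingHom.ext fun r => φ.commutes r⟩

/-- Good pairs, in terms of `ChartPC`. -/
theorem good_iff_exists {U : X.Opens} {V : Y.Opens} (hU : IsAffineOpen U) (h : U ≤ f ⁻¹ᵁ V) :
    Good f m K U V ↔ ∃ (n : ℕ) (φ : MvPolynomial (Fin n) Γ(Y, V) →+* Γ(X, U)),
      DerSch.IsChart f U V h φ ∧ DerSch.ChartPC m K U V φ := by
  constructor
  · rintro ⟨_, n, φ, hφ, hpc⟩
    exact ⟨n, φ, hφ, (chartPC_iff hU hφ.1).2 hpc⟩
  · rintro ⟨n, φ, hφ, hpc⟩
    exact ⟨h, n, φ, hφ, (chartPC_iff hU hφ.1).1 hpc⟩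

/-- From a basic open of the base to the whole base. -/
theorem good_base_of {U : X.Opens} {V : Y.Opens} (hU : IsAffineOpen U) (hV : IsAffineOpen V) (r : Γ(Y, V))
    (hg : Good f m K U (Y.basicOpen r)) : Good f m K U V := by
  obtain ⟨h, n, φ, hφ, hpc⟩ := hg
  have hle := Y.basicOpen_le r
  haveI := hV.isLocalization_basicOpen r
  haveI : Module.Flat Γ(Y, V) Γ(Y, Y.basicOpen r) := IsLocalization.flat _ (Submonoid.powers r)
  haveI : Algebra.FinitePresentation Γ(Y, V) Γ(Y, Y.basicOpen r) := IsLocalization.Away.finitePresentation r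
  obtain ⟨h1, h2⟩ := flat_fp_mvPolynomial Γ(Y, V) Γ(Y, Y.basicOpen r) n
  haveI := h1
  haveI := h2
  refine (good_iff hU (h.trans (f.preimage_mono hle)) φ hφ.1 ?_).2 hpc
  rw [IsScalarTower.algebraMap_eq Γ(Y, V) Γ(Y, Y.basicOpen r), ← RingHom.comp_assoc,
    MvPolynomial.algebraMap_eq, hφ.2]
  change ((Y.presheaf.map (homOfLE hle).op) ≫ f.appLE _ U h).hom = _
  rw [Scheme.Hom.map_appLE]

/-- Descent along basic opens of the source, for a ring map of finite type. -/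
theorem good_of_cover' {U : X.Opens} {V : Y.Opens} (hU : IsAffineOpen U)
    (h : U ≤ f ⁻¹ᵁ V) (hft : (f.appLE V U h).hom.FiniteType)
    (hloc : ∀ x ∈ U, ∃ g : Γ(X, U), x ∈ X.basicOpen g ∧ Good f m K (X.basicOpen g) V) : Good f m K U V := by
  obtain ⟨n, φ, hφ⟩ := exists_chart_of_appLE_ft h hft
  haveI := isClosedImmersion_imm hU hφ.1
  refine ⟨h, n, φ, hφ, pcat_iff_pc.2 (isPC_of_local fun z => ?_)⟩
  by_cases hz : z ∈ Set.range (imm U φ)
  · obtain ⟨w, rfl⟩ := hz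
    obtain ⟨g, hxg, hg⟩ := hloc w.1 w.2
    obtain ⟨G, rfl⟩ := hφ.1 g
    refine ⟨_, ?_, (good_away hU h hφ.1 (by rw [MvPolynomial.algebraMap_eq]; exact hφ.2) G).2 hg⟩
    change w ∈ imm U φ ⁻¹ᵁ PrimeSpectrum.basicOpen G
    rw [imm, Scheme.Hom.comp_preimage, SpecMap_preimage_basicOpen, Scheme.Opens.toSpecΓ_preimage_basicOpen]
    exact hxg
  · let O : (Spec (CommRingCat.of (MvPolynomial (Fin n) Γ(Y, V)))).Opens :=
      ⟨(Set.range (imm U φ))ᶜ, (imm U φ).isClosedEmbedding.isClosed_range.isOpen_compl⟩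
    refine ⟨O, hz, isPC_of_iso ((pushDRestr (imm U φ) O).app _).symm (isPC_of_isLE ((isLE_push_iff _ _ _).2 ?_))⟩
    haveI : IsEmpty (imm U φ ⁻¹ᵁ O : (U : Scheme.{u}).Opens) := ⟨fun x => x.2 ⟨x.1, rfl⟩⟩
    exact (DerivedCategory.isLE_iff _ _).2 fun i _ => isZero_of_isEmpty _

end Groth.Agent.FlatMor67.RelGood
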