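import Groth.Agent.FCx40.Local
import Mathlib.RingTheory.Spectrum.Prime.FreeLocus
import Mathlib.RingTheory.Valuation.ValuationRing
import Mathlib.RingTheory.PrincipalIdealDomain

/-!
Modules with locally constant fibre rank over a reduced ring, and linear forms over valuation rings.
-/

set_option autoImplicit false
set_option linter.style.haveILetI false

universe u

open TensorProduct

namespace Groth.Agent.FlatMor67.RelH0Alg

variable {A : Type u} [CommRing A]

theorem fib_localization (N : Type u) [AddCommGroup N] [Module A N] (x : PrimeSpectrum A)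
    (q : PrimeSpectrum (Localization.AtPrime x.asIdeal)) :
    FCx40.fib (Localization.AtPrime x.asIdeal ⊗[A] N) q =
      FCx40.fib N (PrimeSpectrum.comap (algebraMap A _) q) := by
  let R := Localization.AtPrime x.asIdeal
  let K := q.asIdeal.ResidueField
  let p := PrimeSpectrum.comap (algebraMap A R) q
  let K₀ := p.asIdeal.ResidueField
  letI : Algebra K₀ K := (Ideal.ResidueField.map p.asIdeal q.asIdeal (algebraMap A R) rfl).toAlgebra
  haveI : IsScalarTower A K₀ K := IsScalarTower.of_algebraMap_eq fun a => by
    show _ = Ideal.ResidueField.map p.asIdeal q.asIdeal (algebraMap A R) rfl (algebraMap A K₀ a)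
    rw [Ideal.ResidueField.map_algebraMap, ← IsScalarTower.algebraMap_apply]
  show Module.finrank K (K ⊗[R] (R ⊗[A] N)) = Module.finrank K₀ (K₀ ⊗[A] N)
  rw [(AlgebraTensorModule.cancelBaseChange A R K K N).finrank_eq,
    ← (AlgebraTensorModule.cancelBaseChange A K₀ K K N).finrank_eq, Module.finrank_baseChange]

/-- Over a reduced ring a finitely presented module of locally constant fibre rank is projective. -/
theorem projective_of_isLocallyConstant [IsReduced A] (N : Type u) [AddCommGroup N] [Module A N]
    [Module.FinitePresentation A N] (h : IsLocallyConstant (FCx40.fib (A := A) N)) : Module.Projective A N := by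
  have huniv : Module.freeLocus A N = Set.univ := by
    refine Set.eq_univ_of_forall fun x => ?_
    rw [Module.mem_freeLocus_iff_tensor x (Localization.AtPrime x.asIdeal)]
    haveI : IsReduced (Localization.AtPrime x.asIdeal) :=
      isReduced_localizationPreserves x.asIdeal.primeCompl _ inferInstance
    refine FCx40.free_of_fib_eq _ fun q _ => ?_
    rw [fib_localization, fib_localization]
    exact (((IsLocalRing.specializes_closedPoint q).map (PrimeSpectrum.continuous_comap
      (algebraMap A (Localization.AtPrime x.asIdeal)))).map h.continuous).eq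
  exact Module.freeLocus_eq_univ_iff.mp huniv

/-- Every map from a projective module to an algebra is a combination of maps to the ring. -/
theorem exists_eq_sum {P : Type u} [AddCommGroup P] [Module A P] [Module.Finite A P] [Module.Projective A P]
    {M : Type u} [AddCommGroup M] [Module A M] (ψ : P →ₗ[A] M) :
    ∃ (n : ℕ) (φ : Fin n → P →ₗ[A] A) (c : Fin n → M), ∀ x, ψ x = ∑ j, φ j x • c j := by
  obtain ⟨n, p, hp⟩ := Module.Finite.exists_fin' A P
  obtain ⟨s, hs⟩ := Module.projective_lifting_property p LinearMap.id hp
  refine ⟨n, fun j => LinearMap.proj j ∘ₗ s, fun j => ψ (p (Pi.single j 1)), fun x => ?_⟩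
  have hx : p (s x) = x := LinearMap.congr_fun hs x
  conv_lhs => rw [← hx, pi_eq_sum_univ' (s x)]
  simp [map_sum, map_smul]

/-- Over a valuation ring, a finitely generated module which is nonzero at the generic point has a surjective
linear form. -/
theorem exists_form {V : Type u} [CommRing V] [IsDomain V] [ValuationRing V] (P : Type u) [AddCommGroup P]
    [Module V P] [Module.Finite V P] (h : ∃ φ : P →ₗ[V] FractionRing V, φ ≠ 0) :
    ∃ φ : P →ₗ[V] V, Function.Surjective φ := by
  classical
  obtain ⟨φ, hφ⟩ := h
  obtain ⟨n, p, hp⟩ := Module.Finite.exists_fin' V P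
  obtain ⟨d, hd⟩ := IsLocalization.exist_integer_multiples_of_finset (nonZeroDivisors V)
    (Finset.univ.image fun i : Fin n => φ (p (Pi.single i 1)))
  have hmem : ∀ x, (d : V) • φ x ∈ LinearMap.range (Algebra.linearMap V (FractionRing V)) := by
    intro x
    obtain ⟨c, rfl⟩ := hp x
    rw [pi_eq_sum_univ' c]
    simp only [map_sum, map_smul, Finset.smul_sum]
    refine Submodule.sum_mem _ fun i _ => ?_
    rw [smul_comm]
    obtain ⟨v, hv⟩ := hd (φ (p (Pi.single i 1))) (Finset.mem_image_of_mem _ (Finset.mem_univ i))
    exact Submodule.smul_mem _ _ ⟨v, hv⟩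
  have hinj : Function.Injective (Algebra.linearMap V (FractionRing V)) := IsFractionRing.injective V (FractionRing V)
  let e := LinearEquiv.ofInjective _ hinj
  let φ₁ : P →ₗ[V] V := e.symm.toLinearMap ∘ₗ LinearMap.codRestrict _ ((d : V) • φ) hmem
  have hφ₁ : ∀ x, algebraMap V (FractionRing V) (φ₁ x) = (d : V) • φ x := fun x =>
    congrArg Subtype.val (e.apply_symm_apply ⟨_, hmem x⟩)
  have hfg : (LinearMap.range φ₁).FG := Module.Finite.iff_fg.1 (Module.Finite.range φ₁)
  obtain ⟨a, ha⟩ := (IsBezout.isPrincipal_of_FG (LinearMap.range φ₁) hfg).principal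
  have ha0 : a ≠ 0 := fun h => hφ (LinearMap.ext fun x => by
    have h1 : φ₁ x ∈ LinearMap.range φ₁ := LinearMap.mem_range_self φ₁ x
    rw [ha, h, Submodule.span_zero_singleton, Submodule.mem_bot] at h1
    have h2 := hφ₁ x
    rw [h1, map_zero, Algebra.smul_def] at h2
    exact (mul_eq_zero.1 h2.symm).resolve_left
      (IsLocalization.map_units (FractionRing V) d).ne_zero)
  let m : V →ₗ[V] V := LinearMap.mulLeft V a
  have hm : Function.Injective m := mul_right_injective₀ ha0
  have hrange : LinearMap.range m = LinearMap.range φ₁ := by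
    rw [ha]
    ext y
    simp [Submodule.mem_span_singleton, m, mul_comm]
  refine ⟨(LinearEquiv.ofInjective m hm).symm.toLinearMap ∘ₗ
    LinearMap.codRestrict _ φ₁ (fun x => hrange ▸ LinearMap.mem_range_self φ₁ x), ?_⟩
  refine (LinearEquiv.ofInjective m hm).symm.surjective.comp fun y => ?_
  obtain ⟨x, hx⟩ := (hrange ▸ y.2 : y.1 ∈ LinearMap.range φ₁)
  exact ⟨x, Subtype.ext hx⟩

end Groth.Agent.FlatMor67.RelH0Alg
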