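import Groth.Agent.Cube7.Fibre
import Groth.Agent.FlatMor67.RelH0Alg
import Groth.Agent.Desc59.QSheaf

/-!
Global sections of a base change from a Noetherian model: they are linear forms on a finite module, and so lift
along residue maps over a reduced base and over valuation rings.
-/

set_option autoImplicit false
set_option maxSynthPendingDepth 6
set_option synthInstance.maxHeartbeats 200000
set_option maxHeartbeats 800000
set_option linter.style.haveILetI false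
set_option backward.isDefEq.respectTransparency.types false

universe u

noncomputable section

open CategoryTheory CategoryTheory.Limits AlgebraicGeometry TopologicalSpace Opposite TensorProduct

namespace Groth.Agent.FlatMor67.RelH0

open QC70 FF71 Mum71 QCPull72 Cube7

section Generic

variable {X Y Z : Scheme.{u}} (f : Y ⟶ X) (h : Z ⟶ Y) {f' : Z ⟶ X} (e : h ≫ f = f') (G : X.Modules)

/-- Transition of sections, stated on sections of the inverse images. -/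
def trTop (y : Γ((Scheme.Modules.pullback f).obj G, f ⁻¹ᵁ ⊤)) : Γ((Scheme.Modules.pullback f').obj G, f' ⁻¹ᵁ ⊤) :=
  LimTop61.trSec f h e G ⊤ y

theorem trTop_smul (r : Γ(Y, f ⁻¹ᵁ ⊤)) (y : Γ((Scheme.Modules.pullback f).obj G, f ⁻¹ᵁ ⊤)) :
    trTop f h e G (r • y) =
      h.appLE (f ⁻¹ᵁ ⊤) (f' ⁻¹ᵁ ⊤) (LimTop61.preimage_comp_le f h e ⊤) r • trTop f h e G y := by
  refine Eq.trans (congrArg (((LimTop61.pullbackCompIso f h e).hom.app G).app _)
    (LimTop61.unitSec_smul h ((Scheme.Modules.pullback f).obj G) (LimTop61.preimage_comp_le f h e ⊤) r y)) ?_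
  exact Scheme.Modules.Hom.app_smul _ _ _

theorem trTop_add (x y : Γ((Scheme.Modules.pullback f).obj G, f ⁻¹ᵁ ⊤)) :
    trTop f h e G (x + y) = trTop f h e G x + trTop f h e G y :=
  map_add (LimTop61.trSec f h e G ⊤) x y

theorem res_trTop (U : X.Opens) (hV : f' ⁻¹ᵁ U ≤ f' ⁻¹ᵁ ⊤) (y : Γ((Scheme.Modules.pullback f).obj G, f ⁻¹ᵁ ⊤)) :
    QC70.res ((Scheme.Modules.pullback f').obj G) hV (trTop f h e G y) =
      LimTop61.trSec f h e G U (QC70.res ((Scheme.Modules.pullback f).obj G) (f.preimage_mono le_top) y) := by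
  refine (QC70.app_res ((LimTop61.pullbackCompIso f h e).hom.app G) hV _).symm.trans
    (congrArg (((LimTop61.pullbackCompIso f h e).hom.app G).app _) ?_)
  exact (LimTop61.unitSec_res h ((Scheme.Modules.pullback f).obj G) (LimTop61.preimage_comp_le f h e ⊤)
    (LimTop61.preimage_comp_le f h e U) (f.preimage_mono le_top) hV y).symm

theorem trSec_smul_unitSec (U : X.Opens) (r : Γ(Y, f ⁻¹ᵁ U)) (x : Γ(G, U)) :
    LimTop61.trSec f h e G U (show Γ((Scheme.Modules.pullback f).obj G, f ⁻¹ᵁ U) from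
        r • unitSec f G (le_refl (f ⁻¹ᵁ U)) x) =
      (show Γ((Scheme.Modules.pullback f').obj G, f' ⁻¹ᵁ U) from
        h.appLE (f ⁻¹ᵁ U) (f' ⁻¹ᵁ U) (LimTop61.preimage_comp_le f h e U) r • unitSec f' G (le_refl (f' ⁻¹ᵁ U)) x) := by
  refine Eq.trans (congrArg (((LimTop61.pullbackCompIso f h e).hom.app G).app _)
    (LimTop61.unitSec_smul h ((Scheme.Modules.pullback f).obj G) (LimTop61.preimage_comp_le f h e U) r
      (unitSec f G (le_refl (f ⁻¹ᵁ U)) x))) ?_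
  refine (Scheme.Modules.Hom.app_smul _ _ _).trans (congrArg (fun t => _ • t) ?_)
  exact LimTop61.trSec_unitSec f h e G U x

theorem appLE_res (U : X.Opens) (r : Γ(Y, f ⁻¹ᵁ ⊤)) :
    h.appLE (f ⁻¹ᵁ U) (f' ⁻¹ᵁ U) (LimTop61.preimage_comp_le f h e U) (QC70.resO Y (f.preimage_mono le_top) r) =
      QC70.resO Z (f'.preimage_mono le_top) (h.appLE (f ⁻¹ᵁ ⊤) (f' ⁻¹ᵁ ⊤) (LimTop61.preimage_comp_le f h e ⊤) r) :=
  (ConcreteCategory.congr_hom (Scheme.Hom.map_appLE h (LimTop61.preimage_comp_le f h e U)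
    (homOfLE (f.preimage_mono (le_top : U ≤ ⊤))).op) r).trans
    (ConcreteCategory.congr_hom (Scheme.Hom.appLE_map h (LimTop61.preimage_comp_le f h e ⊤)
      (homOfLE (f'.preimage_mono (le_top : U ≤ ⊤))).op) r).symm

theorem trSec_tmul (U : X.Opens) (r : Γ(Y, f ⁻¹ᵁ ⊤)) (r' : Γ(Z, f' ⁻¹ᵁ ⊤))
    (hr : h.appLE (f ⁻¹ᵁ ⊤) (f' ⁻¹ᵁ ⊤) (LimTop61.preimage_comp_le f h e ⊤) r = r') (x : Γ(G, U)) :
    LimTop61.trSec f h e G U (show Γ((Scheme.Modules.pullback f).obj G, f ⁻¹ᵁ U) from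
        QC70.resO Y (f.preimage_mono (le_top : U ≤ ⊤)) r • unitSec f G (le_refl (f ⁻¹ᵁ U)) x) =
      (show Γ((Scheme.Modules.pullback f').obj G, f' ⁻¹ᵁ U) from
        QC70.resO Z (f'.preimage_mono (le_top : U ≤ ⊤)) r' • unitSec f' G (le_refl (f' ⁻¹ᵁ U)) x) :=
  (trSec_smul_unitSec f h e G U _ x).trans
    (congrArg (fun t => t • unitSec f' G (le_refl (f' ⁻¹ᵁ U)) x) ((appLE_res f h e U r).trans (congrArg _ hr)))

theorem res_trTop_tensor {A P P' T' : Type u} [CommRing A] [AddCommGroup P] [Module A P] [AddCommGroup P']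
    [Module A P'] [AddCommGroup T'] (U : X.Opens)
    (φ : P ⊗[A] P' →+ Γ((Scheme.Modules.pullback f).obj G, f ⁻¹ᵁ U))
    (ψ : T' →+ Γ((Scheme.Modules.pullback f').obj G, f' ⁻¹ᵁ U)) (q : P ⊗[A] P' →+ T')
    (w : P → Γ(G, U)) (ρ : P' → Γ(Y, f ⁻¹ᵁ ⊤)) (ρ' : P' → Γ(Z, f' ⁻¹ᵁ ⊤))
    (hρ : ∀ b, h.appLE (f ⁻¹ᵁ ⊤) (f' ⁻¹ᵁ ⊤) (LimTop61.preimage_comp_le f h e ⊤) (ρ b) = ρ' b)
    (hφ : ∀ x b, φ (x ⊗ₜ b) = QC70.resO Y (f.preimage_mono (le_top : U ≤ ⊤)) (ρ b) •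
      unitSec f G (le_refl (f ⁻¹ᵁ U)) (w x))
    (hψ : ∀ x b, ψ (q (x ⊗ₜ b)) = QC70.resO Z (f'.preimage_mono (le_top : U ≤ ⊤)) (ρ' b) •
      unitSec f' G (le_refl (f' ⁻¹ᵁ U)) (w x))
    (t : P ⊗[A] P') (hV : f' ⁻¹ᵁ U ≤ f' ⁻¹ᵁ ⊤) (y : Γ((Scheme.Modules.pullback f).obj G, f ⁻¹ᵁ ⊤))
    (hy : QC70.res ((Scheme.Modules.pullback f).obj G) (f.preimage_mono le_top) y = φ t) :
    QC70.res ((Scheme.Modules.pullback f').obj G) hV (trTop f h e G y) = ψ (q t) := by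
  rw [res_trTop, hy]
  clear hy
  induction t using TensorProduct.induction_on with
  | zero =>
    rw [map_zero, map_zero, map_zero]
    exact map_zero (LimTop61.trSec f h e G U)
  | add x y hx hy =>
    rw [map_add, map_add, map_add, ← hx, ← hy]
    exact map_add (LimTop61.trSec f h e G U) _ _
  | tmul x b =>
    rw [hφ, hψ]
    exact trSec_tmul f h e G U _ _ (hρ b) (w x)

end Generic

variable {A₀ : Type u} [CommRing A₀] {X : Scheme.{u}} [X.Over (Spec (CommRingCat.of A₀))] (F : X.Modules)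

section Map

variable {B K : Type u} [CommRing B] [Algebra A₀ B] [CommRing K] [Algebra A₀ K] (g : B →ₐ[A₀] K)

/-- The morphism of base changes attached to a map of algebras. -/
def hBC : bc A₀ X K ⟶ bc A₀ X B :=
  pullback.lift (bcπ A₀ X K) (pullback.snd _ _ ≫ Spec.map (CommRingCat.ofHom g.toRingHom)) (by
    rw [pullback.condition, Category.assoc, ← Spec.map_comp, ← CommRingCat.ofHom_comp, show g.toRingHom.comp (algebraMap A₀ B) = algebraMap A₀ K from g.comp_algebraMap])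

@[reassoc]
theorem hBC_fst : hBC (X := X) g ≫ bcπ A₀ X B = bcπ A₀ X K := pullback.lift_fst _ _ _

@[reassoc]
theorem hBC_snd : hBC (X := X) g ≫ (bc A₀ X B ↘ Spec (CommRingCat.of B)) =
    (bc A₀ X K ↘ Spec (CommRingCat.of K)) ≫ Spec.map (CommRingCat.ofHom g.toRingHom) :=
  pullback.lift_snd _ _ _

theorem isPullback_hBC : IsPullback (hBC (X := X) g) (bc A₀ X K ↘ Spec (CommRingCat.of K))
    (bc A₀ X B ↘ Spec (CommRingCat.of B)) (Spec.map (CommRingCat.ofHom g.toRingHom)) := by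
  refine IsPullback.of_right ?_ (hBC_snd g) (IsPullback.of_hasPullback _ _)
  rw [← Spec.map_comp, ← CommRingCat.ofHom_comp, show g.toRingHom.comp (algebraMap A₀ B) = algebraMap A₀ K from g.comp_algebraMap]
  show IsPullback (hBC (X := X) g ≫ bcπ A₀ X B) _ _ _
  rw [hBC_fst]
  exact IsPullback.of_hasPullback _ _

theorem app_rA (b : B) :
    (hBC (X := X) g).app ⊤ (rA B (bc A₀ X B) ⊤ b) = rA K (bc A₀ X K) ⊤ (g b) := by
  have h1 := congrArg (fun φ => (Scheme.ΓSpecIso (CommRingCat.of B)).inv ≫ φ.appTop) (hBC_snd (X := X) g)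
  simp only [Scheme.Hom.comp_appTop] at h1
  rw [← reassoc_of% (Scheme.ΓSpecIso_inv_naturality (CommRingCat.ofHom g.toRingHom))] at h1
  have h2 := ConcreteCategory.congr_hom h1 b
  simp only [rA, homOfLE_refl, op_id, CategoryTheory.Functor.map_id, CommRingCat.hom_id, RingHom.id_comp,
    RingHom.coe_comp, Function.comp_apply]
  exact h2

theorem appLE_rA_top (b : B) :
    (hBC (X := X) g).appLE (bcπ A₀ X B ⁻¹ᵁ ⊤) (bcπ A₀ X K ⁻¹ᵁ ⊤)
        (LimTop61.preimage_comp_le (bcπ A₀ X B) (hBC g) (hBC_fst g) ⊤) (rA B (bc A₀ X B) (bcπ A₀ X B ⁻¹ᵁ ⊤) b) =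
      rA K (bc A₀ X K) (bcπ A₀ X K ⁻¹ᵁ ⊤) (g b) := by
  refine Eq.trans ?_ (app_rA g b)
  rw [Scheme.Hom.app_eq_appLE]
  rfl

/-- Sections pulled back along `hBC`. -/
def trBC (s : Γ(bcMod (A := A₀) F B, ⊤)) : Γ(bcMod (A := A₀) F K, ⊤) :=
  trTop (bcπ A₀ X B) (hBC g) (hBC_fst g) F s

theorem trBC_add (x y : Γ(bcMod (A := A₀) F B, ⊤)) : trBC F g (x + y) = trBC F g x + trBC F g y :=
  trTop_add (bcπ A₀ X B) (hBC g) (hBC_fst g) F x y

theorem trBC_combination {n : ℕ} (a : Fin n → B) (s : Fin n → Γ(bcMod (A := A₀) F B, ⊤))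
    (hs : ∀ (a : B) (s : Γ(bcMod (A := A₀) F B, ⊤)),
      trBC F g (rA B (bc A₀ X B) ⊤ a • s) = rA K (bc A₀ X K) ⊤ (g a) • trBC F g s) :
    trBC F g (∑ l, rA B (bc A₀ X B) ⊤ (a l) • s l) = ∑ l, rA K (bc A₀ X K) ⊤ (g (a l)) • trBC F g (s l) := by
  induction n with
  | zero =>
    simp only [Finset.univ_eq_empty, Finset.sum_empty]
    have h0 := trBC_add F g 0 0
    rw [add_zero] at h0
    exact left_eq_add.1 h0
  | succ n ih => rw [Fin.sum_univ_succ, Fin.sum_univ_succ, trBC_add, hs, ih]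

theorem trBC_smul (b : B) (s : Γ(bcMod (A := A₀) F B, ⊤)) :
    trBC F g (rA B (bc A₀ X B) ⊤ b • s) = rA K (bc A₀ X K) ⊤ (g b) • trBC F g s :=
  (trTop_smul (bcπ A₀ X B) (hBC g) (hBC_fst g) F (rA B (bc A₀ X B) (bcπ A₀ X B ⁻¹ᵁ ⊤) b) s).trans
    (congrArg (fun t => t • trTop (bcπ A₀ X B) (hBC g) (hBC_fst g) F s) (appLE_rA_top g b))

variable [F.IsQuasicoherent]

theorem res_trBC {ι : Type u} {U : ι → X.Opens} (hU₁ : ∀ i, IsAffineOpen (U i)) (i : ι)
    (s : Γ(bcMod (A := A₀) F B, ⊤)) (w : Γ(F, U i) ⊗[A₀] B)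
    (hs : res (bcMod (A := A₀) F B) le_top s = bcMap F B (hU₁ i) (rfl : bcπ A₀ X B ⁻¹ᵁ U i = _) w) :
    res (bcMod (A := A₀) F K) le_top (trBC F g s) =
      bcMap F K (hU₁ i) (rfl : bcπ A₀ X K ⁻¹ᵁ U i = _) (g.toLinearMap.lTensor _ w) := by
  exact res_trTop_tensor (bcπ A₀ X B) (hBC g) (hBC_fst g) F (U i)
    (bcMap F B (hU₁ i) (rfl : bcπ A₀ X B ⁻¹ᵁ U i = _)) (bcMap F K (hU₁ i) (rfl : bcπ A₀ X K ⁻¹ᵁ U i = _))
    (g.toLinearMap.lTensor Γ(F, U i)).toAddMonoidHom id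
    (fun b => rA B (bc A₀ X B) (bcπ A₀ X B ⁻¹ᵁ ⊤) b) (fun b => rA K (bc A₀ X K) (bcπ A₀ X K ⁻¹ᵁ ⊤) (g b))
    (appLE_rA_top g)
    (fun x b => (bcMap_tmul F B (hU₁ i) rfl x b).trans
      (congrArg (fun r => r • unitSec (bcπ A₀ X B) F (le_refl (bcπ A₀ X B ⁻¹ᵁ U i)) x)
        (resO_rA B (bc A₀ X B) ((bcπ A₀ X B).preimage_mono (le_top : U i ≤ ⊤)) b).symm))
    (fun x b => (bcMap_tmul F K (hU₁ i) rfl x (g b)).trans
      (congrArg (fun r => r • unitSec (bcπ A₀ X K) F (le_refl (bcπ A₀ X K ⁻¹ᵁ U i)) x)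
        (resO_rA K (bc A₀ X K) ((bcπ A₀ X K).preimage_mono (le_top : U i ≤ ⊤)) (g b)).symm))
    w _ s hs

end Map

variable (A₀) in
/-- Sections over every base change are the linear forms on a finite module. -/
structure Model where
  Q : Type u
  [addCommGroup : AddCommGroup Q]
  [module : Module A₀ Q]
  [finite : Module.Finite A₀ Q]
  Φ : ∀ (B : Type u) [CommRing B] [Algebra A₀ B], (Q →ₗ[A₀] B) ≃+ Γ(bcMod (A := A₀) F B, ⊤)
  map_mulLeft : ∀ (B : Type u) [CommRing B] [Algebra A₀ B] (b : B) (φ : Q →ₗ[A₀] B),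
    Φ B (LinearMap.mulLeft A₀ b ∘ₗ φ) = rA B (bc A₀ X B) ⊤ b • Φ B φ
  natural : ∀ {B K : Type u} [CommRing B] [Algebra A₀ B] [CommRing K] [Algebra A₀ K] (g : B →ₐ[A₀] K)
    (φ : Q →ₗ[A₀] B), Φ K (g.toLinearMap ∘ₗ φ) = trBC F g (Φ B φ)

attribute [instance] Model.addCommGroup Model.module Model.finite

theorem exists_model [IsNoetherianRing A₀] [IsProper (X ↘ Spec (CommRingCat.of A₀))]
    (hF : Coh.IsCoh F) (hfl : FlatMod.IsFlatOver (X ↘ Spec (CommRingCat.of A₀)) F) :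
    Nonempty (Model A₀ F) := by
  haveI := hF.1
  haveI : CompactSpace X := QuasiCompact.compactSpace_of_compactSpace (X ↘ Spec (CommRingCat.of A₀))
  obtain ⟨s, hs⟩ := isCompact_univ.elim_finite_subcover (fun U : X.affineOpens => (U.1 : Set X))
    (fun U => U.1.2) (fun x _ => by
      obtain ⟨_, ⟨U, hU, rfl⟩, hx, -⟩ := X.isBasis_affineOpens.exists_subset_of_mem_open
        (Set.mem_univ x) isOpen_univ
      exact Set.mem_iUnion.2 ⟨⟨U, hU⟩, hx⟩)
  let U : {U // U ∈ s} → X.Opens := fun i => i.1.1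
  have hU₁ : ∀ i, IsAffineOpen (U i) := fun i => i.1.2
  have hU : ⨆ i, U i = ⊤ := top_le_iff.1 fun x _ => by
    obtain ⟨W, hW, hx⟩ := Set.mem_iUnion₂.1 (hs (Set.mem_univ x))
    exact Opens.mem_iSup.2 ⟨⟨W, hW⟩, hx⟩
  have hU₂ : ∀ i j, IsAffineOpen (U i ⊓ U j) := fun i j =>
    isAffineHom_diagonal_iff.mp (inferInstance : IsAffineHom (pullback.diagonal (X ↘ Spec (CommRingCat.of A₀))))
      ⊤ (isAffineOpen_top _) (U i) (by simp) (U j) (by simp) (hU₁ i) (hU₁ j)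
  obtain ⟨Q, hQ, e, he⟩ := exists_corep_fam (A := A₀) F hU hU₁ hU₂ hF hfl
  have key : ∀ (B : Type u) [CommRing B] [Algebra A₀ B], ∃ P : (Q →ₗ[A₀] B) ≃ Γ(bcMod (A := A₀) F B, ⊤),
      ∀ φ i, res (bcMod (A := A₀) F B) le_top (P φ) =
        bcMap F B (hU₁ i) (rfl : bcπ A₀ X B ⁻¹ᵁ U i = _) ((e (ModuleCat.of A₀ B) φ).1 i) := by
    intro B _ _
    obtain ⟨E, hE, hEres⟩ := exists_famEquiv (A := A₀) F B hU hU₁ hU₂
    exact ⟨(e (ModuleCat.of A₀ B)).trans (Equiv.ofBijective E hE), fun φ i => hEres _ i⟩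
  choose P hP using fun (B : Type u) (i₁ : CommRing B) (i₂ : Algebra A₀ B) => @key B i₁ i₂
  have hext : ∀ (B : Type u) [CommRing B] [Algebra A₀ B] (s t : Γ(bcMod (A := A₀) F B, ⊤)),
      (∀ i, res (bcMod (A := A₀) F B) (le_top : bcπ A₀ X B ⁻¹ᵁ U i ≤ ⊤) s = res _ le_top t) → s = t := by
    intro B _ _ s t h
    exact section_ext' _ (fun i => bcπ A₀ X B ⁻¹ᵁ U i) (fun i => le_top)
      (by rw [← Scheme.Hom.preimage_iSup, hU]; rfl) s t h
  have hadd : ∀ (B : Type u) [CommRing B] [Algebra A₀ B] (φ ψ : Q →ₗ[A₀] B) (i),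
      (e (ModuleCat.of A₀ B) (φ + ψ)).1 i = (e (ModuleCat.of A₀ B) φ).1 i + (e (ModuleCat.of A₀ B) ψ).1 i := by
    intro B _ _ φ ψ i
    let p₁ : (B × B) →ₗ[A₀] B := LinearMap.fst A₀ B B
    let p₂ : (B × B) →ₗ[A₀] B := LinearMap.snd A₀ B B
    have h := fun (g : (B × B) →ₗ[A₀] B) => congrArg (fun z => z.1 i)
      (he (ModuleCat.of A₀ (B × B)) (ModuleCat.of A₀ B) (ModuleCat.ofHom g) (φ.prod ψ))
    have h₃ := h (p₁ + p₂)
    rw [show φ + ψ = (p₁ + p₂) ∘ₗ φ.prod ψ from rfl]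
    refine h₃.trans ?_
    show (LinearMap.lTensor _ (p₁ + p₂)) _ = _
    rw [LinearMap.lTensor_add, LinearMap.add_apply]
    exact congrArg₂ (· + ·) (h p₁).symm (h p₂).symm
  refine ⟨{ Q := Q, Φ := fun B i₁ i₂ => ⟨P B i₁ i₂, fun φ ψ => @hext B i₁ i₂ _ _ fun i => ?_⟩,
            map_mulLeft := fun B i₁ i₂ b φ => @hext B i₁ i₂ _ _ fun i => ?_,
            natural := fun {B K} i₁ i₂ i₃ i₄ g φ => @hext K i₃ i₄ _ _ fun i => ?_ }⟩
  · rw [res_add]
    refine ((hP B i₁ i₂ _ i).trans ?_).trans (congrArg₂ (· + ·) (hP B i₁ i₂ φ i).symm (hP B i₁ i₂ ψ i).symm)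
    rw [hadd, map_add]
  · show res _ _ (P B i₁ i₂ _) = res _ _ (rA B (bc A₀ X B) ⊤ b • P B i₁ i₂ φ)
    rw [res_smul, resO_rA, hP, hP, ← bcMap_mulLeft]
    exact congrArg (bcMap F B (hU₁ i) rfl) (congrArg (fun z => z.1 i)
      (he (ModuleCat.of A₀ B) (ModuleCat.of A₀ B) (ModuleCat.ofHom (LinearMap.mulLeft A₀ b)) φ))
  · show res _ _ (P K i₃ i₄ _) = res _ _ (trBC F g (P B i₁ i₂ φ))
    rw [res_trBC F g hU₁ i _ _ (hP B i₁ i₂ φ i), hP]
    exact congrArg (bcMap F K (hU₁ i) rfl) (congrArg (fun z => z.1 i)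
      (he (ModuleCat.of A₀ B) (ModuleCat.of A₀ K) (ModuleCat.ofHom g.toLinearMap) φ))

variable {F}

/-- `e` freely generates the global sections over the base. -/
def IsBasisSec {B : Type u} [CommRing B] [Algebra A₀ B] {r : ℕ} (e : Fin r → Γ(bcMod (A := A₀) F B, ⊤)) : Prop :=
  Function.Bijective fun c : Fin r → B => ∑ j, rA B (bc A₀ X B) ⊤ (c j) • e j

theorem Model.fib_eq (M : Model A₀ F) {A : Type u} [CommRing A] [Algebra A₀ A] (p : PrimeSpectrum A) {r : ℕ}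
    (e : Fin r → Γ(bcMod (A := A₀) F p.asIdeal.ResidueField, ⊤)) (he : IsBasisSec e) :
    FCx40.fib (A := A) (A ⊗[A₀] M.Q) p = r := by
  let K := p.asIdeal.ResidueField
  let v : Fin r → (M.Q →ₗ[A₀] K) := fun j => (M.Φ K).symm (e j)
  let l : (Fin r → K) →ₗ[K] (M.Q →ₗ[A₀] K) := Fintype.linearCombination K v
  have hl : Function.Bijective l := by
    have : (fun c => M.Φ K (l c)) = fun c : Fin r → K => ∑ j, rA K (bc A₀ X K) ⊤ (c j) • e j := by
      funext c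
      rw [Fintype.linearCombination_apply, map_sum]
      refine Finset.sum_congr rfl fun j _ => ?_
      rw [show c j • v j = LinearMap.mulLeft A₀ (c j) ∘ₗ v j from rfl, M.map_mulLeft, AddEquiv.apply_symm_apply]
    have h : Function.Bijective fun c => M.Φ K (l c) := by rw [this]; exact he
    exact (Function.Bijective.of_comp_iff' (M.Φ K).bijective l).1 h
  show Module.finrank K (K ⊗[A] (A ⊗[A₀] M.Q)) = r
  rw [(AlgebraTensorModule.cancelBaseChange A₀ A K K M.Q).finrank_eq, ← Subspace.dual_finrank_eq,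
    ← ((LinearEquiv.ofBijective l hl).trans (LinearMap.liftBaseChangeEquiv K)).finrank_eq, Module.finrank_fin_fun]

/-- Over a reduced base with locally constant rank, sections lift along residue maps up to combinations. -/
theorem Model.exists_lift_of_reduced [IsNoetherianRing A₀] (M : Model A₀ F) {A : Type u} [CommRing A] [Algebra A₀ A]
    [_root_.IsReduced A] (r : PrimeSpectrum A → ℕ) (hr : IsLocallyConstant r)
    (he : ∀ p, ∃ e : Fin (r p) → Γ(bcMod (A := A₀) F p.asIdeal.ResidueField, ⊤), IsBasisSec e)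
    {K : Type u} [CommRing K] [Algebra A₀ K] (g : A →ₐ[A₀] K) (σ : Γ(bcMod (A := A₀) F K, ⊤)) :
    ∃ (n : ℕ) (s : Fin n → Γ(bcMod (A := A₀) F A, ⊤)) (c : Fin n → K),
      σ = ∑ j, rA K (bc A₀ X K) ⊤ (c j) • trBC F g (s j) := by
  haveI : Module.FinitePresentation A₀ M.Q := Module.finitePresentation_of_finite A₀ M.Q
  haveI : Module.Projective A (A ⊗[A₀] M.Q) := RelH0Alg.projective_of_isLocallyConstant _ (by
    rw [show FCx40.fib (A := A) (A ⊗[A₀] M.Q) = r from funext fun p => (M.fib_eq p _ (he p).choose_spec)]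
    exact hr)
  letI : Algebra A K := g.toRingHom.toAlgebra
  haveI : IsScalarTower A₀ A K := IsScalarTower.of_algebraMap_eq fun a => (g.commutes a).symm
  obtain ⟨n, φ, c, hc⟩ := RelH0Alg.exists_eq_sum (((M.Φ K).symm σ).liftBaseChange A)
  let φ' : Fin n → (M.Q →ₗ[A₀] A) := fun j => (φ j).restrictScalars A₀ ∘ₗ (TensorProduct.mk A₀ A M.Q 1)
  refine ⟨n, fun j => M.Φ A (φ' j), c, ?_⟩
  simp only [← M.natural g, ← M.map_mulLeft, ← map_sum]
  refine ((M.Φ K).apply_symm_apply σ).symm.trans (congrArg (M.Φ K) (LinearMap.ext fun x => ?_))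
  have h := hc ((1 : A) ⊗ₜ[A₀] x)
  rw [LinearMap.liftBaseChange_tmul, one_smul] at h
  rw [h, LinearMap.sum_apply]
  exact Finset.sum_congr rfl fun j _ => mul_comm _ _

/-- Over a valuation ring a nonzero generic section gives a section which is nonzero on the closed fibre. -/
theorem Model.exists_section_of_valuationRing (M : Model A₀ F) {V : Type u} [CommRing V] [IsDomain V]
    [ValuationRing V] [Algebra A₀ V] (h : ∃ σ : Γ(bcMod (A := A₀) F (FractionRing V), ⊤), σ ≠ 0)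
    {K : Type u} [CommRing K] [Nontrivial K] [Algebra A₀ K] (g : V →ₐ[A₀] K) :
    ∃ s : Γ(bcMod (A := A₀) F V, ⊤), trBC F g s ≠ 0 := by
  obtain ⟨σ, hσ⟩ := h
  obtain ⟨φ, hφ⟩ := RelH0Alg.exists_form (V := V) (V ⊗[A₀] M.Q)
    ⟨((M.Φ (FractionRing V)).symm σ).liftBaseChange V, fun h0 => hσ (by
      rw [← (M.Φ (FractionRing V)).apply_symm_apply σ, show (M.Φ (FractionRing V)).symm σ = 0 from
        LinearMap.ext fun x => ?_, map_zero]
      have := LinearMap.congr_fun h0 ((1 : V) ⊗ₜ[A₀] x)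
      rwa [LinearMap.liftBaseChange_tmul, one_smul] at this)⟩
  refine ⟨M.Φ V (φ.restrictScalars A₀ ∘ₗ TensorProduct.mk A₀ V M.Q 1), fun h0 => ?_⟩
  rw [← M.natural g, (M.Φ K).map_eq_zero_iff] at h0
  obtain ⟨z, hz⟩ := hφ 1
  have h1 : ∀ z, g (φ z) = 0 := by
    intro z
    induction z using TensorProduct.induction_on with
    | zero => simp
    | add x y hx hy => rw [map_add, map_add, hx, hy, add_zero]
    | tmul b x =>
      rw [show b ⊗ₜ[A₀] x = b • ((1 : V) ⊗ₜ[A₀] x) by rw [TensorProduct.smul_tmul', smul_eq_mul, mul_one],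
        map_smul, smul_eq_mul, map_mul, show g (φ ((1 : V) ⊗ₜ[A₀] x)) = 0 from LinearMap.congr_fun h0 x, mul_zero]
  exact one_ne_zero ((g.map_one).symm.trans (hz ▸ h1 z))

end Groth.Agent.FlatMor67.RelH0
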