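import Groth.Agent.DCX42.Summand
import Groth.Prelude.Def_DerSch2

/-!
# Direct summands of relatively pseudo-coherent objects
-/

set_option autoImplicit false
set_option backward.isDefEq.respectTransparency.types false
universe u

open CategoryTheory CategoryTheory.Limits AlgebraicGeometry

attribute [local instance] HasDerivedCategory.standard

noncomputable section

namespace Groth.Agent.FlatMor67.RelPCSummand

variable {X S : Scheme.{u}}

theorem chartPC_of_retract {m : ℤ} {E L : DCoh.D X} (G₀ H₀ : CochainComplex X.Modules ℤ)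
    (i : G₀ ⟶ H₀) (r : H₀ ⟶ G₀) (hir : i ≫ r = 𝟙 G₀) (eE : DCoh.toD X G₀ ≅ E) (eL : DCoh.toD X H₀ ≅ L)
    (U : X.Opens) (V : S.Opens) {n : ℕ} (φ : MvPolynomial (Fin n) Γ(S, V) →+* Γ(X, U))
    (h : DerSch.ChartPC m L U V φ) :
    DCoh.IsPseudoCoherentD m (DCoh.toD _ ((DerSch.pushCx (DerSch.chartImm U φ)).obj ((DCoh.restrictCx U).obj G₀))) := by
  let Φ : CochainComplex X.Modules ℤ ⥤ DCoh.D (Spec (CommRingCat.of (MvPolynomial (Fin n) Γ(S, V)))) :=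
    DCoh.restrictCx U ⋙ DerSch.pushCx (DerSch.chartImm U φ) ⋙ DerivedCategory.Q
  exact DCX42.isPC_of_retract (K := Φ.obj G₀) (S := Φ.obj H₀) (Φ.map i) (Φ.map r)
    (by rw [← Φ.map_comp, hir, Φ.map_id]) (h H₀ ⟨eL⟩)

theorem isPseudoCoherentRel_left (f : X ⟶ S) (m : ℤ) (E K : DCoh.D X) [HasBinaryBiproduct E K]
    (h : DerSch.IsPseudoCoherentRel f m (E ⊞ K)) : DerSch.IsPseudoCoherentRel f m E := by
  obtain ⟨hft, 𝒱, hV, h⟩ := h
  refine ⟨hft, 𝒱, hV, fun V hV' => ?_⟩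
  obtain ⟨𝒰, hU, h⟩ := h V hV'
  refine ⟨𝒰, hU, fun U hU' e => ?_⟩
  obtain ⟨n, φ, hφ, hpc⟩ := h U hU' e
  refine ⟨n, φ, hφ, fun G₀ ⟨eE⟩ => ?_⟩
  let GK := DerivedCategory.Q.objPreimage K
  let eK : DCoh.toD X GK ≅ K := DerivedCategory.Q.objObjPreimageIso K
  let T := (DerivedCategory.Q : CochainComplex X.Modules ℤ ⥤ DCoh.D X)
  haveI : PreservesBinaryBiproducts T := preservesBinaryBiproducts_of_preservesBiproducts T
  exact chartPC_of_retract G₀ (G₀ ⊞ GK) biprod.inl biprod.fst biprod.inl_fst eE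
    (T.mapBiprod G₀ GK ≪≫ biprod.mapIso eE eK) U.1 V.1 φ hpc

theorem isPseudoCoherentRel_congr (f : X ⟶ S) (m : ℤ) {E E' : DCoh.D X} (e : E ≅ E')
    (h : DerSch.IsPseudoCoherentRel f m E) : DerSch.IsPseudoCoherentRel f m E' := by
  obtain ⟨hft, 𝒱, hV, h⟩ := h
  refine ⟨hft, 𝒱, hV, fun V hV' => ?_⟩
  obtain ⟨𝒰, hU, h⟩ := h V hV'
  refine ⟨𝒰, hU, fun U hU' e' => ?_⟩
  obtain ⟨n, φ, hφ, hpc⟩ := h U hU' e'
  exact ⟨n, φ, hφ, fun G ⟨eG⟩ => hpc G ⟨eG ≪≫ e.symm⟩⟩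

theorem isPseudoCoherentRel_right (f : X ⟶ S) (m : ℤ) (E K : DCoh.D X) [HasBinaryBiproduct E K]
    (h : DerSch.IsPseudoCoherentRel f m (E ⊞ K)) : DerSch.IsPseudoCoherentRel f m K := by
  haveI : HasBinaryBiproducts (DCoh.D X) := HasBinaryBiproducts.of_hasBinaryProducts
  exact isPseudoCoherentRel_left f m K E (isPseudoCoherentRel_congr f m (biprod.braiding E K) h)

end Groth.Agent.FlatMor67.RelPCSummand
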