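import Groth.Agent.FlatMor67.TildePush
import Groth.Agent.QCohPush72.AffineUnit
import Groth.Agent.DCX42.KInjPush

/-!
Derived direct image along an affine morphism, on affine opens, is restriction of scalars.
-/

set_option autoImplicit false
set_option backward.isDefEq.respectTransparency.types false
set_option linter.style.haveILetI false
set_option linter.unusedSectionVars false
set_option maxHeartbeats 800000

noncomputable section

universe u

open CategoryTheory Limits AlgebraicGeometry TopologicalSpace DerivedCategory Opposite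
open Groth.Agent.DCX42 Groth.Agent.RelPCSch41
attribute [local instance] HasDerivedCategory.standard

namespace Groth.Agent.FlatMor67.RpushAffine

variable {X Y : Scheme.{u}}

/-- Quasi-coherence is kept by direct image along a closed immersion, on derived categories. -/
theorem isQCohD_pushD (s : X ⟶ Y) [IsClosedImmersion s] {K : DCoh.D X} (hK : DCoh.IsQCohD K) :
    DCoh.IsQCohD ((pushD s).obj K) := fun i => by
  haveI : (DCoh.HD K i).IsQuasicoherent := hK i
  haveI := QCqs72.isQuasicoherent_pushforward (M := DCoh.HD K i) s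
  exact QC70.isQuasicoherent_of_iso (pushHD s K i).symm this

/-- A quasi-coherent object on an affine open comes from a complex of modules. -/
theorem exists_model_open {U : X.Opens} (hU : IsAffineOpen U) {K : DCoh.D X} (hK : DCoh.IsQCohD K) :
    ∃ M : Dual.D Γ(X, U), Nonempty ((tildeD (CommRingCat.of Γ(X, U))).obj M ≅
      (pushD hU.isoSpec.hom).obj ((resD U.ι).obj K)) :=
  ((tildeD_fullyFaithful_essImage (CommRingCat.of Γ(X, U))).2.2 _).1
    (isQCohD_pushD hU.isoSpec.hom (isQCohD_resD hK U.ι))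

/-- The direct image along a composite, on complexes. -/
def pushCComp {Z : Scheme.{u}} (f : X ⟶ Y) (g : Y ⟶ Z) : pushC f ⋙ pushC g ≅ pushC (f ≫ g) :=
  Functor.mapHomologicalComplexCompIso (Scheme.Modules.pushforwardComp f g) _

/-- The direct image along equal morphisms, on complexes. -/
def pushCCongr {f g : X ⟶ Y} (h : f = g) : pushC f ≅ pushC g :=
  NatIso.mapHomologicalComplex (Scheme.Modules.pushforwardCongr h) _

/-- `Rπ_*` on affine opens. -/
theorem nonempty_model_push (π : X ⟶ Y) [IsAffineHom π] [DCoh.HasRpush π] {E : DCoh.D X}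
    {U : Y.Opens} (hU : IsAffineOpen U) (M : Dual.D Γ(X, π ⁻¹ᵁ U))
    (e : (tildeD (CommRingCat.of Γ(X, π ⁻¹ᵁ U))).obj M ≅
      (pushD (hU.preimage π).isoSpec.hom).obj ((resD (π ⁻¹ᵁ U).ι).obj E)) :
    Nonempty ((tildeD (CommRingCat.of Γ(Y, U))).obj ((DRing.restrictD (π.app U).hom).obj M) ≅
      (pushD hU.isoSpec.hom).obj ((resD U.ι).obj ((DCoh.Rpush π).obj E))) := by
  let hU' := hU.preimage π
  haveI := DCX42.hasRpush (π ∣_ U)
  haveI : IsAffineHom (π ∣_ U) := IsZariskiLocalAtTarget.restrict ‹_› U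
  obtain ⟨eR⟩ := nonempty_Rpush_restrict π U
  obtain ⟨P, ⟨eP⟩⟩ := DR39.exists_complex_iso M
  let G := (tilde.functor (CommRingCat.of Γ(X, π ⁻¹ᵁ U))).mapHomologicalComplex (ComplexShape.up ℤ)
  let T := G.obj P
  let F := (pushC hU'.isoSpec.inv).obj T
  let eT : Q.obj T ≅ (pushD hU'.isoSpec.hom).obj ((resD (π ⁻¹ᵁ U).ι).obj E) :=
    ((tilde.functor (CommRingCat.of Γ(X, π ⁻¹ᵁ U))).mapDerivedCategoryFactors.app P).symm ≪≫
      (tildeD _).mapIso eP ≪≫ e
  have hinv : hU'.isoSpec.hom ≫ hU'.isoSpec.inv = 𝟙 _ := Iso.hom_inv_id _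
  let L := (resD (π ⁻¹ᵁ U).ι).obj E
  let eF : Q.obj F ≅ L :=
    (pushQ hU'.isoSpec.inv T).symm ≪≫ (pushD hU'.isoSpec.inv).mapIso eT ≪≫
      (pushDComp _ _ ≪≫ pushDCongr hinv).app L ≪≫ (pushD (𝟙 _)).mapIso (rep L).symm ≪≫
      pushQ (𝟙 _) (Q.objPreimage L) ≪≫
      Q.mapIso ((NatIso.mapHomologicalComplex (Scheme.Modules.pushforwardId _) _).app (Q.objPreimage L) ≪≫
        (Functor.mapHomologicalComplexIdIso _ _).app (Q.objPreimage L)) ≪≫ rep L
  have hq : ∀ n, Coh.IsQCoh (F.X n) := fun n =>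
    QCqs72.isQuasicoherent_pushforward (M := tilde (P.X n)) hU'.isoSpec.inv
  let eg : Q.obj ((pushC (π ∣_ U)).obj F) ≅ (DCoh.Rpush (π ∣_ U)).obj (Q.obj F) :=
    @asIso _ _ _ _ ((PropPush72.αu (π ∣_ U)).app ((HomotopyCategory.quotient _ (ComplexShape.up ℤ)).obj F))
      (QCohPush72.isIso_unit_affineHom (π ∣_ U) F hq)
  let N := (pushC hU.isoSpec.hom).obj ((pushC (π ∣_ U)).obj F)
  let eN : Q.obj N ≅ (pushD hU.isoSpec.hom).obj ((resD U.ι).obj ((DCoh.Rpush π).obj E)) :=
    (pushQ hU.isoSpec.hom _).symm ≪≫ (pushD hU.isoSpec.hom).mapIso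
      (eg ≪≫ (DCoh.Rpush (π ∣_ U)).mapIso eF ≪≫ (eR.app E).symm)
  have hmor : hU'.isoSpec.inv ≫ (π ∣_ U) ≫ hU.isoSpec.hom = Spec.map (π.app U) := by
    rw [Iso.inv_comp_eq, ← Scheme.Hom.resLE_eq_morphismRestrict, Scheme.Hom.app_eq_appLE]
    exact (Scheme.Opens.toSpecΓ_SpecMap_appLE π U (π ⁻¹ᵁ U) le_rfl).symm
  haveI : QuasiCompact (Spec.map (π.app U)) := inferInstance
  haveI : QuasiSeparated (Spec.map (π.app U)) := inferInstance
  let eN' : N ≅ (pushC (Spec.map (π.app U))).obj T :=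
    (pushC hU.isoSpec.hom).mapIso ((pushCComp _ _).app T) ≪≫ (pushCComp _ _).app T ≪≫
      (pushCCongr (show (hU'.isoSpec.inv ≫ (π ∣_ U)) ≫ hU.isoSpec.hom = Spec.map (π.app U) by
        rw [Category.assoc, hmor])).app T
  let eRes : ((tilde.functor (CommRingCat.of Γ(Y, U))).mapHomologicalComplex (ComplexShape.up ℤ)).obj
      ((DRing.restrictCx (π.app U).hom).obj P) ≅ (pushC (Spec.map (π.app U))).obj T :=
    (Functor.mapHomologicalComplexCompIso (TildePush.pushTildeIso (π.app U)) _).app P ≪≫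
      ((Functor.mapHomologicalComplexCompIso
        (Iso.refl (tilde.functor _ ⋙ Scheme.Modules.pushforward (Spec.map (π.app U)))) _).app P).symm
  exact ⟨(tildeD _).mapIso ((DRing.restrictD _).mapIso eP.symm ≪≫ DR39.restrictDIso _ P) ≪≫
    (tilde.functor _).mapDerivedCategoryFactors.app _ ≪≫ Q.mapIso (eRes ≪≫ eN'.symm) ≪≫ eN⟩

end Groth.Agent.FlatMor67.RpushAffine
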