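import Mathlib.RingTheory.Ideal.Cotangent
import Mathlib.Algebra.TrivSqZeroExt.Basic
import Mathlib.Algebra.TrivSqZeroExt.Ideal
import Mathlib.Algebra.Module.LocalizedModule.Basic
import Mathlib.RingTheory.Localization.Away.Basic
import Mathlib.RingTheory.LocalProperties.Projective
import Mathlib.RingTheory.FiniteType
import Mathlib.RingTheory.LocalProperties.FinitePresentation

/-!
Retractions of square-zero extensions: `A` a ring, `E` an `A`-algebra, `N` a square-zero ideal of
`E` with `A → E ⧸ N` surjective.  If retractions exist locally on `A` in the lifting sense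
`LiftsAt`, and the module `P = N / (ker (A → E ⧸ N))` is projective whenever it is locally so, then
there is a global retraction `E → A`.
-/

set_option linter.style.haveILetI false

universe u

namespace Groth.Agent.FlatMor67.SqZero

variable {A E : Type u} [CommRing A] [CommRing E] [Algebra A E] (N : Ideal E)

/-- The kernel of `A → E ⧸ N`. -/
def baseIdeal : Ideal A := RingHom.ker ((Ideal.Quotient.mk N).comp (algebraMap A E))

lemma mem_baseIdeal {x : A} : x ∈ baseIdeal (A := A) N ↔ algebraMap A E x ∈ N := by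
  rw [baseIdeal, RingHom.mem_ker, RingHom.comp_apply, Ideal.Quotient.eq_zero_iff_mem]

/-- Image of the base ideal in the conormal module. -/
def baseSub : Submodule (E ⧸ N) N.Cotangent :=
  Submodule.span (E ⧸ N)
    (Set.range fun x : baseIdeal (A := A) N =>
      N.toCotangent ⟨algebraMap A E x.1, (mem_baseIdeal N).mp x.2⟩)

/-- The relative conormal module `N / I`. -/
abbrev Conormal (A : Type u) [CommRing A] [Algebra A E] (N : Ideal E) : Type u :=
  N.Cotangent ⧸ baseSub (A := A) N

/-- Lifting property near `g : A`: `A`-algebra maps out of `E` lift along first order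
thickenings of rings in which `g` is invertible. -/
def LiftsAt (A : Type u) [CommRing A] [Algebra A E] (N : Ideal E) (g : A) : Prop :=
  ∀ (B : Type u) [CommRing B] [Algebra A B], IsUnit (algebraMap A B g) →
    ∀ (L K : Ideal B), L ^ 2 = ⊥ → K ≤ L → ∀ φ : E →ₐ[A] B ⧸ K,
      (∀ n ∈ N, φ n ∈ L.map (Ideal.Quotient.mk K)) →
      ∃ ψ : E →ₐ[A] B, (Ideal.Quotient.mkₐ A K).comp ψ = φ

variable {N}

lemma mem_baseSub_iff (hs : Function.Surjective ((Ideal.Quotient.mk N).comp (algebraMap A E)))
    {m : N.Cotangent} : m ∈ baseSub (A := A) N ↔ ∃ x : baseIdeal (A := A) N,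
      N.toCotangent ⟨algebraMap A E x.1, (mem_baseIdeal N).mp x.2⟩ = m := by
  refine ⟨fun hm => ?_, fun ⟨x, hx⟩ => hx ▸ Submodule.subset_span ⟨x, rfl⟩⟩
  induction hm using Submodule.span_induction with
  | mem _ h => exact h
  | zero => exact ⟨0, (congrArg N.toCotangent (Subtype.ext (by simp))).trans (map_zero _)⟩
  | add a b _ _ ha hb =>
    obtain ⟨x, rfl⟩ := ha
    obtain ⟨y, rfl⟩ := hb
    exact ⟨x + y, by rw [← map_add]; congr 1; ext; simp⟩
  | smul c a _ ha =>
    obtain ⟨x, rfl⟩ := ha
    obtain ⟨d, rfl⟩ := hs c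
    refine ⟨d • x, ?_⟩
    rw [RingHom.comp_apply, ← Ideal.Quotient.algebraMap_eq,
      IsScalarTower.algebraMap_smul, ← map_smul]
    congr 1; ext; simp [Algebra.smul_def]

variable (hs : Function.Surjective ((Ideal.Quotient.mk N).comp (algebraMap A E)))

include hs in
lemma exists_sub_mem (e : E) : ∃ c : A, e - algebraMap A E c ∈ N := by
  obtain ⟨c, hc⟩ := hs (Ideal.Quotient.mk N e)
  exact ⟨c, Ideal.Quotient.eq.mp hc.symm⟩

/-- The universal derivation to the conormal module. -/
noncomputable def dP (e : E) : Conormal A N :=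
  Submodule.Quotient.mk (N.toCotangent ⟨_, (exists_sub_mem hs e).choose_spec⟩)

lemma dP_eq (e : E) (a : A) (h : e - algebraMap A E a ∈ N) :
    dP hs e = Submodule.Quotient.mk (N.toCotangent ⟨_, h⟩) := by
  obtain ⟨c, hc, hdef⟩ : ∃ c, ∃ hc : e - algebraMap A E c ∈ N,
      dP hs e = Submodule.Quotient.mk (N.toCotangent ⟨_, hc⟩) := ⟨_, _, rfl⟩
  rw [hdef, Submodule.Quotient.eq, ← map_sub]
  refine (mem_baseSub_iff hs).mpr ⟨⟨a - c, (mem_baseIdeal N).mpr ?_⟩, ?_⟩
  · rw [map_sub]; convert N.sub_mem hc h using 1; ring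
  · congr 1; ext; simp

lemma dP_algebraMap (a : A) : dP hs (algebraMap A E a) = 0 := by
  rw [dP_eq hs _ a (by simp), Submodule.Quotient.mk_eq_zero]
  exact (mem_baseSub_iff hs).mpr ⟨0, by congr 1; ext; simp⟩

lemma dP_add (x y : E) : dP hs (x + y) = dP hs x + dP hs y := by
  obtain ⟨a, ha⟩ := exists_sub_mem hs x
  obtain ⟨b, hb⟩ := exists_sub_mem hs y
  have hab : x + y - algebraMap A E (a + b) ∈ N := by
    convert N.add_mem ha hb using 1; rw [map_add]; ring
  rw [dP_eq hs x a ha, dP_eq hs y b hb, dP_eq hs _ _ hab, ← Submodule.Quotient.mk_add, ← map_add]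
  congr 2; ext; simp only [map_add, Submodule.coe_add]; ring

lemma dP_mul (x y : E) :
    dP hs (x * y) = Ideal.Quotient.mk N x • dP hs y + Ideal.Quotient.mk N y • dP hs x := by
  obtain ⟨a, ha⟩ := exists_sub_mem hs x
  obtain ⟨b, hb⟩ := exists_sub_mem hs y
  have hab : x * y - algebraMap A E (a * b) ∈ N := by
    convert N.sub_mem (N.add_mem (N.mul_mem_left x hb) (N.mul_mem_left y ha))
      (N.mul_mem_left (x - algebraMap A E a) hb) using 1
    rw [map_mul]; ring
  rw [dP_eq hs x a ha, dP_eq hs y b hb, dP_eq hs _ _ hab, ← Submodule.Quotient.mk_smul,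
    ← Submodule.Quotient.mk_smul, ← Submodule.Quotient.mk_add, ← Ideal.Quotient.algebraMap_eq,
    IsScalarTower.algebraMap_smul, IsScalarTower.algebraMap_smul, ← map_smul, ← map_smul,
    ← map_add]
  congr 1
  rw [Ideal.toCotangent_eq, sq]
  convert neg_mem (Ideal.mul_mem_mul ha hb) using 1
  simp only [Submodule.coe_add, Submodule.coe_smul, smul_eq_mul, map_mul]
  ring

lemma dP_mk (n : N) : dP hs (n : E) = Submodule.Quotient.mk (N.toCotangent n) := by
  rw [dP_eq hs _ 0 (by simp)]
  congr 2; ext; simp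

include hs in
lemma finite_conormal (hft : Algebra.FiniteType A E) :
    Module.Finite (E ⧸ N) (Conormal A N) := by
  obtain ⟨s, hgen⟩ := hft.1
  classical
  refine ⟨⟨s.image (dP hs), eq_top_iff.mpr fun z _ => ?_⟩⟩
  obtain ⟨m, rfl⟩ := Submodule.Quotient.mk_surjective _ z
  obtain ⟨n, rfl⟩ := N.toCotangent_surjective m
  rw [← dP_mk hs]
  obtain ⟨e, he0⟩ : ∃ e : E, e = (n : E) := ⟨_, rfl⟩
  rw [← he0]
  have he : e ∈ Algebra.adjoin A (s : Set E) := hgen ▸ Algebra.mem_top
  clear he0
  induction he using Algebra.adjoin_induction with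
  | mem x hx => exact Submodule.subset_span (Finset.mem_image_of_mem _ hx)
  | algebraMap r => rw [dP_algebraMap]; exact zero_mem _
  | add x y _ _ hx hy => rw [dP_add]; exact add_mem hx hy
  | mul x y _ _ hx hy =>
    rw [dP_mul]; exact add_mem (Submodule.smul_mem _ _ hy) (Submodule.smul_mem _ _ hx)

include hs in
/-- Where the lifting property holds, maps out of the conormal module lift. -/
lemma exists_linearMap_lift {g : A} (hg : LiftsAt A N g)
    {R : Type u} [CommRing R] [Algebra (E ⧸ N) R]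
    (hgR : IsUnit (algebraMap (E ⧸ N) R (Ideal.Quotient.mk N (algebraMap A E g))))
    {M M'' : Type u} [AddCommGroup M] [AddCommGroup M''] [Module (E ⧸ N) M] [Module (E ⧸ N) M'']
    [Module R M] [Module R M''] [IsScalarTower (E ⧸ N) R M] [IsScalarTower (E ⧸ N) R M'']
    (π : M →ₗ[R] M'') (hπ : Function.Surjective π) (u : Conormal A N →ₗ[E ⧸ N] M'') :
    ∃ v : Conormal A N →ₗ[E ⧸ N] M, π.restrictScalars (E ⧸ N) ∘ₗ v = u := by
  letI : Module Rᵐᵒᵖ M := Module.compHom M (RingHom.fromOpposite (RingHom.id R) mul_comm)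
  haveI : IsCentralScalar R M := ⟨fun _ _ => rfl⟩
  letI : Algebra A R := ((algebraMap (E ⧸ N) R).comp (algebraMap A (E ⧸ N))).toAlgebra
  letI : Algebra A (TrivSqZeroExt R M) := ((algebraMap R (TrivSqZeroExt R M)).comp (algebraMap A R)).toAlgebra
  have hgB : IsUnit (algebraMap A (TrivSqZeroExt R M) g) := by
    show IsUnit (algebraMap R (TrivSqZeroExt R M) (algebraMap (E ⧸ N) R (Ideal.Quotient.mk N (algebraMap A E g))))
    exact hgR.map _
  let L : Ideal (TrivSqZeroExt R M) := TrivSqZeroExt.kerIdeal R M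
  have hL : ∀ z : (TrivSqZeroExt R M), z ∈ L ↔ z.fst = 0 := fun z => by
    simp only [L, TrivSqZeroExt.kerIdeal, RingHom.mem_ker]; rfl
  let K : Ideal (TrivSqZeroExt R M) :=
    { carrier := {z | z.fst = 0 ∧ π z.snd = 0}
      add_mem' := fun {x y} hx hy => ⟨by simp [hx.1, hy.1], by simp [hx.2, hy.2]⟩
      zero_mem' := ⟨by simp, by simp⟩
      smul_mem' := fun c x hx => ⟨by simp [hx.1], by simp [hx.1, hx.2]⟩ }
  have hK : ∀ z : (TrivSqZeroExt R M), z ∈ K ↔ z.fst = 0 ∧ π z.snd = 0 := fun _ => Iff.rfl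
  have hKL : K ≤ L := fun z hz => (hL z).mpr hz.1
  -- a set-theoretic lift of the test map
  let bar : E →+* R := (algebraMap (E ⧸ N) R).comp (Ideal.Quotient.mk N)
  let σ : E → (TrivSqZeroExt R M) := fun e =>
    TrivSqZeroExt.inl (bar e) + TrivSqZeroExt.inr (Function.surjInv hπ (u (dP hs e)))
  have hσ₁ : ∀ e, (σ e).fst = bar e := fun e => by simp [σ]
  have hσ₂ : ∀ e, π (σ e).snd = u (dP hs e) := fun e => by
    simp [σ, Function.surjInv_eq hπ]
  have hmk : ∀ {z w : (TrivSqZeroExt R M)}, z.fst = w.fst → π z.snd = π w.snd →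
      Ideal.Quotient.mk K z = Ideal.Quotient.mk K w := fun {z w} h₁ h₂ => by
    rw [Ideal.Quotient.eq, hK]
    simp [h₁, h₂]
  have halg : ∀ a : A, Ideal.Quotient.mk K (σ (algebraMap A E a)) = algebraMap A ((TrivSqZeroExt R M) ⧸ K) a := by
    intro a
    rw [← Ideal.Quotient.mk_algebraMap]
    refine hmk ?_ ?_
    · rw [hσ₁]; rfl
    · rw [hσ₂, dP_algebraMap, map_zero]
      show 0 = π (0 : M)
      rw [map_zero]
  let φ : E →ₐ[A] (TrivSqZeroExt R M) ⧸ K :=
    { toFun := fun e => Ideal.Quotient.mk K (σ e)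
      map_one' := by
        have := halg 1
        rwa [map_one, map_one] at this
      map_zero' := by
        have := halg 0
        rwa [map_zero, map_zero] at this
      map_add' := fun x y => by
        rw [← map_add]
        refine hmk ?_ ?_
        · simp [hσ₁]
        · simp [hσ₂, dP_add]
      map_mul' := fun x y => by
        rw [← map_mul]
        refine hmk ?_ ?_
        · simp [hσ₁]
        · have hsm : ∀ (e : E) (m : M''), Ideal.Quotient.mk N e • m = bar e • m := fun e m =>
            (algebraMap_smul R _ m).symm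
          rw [hσ₂, TrivSqZeroExt.snd_mul]
          simp only [map_add, LinearMap.map_smul, hσ₁, hσ₂, op_smul_eq_smul, dP_mul,
            ← hsm]
      commutes' := halg }
  obtain ⟨ψ, hψ⟩ := hg (TrivSqZeroExt R M) hgB L K (TrivSqZeroExt.kerIdeal_sq R M) hKL φ (fun n hn => by
    refine Ideal.mem_map_of_mem _ ((hL _).mpr ?_)
    rw [hσ₁]
    simp [bar, Ideal.Quotient.eq_zero_iff_mem.mpr hn])
  have hψ' : ∀ e, (ψ e).fst = bar e ∧ π (ψ e).snd = u (dP hs e) := by
    intro e
    have h := (Ideal.Quotient.eq.mp (AlgHom.congr_fun hψ e) : ψ e - σ e ∈ K)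
    rw [hK] at h
    simp only [TrivSqZeroExt.fst_sub, TrivSqZeroExt.snd_sub, map_sub, sub_eq_zero] at h
    exact ⟨h.1.trans (hσ₁ e), h.2.trans (hσ₂ e)⟩
  have hψ0 : ∀ a : A, (ψ (algebraMap A E a)).snd = 0 := fun a => by
    rw [ψ.commutes]; rfl
  have hsq : ∀ n : N, (⟨(n : E), n.2⟩ : N).1 ∈ N ^ 2 → (ψ n.1).snd = 0 := by
    intro n hn
    generalize (n : E) = e at hn
    rw [sq] at hn
    induction hn using Submodule.mul_induction_on' with
    | mem_mul_mem x hx y hy =>
      have hx0 : bar x = 0 := by simp [bar, Ideal.Quotient.eq_zero_iff_mem.mpr hx]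
      have hy0 : bar y = 0 := by simp [bar, Ideal.Quotient.eq_zero_iff_mem.mpr hy]
      simp [map_mul, TrivSqZeroExt.snd_mul, (hψ' x).1, (hψ' y).1, hx0, hy0]
    | add x _ y _ hx hy => simp [map_add, hx, hy]
  let v0 : N →+ M :=
    { toFun := fun n => (ψ n.1).snd
      map_zero' := by simp
      map_add' := fun x y => by simp }
  have hv0 : ∀ (e : E) (n : N), v0 (e • n) = bar e • v0 n := fun e n => by
    have hn0 : bar n.1 = 0 := by simp [bar, Ideal.Quotient.eq_zero_iff_mem.mpr n.2]
    simp [v0, TrivSqZeroExt.snd_mul, (hψ' e).1, (hψ' n.1).1, hn0]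
  choose r hr using N.toCotangent_surjective
  have hwd : ∀ n : N, v0 (r (N.toCotangent n)) = v0 n := fun n => by
    have h := (Ideal.toCotangent_eq N).mp (hr (N.toCotangent n))
    have := hsq (r (N.toCotangent n) - n) h
    simpa [v0, sub_eq_zero] using this
  let v1 : N.Cotangent →ₗ[E ⧸ N] M :=
    { toFun := fun z => v0 (r z)
      map_add' := fun x y => by
        obtain ⟨x, rfl⟩ := N.toCotangent_surjective x
        obtain ⟨y, rfl⟩ := N.toCotangent_surjective y
        rw [← map_add, hwd, hwd, hwd, map_add]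
      map_smul' := fun c x => by
        obtain ⟨e, rfl⟩ := Ideal.Quotient.mk_surjective c
        obtain ⟨x, rfl⟩ := N.toCotangent_surjective x
        rw [RingHom.id_apply, ← Ideal.Quotient.algebraMap_eq,
          IsScalarTower.algebraMap_smul, ← map_smul, hwd, hwd, hv0]
        exact algebraMap_smul R (Ideal.Quotient.mk N e) (v0 x) }
  have hv1 : baseSub (A := A) N ≤ LinearMap.ker v1 := by
    rw [baseSub, Submodule.span_le]
    rintro _ ⟨x, rfl⟩
    show v0 (r _) = 0
    rw [hwd]
    exact hψ0 x.1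
  refine ⟨(baseSub (A := A) N).liftQ v1 hv1, Submodule.linearMap_qext _ (LinearMap.ext fun z => ?_)⟩
  obtain ⟨n, rfl⟩ := N.toCotangent_surjective z
  show π (v0 (r (N.toCotangent n))) = u _
  rw [hwd]
  exact ((hψ' n.1).2).trans (congrArg u (dP_mk hs n))

include hs in
lemma projective_localized {g : A} (hg : LiftsAt A N g) (S : Submonoid (E ⧸ N))
    (hgS : IsUnit (algebraMap (E ⧸ N) (Localization S) (Ideal.Quotient.mk N (algebraMap A E g)))) :
    Module.Projective (Localization S) (LocalizedModule S (Conormal A N)) := by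
  refine Module.Projective.of_lifting_property fun {M M''} _ _ _ _ π u hπ => ?_
  letI : Module (E ⧸ N) M := Module.compHom M (algebraMap (E ⧸ N) (Localization S))
  letI : Module (E ⧸ N) M'' := Module.compHom M'' (algebraMap (E ⧸ N) (Localization S))
  haveI : IsScalarTower (E ⧸ N) (Localization S) M := IsScalarTower.of_algebraMap_smul fun _ _ => rfl
  haveI : IsScalarTower (E ⧸ N) (Localization S) M'' := IsScalarTower.of_algebraMap_smul fun _ _ => rfl
  let mk := LocalizedModule.mkLinearMap S (Conormal A N)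
  obtain ⟨v, hv⟩ := exists_linearMap_lift hs hg hgS π hπ (u.restrictScalars (E ⧸ N) ∘ₗ mk)
  have hunit : ∀ (W : Type u) [AddCommGroup W] [Module (E ⧸ N) W] [Module (Localization S) W]
      [IsScalarTower (E ⧸ N) (Localization S) W] (x : S),
      IsUnit (algebraMap (E ⧸ N) (Module.End (E ⧸ N) W) x) := fun W _ _ _ _ x =>
    ((Algebra.lsmul (A := Localization S) (E ⧸ N) (E ⧸ N) W).commutes (x : E ⧸ N)) ▸
      (IsLocalization.map_units (Localization S) x).map (Algebra.lsmul (A := Localization S) (E ⧸ N) (E ⧸ N) W)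
  refine ⟨(IsLocalizedModule.lift S mk v (hunit M)).extendScalarsOfIsLocalization S (Localization S), ?_⟩
  apply LinearMap.restrictScalars_injective (E ⧸ N)
  refine IsLocalizedModule.ext S mk (hunit M'') ?_
  rw [← hv]
  refine LinearMap.ext fun z => ?_
  show π (IsLocalizedModule.lift S mk v (hunit M) (mk z)) = π (v z)
  rw [IsLocalizedModule.lift_apply]

include hs in
lemma projective_of_liftsAt (hft : Algebra.FiniteType A E)
    (hloc : ∀ p : Ideal A, p.IsPrime → ∃ g : A, g ∉ p ∧ LiftsAt A N g) :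
    Module.Projective (E ⧸ N) (Conormal A N) := by
  haveI := finite_conormal hs hft
  set q : A →+* E ⧸ N := (Ideal.Quotient.mk N).comp (algebraMap A E)
  let G : Set (E ⧸ N) := {c | ∃ g : A, q g = c ∧ LiftsAt A N g}
  have hG : Ideal.span G = ⊤ := by
    by_contra h
    obtain ⟨m, hm, hGm⟩ := Ideal.exists_le_maximal _ h
    obtain ⟨g, hgm, hg⟩ := hloc (m.comap q) inferInstance
    exact hgm (hGm (Ideal.subset_span ⟨g, rfl, hg⟩))
  haveI : Module.FinitePresentation (E ⧸ N) (Conormal A N) := by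
    refine Module.FinitePresentation.of_localizationSpan G hG fun ⟨c, g, hc, hg⟩ => ?_
    subst hc
    haveI := projective_localized hs hg (Submonoid.powers (q g))
      (IsLocalization.Away.algebraMap_isUnit (q g))
    exact Module.finitePresentation_of_projective _ _
  refine Module.projective_of_localization_maximal fun m hm => ?_
  obtain ⟨g, hgm, hg⟩ := hloc (m.comap q) inferInstance
  exact projective_localized hs hg m.primeCompl
    (IsLocalization.map_units (Localization m.primeCompl) (⟨q g, hgm⟩ : m.primeCompl))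

include hs in
/-- Global retraction. -/
theorem exists_retraction (hN : N ^ 2 = ⊥) (hI : baseIdeal (A := A) N ^ 2 = ⊥)
    (hP : Module.Projective (E ⧸ N) (Conormal A N))
    (hloc : ∀ p : Ideal A, p.IsPrime → ∃ g : A, g ∉ p ∧ LiftsAt A N g) :
    ∃ r : E →ₐ[A] A, ∀ e : E, e - algebraMap A E (r e) ∈ N := by
  have hinj : Function.Injective (algebraMap A E) := by
    rw [injective_iff_map_eq_zero]
    intro a ha
    by_contra hne
    have hann : (Submodule.span A {a}).annihilator ≠ ⊤ := fun h => hne (by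
      have := (Submodule.mem_annihilator.mp ((Ideal.eq_top_iff_one _).mp h)) a
        (Submodule.mem_span_singleton_self a)
      simpa using this)
    obtain ⟨p, hp, hap⟩ := Ideal.exists_le_maximal _ hann
    obtain ⟨g, hgp, hg⟩ := hloc p hp.isPrime
    let Ag := Localization.Away g
    let I' := (baseIdeal (A := A) N).map (algebraMap A Ag)
    let qA : (E ⧸ N) →ₐ[A] Ag ⧸ I' :=
      (Ideal.quotientMapₐ I' (Algebra.ofId A Ag) Ideal.le_comap_map).comp
        (Ideal.quotientKerAlgEquivOfSurjective (f := Algebra.ofId A (E ⧸ N)) hs).symm.toAlgHom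
    obtain ⟨ψ, -⟩ := hg Ag (IsLocalization.Away.algebraMap_isUnit g) I' I'
      (by rw [← Ideal.map_pow, hI, Ideal.map_bot]) le_rfl
      (qA.comp (Ideal.Quotient.mkₐ A N)) (fun n hn => by
        rw [AlgHom.comp_apply, Ideal.Quotient.mkₐ_eq_mk, Ideal.Quotient.eq_zero_iff_mem.mpr hn,
          map_zero]
        exact zero_mem _)
    have h0 : algebraMap A Ag a = 0 := by rw [← ψ.commutes, ha, map_zero]
    obtain ⟨⟨_, n, rfl⟩, hn⟩ := (IsLocalization.map_eq_zero_iff (Submonoid.powers g) Ag a).mp h0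
    refine hgp (hp.isPrime.mem_of_pow_mem n (hap ?_))
    rw [Submodule.mem_annihilator_span_singleton]
    exact hn
  obtain ⟨s, hsec⟩ := Module.projective_lifting_property (baseSub (A := A) N).mkQ LinearMap.id
    (Submodule.mkQ_surjective _)
  have hsec' : ∀ z, Submodule.Quotient.mk (s z) = z := fun z => LinearMap.congr_fun hsec z
  let S : Ideal E :=
    Submodule.map N.subtype (Submodule.comap N.toCotangent ((LinearMap.range s).restrictScalars E))
  have hSmem : ∀ x, x ∈ S ↔ ∃ h : x ∈ N, N.toCotangent ⟨x, h⟩ ∈ LinearMap.range s := fun x =>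
    ⟨fun ⟨n, hn, he⟩ => he ▸ ⟨n.2, hn⟩, fun ⟨h, hx⟩ => ⟨⟨x, h⟩, hx, rfl⟩⟩
  have hbij : Function.Bijective (Algebra.ofId A (E ⧸ S)) := by
    refine ⟨(injective_iff_map_eq_zero _).mpr fun a ha => ?_, fun z => ?_⟩
    · have ha' : algebraMap A E a ∈ S := Ideal.Quotient.eq_zero_iff_mem.mp ha
      obtain ⟨hN', z, hz⟩ := (hSmem _).mp ha'
      have h1 : (Submodule.Quotient.mk (s z) : Conormal A N) = 0 := by
        rw [Submodule.Quotient.mk_eq_zero, hz]
        exact (mem_baseSub_iff hs).mpr ⟨⟨a, (mem_baseIdeal N).mpr hN'⟩, rfl⟩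
      rw [hsec'] at h1
      rw [h1, map_zero] at hz
      have h2 := (Ideal.toCotangent_eq_zero N ⟨_, hN'⟩).mp hz.symm
      rw [hN, Ideal.mem_bot] at h2
      exact hinj (h2.trans (map_zero _).symm)
    · obtain ⟨e, rfl⟩ := Ideal.Quotient.mk_surjective z
      obtain ⟨a, ha⟩ := exists_sub_mem hs e
      set w := N.toCotangent ⟨_, ha⟩
      have hw : w - s (Submodule.Quotient.mk w) ∈ baseSub (A := A) N := by
        rw [← Submodule.Quotient.eq, hsec']
      obtain ⟨x, hx⟩ := (mem_baseSub_iff hs).mp hw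
      refine ⟨a + x.1, ?_⟩
      show Ideal.Quotient.mk S (algebraMap A E (a + x.1)) = _
      rw [eq_comm, Ideal.Quotient.eq, hSmem]
      have hxN := (mem_baseIdeal N).mp x.2
      have hmem : e - algebraMap A E (a + x.1) ∈ N := by
        convert N.sub_mem ha hxN using 1; rw [map_add]; ring
      refine ⟨hmem, ⟨Submodule.Quotient.mk w, ?_⟩⟩
      have : N.toCotangent ⟨_, hmem⟩ = w - N.toCotangent ⟨_, hxN⟩ := by
        rw [← map_sub]; congr 1; ext; simp only [map_add, Submodule.coe_sub]; ring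
      rw [this, hx, sub_sub_cancel]
  let e := AlgEquiv.ofBijective (Algebra.ofId A (E ⧸ S)) hbij
  refine ⟨e.symm.toAlgHom.comp (Ideal.Quotient.mkₐ A S), fun x => ?_⟩
  have h := e.apply_symm_apply (Ideal.Quotient.mk S x)
  have : x - algebraMap A E (e.symm (Ideal.Quotient.mk S x)) ∈ S := Ideal.Quotient.eq.mp h.symm
  exact ((hSmem _).mp this).1

end Groth.Agent.FlatMor67.SqZero
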