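import Groth.Agent.FlatMor67.LiftAffine
import Groth.Agent.FlatMor67.SqZeroRetract
import Mathlib.AlgebraicGeometry.Morphisms.Immersion
import Mathlib.AlgebraicGeometry.Morphisms.Affine
import Mathlib.AlgebraicGeometry.Morphisms.FiniteType
import Mathlib.AlgebraicGeometry.IdealSheaf.Subscheme

/-!
Lifting along affine first order thickenings for affine-locally formally smooth morphisms:
the first order neighbourhood of the graph is affine and has a retraction.
-/

set_option linter.style.haveILetI false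
set_option backward.isDefEq.respectTransparency.types false

universe u

namespace Groth.Agent.FlatMor67.SmoothLift

open AlgebraicGeometry CategoryTheory Limits Scheme

lemma hom_apply_eq_zero {R R' : CommRingCat.{u}} (g : R ⟶ R') {v : R} (h : v = 0) : g v = 0 := by
  subst h; exact map_zero g.hom

/-- A map whose restriction to a square-zero thickening factors through a closed subscheme
factors through its first order neighbourhood. -/
lemma sq_le_ker {T S S' Zo : Scheme.{u}} (j : T ⟶ Zo) [IsClosedImmersion j] (k : S ⟶ S')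
    [IsClosedImmersion k] (hk : k.ker * k.ker = ⊥) (u : S ⟶ T) (s : S' ⟶ Zo)
    (h : k ≫ s = u ≫ j) : j.ker ^ 2 ≤ s.ker := by
  refine IdealSheafData.le_ofIdeals_iff.mpr fun U => ?_
  rw [IdealSheafData.ideal_pow, Pi.pow_apply, Hom.ker_apply, sq, Ideal.mul_le]
  intro x hx y hy
  have hz : ∀ z ∈ RingHom.ker (j.app U.1).hom, ∀ (W : S'.affineOpens) (hW : W.1 ≤ s ⁻¹ᵁ U.1),
      S'.presheaf.map (homOfLE hW).op (s.app U.1 z) ∈ k.ker.ideal W := by
    intro z hz W hW
    rw [Hom.ker_apply, RingHom.mem_ker]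
    have h1 : k.app (s ⁻¹ᵁ U.1) (s.app U.1 z) = 0 := by
      have hz' : j.app U.1 z = 0 := hz
      have h2 : ((u ≫ j).app U.1) z = 0 := by
        rw [Scheme.Hom.comp_app]
        exact hom_apply_eq_zero (u.app (j ⁻¹ᵁ U.1)) hz'
      have h3 : ((k ≫ s).app U.1) z = 0 := by
        rw [Scheme.Hom.congr_app h U.1]
        exact hom_apply_eq_zero (S.presheaf.map _) h2
      exact h3
    have := congr($(k.naturality (homOfLE hW).op) (s.app U.1 z))
    exact this.trans (hom_apply_eq_zero (S.presheaf.map _) h1)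
  rw [RingHom.mem_ker, map_mul]
  apply S'.IsSheaf.section_ext
  intro p hp
  obtain ⟨_, ⟨W, hW, rfl⟩, hpW, hWU⟩ :=
    S'.isBasis_affineOpens.exists_subset_of_mem_open hp (s ⁻¹ᵁ U.1).isOpen
  refine ⟨W, hWU, hpW, ?_⟩
  show S'.presheaf.map (homOfLE hWU).op (s.app U.1 x * s.app U.1 y) =
    S'.presheaf.map (homOfLE hWU).op 0
  rw [map_zero, map_mul]
  have hmem := Ideal.mul_mem_mul (hz x hx ⟨W, hW⟩ hWU) (hz y hy ⟨W, hW⟩ hWU)
  have : (k.ker * k.ker).ideal ⟨W, hW⟩ = k.ker.ideal ⟨W, hW⟩ * k.ker.ideal ⟨W, hW⟩ := rfl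
  rw [← this, hk] at hmem
  exact hmem

variable {X Y : Scheme.{u}} {f : X ⟶ Y}

/-- The closed subscheme cut out by the square of the kernel of a closed immersion. -/
lemma sqNbhd_aux {T Zo Z1 : Scheme.{u}} (j : T ⟶ Zo) [IsClosedImmersion j] (ι1 : Z1 ⟶ Zo)
    [IsClosedImmersion ι1] (hι : ι1.ker = j.ker ^ 2) :
    ∃ j1 : T ⟶ Z1, IsClosedImmersion j1 ∧ Surjective j1 ∧ j1 ≫ ι1 = j ∧
      j1.ker * j1.ker = ⊥ := by
  have hle : ι1.ker ≤ j.ker := by
    rw [hι, sq]
    exact fun U => Ideal.mul_le_left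
  obtain ⟨j1, hj1⟩ : ∃ j1 : T ⟶ Z1, j1 ≫ ι1 = j :=
    ⟨IsClosedImmersion.lift ι1 j hle, IsClosedImmersion.lift_fac _ _ _⟩
  haveI : IsClosedImmersion (j1 ≫ ι1) := hj1 ▸ inferInstance
  haveI : IsClosedImmersion j1 := IsClosedImmersion.of_comp j1 ι1
  refine ⟨j1, inferInstance, ⟨fun z => ?_⟩, hj1, ?_⟩
  · have hz : ι1 z ∈ (ι1.ker.support : Set Zo) := by
      rw [Hom.support_ker]; exact subset_closure ⟨z, rfl⟩
    rw [hι, IdealSheafData.support_pow _ 2 two_ne_zero, Hom.support_ker] at hz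
    have hz' : ι1 z ∈ Set.range j := j.isClosedEmbedding.isClosed_range.closure_eq ▸ hz
    obtain ⟨q, hq⟩ := hz'
    refine ⟨q, ι1.isEmbedding.injective ?_⟩
    rw [← Scheme.Hom.comp_apply, hj1]
    exact hq
  · refine IdealSheafData.ext_of_iSup_eq_top
      (fun O : Zo.affineOpens => ⟨ι1 ⁻¹ᵁ O.1, O.2.preimage ι1⟩) ?_ fun O => ?_
    · show ⨆ O : Zo.affineOpens, ι1 ⁻¹ᵁ O.1 = ⊤
      rw [← Hom.preimage_iSup, iSup_affineOpens_eq_top]
      rfl
    · rw [IdealSheafData.ideal_mul, Pi.mul_apply, Hom.ker_apply, IdealSheafData.ideal_bot,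
        Pi.bot_apply, eq_bot_iff, Ideal.mul_le]
      intro z hz z' hz'
      obtain ⟨z, rfl⟩ := ι1.app_surjective O.1 O.2 z
      obtain ⟨z', rfl⟩ := ι1.app_surjective O.1 O.2 z'
      rw [Ideal.mem_bot, ← map_mul, ← RingHom.mem_ker, ← Hom.ker_apply, hι,
        IdealSheafData.ideal_pow, Pi.pow_apply, sq]
      have hJ : ∀ v, j1.app (ι1 ⁻¹ᵁ O.1) (ι1.app O.1 v) = 0 → v ∈ j.ker.ideal O := fun v hv => by
        rw [Hom.ker_apply, RingHom.mem_ker, Scheme.Hom.congr_app hj1.symm O.1]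
        exact hom_apply_eq_zero (T.presheaf.map _) hv
      exact Ideal.mul_mem_mul (hJ z hz) (hJ z' hz')

/-- First order neighbourhood of an immersed copy of `T` in `P`, with its universal property. -/
theorem exists_firstOrderNbhd {T P : Scheme.{u}} (σ : T ⟶ P) [IsImmersion σ] :
    ∃ (Z1 : Scheme.{u}) (ι : Z1 ⟶ P) (j1 : T ⟶ Z1), IsImmersion ι ∧ IsClosedImmersion j1 ∧
      Surjective j1 ∧ j1 ≫ ι = σ ∧ j1.ker * j1.ker = ⊥ ∧
      ∀ {S S' : Scheme.{u}} (k : S ⟶ S') (_ : IsClosedImmersion k) (_ : Surjective k)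
        (u : S ⟶ T) (z : S' ⟶ P),
        k.ker * k.ker = ⊥ → k ≫ z = u ≫ σ → ∃ ψ : S' ⟶ Z1, ψ ≫ ι = z := by
  obtain ⟨Zo, j, o, _, _, rfl⟩ : ∃ (Zo : Scheme.{u}) (j : T ⟶ Zo) (o : Zo ⟶ P),
      IsClosedImmersion j ∧ IsOpenImmersion o ∧ j ≫ o = σ :=
    ⟨_, σ.liftCoborder, σ.coborderRange.ι, inferInstance, inferInstance, σ.liftCoborder_ι⟩
  obtain ⟨Z1, ι1, _, hι⟩ : ∃ (Z1 : Scheme.{u}) (ι1 : Z1 ⟶ Zo),
      IsClosedImmersion ι1 ∧ ι1.ker = j.ker ^ 2 :=
    ⟨_, (j.ker ^ 2).subschemeι, inferInstance, IdealSheafData.ker_subschemeι _⟩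
  obtain ⟨j1, _, _, hj1, hJ1⟩ := sqNbhd_aux j ι1 hι
  refine ⟨Z1, ι1 ≫ o, j1, inferInstance, inferInstance, inferInstance,
    by rw [reassoc_of% hj1], hJ1, fun {S S'} k hk hk' u z hker hz => ?_⟩
  haveI := hk
  haveI := hk'
  have hzr : Set.range z ⊆ Set.range o := by
    rintro _ ⟨q, rfl⟩
    obtain ⟨q, rfl⟩ := k.surjective q
    refine ⟨j (u q), ?_⟩
    show (u ≫ j ≫ o) q = (k ≫ z) q
    rw [hz]
  let zo := IsOpenImmersion.lift o z hzr
  have hzo : zo ≫ o = z := IsOpenImmersion.lift_fac _ _ _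
  have hJle : ι1.ker ≤ zo.ker := hι ▸ sq_le_ker j k hker u zo (by
    rw [← cancel_mono o]
    simp only [Category.assoc, hzo, hz])
  exact ⟨IsClosedImmersion.lift ι1 zo hJle, by rw [IsClosedImmersion.lift_fac_assoc, hzo]⟩

variable {A : Type u} [CommRing A] {I : Ideal A}
  {a : Spec (CommRingCat.of (A ⧸ I)) ⟶ X} {b : Spec (CommRingCat.of A) ⟶ Y}
  {Z1 : Scheme.{u}} {ι : Z1 ⟶ pullback f b} [IsImmersion ι]
  {j1 : Spec (CommRingCat.of (A ⧸ I)) ⟶ Z1} [IsClosedImmersion j1] [Surjective j1]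

lemma exists_nbhd_charts (hI : I ^ 2 = ⊥)
    (w : Spec.map (CommRingCat.ofHom (Ideal.Quotient.mk I)) ≫ b = a ≫ f)
    (hj1π : j1 ≫ ι ≫ pullback.snd f b = Spec.map (CommRingCat.ofHom (Ideal.Quotient.mk I)))
    (hj1x : j1 ≫ ι ≫ pullback.fst f b = a) (y : Spec (CommRingCat.of A)) :
    ∃ (U : X.Opens) (V : Y.Opens) (W : (Spec (CommRingCat.of A)).Opens),
      IsAffineOpen U ∧ IsAffineOpen V ∧ IsAffineOpen W ∧ U ≤ f ⁻¹ᵁ V ∧ y ∈ W ∧
      (ι ≫ pullback.snd f b) ⁻¹ᵁ W ≤ (ι ≫ pullback.fst f b) ⁻¹ᵁ U ∧ W ≤ b ⁻¹ᵁ V := by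
  haveI : IsClosedImmersion (Spec.map (CommRingCat.ofHom (Ideal.Quotient.mk I))) :=
    IsClosedImmersion.spec_of_surjective _ Ideal.Quotient.mk_surjective
  haveI : Surjective (Spec.map (CommRingCat.ofHom (Ideal.Quotient.mk I))) :=
    specMk_surjective ⟨2, hI⟩
  obtain ⟨U, V, W, hU, hV, hW, hUV, hyW, hWU, hWV⟩ := exists_charts w y
  refine ⟨U, V, W, hU, hV, hW, hUV, hyW, fun z hz => ?_, hWV⟩
  obtain ⟨q, rfl⟩ := j1.surjective z
  have hq : Spec.map (CommRingCat.ofHom (Ideal.Quotient.mk I)) q ∈ W := by rw [← hj1π]; exact hz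
  show (j1 ≫ ι ≫ pullback.fst f b) q ∈ U
  rw [hj1x]
  exact hWU hq

lemma isAffine_nbhd (hI : I ^ 2 = ⊥)
    (w : Spec.map (CommRingCat.ofHom (Ideal.Quotient.mk I)) ≫ b = a ≫ f)
    (hj1π : j1 ≫ ι ≫ pullback.snd f b = Spec.map (CommRingCat.ofHom (Ideal.Quotient.mk I)))
    (hj1x : j1 ≫ ι ≫ pullback.fst f b = a) : IsAffine Z1 := by
  suffices IsAffineHom (ι ≫ pullback.snd f b) from isAffine_of_isAffineHom (ι ≫ pullback.snd f b)
  haveI : IsClosedImmersion (Spec.map (CommRingCat.ofHom (Ideal.Quotient.mk I))) :=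
    IsClosedImmersion.spec_of_surjective _ Ideal.Quotient.mk_surjective
  choose U V W hU hV hW hUV hyW hZU hWV using exists_nbhd_charts hI w hj1π hj1x
  set π := ι ≫ pullback.snd f b with hπdef
  set xZ := ι ≫ pullback.fst f b with hxZdef
  have hxf : xZ ≫ f = π ≫ b := by simp only [π, xZ, Category.assoc, pullback.condition]
  have hW' : ⨆ y, W y = ⊤ :=
    eq_top_iff.mpr fun y _ => TopologicalSpace.Opens.mem_iSup.mpr ⟨y, hyW y⟩
  rw [HasAffineProperty.iff_of_iSup_eq_top (P := @IsAffineHom) (Q := fun X _ _ _ => IsAffine X)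
    (fun y => ⟨W y, hW y⟩) hW']
  intro y
  haveI : IsAffine (U y).toScheme := hU y
  haveI : IsAffine (V y).toScheme := hV y
  haveI : IsAffine (W y).toScheme := hW y
  let fr := f.resLE (V y) (U y) (hUV y)
  let br := b.resLE (V y) (W y) (hWV y)
  let m : (π ⁻¹ᵁ W y).toScheme ⟶ pullback fr br :=
    pullback.lift (xZ.resLE (U y) (π ⁻¹ᵁ W y) (hZU y)) (π ∣_ W y) (by
      rw [← cancel_mono (V y).ι]
      simp only [fr, br, Category.assoc, Hom.resLE_comp_ι, Hom.resLE_comp_ι_assoc,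
        morphismRestrict_ι_assoc, hxf])
  let em : pullback fr br ⟶ pullback f b :=
    pullback.map fr br f b (U y).ι (W y).ι (V y).ι (Hom.resLE_comp_ι _ _) (Hom.resLE_comp_ι _ _)
  have hm : m ≫ em = (π ⁻¹ᵁ W y).ι ≫ ι := by
    refine pullback.hom_ext ?_ ?_
    · simp only [m, em, xZ, Category.assoc, pullback.lift_fst, pullback.lift_fst_assoc,
        Hom.resLE_comp_ι]
    · simp only [m, em, π, Category.assoc, pullback.lift_snd, pullback.lift_snd_assoc,
        morphismRestrict_ι]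
  haveI : IsImmersion (m ≫ em) := hm ▸ inferInstance
  haveI : IsImmersion m := IsImmersion.of_comp m em
  let n := (j1 ∣_ (π ⁻¹ᵁ W y)) ≫ m
  haveI : IsClosedImmersion (n ≫ pullback.snd fr br) := by
    have : n ≫ pullback.snd fr br = (j1 ≫ π) ∣_ W y := by
      simp only [n, m, Category.assoc, pullback.lift_snd, morphismRestrict_comp]
    rw [this]
    exact IsZariskiLocalAtTarget.restrict (hj1π ▸ inferInstance) (W y)
  haveI : IsClosedImmersion n := IsClosedImmersion.of_comp n (pullback.snd fr br)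
  haveI : Surjective (j1 ∣_ (π ⁻¹ᵁ W y)) := IsZariskiLocalAtTarget.restrict ‹Surjective j1› _
  haveI : IsClosedImmersion m := by
    refine IsClosedImmersion.of_isPreimmersion _ ?_
    have : Set.range m = Set.range n := by
      refine subset_antisymm ?_ ?_
      · rintro _ ⟨z, rfl⟩
        obtain ⟨q, rfl⟩ := (j1 ∣_ (π ⁻¹ᵁ W y)).surjective z
        exact ⟨q, rfl⟩
      · rintro _ ⟨q, rfl⟩
        exact ⟨_, rfl⟩
    rw [this]
    exact n.isClosedEmbedding.isClosed_range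
  exact isAffine_of_isAffineHom m

/-- The algebra of the first order neighbourhood of the graph of `a`. -/
theorem exists_neighbourhood (hI : I ^ 2 = ⊥)
    (w : Spec.map (CommRingCat.ofHom (Ideal.Quotient.mk I)) ≫ b = a ≫ f)
    (hj1σ : j1 ≫ ι = pullback.lift a (Spec.map (CommRingCat.ofHom (Ideal.Quotient.mk I))) w.symm)
    (hJ1 : j1.ker * j1.ker = ⊥)
    (hfac1 : ∀ {S S' : Scheme.{u}} (k : S ⟶ S') (_ : IsClosedImmersion k) (_ : Surjective k)
        (u : S ⟶ Spec (CommRingCat.of (A ⧸ I))) (z : S' ⟶ pullback f b), k.ker * k.ker = ⊥ →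
        k ≫ z = u ≫ pullback.lift a (Spec.map (CommRingCat.ofHom (Ideal.Quotient.mk I))) w.symm →
        ∃ ψ : S' ⟶ Z1, ψ ≫ ι = z)
    (hf : ∀ (U : X.Opens) (V : Y.Opens) (_ : IsAffineOpen U) (_ : IsAffineOpen V)
      (hUV : U ≤ f ⁻¹ᵁ V), letI := (f.appLE V U hUV).hom.toAlgebra
      Algebra.FormallySmooth Γ(Y, V) Γ(X, U)) :
    ∃ (E : Type u) (_ : CommRing E) (_ : Algebra A E) (N : Ideal E) (x : Spec (CommRingCat.of E) ⟶ X),
      Function.Surjective ((Ideal.Quotient.mk N).comp (algebraMap A E)) ∧ N ^ 2 = ⊥ ∧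
      SqZero.baseIdeal (A := A) N ^ 2 = ⊥ ∧
      (LocallyOfFiniteType f → Algebra.FiniteType A E) ∧
      (∀ p : Ideal A, p.IsPrime → ∃ g : A, g ∉ p ∧ SqZero.LiftsAt A N g) ∧
      x ≫ f = Spec.map (CommRingCat.ofHom (algebraMap A E)) ≫ b ∧
      ∀ r : E →ₐ[A] A, (∀ e, e - algebraMap A E (r e) ∈ N) →
        Spec.map (CommRingCat.ofHom (Ideal.Quotient.mk I)) ≫
          Spec.map (CommRingCat.ofHom r.toRingHom) ≫ x = a := by
  set φA : CommRingCat.of A ⟶ CommRingCat.of (A ⧸ I) := CommRingCat.ofHom (Ideal.Quotient.mk I)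
  set t := Spec.map φA with ht
  haveI : IsClosedImmersion t := IsClosedImmersion.spec_of_surjective _ Ideal.Quotient.mk_surjective
  haveI : Surjective t := specMk_surjective ⟨2, hI⟩
  have hj1π : j1 ≫ ι ≫ pullback.snd f b = t := by rw [reassoc_of% hj1σ, pullback.lift_snd]
  have hj1x : j1 ≫ ι ≫ pullback.fst f b = a := by rw [reassoc_of% hj1σ, pullback.lift_fst]
  haveI : IsAffine Z1 := isAffine_nbhd hI w hj1π hj1x
  choose U V W hU hV hW hUV hyW hZU hWV using exists_nbhd_charts hI w hj1π hj1x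
  let π : Z1 ⟶ Spec (CommRingCat.of A) := ι ≫ pullback.snd f b
  let xZ : Z1 ⟶ X := ι ≫ pullback.fst f b
  have hxf : xZ ≫ f = π ≫ b := by simp only [π, xZ, Category.assoc, pullback.condition]
  -- the algebra
  letI : Algebra A Γ(Z1, ⊤) := ((Scheme.ΓSpecIso (CommRingCat.of A)).inv ≫ π.appTop).hom.toAlgebra
  have hπ : π = Z1.isoSpec.hom ≫ Spec.map (CommRingCat.ofHom (algebraMap A Γ(Z1, ⊤))) := by
    show π = Z1.toSpecΓ ≫ Spec.map ((Scheme.ΓSpecIso (CommRingCat.of A)).inv ≫ π.appTop)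
    rw [Spec.map_comp, ← Scheme.toSpecΓ_naturality_assoc, toSpecΓ_SpecMap_ΓSpecIso_inv,
      Category.comp_id]
  let N : Ideal Γ(Z1, ⊤) := RingHom.ker j1.appTop.hom
  have hsurjTop : Function.Surjective j1.appTop := j1.app_surjective ⊤ (isAffineOpen_top Z1)
  have hjalg : ∀ r : A, j1.appTop (algebraMap A Γ(Z1, ⊤) r) =
      (Scheme.ΓSpecIso (CommRingCat.of (A ⧸ I))).inv (Ideal.Quotient.mk I r) := by
    intro r
    have h1 : π.appTop ≫ j1.appTop = t.appTop := by rw [← Hom.comp_appTop, hj1π]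
    have h2 := congr($(Scheme.ΓSpecIso_inv_naturality φA) r)
    exact (congr($h1 ((Scheme.ΓSpecIso (CommRingCat.of A)).inv r))).trans h2.symm
  have hNmem : ∀ e, e ∈ N ↔ j1.appTop e = 0 := fun e => Iff.rfl
  have hinvI : Function.Bijective (Scheme.ΓSpecIso (CommRingCat.of (A ⧸ I))).inv :=
    ConcreteCategory.bijective_of_isIso _
  have hs : Function.Surjective ((Ideal.Quotient.mk N).comp (algebraMap A Γ(Z1, ⊤))) := by
    intro z
    obtain ⟨e, rfl⟩ := Ideal.Quotient.mk_surjective z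
    obtain ⟨c, hc⟩ := hinvI.2 (j1.appTop e)
    obtain ⟨c, rfl⟩ := Ideal.Quotient.mk_surjective c
    refine ⟨c, Ideal.Quotient.eq.mpr ((hNmem _).mpr ?_)⟩
    rw [map_sub, hjalg]
    exact sub_eq_zero.mpr hc
  have hN2 : N ^ 2 = ⊥ := by
    have := congr(($hJ1).ideal ⟨⊤, isAffineOpen_top Z1⟩)
    rw [IdealSheafData.ideal_mul, Pi.mul_apply, Hom.ker_apply] at this
    rw [sq]
    exact this
  have hI' : SqZero.baseIdeal (A := A) N ^ 2 = ⊥ := by
    have hle : SqZero.baseIdeal (A := A) N ≤ I := fun r hr => by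
      have h := (hNmem _).mp ((SqZero.mem_baseIdeal N).mp hr)
      rw [hjalg, ← map_zero (Scheme.ΓSpecIso (CommRingCat.of (A ⧸ I))).inv.hom] at h
      exact Ideal.Quotient.eq_zero_iff_mem.mp (hinvI.1 h)
    exact eq_bot_iff.mpr ((Ideal.pow_right_mono hle 2).trans hI.le)
  refine ⟨Γ(Z1, ⊤), inferInstance, inferInstance, N, Z1.isoSpec.inv ≫ xZ, hs, hN2, hI', ?_, ?_,
    ?_, ?_⟩
  · intro hft
    haveI : LocallyOfFiniteType π := inferInstance
    have h1 : (π.appTop).hom.FiniteType := HasRingHomProperty.appTop @LocallyOfFiniteType π ‹_›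
    have h2 : (algebraMap A Γ(Z1, ⊤)).FiniteType :=
      h1.comp (RingHom.FiniteType.of_surjective _
        (ConcreteCategory.bijective_of_isIso (Scheme.ΓSpecIso (CommRingCat.of A)).inv).2)
    exact RingHom.finiteType_algebraMap.mp h2
  · intro p hp
    obtain ⟨_, ⟨g, rfl⟩, hpg, hgW⟩ := PrimeSpectrum.isTopologicalBasis_basic_opens.exists_subset_of_mem_open
      (hyW ⟨p, hp⟩) (W ⟨p, hp⟩).isOpen
    refine ⟨g, hpg, fun B _ _ hgB L K hL hKL φ hφ => ?_⟩
    set y : Spec (CommRingCat.of A) := (⟨p, hp⟩ : PrimeSpectrum A)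
    let bB : Spec (CommRingCat.of B) ⟶ Y := Spec.map (CommRingCat.ofHom (algebraMap A B)) ≫ b
    let mK : Spec (CommRingCat.of (B ⧸ K)) ⟶ Spec (CommRingCat.of B) :=
      Spec.map (CommRingCat.ofHom (Ideal.Quotient.mk K))
    let z1 : Spec (CommRingCat.of (B ⧸ K)) ⟶ Z1 :=
      Spec.map (CommRingCat.ofHom φ.toRingHom) ≫ Z1.isoSpec.inv
    have hK2 : K ^ 2 = ⊥ := eq_bot_iff.mpr ((Ideal.pow_right_mono hKL 2).trans hL.le)
    haveI : IsClosedImmersion mK :=
      IsClosedImmersion.spec_of_surjective _ Ideal.Quotient.mk_surjective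
    haveI : Surjective mK := specMk_surjective ⟨2, hK2⟩
    have hz1π : z1 ≫ π = mK ≫ Spec.map (CommRingCat.ofHom (algebraMap A B)) := by
      rw [hπ]
      simp only [z1, mK, Category.assoc, Iso.inv_hom_id_assoc, ← Spec.map_comp]
      congr 1
      exact CommRingCat.hom_ext (RingHom.ext fun r => φ.commutes r)
    have hrange : ∀ v, Spec.map (CommRingCat.ofHom (algebraMap A B)) v ∈ W y := fun v => hgW <| by
      intro hv
      exact v.isPrime.ne_top (v.asIdeal.eq_top_of_isUnit_mem hv hgB)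
    have hwB : mK ≫ bB = (z1 ≫ xZ) ≫ f := by
      rw [Category.assoc, hxf, reassoc_of% hz1π]
    obtain ⟨l, hl₁, hl₂⟩ := exists_local_lift (specMk_isNilpotent_ker ⟨2, hK2⟩) hwB (hU y) (hV y)
      (hUV y) (hf (U y) (V y) (hU y) (hV y) (hUV y)) (isAffineOpen_top (Spec (CommRingCat.of B)))
      (fun q _ => hZU y (show (z1 ≫ π) q ∈ W y by rw [hz1π]; exact hrange (mK q)))
      (fun q _ => hWV y (hrange q))
    let l' : Spec (CommRingCat.of B) ⟶ X := (Scheme.topIso _).inv ≫ l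
    have hl₁' : l' ≫ f = bB := by
      simp [l', hl₁]
    have hl₂' : mK ≫ l' = z1 ≫ xZ := by
      have e1 : mK ≫ (Scheme.topIso _).inv = (Scheme.topIso _).inv ≫ (mK ∣_ ⊤) := by
        refine (cancel_mono (Scheme.topIso _).hom).mp ?_
        rw [Category.assoc, Category.assoc, Iso.inv_hom_id, Category.comp_id]
        exact ((Scheme.topIso _).inv_hom_id_assoc mK).symm.trans
          (congrArg (_ ≫ ·) (morphismRestrict_ι mK ⊤).symm)
      simp only [l']
      rw [← Category.assoc, e1, Category.assoc]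
      exact (congrArg (_ ≫ ·) hl₂).trans ((Scheme.topIso _).inv_hom_id_assoc _)
    let zB : Spec (CommRingCat.of B) ⟶ pullback f b :=
      pullback.lift l' (Spec.map (CommRingCat.ofHom (algebraMap A B))) hl₁'
    have hmz : mK ≫ zB = z1 ≫ ι := by
      refine pullback.hom_ext ?_ ?_
      · rw [Category.assoc, pullback.lift_fst, hl₂']
        simp [xZ]
      · rw [Category.assoc, pullback.lift_snd, ← hz1π]
        simp [π]
    -- the reduction modulo `L`
    let mL : Spec (CommRingCat.of (B ⧸ L)) ⟶ Spec (CommRingCat.of B) :=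
      Spec.map (CommRingCat.ofHom (Ideal.Quotient.mk L))
    haveI : IsClosedImmersion mL :=
      IsClosedImmersion.spec_of_surjective _ Ideal.Quotient.mk_surjective
    let fac : Spec (CommRingCat.of (B ⧸ L)) ⟶ Spec (CommRingCat.of (B ⧸ K)) :=
      Spec.map (CommRingCat.ofHom (Ideal.Quotient.factor hKL))
    have hfac : fac ≫ mK = mL := by
      simp only [fac, mK, mL, ← Spec.map_comp]
      rfl
    let φL : Γ(Z1, ⊤) →+* B ⧸ L := (Ideal.Quotient.factor hKL).comp φ.toRingHom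
    have hφL : RingHom.ker j1.appTop.hom ≤ RingHom.ker φL := fun n hn => by
      obtain ⟨l0, hl0, hl0'⟩ :=
        (Ideal.mem_map_iff_of_surjective _ Ideal.Quotient.mk_surjective).mp (hφ n hn)
      show Ideal.Quotient.factor hKL (φ n) = 0
      rw [← hl0', Ideal.Quotient.factor_mk]
      exact Ideal.Quotient.eq_zero_iff_mem.mpr hl0
    let ψ0 := RingHom.liftOfSurjective j1.appTop.hom hsurjTop ⟨φL, hφL⟩
    let uu : Spec (CommRingCat.of (B ⧸ L)) ⟶ Spec (CommRingCat.of (A ⧸ I)) :=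
      Spec.map (CommRingCat.ofHom ψ0) ≫ (Spec (CommRingCat.of (A ⧸ I))).isoSpec.inv
    have huu : uu ≫ j1 = fac ≫ z1 := by
      simp only [uu, fac, z1, Category.assoc, ← Spec.map_comp_assoc]
      rw [← Scheme.isoSpec_inv_naturality, ← Spec.map_comp_assoc]
      congr 2
      ext n
      exact RingHom.liftOfRightInverse_comp_apply _ _ (Function.rightInverse_surjInv hsurjTop) ⟨φL, hφL⟩ n
    have hker : mL.ker * mL.ker = ⊥ := by
      refine IdealSheafData.ext_of_isAffine ?_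
      rw [IdealSheafData.ideal_mul, Pi.mul_apply, Hom.ker_apply]
      change _ = (⊥ : Ideal _)
      have hbij := ConcreteCategory.bijective_of_isIso (Scheme.ΓSpecIso (CommRingCat.of B)).hom
      rw [eq_bot_iff, Ideal.mul_le]
      intro c hc c' hc'
      have h3 : ∀ d, (mL.app ⊤) d = 0 → (Scheme.ΓSpecIso (CommRingCat.of B)).hom d ∈ L := fun d hd => by
        refine Ideal.Quotient.eq_zero_iff_mem.mp ?_
        refine ((congr($(Scheme.ΓSpecIso_naturality (CommRingCat.ofHom (Ideal.Quotient.mk L))) d)).symm).trans ?_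
        exact hom_apply_eq_zero (Scheme.ΓSpecIso _).hom hd
      rw [Ideal.mem_bot]
      apply hbij.1
      rw [map_mul, map_zero, ← Ideal.mem_bot, ← hL, sq]
      exact Ideal.mul_mem_mul (h3 c hc) (h3 c' hc')
    haveI : Surjective mL := specMk_surjective ⟨2, hL⟩
    obtain ⟨ψ1, hψ1⟩ := hfac1 mL inferInstance inferInstance uu zB hker (by
      rw [← hfac, Category.assoc, hmz, ← reassoc_of% huu, hj1σ])
    obtain ⟨ψ, hψ⟩ : ∃ ψ : CommRingCat.of Γ(Z1, ⊤) ⟶ CommRingCat.of B,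
        Spec.map ψ = ψ1 ≫ Z1.isoSpec.hom := ⟨Spec.preimage _, Spec.map_preimage _⟩
    have hψπ : CommRingCat.ofHom (algebraMap A Γ(Z1, ⊤)) ≫ ψ =
        CommRingCat.ofHom (algebraMap A B) := by
      apply Spec.map_injective
      rw [Spec.map_comp, hψ, Category.assoc]
      refine (congrArg (ψ1 ≫ ·) hπ.symm).trans ?_
      simp only [π, reassoc_of% hψ1, zB, pullback.lift_snd]
    refine ⟨⟨ψ.hom, fun r => congr($hψπ r)⟩, AlgHom.ext fun e => ?_⟩
    have key : mK ≫ ψ1 = z1 := by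
      rw [← cancel_mono ι, Category.assoc, hψ1, hmz]
    have key2 : ψ ≫ CommRingCat.ofHom (Ideal.Quotient.mk K) = CommRingCat.ofHom φ.toRingHom := by
      apply Spec.map_injective
      rw [Spec.map_comp, hψ, reassoc_of% key]
      simp [z1]
    exact congr($key2 e)
  · rw [Category.assoc, hxf, hπ]
    simp only [Category.assoc, Iso.inv_hom_id_assoc]
  · intro r hr
    have h1 : Spec.map φA ≫ Spec.map (CommRingCat.ofHom r.toRingHom) = j1 ≫ Z1.isoSpec.hom := by
      rw [← Spec.map_comp, Scheme.isoSpec_hom, Scheme.toSpecΓ_naturality]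
      rw [show (Spec (CommRingCat.of (A ⧸ I))).toSpecΓ =
        Spec.map (Scheme.ΓSpecIso (CommRingCat.of (A ⧸ I))).hom from
          (SpecMap_ΓSpecIso_hom _).symm, ← Spec.map_comp]
      congr 1
      ext e
      show Ideal.Quotient.mk I (r e) =
        (Scheme.ΓSpecIso (CommRingCat.of (A ⧸ I))).hom (j1.appTop e)
      have h2 : j1.appTop e = j1.appTop (algebraMap A Γ(Z1, ⊤) (r e)) := by
        rw [← sub_eq_zero, ← map_sub]
        exact hr e
      rw [h2, hjalg]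
      exact ((Scheme.ΓSpecIso (CommRingCat.of (A ⧸ I))).inv_hom_id_apply _).symm
    rw [← Category.assoc, h1, Category.assoc, Iso.hom_inv_id_assoc, hj1x]

omit [IsImmersion ι] [IsClosedImmersion j1] [Surjective j1] in
/-- For affine-locally formally smooth morphisms a retraction gives a lift. -/
theorem exists_lift_of_projective (hI : I ^ 2 = ⊥)
    (w : Spec.map (CommRingCat.ofHom (Ideal.Quotient.mk I)) ≫ b = a ≫ f)
    (hf : ∀ (U : X.Opens) (V : Y.Opens) (_ : IsAffineOpen U) (_ : IsAffineOpen V)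
      (hUV : U ≤ f ⁻¹ᵁ V), letI := (f.appLE V U hUV).hom.toAlgebra
      Algebra.FormallySmooth Γ(Y, V) Γ(X, U))
    (hproj : ∀ (E : Type u) [CommRing E] [Algebra A E] (N : Ideal E),
      Function.Surjective ((Ideal.Quotient.mk N).comp (algebraMap A E)) →
      (LocallyOfFiniteType f → Algebra.FiniteType A E) →
      (∀ p : Ideal A, p.IsPrime → ∃ g : A, g ∉ p ∧ SqZero.LiftsAt A N g) →
      Module.Projective (E ⧸ N) (SqZero.Conormal A N)) :
    ∃ l : Spec (CommRingCat.of A) ⟶ X,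
      Spec.map (CommRingCat.ofHom (Ideal.Quotient.mk I)) ≫ l = a ∧ l ≫ f = b := by
  haveI : IsClosedImmersion (Spec.map (CommRingCat.ofHom (Ideal.Quotient.mk I))) :=
    IsClosedImmersion.spec_of_surjective _ Ideal.Quotient.mk_surjective
  let σ := pullback.lift a (Spec.map (CommRingCat.ofHom (Ideal.Quotient.mk I))) w.symm
  haveI : IsImmersion (σ ≫ pullback.snd f b) := by rw [pullback.lift_snd]; infer_instance
  haveI : IsImmersion σ := IsImmersion.of_comp σ (pullback.snd f b)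
  obtain ⟨Z, ι', j', _, _, _, hσ, hJ, hfac⟩ := exists_firstOrderNbhd σ
  obtain ⟨E, _, _, N, x, hs, hN, hI', hft, hloc, hxf, hr⟩ :=
    exists_neighbourhood (ι := ι') (j1 := j') hI w hσ hJ (fun k => hfac k) hf
  obtain ⟨r, hr'⟩ := SqZero.exists_retraction hs hN hI' (hproj E N hs hft hloc) hloc
  refine ⟨Spec.map (CommRingCat.ofHom r.toRingHom) ≫ x, hr r hr', ?_⟩
  rw [Category.assoc, hxf, ← Spec.map_comp_assoc]
  have : CommRingCat.ofHom (algebraMap A E) ≫ CommRingCat.ofHom r.toRingHom = 𝟙 _ :=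
    CommRingCat.hom_ext (RingHom.ext fun q => r.commutes q)
  rw [this, Spec.map_id, Category.id_comp]

end Groth.Agent.FlatMor67.SmoothLift
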