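import Groth.Agent.FlatMor67.SmoothLift
import Groth.Agent.FlatMor67.LocProjective

/-!
Affine-locally formally smooth morphisms are formally smooth (no finiteness assumption).
-/

set_option linter.style.haveILetI false

universe u

namespace Groth.Agent.FlatMor67

open AlgebraicGeometry CategoryTheory

lemma projective_conormal {A E : Type u} [CommRing A] [CommRing E] [Algebra A E] {N : Ideal E}
    (hs : Function.Surjective ((Ideal.Quotient.mk N).comp (algebraMap A E)))
    (hloc : ∀ p : Ideal A, p.IsPrime → ∃ g : A, g ∉ p ∧ SqZero.LiftsAt A N g) :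
    Module.Projective (E ⧸ N) (SqZero.Conormal A N) := by
  set q : A →+* E ⧸ N := (Ideal.Quotient.mk N).comp (algebraMap A E)
  let G : Set (E ⧸ N) := {c | ∃ g : A, q g = c ∧ SqZero.LiftsAt A N g}
  have hG : Ideal.span G = ⊤ := by
    by_contra h
    obtain ⟨m, hm, hGm⟩ := Ideal.exists_le_maximal _ h
    obtain ⟨g, hgm, hg⟩ := hloc (m.comap q) inferInstance
    exact hgm (hGm (Ideal.subset_span ⟨g, rfl, hg⟩))
  refine projective_of_localizationSpan _ G hG ?_
  rintro _ ⟨g, rfl, hg⟩
  exact SqZero.projective_localized hs hg (Submonoid.powers (q g))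
    (IsLocalization.Away.algebraMap_isUnit (q g))

lemma isFormallySmoothHom_of_affineLocally {X Y : Scheme.{u}} {f : X ⟶ Y}
    (hf : ∀ (U : X.Opens) (V : Y.Opens) (_ : IsAffineOpen U) (_ : IsAffineOpen V)
      (hUV : U ≤ f ⁻¹ᵁ V), letI := (f.appLE V U hUV).hom.toAlgebra
      Algebra.FormallySmooth Γ(Y, V) Γ(X, U)) :
    MoreMor.IsFormallySmoothHom f := fun _ _ _ hI _ _ w =>
  SmoothLift.exists_lift_of_projective hI w hf fun _ _ _ _ hs _ hloc =>
    projective_conormal hs hloc

end Groth.Agent.FlatMor67
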