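import Groth.Agent.Unr55.Coordinates
import Groth.Agent.AffNorm62.Basic
import Groth.Agent.SchBasics.SectionRegImm
import Mathlib.AlgebraicGeometry.Morphisms.Smooth
import Mathlib.AlgebraicGeometry.Morphisms.Etale

/-!
Etale coordinates adapted to a smooth closed subscheme of a smooth scheme.
-/

set_option autoImplicit false
set_option backward.isDefEq.respectTransparency.types false
universe u

open CategoryTheory CategoryTheory.Limits AlgebraicGeometry TopologicalSpace

noncomputable section

namespace Groth.Agent.FlatMor67.SmoothPair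

open Groth.Agent.Unr55.Coord in
/-- Etale coordinates of a smooth algebra in which a smooth quotient is a coordinate subspace. -/
theorem exists_coords (R : Type u) {P C : Type u} [CommRing R] [CommRing P] [CommRing C] [Algebra R P]
    [Algebra R C] [Algebra P C] [IsScalarTower R P C] [Algebra.Smooth R P] [Algebra.Smooth R C]
    (hs : Function.Surjective (algebraMap P C)) (Q : Ideal C) [Q.IsPrime] :
    ∃ (m n : ℕ) (g : Fin m ⊕ Fin n → P) (f : P), f ∉ Q.comap (algebraMap P C) ∧
      (MvPolynomial.aeval (fun j => algebraMap P (Localization.Away f) (g j)) :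
        MvPolynomial (Fin m ⊕ Fin n) R →ₐ[R] Localization.Away f).toRingHom.Etale ∧
      (∀ j, algebraMap P C (g (Sum.inr j)) = 0) ∧
      ∀ x ∈ RingHom.ker (algebraMap P C), algebraMap P (Localization.Away f) x ∈
        Ideal.span (Set.range fun j => algebraMap P (Localization.Away f) (g (Sum.inr j))) := by
  classical
  have hfg : (RingHom.ker (algebraMap P C)).FG :=
    Algebra.FinitePresentation.ker_fG_of_surjective (R := R) (IsScalarTower.toAlgHom R P C) hs
  obtain ⟨G, hG⟩ := hfg
  let q := Q.comap (algebraMap P C)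
  have hsm : Algebra.IsSmoothAt R q := inferInstance
  have hsmC : Algebra.IsSmoothAt R Q := inferInstance
  have hker : (RingHom.ker (algebraMap P C)).map (algebraMap P (Localization.AtPrime q)) =
      Ideal.span (Set.range fun i : ↥G => algebraMap P (Localization.AtPrime q) i) := by
    rw [← hG, Ideal.map_span, Set.image_eq_range]
    rfl
  obtain ⟨t, ht, hli⟩ := (isSmoothAt_iff R hs ⟨G, hG⟩ Q hsm (fun i : ↥G => (i : P)) hker).1 hsmC
  let g₀ : Fin t.card → P := fun j => ((t.equivFin.symm j).1 : P)
  have hli₀ : LinearIndependent (IsLocalRing.ResidueField (Localization.AtPrime q)) (fun j => δ R q (g₀ j)) :=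
    hli.comp _ t.equivFin.symm.injective
  obtain ⟨m, g', hli', hspan'⟩ := exists_extend R q g₀ hli₀
  let g : Fin m ⊕ Fin t.card → P := Sum.elim g' g₀
  have hg : (fun j => δ R q (g j)) = (fun j => δ R q (Sum.elim g₀ g' j)) ∘ Equiv.sumComm _ _ := by
    funext j
    rcases j with j | j <;> rfl
  obtain ⟨f₁, hf₁, het⟩ := exists_etale_aeval R q hsm g (hg ▸ hli'.comp _ (Equiv.sumComm _ _).injective)
    (by rw [hg, (Equiv.sumComm _ _).surjective.range_comp]; exact hspan')
  have hG0 : ∀ x ∈ G, algebraMap P C x = 0 := fun x hx => by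
    rw [← RingHom.mem_ker, ← hG]; exact Ideal.subset_span hx
  let J := Ideal.span (Set.range g₀)
  have hJ : ∀ x ∈ RingHom.ker (algebraMap P C), ∃ s ∉ q, s * x ∈ J := by
    intro x hx
    have h1 : algebraMap P (Localization.AtPrime q) x ∈ J.map (algebraMap P (Localization.AtPrime q)) := by
      have := Ideal.mem_map_of_mem (algebraMap P (Localization.AtPrime q)) hx
      rw [ht] at this
      refine Ideal.span_le.2 ?_ this
      rintro _ ⟨i, hi, rfl⟩
      exact Ideal.mem_map_of_mem _ (Ideal.subset_span ⟨t.equivFin ⟨i, hi⟩, by simp [g₀]⟩)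
    obtain ⟨s, hs, hsx⟩ := (IsLocalization.algebraMap_mem_map_algebraMap_iff q.primeCompl
      (Localization.AtPrime q) J x).1 h1
    exact ⟨s, hs, hsx⟩
  choose s hsq hsJ using fun x : ↥G => hJ x.1 (by rw [RingHom.mem_ker]; exact hG0 _ x.2)
  let f₂ := ∏ x, s x
  have hf₂ : f₂ ∉ q := fun h => by
    obtain ⟨x, -, hx⟩ := (Ideal.IsPrime.prod_mem_iff).1 h
    exact hsq x hx
  refine ⟨m, t.card, g, f₁ * f₂, fun h => ((Ideal.IsPrime.mem_or_mem inferInstance h).elim hf₁ hf₂),
    etale_aeval_mul R g f₁ f₂ het, fun j => hG0 _ (t.equivFin.symm j).1.2, ?_⟩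
  intro x hx
  let A := Localization.Away (f₁ * f₂)
  have hx' : x ∈ Ideal.span (G : Set P) := hG ▸ hx
  refine (Ideal.span_le (I := (Ideal.span (Set.range fun j => algebraMap P A (g (Sum.inr j)))).comap
    (algebraMap P A))).2 ?_ hx'
  intro z hz
  have h2 : algebraMap P A (s ⟨z, hz⟩ * z) ∈ Ideal.span (Set.range fun j => algebraMap P A (g (Sum.inr j))) := by
    have := Ideal.mem_map_of_mem (algebraMap P A) (hsJ ⟨z, hz⟩)
    rw [show J.map (algebraMap P A) = Ideal.span (Set.range fun j => algebraMap P A (g (Sum.inr j))) by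
      rw [Ideal.map_span, ← Set.range_comp]; rfl] at this
    exact this
  rw [map_mul] at h2
  refine Ideal.mem_comap.2 ((Ideal.unit_mul_mem_iff_mem _ (IsLocalization.Away.isUnit_of_dvd (f₁ * f₂)
    ((Finset.dvd_prod_of_mem s (Finset.mem_univ ⟨z, hz⟩)).trans (dvd_mul_left f₂ f₁)))).1 h2)

/-- Etale coordinates in any model of the localization. -/
theorem etale_eval₂Hom (R : Type u) {P : Type u} [CommRing R] [CommRing P] [Algebra R P] {σ : Type}
    (g : σ → P) (f : P)
    (h : (MvPolynomial.aeval (fun j => algebraMap P (Localization.Away f) (g j)) :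
      MvPolynomial σ R →ₐ[R] Localization.Away f).toRingHom.Etale)
    (A : Type u) [CommRing A] (ι : P →+* A) (hι : letI := ι.toAlgebra; IsLocalization.Away f A) :
    (MvPolynomial.eval₂Hom (ι.comp (algebraMap R P)) fun j : ULift.{u} σ => ι (g j.down)).Etale := by
  let _ := ι.toAlgebra
  have := hι
  let e : Localization.Away f ≃ₐ[P] A := IsLocalization.algEquiv (Submonoid.powers f) _ _
  let r : MvPolynomial (ULift.{u} σ) R ≃ₐ[R] MvPolynomial σ R := MvPolynomial.renameEquiv R Equiv.ulift
  have heq : (MvPolynomial.eval₂Hom (ι.comp (algebraMap R P)) fun j : ULift.{u} σ => ι (g j.down)) =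
      e.toRingEquiv.toRingHom.comp ((MvPolynomial.aeval (fun j => algebraMap P (Localization.Away f) (g j)) :
        MvPolynomial σ R →ₐ[R] Localization.Away f).toRingHom.comp r.toRingEquiv.toRingHom) := by
    refine MvPolynomial.ringHom_ext (fun a => ?_) fun j => ?_
    · simp [r, RingHom.algebraMap_toAlgebra, IsScalarTower.algebraMap_apply R P (Localization.Away f)]
    · simp [r, RingHom.algebraMap_toAlgebra]
  rw [heq]
  exact RingHom.Etale.respectsIso.left _ e.toRingEquiv (RingHom.Etale.respectsIso.right _ r.toRingEquiv h)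

variable {S X : Scheme.{u}}

/-- Coordinates with etale ring map give an etale morphism to affine space. -/
theorem etale_homOfVector (p : X ⟶ S) {W : S.Opens} (hW : IsAffineOpen W) {U : X.Opens} (hU : IsAffineOpen U)
    (e : U ≤ p ⁻¹ᵁ W) {σ : Type u} (w : σ → Γ(X, U))
    (h : (MvPolynomial.eval₂Hom (p.appLE W U e).hom w).Etale) :
    Etale (AffineSpace.homOfVector (U.ι ≫ p) fun j => U.topIso.inv (w j)) := by
  have : IsAffine U := hU
  let s : (U : Scheme.{u}) ⟶ Spec Γ(S, W) := hU.isoSpec.hom ≫ Spec.map (p.appLE W U e)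
  have hs : s ≫ hW.fromSpec = U.ι ≫ p := by
    rw [Category.assoc, IsAffineOpen.SpecMap_appLE_fromSpec p hW hU e, ← Category.assoc,
      IsAffineOpen.isoSpec_hom_fromSpec]
  have hπ : AffineSpace.homOfVector (U.ι ≫ p) (fun j => U.topIso.inv (w j)) =
      AffineSpace.homOfVector s (fun j => U.topIso.inv (w j)) ≫ AffineSpace.map σ hW.fromSpec := by
    apply AffineSpace.hom_ext
    · rw [AffineSpace.homOfVector_over, Category.assoc, AffineSpace.map_over,
        AffineSpace.homOfVector_over_assoc, hs]
    · intro j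
      rw [AffineSpace.homOfVector_appTop_coord]
      rw [Scheme.Hom.comp_appTop, CommRingCat.comp_apply, AffineSpace.map_appTop_coord,
        AffineSpace.homOfVector_appTop_coord]
  have : IsOpenImmersion (AffineSpace.map σ hW.fromSpec) :=
    MorphismProperty.of_isPullback (P := @IsOpenImmersion) (AffineSpace.isPullback_map hW.fromSpec).flip
      inferInstance
  have h1 : Etale (AffineSpace.homOfVector s fun j => U.topIso.inv (w j)) := by
    rw [AffNorm62.property_homOfVector_iff @Etale, HasRingHomProperty.Spec_iff (P := @Etale)]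
    have : AffNorm62.coordHom s (fun j => U.topIso.inv (w j)) =
        U.topIso.inv.hom.comp (MvPolynomial.eval₂Hom (p.appLE W U e).hom w) := by
      have hC : (Scheme.ΓSpecIso Γ(S, W)).inv ≫ s.appTop = p.appLE W U e ≫ U.topIso.inv := by
        rw [Scheme.Hom.comp_appTop, IsAffineOpen.isoSpec_hom_appTop]
        erw [← Category.assoc, ← Scheme.ΓSpecIso_inv_naturality]
        simp
      refine MvPolynomial.ringHom_ext (fun a => ?_) fun j => ?_
      · have := congrArg (fun φ => φ.hom a) hC
        simp only [CommRingCat.hom_comp, RingHom.comp_apply] at this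
        simp only [AffNorm62.coordHom, MvPolynomial.eval₂Hom_C, CommRingCat.hom_comp, RingHom.comp_apply]
        exact this
      · simp [AffNorm62.coordHom]
    rw [CommRingCat.hom_ofHom, this]
    exact RingHom.Etale.respectsIso.left _ U.topIso.symm.commRingCatIsoToRingEquiv h
  rw [hπ]
  infer_instance

theorem mem_basicOpen_iff {U : X.Opens} (hU : IsAffineOpen U) (x : U) (b : Γ(X, U)) :
    x.1 ∈ X.basicOpen b ↔ b ∉ (hU.primeIdealOf x).asIdeal := by
  have h := Iff.of_eq (congrArg (hU.primeIdealOf x ∈ ·) (hU.fromSpec_preimage_basicOpen b))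
  change hU.fromSpec (hU.primeIdealOf x) ∈ X.basicOpen b ↔ _ at h
  rwa [hU.fromSpec_primeIdealOf] at h

/-- A morphism to an affine scheme lifts through a closed subscheme when its sections kill the ideal. -/
theorem exists_lift {Z V T : Scheme.{u}} [IsAffine V] (j : Z ⟶ V) [IsClosedImmersion j] (u : T ⟶ V)
    (h : RingHom.ker j.appTop.hom ≤ RingHom.ker u.appTop.hom) : ∃ l : T ⟶ Z, l ≫ j = u := by
  obtain ⟨hZ, hs⟩ := IsClosedImmersion.isAffine_surjective_of_isAffine (f := j)
  let ψ : Γ(Z, ⊤) →+* Γ(T, ⊤) := RingHom.liftOfSurjective j.appTop.hom hs ⟨u.appTop.hom, h⟩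
  have hψ : j.appTop ≫ CommRingCat.ofHom ψ = u.appTop :=
    CommRingCat.hom_ext (RingHom.liftOfRightInverse_comp _ _ _ _)
  refine ⟨T.toSpecΓ ≫ Spec.map (CommRingCat.ofHom ψ) ≫ Z.isoSpec.inv, ext_of_isAffine ?_⟩
  rw [← hψ, Scheme.Hom.comp_appTop]
  congr 1
  simp [Scheme.isoSpec]
  exact congrArg (fun φ => φ ≫ CommRingCat.ofHom ψ) (Scheme.toSpecΓ_appTop Z).symm

end Groth.Agent.FlatMor67.SmoothPair
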