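import Groth.Agent.FlatMor67.FibreVanish
import Groth.Agent.FBase64.AmpFib.Cons
import Groth.Agent.Approx60.FlatDesc
import Groth.Agent.RB70.RelSerre
import Groth.Agent.Amp73.PullTensor
import Groth.Agent.Cube73.Semicont
import Groth.Agent.QC70.DevissageAux

/-!
Uniform vanishing of the cohomology of high powers of a relatively ample module on the fibres.
-/

set_option autoImplicit false
set_option maxSynthPendingDepth 6
set_option synthInstance.maxHeartbeats 200000
set_option linter.style.haveILetI false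
set_option backward.isDefEq.respectTransparency.types false
set_option maxHeartbeats 1000000

universe u

noncomputable section

open CategoryTheory CategoryTheory.Limits AlgebraicGeometry TopologicalSpace Opposite

namespace Groth.Agent.FlatMor67.UniformFibre

open FBase64.AmpFib

set_option backward.isDefEq.respectTransparency false in
theorem exists_flat_model_aux {A₁ A : CommRingCat.{u}} [Algebra A₁ A] [IsNoetherianRing A₁] {X X₁ : Scheme.{u}}
    (f₁ : X₁ ⟶ Spec A₁) [IsProper f₁] (f : X ⟶ Spec A) [Flat f] (g : X ⟶ X₁)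
    (hg : IsPullback g f f₁ (Spec.map (CommRingCat.ofHom (algebraMap A₁ A))))
    {L : X.Modules} (hL : PicF.IsInvertible L) :
    ∃ (S₀ : Scheme.{u}) (_ : AlgebraicGeometry.IsNoetherian S₀) (X₀ : Scheme.{u}) (f₀ : X₀ ⟶ S₀) (_ : IsProper f₀)
      (_ : Flat f₀) (π : Spec A ⟶ S₀) (q : X ⟶ X₀) (_ : IsPullback q f f₀ π)
      (M : X₀.Modules), PicF.IsInvertible M ∧ Nonempty ((Scheme.Modules.pullback q).obj M ≅ L) := by
  let D := LimTop61.subalgSpec A₁ A
  let c : Cone D := LimTop61.subalgCone A₁ A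
  let hc : IsLimit c := LimTop61.isLimitSubalgCone A₁ A
  let i₀ : (LimTop61.FgSubalg A₁ A)ᵒᵖ := Opposite.op ⟨⊥, Subalgebra.fg_bot⟩
  let a₀ : D.obj i₀ ⟶ Spec A₁ :=
    Spec.map (CommRingCat.ofHom (algebraMap A₁ i₀.unop.1))
  let π₀ : Spec A ⟶ D.obj i₀ := c.π.app i₀
  have hπ : π₀ ≫ a₀ = Spec.map (CommRingCat.ofHom (algebraMap A₁ A)) :=
    (Spec.map_comp _ _).symm.trans rfl
  let f₀ : pullback f₁ a₀ ⟶ D.obj i₀ := pullback.snd f₁ a₀
  haveI : IsProper f₀ := inferInstance
  let q₀ : X ⟶ pullback f₁ a₀ := pullback.lift g (f ≫ π₀) (by rw [Category.assoc, hπ]; exact hg.w)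
  have hX₀ : IsPullback q₀ f f₀ π₀ := by
    refine IsPullback.of_right ?_ (pullback.lift_snd _ _ _) (IsPullback.of_hasPullback f₁ a₀)
    rw [pullback.lift_fst, hπ]
    exact hg
  let P := LimTop61.bcDiagram D f₀
  let cP := LimTop61.bcCone D c f₀ q₀ f hX₀.w
  have hP : IsLimit cP := LimTop61.isLimitBcCone D c hc f₀ _ _ hX₀
  haveI : ∀ k : Over i₀, CompactSpace (P.obj k) := fun k =>
    haveI : CompactSpace (D.obj k.left) := inferInstanceAs (CompactSpace (Spec _))
    QuasiCompact.compactSpace_of_compactSpace (pullback.snd f₀ (D.map k.hom))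
  haveI : ∀ k : Over i₀, QuasiSeparatedSpace (P.obj k) := fun k =>
    haveI : QuasiSeparatedSpace (D.obj k.left) := inferInstanceAs (QuasiSeparatedSpace (Spec _))
    haveI : QuasiSeparated (pullback.snd f₀ (D.map k.hom)) :=
      MorphismProperty.pullback_snd (P := @QuasiSeparated) _ _ inferInstance
    quasiSeparatedSpace_of_quasiSeparated (pullback.snd f₀ (D.map k.hom))
  obtain ⟨k, M, hM, ⟨e⟩⟩ := PicLim95.exists_invertible_stage hP L hL
  let fk : pullback f₀ (D.map k.hom) ⟶ D.obj k.left := pullback.snd f₀ (D.map k.hom)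
  haveI : IsProper fk := inferInstance
  let πk : Spec A ⟶ D.obj k.left := c.π.app k.left
  let qk : X ⟶ pullback f₀ (D.map k.hom) :=
    pullback.lift q₀ (f ≫ πk) (by rw [hX₀.w, Category.assoc]; exact congrArg (f ≫ ·) (c.w k.hom).symm)
  have sq : IsPullback qk f fk πk := by
    refine IsPullback.of_right ?_ (pullback.lift_snd _ _ _) (IsPullback.of_hasPullback f₀ (D.map k.hom))
    rw [pullback.lift_fst]
    exact (c.w k.hom).symm ▸ hX₀
  have hnoeth : ∀ j, AlgebraicGeometry.IsNoetherian (D.obj j) := fun j => by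
    haveI : Algebra.FiniteType A₁ j.unop.1 := (Subalgebra.fg_iff_finiteType _).1 j.unop.2
    haveI : IsNoetherianRing j.unop.1 := Algebra.FiniteType.isNoetherianRing A₁ _
    exact inferInstanceAs (AlgebraicGeometry.IsNoetherian (Spec (CommRingCat.of j.unop.1)))
  haveI := hnoeth k.left
  haveI : LocallyOfFinitePresentation fk := lfp_of_lft fk
  have hflat : Flat (pullback.snd fk (c.π.app k.left)) := by
    rw [← sq.isoPullback_inv_snd]
    infer_instance
  obtain ⟨j, φ, hj⟩ := Approx60.descProp_flat.desc D c hc k.left fk inferInstance hflat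
  let fj : pullback fk (D.map φ) ⟶ D.obj j := pullback.snd fk (D.map φ)
  let qj : X ⟶ pullback fk (D.map φ) :=
    pullback.lift qk (f ≫ c.π.app j) (by rw [sq.w, Category.assoc]; exact congrArg (f ≫ ·) (c.w φ).symm)
  have sqj : IsPullback qj f fj (c.π.app j) := by
    refine IsPullback.of_right ?_ (pullback.lift_snd _ _ _) (IsPullback.of_hasPullback fk (D.map φ))
    rw [pullback.lift_fst]
    exact (c.w φ).symm ▸ sq
  refine ⟨_, hnoeth j, _, fj, inferInstance, hj, c.π.app j, qj, sqj,
    (Scheme.Modules.pullback (pullback.fst fk (D.map φ))).obj M, Amp73.isInvertible_pullback _ hM,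
    ⟨(LimTop61.pullbackCompIso (pullback.fst fk (D.map φ)) qj (pullback.lift_fst _ _ _)).app M ≪≫ e⟩⟩

/-- A proper flat finitely presented family with an invertible module over an affine scheme comes from a flat
Noetherian one. -/
theorem exists_flat_model (A : Type u) [CommRing A] {X : Scheme.{u}}
    (f : X ⟶ Spec (CommRingCat.of A)) [IsProper f] [Flat f] [LocallyOfFinitePresentation f] {L : X.Modules}
    (hL : PicF.IsInvertible L) :
    ∃ (S₀ : Scheme.{u}) (_ : AlgebraicGeometry.IsNoetherian S₀) (X₀ : Scheme.{u}) (f₀ : X₀ ⟶ S₀) (_ : IsProper f₀)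
      (_ : Flat f₀) (π : Spec (CommRingCat.of A) ⟶ S₀) (q : X ⟶ X₀) (_ : IsPullback q f f₀ π)
      (M : X₀.Modules), PicF.IsInvertible M ∧ Nonempty ((Scheme.Modules.pullback q).obj M ≅ L) := by
  obtain ⟨A₁, _, _, _, X₁, f₁, _, g, hg⟩ := Hens22.ProperModel.exists_proper_model A f
  letI : Algebra (CommRingCat.of A₁) (CommRingCat.of A) := ‹Algebra A₁ A›
  haveI : IsNoetherianRing (CommRingCat.of A₁) := ‹IsNoetherianRing A₁›
  exact exists_flat_model_aux (A₁ := CommRingCat.of A₁) (A := CommRingCat.of A) f₁ f g hg hL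

/-- Noetherian base. -/
theorem exists_bound_noetherian {X S : Scheme.{u}} (f : X ⟶ S) [AlgebraicGeometry.IsNoetherian S] [IsProper f]
    [Flat f] [LocallyOfFinitePresentation f] {L : X.Modules} (hL : RelAmple.IsRelAmple f L) :
    ∃ N : ℕ, ∀ (y : S) (n p : ℕ), N ≤ n → 1 ≤ p → Subsingleton (CohIII.fiberH f (CohB1.tensorPow L n) y p) := by
  haveI : IsLocallyNoetherian X := LocallyOfFiniteType.isLocallyNoetherian f
  obtain ⟨N, hN⟩ := RB70.exists_isZero_rpush f hL (F := Coh.structureModule X) QC70.isCoh_unit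
  refine ⟨N, fun y n p hn hp => ?_⟩
  have hinv := EGA73.isInvertible_tensorPow (Amp73.isInvertible_of_isRelAmple hL) n
  haveI : (CohB1.tensorPow L n).IsQuasicoherent := Mero90.isQCoh_of_isInvertible hinv
  exact FibreVanish.subsingleton_fiberH_of_rpush (PicLim95.isFP_of_isInvertible hinv)
    (Cube73.isFlatOver_of_isInvertible f hinv)
    (fun q hq => (hN n hn q hq).of_iso ((Coh.Rpush f q).mapIso (EGA73.tensUnitLeft _)).symm) y p hp

/-- The bound passes to base changes. -/
theorem bound_baseChange {X S X' S' : Scheme.{u}} {f : X ⟶ S} {f' : X' ⟶ S'} {g' : X' ⟶ X} {g : S' ⟶ S}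
    [IsProper f] [Flat f] [LocallyOfFinitePresentation f] (hX : IsPullback g' f' f g) {L : X.Modules}
    (hL : PicF.IsInvertible L) {L' : X'.Modules} (e : (Scheme.Modules.pullback g').obj L ≅ L') (z : S') (n p : ℕ) :
    Subsingleton (CohIII.fiberH f (CohB1.tensorPow L n) (g z) p) ↔
      Subsingleton (CohIII.fiberH f' (CohB1.tensorPow L' n) z p) := by
  have hinv := EGA73.isInvertible_tensorPow hL n
  haveI : (CohB1.tensorPow L n).IsQuasicoherent := Mero90.isQCoh_of_isInvertible hinv
  let eP : ∀ m, CohB1.tensorPow ((Scheme.Modules.pullback g').obj L) m ≅ CohB1.tensorPow L' m := fun m =>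
    Nat.rec (Iso.refl _) (fun _ i => EGA73.tensIso i e) m
  let e' : (Scheme.Modules.pullback g').obj (CohB1.tensorPow L n) ≅ CohB1.tensorPow L' n :=
    Amp73.pullPowIso g' hL n ≪≫ eP n
  rw [FibreVanish.fiberH_iff hX (PicLim95.isFP_of_isInvertible hinv) (Cube73.isFlatOver_of_isInvertible f hinv) z p]
  exact ⟨FibreVanish.subsingleton_fiberH_of_iso f' e' z p, FibreVanish.subsingleton_fiberH_of_iso f' e'.symm z p⟩

/-- Affine base. -/
theorem exists_bound_affine (A : Type u) [CommRing A] {X : Scheme.{u}} (f : X ⟶ Spec (CommRingCat.of A))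
    [IsProper f] [Flat f] [LocallyOfFinitePresentation f] {L : X.Modules} (hL : RelAmple.IsRelAmple f L) :
    ∃ N : ℕ, ∀ (y : Spec (CommRingCat.of A)) (n p : ℕ), N ≤ n → 1 ≤ p →
      Subsingleton (CohIII.fiberH f (CohB1.tensorPow L n) y p) := by
  obtain ⟨S₀, _, X₀, f₀, _, _, π, q, sq, M, hM, ⟨e⟩⟩ :=
    exists_flat_model A f (Amp73.isInvertible_of_isRelAmple hL)
  haveI : LocallyOfFinitePresentation f₀ := lfp_of_lft f₀
  let W : S₀.Opens := ⟨ampleLocus f₀ M, isOpen_ampleLocus f₀ hM⟩
  let fW := f₀ ∣_ W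
  haveI : IsProper fW := IsZariskiLocalAtTarget.restrict ‹IsProper f₀› W
  haveI : Flat fW := IsZariskiLocalAtTarget.restrict ‹Flat f₀› W
  haveI : LocallyOfFinitePresentation fW := IsZariskiLocalAtTarget.restrict ‹LocallyOfFinitePresentation f₀› W
  haveI : IsLocallyNoetherian (W : Scheme.{u}) := LocallyOfFiniteType.isLocallyNoetherian W.ι
  haveI : CompactSpace (W : Scheme.{u}) := isCompact_iff_compactSpace.1 (NoetherianSpace.isCompact _)
  haveI : AlgebraicGeometry.IsNoetherian (W : Scheme.{u}) := ⟨⟩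
  have sqW := (isPullback_morphismRestrict f₀ W).flip
  have hMW : RelAmple.IsRelAmple fW ((Scheme.Modules.pullback (f₀ ⁻¹ᵁ W).ι).obj M) :=
    (isRelAmple_iff_forall fW (Amp73.isInvertible_pullback _ hM)).2 fun w =>
      isAmple_fibre_baseChange sqW w w.2
  obtain ⟨N, hN⟩ := exists_bound_noetherian fW hMW
  refine ⟨N, fun y n p hn hp => (bound_baseChange sq hM e y n p).1 ?_⟩
  have hy : π y ∈ W := isAmple_fibre_of_baseChange sq hM y
    (Amp73.isAmple_of_iso ((Scheme.Modules.pullback _).mapIso e.symm) (isAmple_fibre f hL y))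
  exact (bound_baseChange sqW hM (Iso.refl _) ⟨π y, hy⟩ n p).2 (hN _ n p hn hp)

/-- Uniform vanishing on the fibres. -/
theorem exists_bound {X S : Scheme.{u}} (f : X ⟶ S) [CompactSpace S] [IsProper f] [Flat f]
    [LocallyOfFinitePresentation f] {L : X.Modules} (hL : RelAmple.IsRelAmple f L) :
    ∃ N : ℕ, ∀ (y : S) (n p : ℕ), N ≤ n → 1 ≤ p → Subsingleton (CohIII.fiberH f (CohB1.tensorPow L n) y p) := by
  classical
  have key : ∀ V : S.affineOpens, ∃ N : ℕ, ∀ (y : S) (n p : ℕ), y ∈ V.1 → N ≤ n → 1 ≤ p →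
      Subsingleton (CohIII.fiberH f (CohB1.tensorPow L n) y p) := fun V => by
    let b : Spec (CommRingCat.of Γ(S, V.1)) ⟶ S := V.2.fromSpec
    let f' : pullback f b ⟶ Spec (CommRingCat.of Γ(S, V.1)) := pullback.snd f b
    haveI : IsProper f' := inferInstanceAs (IsProper (pullback.snd f b))
    haveI : Flat f' := inferInstanceAs (Flat (pullback.snd f b))
    haveI : LocallyOfFinitePresentation f' := inferInstanceAs (LocallyOfFinitePresentation (pullback.snd f b))
    have sq : IsPullback (pullback.fst f b) f' f b := IsPullback.of_hasPullback f b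
    obtain ⟨N, hN⟩ := exists_bound_affine _ f' (LimTop61.isRelAmple_of_isPullback sq hL)
    refine ⟨N, fun y n p hy hn hp => ?_⟩
    obtain ⟨z, rfl⟩ : ∃ z, b z = y := by
      have : y ∈ Set.range b := by rw [V.2.range_fromSpec]; exact hy
      exact this
    exact (bound_baseChange sq (Amp73.isInvertible_of_isRelAmple hL) (Iso.refl _) z n p).2 (hN z n p hn hp)
  choose N hN using key
  obtain ⟨T, hT⟩ := (isCompact_univ (X := S)).elim_finite_subcover (fun V : S.affineOpens => (V.1 : Set S))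
    (fun V => V.1.2) fun y _ => by
      obtain ⟨V, hV⟩ := IsOpenCover.exists_mem (iSup_affineOpens_eq_top S) y
      exact Set.mem_iUnion.2 ⟨V, hV⟩
  refine ⟨T.sup N, fun y n p hn hp => ?_⟩
  obtain ⟨V, hVT, hyV⟩ := Set.mem_iUnion₂.1 (hT (Set.mem_univ y))
  exact hN V y n p hyV ((Finset.le_sup hVT).trans hn) hp

end Groth.Agent.FlatMor67.UniformFibre
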