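import Groth.Agent.Omega57.StalkZero
import Groth.Agent.Amp73.Ext
import Mathlib.AlgebraicGeometry.Morphisms.FormallyUnramified

set_option linter.style.haveILetI false

universe u
open CategoryTheory AlgebraicGeometry Limits

namespace Groth.Agent.FlatMor67.UnrOmega

variable {X S : Scheme.{u}} (f : X ⟶ S)

/-- A morphism is formally unramified iff its sheaf of differentials vanishes. -/
theorem formallyUnramified_iff_isZero [IsSeparated f] : FormallyUnramified f ↔ IsZero (Omega.sheaf f) := by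
  rw [HasRingHomProperty.iff_appLE (P := @FormallyUnramified)]
  constructor
  · intro h
    rw [IsZero.iff_id_eq_zero]
    refine Scheme.Modules.hom_ext _ _ fun W => ?_
    refine AddCommGrpCat.hom_ext (AddMonoidHom.ext fun s => ?_)
    refine Groth.Agent.Var76.ZeroScheme.eq_of_locally _ _ _ fun x hx => ?_
    obtain ⟨V, hV, hxV, -⟩ := exists_isAffineOpen_mem_and_subset (X := S) (x := f x) (U := ⊤) trivial
    obtain ⟨U, hU, hxU, hUV⟩ :=
      exists_isAffineOpen_mem_and_subset (X := X) (x := x) (U := W ⊓ f ⁻¹ᵁ V) ⟨hx, hxV⟩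
    refine ⟨U, fun y hy => (hUV hy).1, hxU, ?_⟩
    have hUV' : U ≤ f ⁻¹ᵁ V := fun y hy => (hUV hy).2
    letI := (f.appLE V U hUV').hom.toAlgebra
    haveI : Algebra.FormallyUnramified Γ(S, V) Γ(X, U) := h ⟨V, hV⟩ ⟨U, hU⟩ hUV'
    haveI := Groth.Agent.Omega57.isIso_toSect f hU hV hUV'
    haveI : Subsingleton Γ(Omega.sheaf f, U) :=
      haveI : Subsingleton (CommRingCat.KaehlerDifferential (f.appLE V U hUV')) :=
        (inferInstance : Subsingleton Ω[Γ(X, U)⁄Γ(S, V)])
      (asIso (OmAff.toSect f V U hUV')).toLinearEquiv.symm.toEquiv.subsingleton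
    exact Subsingleton.elim _ _
  · intro h V U e
    letI := (f.appLE V.1 U.1 e).hom.toAlgebra
    haveI := Groth.Agent.Omega57.isIso_toSect f U.2 V.2 e
    haveI : Subsingleton Γ(Omega.sheaf f, U.1) := by
      refine subsingleton_of_forall_eq 0 fun s => ?_
      have h' := congrArg (fun φ : Omega.sheaf f ⟶ Omega.sheaf f => φ.app U.1 s) ((IsZero.iff_id_eq_zero _).1 h)
      simpa using h'
    haveI : Subsingleton Ω[Γ(X, U.1)⁄Γ(S, V.1)] :=
      (asIso (OmAff.toSect f V.1 U.1 e)).toLinearEquiv.toEquiv.subsingleton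
    show Algebra.FormallyUnramified Γ(S, V.1) Γ(X, U.1)
    exact ⟨this⟩

end Groth.Agent.FlatMor67.UnrOmega
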