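import Groth.Agent.S1967
import Groth.Agent.WE91.Local
import Groth.Agent.WE24.Field

/-!
# A local ring weakly étale over a normal domain is a normal domain
-/

universe u

open TensorProduct

namespace Groth.Agent.FlatMor67

theorem isDomain_and_isIntegrallyClosed_of_weaklyEtale (A B : Type u) [CommRing A] [IsDomain A]
    [IsIntegrallyClosed A] [CommRing B] [IsLocalRing B] [Algebra A B] [Algebra.WeaklyEtale A B] :
    IsDomain B ∧ IsIntegrallyClosed B := by
  let K := FractionRing A
  have hic : IsIntegrallyClosedIn B (B ⊗[A] K) := S1967.result A K B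
  obtain ⟨hinj, hint⟩ := isIntegrallyClosedIn_iff.1 hic
  have hvnr : ∀ x : B ⊗[A] K, ∃ y, x * x * y = x := fun x => by
    let c := Algebra.TensorProduct.comm A B K
    obtain ⟨y, hy⟩ := WE24.vnr_of_weaklyEtale (K := K) (S := K ⊗[A] B) (c x)
    exact ⟨c.symm y, c.injective (by rw [map_mul, map_mul, AlgEquiv.apply_symm_apply, hy])⟩
  have : Nontrivial (B ⊗[A] K) := hinj.nontrivial
  have hfield : IsField (B ⊗[A] K) := by
    refine ⟨⟨0, 1, zero_ne_one⟩, mul_comm, fun {x} hx => ?_⟩
    obtain ⟨y, hy⟩ := hvnr x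
    have he : (x * y) * (x * y) = x * y := by
      calc (x * y) * (x * y) = (x * x * y) * y := by ring
        _ = x * y := by rw [hy]
    obtain ⟨b, hb⟩ := hint (x := x * y)
      ⟨Polynomial.X ^ 2 - Polynomial.X, Polynomial.monic_X_pow_sub (by simp), by
        simp [pow_two, he]⟩
    have hbb : b * (1 - b) = 0 := hinj (by
      rw [map_mul, map_sub, map_one, hb, map_zero, mul_sub, mul_one, he, sub_self])
    refine ⟨y, ?_⟩
    rcases IsLocalRing.isUnit_or_isUnit_one_sub_self b with h | h
    · obtain rfl : b = 1 := (sub_eq_zero.1 (h.mul_right_eq_zero.1 hbb)).symm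
      rw [← hb, map_one]
    · obtain rfl : b = 0 := h.mul_left_eq_zero.1 hbb
      rw [map_zero] at hb
      exact absurd (by rw [← hy, mul_assoc, ← hb, mul_zero]) hx
  let := hfield.toField
  have : IsDomain B := hinj.isDomain (algebraMap B (B ⊗[A] K))
  have : IsFractionRing B (B ⊗[A] K) := by
    have : FaithfulSMul B (B ⊗[A] K) := (faithfulSMul_iff_algebraMap_injective _ _).2 hinj
    refine IsFractionRing.of_field B (B ⊗[A] K) fun z => ?_
    obtain ⟨a, s, rfl⟩ := IsLocalization.exists_mk'_eq
      (Algebra.algebraMapSubmonoid B (nonZeroDivisors A)) z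
    refine ⟨a, s.1, ?_⟩
    rw [eq_div_iff (IsLocalization.map_units (B ⊗[A] K) s).ne_zero, IsLocalization.mk'_spec]
  exact ⟨inferInstance, (isIntegrallyClosed_iff (B ⊗[A] K)).2 fun hx => hint hx⟩

theorem normal_localization_of_weaklyEtale (A B : Type u) [CommRing A] [CommRing B] [Algebra A B]
    [Algebra.WeaklyEtale A B] (q : Ideal B) [q.IsPrime] (Ap Bq : Type u) [CommRing Ap] [CommRing Bq]
    [Algebra A Ap] [Algebra B Bq] [IsLocalization.AtPrime Ap (q.comap (algebraMap A B))]
    [IsLocalization.AtPrime Bq q] [IsDomain Ap] [IsIntegrallyClosed Ap] :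
    IsDomain Bq ∧ IsIntegrallyClosed Bq := by
  let : Algebra A Bq := ((algebraMap B Bq).comp (algebraMap A B)).toAlgebra
  have : IsScalarTower A B Bq := IsScalarTower.of_algebraMap_eq' rfl
  let p := q.comap (algebraMap A B)
  let : Algebra Ap Bq := (IsLocalization.lift (M := p.primeCompl) (g := algebraMap A Bq)
    (fun y => IsLocalization.map_units Bq (⟨algebraMap A B y.1, y.2⟩ : q.primeCompl))).toAlgebra
  have : IsScalarTower A Ap Bq := IsScalarTower.of_algebraMap_eq fun a =>
    (IsLocalization.lift_eq _ a).symm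
  have := WE91.weaklyEtale_of_isLocalization A Ap p.primeCompl
  have := WE91.weaklyEtale_of_isLocalization B Bq q.primeCompl
  have : Algebra.WeaklyEtale A Bq := Algebra.WeaklyEtale.trans A B Bq
  have : Algebra.WeaklyEtale Ap Bq := WE24.weaklyEtale_of_algHom A Ap Bq
  have := IsLocalization.AtPrime.isLocalRing Bq q
  exact isDomain_and_isIntegrallyClosed_of_weaklyEtale Ap Bq

end Groth.Agent.FlatMor67
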