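import Groth.Agent.FlatMor66.LevelF

/-! Adapted étale charts of a quasi-finite morphism, constructibility of fibre integrals. -/

set_option autoImplicit false
universe u

open AlgebraicGeometry CategoryTheory Limits IsLocalRing Topology

namespace Groth.Agent.FlatMor67

open Groth.Agent.FlatMor66

variable {X Y W : Scheme.{u}}

/-- Over `v` the pieces `V q` have exactly one geometric point, where `w` has the value `n q`, and they
split the fibre. -/
structure IsAdapted (f : X ⟶ Y) (w : X → ℤ) (b : W ⟶ Y) {ι : Type u} (V : ι → (pullback f b).Opens)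
    (n : ι → ℤ) (v : W) : Prop where
  cover : ∀ z, pullback.snd f b z = v → ∃ q, z ∈ V q
  disj : ∀ z, pullback.snd f b z = v → ∀ j k, z ∈ V j → z ∈ V k → j = k
  nonempty : ∀ q, ∃ z ∈ V q, pullback.snd f b z = v
  value : ∀ q, ∀ z ∈ V q, pullback.snd f b z = v → w (pullback.fst f b z) = n q
  unique : ∀ q, ∀ (K : Type u) [Field K] [IsAlgClosed K] (l l' : Spec (CommRingCat.of K) ⟶ pullback f b),
    l ≫ pullback.snd f b = l' ≫ pullback.snd f b → pullback.snd f b (gpt l) = v →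
    gpt l ∈ V q → gpt l' ∈ V q → l = l'

theorem isConstructible_opens_of_isFinite (f : X ⟶ Y) (b : W ⟶ Y) [IsAffine W]
    [QuasiSeparatedSpace ↑(pullback f b)] (V : (pullback f b).Opens)
    [IsFinite (V.ι ≫ pullback.snd f b)] : IsConstructible (V : Set ↑(pullback f b)) := by
  have : IsAffine V.toScheme := isAffine_of_isAffineHom (V.ι ≫ pullback.snd f b)
  have hk : IsCompact (V : Set ↑(pullback f b)) := by
    rw [← Scheme.Opens.range_ι]; exact isCompact_range V.ι.continuous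
  exact (hk.isRetrocompact V.2).isConstructible V.2

theorem exists_adapted (f : X ⟶ Y) [IsAffine X] [IsAffine Y] [LocallyQuasiFinite f] [LocallyOfFiniteType f]
    (w : X → ℤ) (y : Y) :
    ∃ (W : Scheme.{u}) (_ : IsAffine W) (b : W ⟶ Y) (_ : Etale b) (ι : Type u) (_ : Finite ι)
      (V : ι → (pullback f b).Opens) (_ : ∀ q, IsFinite ((V q).ι ≫ pullback.snd f b)) (n : ι → ℤ) (v : W),
      b v = y ∧ IsAdapted f w b V n v := by
  obtain ⟨K, _, _, p, hp⟩ := exists_gpt y
  have hfin : (f ⁻¹' {y}).Finite := f.finite_preimage_singleton y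
  obtain ⟨D⟩ := exists_splitting f p (f ⁻¹' {y}) hfin (fun x hx => by rw [hp]; exact hx)
  have := D.etale
  obtain ⟨A, hA, htA, -⟩ :=
    D.W.isBasis_affineOpens.exists_subset_of_mem_open (Set.mem_univ (gpt D.r)) isOpen_univ
  obtain ⟨A, hA', rfl⟩ := hA
  have hAaff : IsAffine (Scheme.Opens.toScheme A) := hA'
  let b : Scheme.Opens.toScheme A ⟶ Y := Scheme.Opens.ι A ≫ D.b
  let v : Scheme.Opens.toScheme A := ⟨gpt D.r, htA⟩
  let Q := {q : GPt f p // gpt q.1 ∈ f ⁻¹' {y}}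
  have : Finite Q := finite_gpts f p _ hfin
  let V : Q → (pullback f b).Opens := fun q => pullMap f D.b (Scheme.Opens.ι A) ⁻¹ᵁ D.V q
  have hmap : ∀ z, pullback.snd f b z = v →
      pullback.snd f D.b (pullMap f D.b (Scheme.Opens.ι A) z) = gpt D.r := fun z hz => by
    rw [← Scheme.Hom.comp_apply, pullMap_snd, Scheme.Hom.comp_apply, hz]; rfl
  have hby : b v = y := by
    show (Scheme.Opens.ι A ≫ D.b) v = _
    rw [Scheme.Hom.comp_apply]
    exact (gpt_comp D.r D.b).symm.trans ((congrArg gpt D.hr).trans hp)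
  have hpt : ∀ z, pullback.snd f b z = v → pullback.fst f D.b (pullMap f D.b (Scheme.Opens.ι A) z) ∈ f ⁻¹' {y} := by
    intro z hz
    show f _ = y
    rw [← Scheme.Hom.comp_apply (pullback.fst f D.b) f, pullback.condition, Scheme.Hom.comp_apply, hmap z hz]
    exact (gpt_comp D.r D.b).symm.trans ((congrArg gpt D.hr).trans hp)
  refine ⟨_, hAaff, b, inferInstance, Q, inferInstance, V, fun q => (have := D.finite q; isFinite_pullMap f D.b _ _),
    fun q => w (gpt q.1.1), v, hby, ?_, ?_, ?_, ?_, ?_⟩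
  · intro z hz
    obtain ⟨q, hq⟩ := D.eq_pt _ (hmap z hz) (hpt z hz)
    exact ⟨q, show pullMap f D.b _ z ∈ D.V q by rw [← hq]; exact D.mem q⟩
  · intro z hz j k hj hk
    exact D.pt_injective ((D.unique _ _ hj (hmap z hz)).symm.trans (D.unique _ _ hk (hmap z hz)))
  · intro q
    obtain ⟨z, hz1, hz2⟩ := Scheme.exists_preimage_of_isPullback (isPullback_pullMap f D.b (Scheme.Opens.ι A))
      (D.pt q) v (show pullback.snd f D.b (D.pt q) = _ from snd_liftPt ..)
    exact ⟨z, show pullMap f D.b _ z ∈ D.V q by rw [hz1]; exact D.mem q, hz2⟩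
  · intro q z hz hzv
    show w (pullback.fst f b z) = w (gpt q.1.1)
    refine congrArg w ?_
    rw [← pullMap_fst f D.b (Scheme.Opens.ι A), Scheme.Hom.comp_apply, D.unique q _ hz (hmap z hzv)]
    exact fst_liftPt ..
  · intro q K' _ _ l l' he hlv hl hl'
    have hl'v : pullback.snd f b (gpt l') = v := by rw [← gpt_comp, ← he, gpt_comp, hlv]
    have h1 := D.unique q _ hl (hmap _ hlv)
    have h2 := D.unique q _ hl' (hmap _ hl'v)
    have h' := D.pi (D.pt q) (snd_liftPt ..) ((fst_liftPt f D.b q.1.1 D.r _).symm ▸ q.2) K'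
      (l ≫ pullMap f D.b (Scheme.Opens.ι A)) (l' ≫ pullMap f D.b (Scheme.Opens.ι A))
      (by rw [gpt_comp]; exact h1) (by rw [gpt_comp]; exact h2)
      (by rw [Category.assoc, Category.assoc, pullMap_snd, reassoc_of% he])
    apply pullback.hom_ext
    · simpa only [Category.assoc, pullMap_fst] using congrArg (· ≫ pullback.fst f D.b) h'
    · exact he

theorem exists_constructible_adapted (f : X ⟶ Y) [IsAffine X] [IsAffine Y] [LocallyQuasiFinite f]
    [LocallyOfFinitePresentation f] (w : X → ℤ) (hw : ∀ m : ℤ, IsConstructible {x | w x = m})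
    (b : W ⟶ Y) [IsAffine W] {ι : Type u} [Finite ι] (V : ι → (pullback f b).Opens)
    [∀ q, IsFinite ((V q).ι ≫ pullback.snd f b)] (n : ι → ℤ) (v : W) (hv : IsAdapted f w b V n v) :
    ∃ C : Set W, IsConstructible C ∧ v ∈ C ∧ ∀ v' ∈ C, IsAdapted f w b V n v' := by
  classical
  have : IsAffine (pullback f b) := inferInstance
  let P := (pullback f b : Scheme.{u})
  let π := pullback.snd f b
  have hV : ∀ q, IsConstructible (V q : Set P) := fun q => isConstructible_opens_of_isFinite f b (V q)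
  obtain ⟨K, _, _, p, hp⟩ := exists_gpt v
  have hE : ∀ q, ∃ E : Set W, IsConstructible E ∧ v ∈ E ∧ ∀ (K' : Type u) [Field K'] [IsAlgClosed K']
      (q₁ q₂ : Spec (CommRingCat.of K') ⟶ (V q).toScheme),
      q₁ ≫ (V q).ι ≫ π = q₂ ≫ (V q).ι ≫ π → ((V q).ι ≫ π) (gpt q₁) ∈ E → q₁ = q₂ := fun q => by
    refine exists_constructible_single ((V q).ι ≫ π) v p hp fun K' _ _ q₁ q₂ he hq => ?_
    rw [← cancel_mono (V q).ι]
    refine hv.unique q K' _ _ (by simpa only [Category.assoc] using he) ?_ ?_ ?_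
    · rw [gpt_comp, ← Scheme.Hom.comp_apply]; exact hq
    · rw [gpt_comp]; exact (gpt q₁).2
    · rw [gpt_comp]; exact (gpt q₂).2
  choose E hE hvE hEu using hE
  let B₁ : Set W := π '' (⋃ q, (V q : Set P))ᶜ
  let B₂ : {qq : ι × ι // qq.1 ≠ qq.2} → Set W := fun qq => π '' ((V qq.1.1 : Set P) ∩ V qq.1.2)
  let B₃ : ι → Set W := fun q => π '' ((V q : Set P) ∩ {z | w (pullback.fst f b z) = n q}ᶜ)
  have hB₁ : IsConstructible B₁ := π.isConstructible_image (IsConstructible.iUnion hV).compl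
  have hB₂ : IsConstructible (⋃ qq, B₂ qq) :=
    IsConstructible.iUnion fun qq => π.isConstructible_image ((hV _).inter (hV _))
  have hB₃ : IsConstructible (⋃ q, B₃ q) := IsConstructible.iUnion fun q => π.isConstructible_image
    ((hV q).inter ((pullback.fst f b).isConstructible_preimage (hw (n q))).compl)
  have hne : IsConstructible (⋂ q, π '' (V q : Set P)) :=
    IsConstructible.iInter fun q => π.isConstructible_image (hV q)
  refine ⟨(⋂ q, E q) ∩ (B₁ᶜ ∩ ((⋃ qq, B₂ qq)ᶜ ∩ ((⋃ q, B₃ q)ᶜ ∩ ⋂ q, π '' (V q : Set P)))),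
    (IsConstructible.iInter hE).inter (hB₁.compl.inter (hB₂.compl.inter (hB₃.compl.inter hne))),
    ⟨Set.mem_iInter.mpr hvE, ?_, ?_, ?_, Set.mem_iInter.mpr fun q => ?_⟩, ?_⟩
  · rintro ⟨z, hz, hzv⟩
    exact hz (Set.mem_iUnion.mpr (hv.cover z hzv))
  · intro h
    obtain ⟨qq, z, ⟨h1, h2⟩, hzv⟩ := Set.mem_iUnion.mp h
    exact qq.2 (hv.disj z hzv _ _ h1 h2)
  · intro h
    obtain ⟨q, z, ⟨h1, h2⟩, hzv⟩ := Set.mem_iUnion.mp h
    exact h2 (hv.value q z h1 hzv)
  · obtain ⟨z, hz, hzv⟩ := hv.nonempty q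
    exact ⟨z, hz, hzv⟩
  rintro v' ⟨hE', h1, h2, h3, h4⟩
  refine ⟨?_, ?_, fun q => ?_, ?_, ?_⟩
  · intro z hz
    by_contra hne
    exact h1 ⟨z, fun h => hne (Set.mem_iUnion.mp h), hz⟩
  · intro z hz j k hj hk
    by_contra hjk
    exact h2 (Set.mem_iUnion.mpr ⟨⟨(j, k), hjk⟩, z, ⟨hj, hk⟩, hz⟩)
  · obtain ⟨z, hz, hzv⟩ := Set.mem_iInter.mp h4 q
    exact ⟨z, hz, hzv⟩
  · intro q z hz hzv
    by_contra hne
    exact h3 (Set.mem_iUnion.mpr ⟨q, z, ⟨hz, hne⟩, hzv⟩)
  · intro q K' _ _ l l' he hlv hl hl'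
    have hsub : ∀ m : Spec (CommRingCat.of K') ⟶ P, gpt m ∈ V q → Set.range m ⊆ Set.range (V q).ι := by
      rintro m hm _ ⟨c, rfl⟩
      rw [Scheme.Opens.range_ι, show c = closedPoint K' from Subsingleton.elim _ _]
      exact hm
    have h5 := hEu q K' (IsOpenImmersion.lift (V q).ι l (hsub l hl)) (IsOpenImmersion.lift (V q).ι l' (hsub l' hl'))
      (by rw [IsOpenImmersion.lift_fac_assoc, IsOpenImmersion.lift_fac_assoc]; exact he)
      (by rw [← gpt_comp, IsOpenImmersion.lift_fac_assoc, gpt_comp]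
          show π (gpt l) ∈ E q
          rw [hlv]; exact Set.mem_iInter.mp hE' q)
    have := congrArg (· ≫ (V q).ι) h5
    simpa only [IsOpenImmersion.lift_fac] using this

/-- The fibre integral over an adapted point. -/
theorem IsAdapted.pSum_eq {f : X ⟶ Y} [LocallyQuasiFinite f] {w : X → ℤ} {b : W ⟶ Y} {ι : Type u}
    {V : ι → (pullback f b).Opens} {n : ι → ℤ} {v : W} (hv : IsAdapted f w b V n v) (q : ι)
    {K : Type u} [Field K] [IsAlgClosed K] (p : Spec (CommRingCat.of K) ⟶ W) (hp : gpt p = v) :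
    pSum f w b (V q) p = n q := by
  obtain ⟨z, hz, hzv⟩ := hv.nonempty q
  obtain ⟨⟨l, hl⟩, hlz⟩ := exists_lift (pullback.snd f b) p z (hzv.trans hp.symm)
  have hl' : (l ≫ pullback.fst f b) ≫ f = p ≫ b := by
    rw [Category.assoc, pullback.condition, reassoc_of% hl]
  have hlift : pullback.lift (l ≫ pullback.fst f b) p hl' = l := by
    apply pullback.hom_ext
    · rw [pullback.lift_fst]
    · rw [pullback.lift_snd, hl]
  let a : Pts f b (V q) p := ⟨l ≫ pullback.fst f b, hl', by rw [hlift, hlz]; exact hz⟩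
  have huniq : ∀ x : Pts f b (V q) p, x = a := by
    rintro ⟨x, hx, hxV⟩
    refine Subtype.ext ?_
    show x = l ≫ pullback.fst f b
    rw [← hv.unique q K (pullback.lift x p hx) l (by rw [pullback.lift_snd, hl])
      (by rw [← gpt_comp, pullback.lift_snd, hp]) hxV (by rw [hlz]; exact hz), pullback.lift_fst]
  rw [pSum, finsum_eq_single _ a fun x hx => absurd (huniq x) hx]
  show w (gpt (l ≫ pullback.fst f b)) = n q
  rw [gpt_comp, hlz]
  exact hv.value q z hz hzv

theorem IsAdapted.ifun_eq {f : X ⟶ Y} [LocallyQuasiFinite f] {w : X → ℤ} {b : W ⟶ Y} {ι : Type u}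
    {V : ι → (pullback f b).Opens} {n : ι → ℤ} {v : W} (hv : IsAdapted f w b V n v) (q : ι)
    [IsFinite ((V q).ι ≫ pullback.snd f b)] : ifun f w b (V q) v = n q := by
  obtain ⟨K, _, _, p, hp⟩ := exists_gpt v
  subst hp
  rw [ifun_eq_pSum f w b _ p (finite_fibre_of_isFinite _ _)]
  exact hv.pSum_eq q p rfl

theorem exists_constructible_fibreIntegral_const (f : X ⟶ Y) [IsAffine X] [IsAffine Y] [LocallyQuasiFinite f]
    [LocallyOfFinitePresentation f] (w : X → ℤ) (hw : ∀ m : ℤ, IsConstructible {x | w x = m}) (y : Y) :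
    ∃ C : Set Y, IsConstructible C ∧ y ∈ C ∧
      ∀ z ∈ C, MoreMor.fibreIntegral f w z = MoreMor.fibreIntegral f w y := by
  obtain ⟨W, _, b, _, ι, _, V, hV, n, v, hby, hv⟩ := exists_adapted f w y
  obtain ⟨C, hC, hvC, hCv⟩ := exists_constructible_adapted f w hw b V n v hv
  have := Fintype.ofFinite ι
  have hF : ∀ z ∈ C, MoreMor.fibreIntegral f w (b z) = ∑ q, n q := by
    intro z hz
    obtain ⟨K, _, _, p, rfl⟩ := exists_gpt z
    rw [← gpt_comp, fibreIntegral_eq_gSum f w _ (f.finite_preimage_singleton _), ← pSum_top,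
      pSum_decomp f w b ⊤ V p (fun q => finite_Pts f b _ p) ?_]
    · exact Finset.sum_congr rfl fun q _ => (hCv _ hz).pSum_eq q p rfl
    · intro x hx
      exact ⟨⟨fun _ => (hCv _ hz).cover x hx, fun _ => trivial⟩, (hCv _ hz).disj x hx⟩
  refine ⟨b '' C, b.isConstructible_image hC, ⟨v, hvC, hby⟩, ?_⟩
  rintro _ ⟨z, hz, rfl⟩
  rw [hF z hz, ← hby, hF v hvC]

theorem isConstructible_level_of_local {Y : Scheme.{u}} [IsAffine Y] {α : Type*} (F : Y → α)
    (h : ∀ y, ∃ C : Set Y, IsConstructible C ∧ y ∈ C ∧ ∀ z ∈ C, F z = F y) (m : α) :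
    IsConstructible {y | F y = m} := by
  classical
  choose C hC hyC hFC using h
  obtain ⟨S, hS⟩ := (isCompact_univ (X := WithConstructibleTopology Y)).elim_finite_subcover
    (fun x : Y => WithTopology.ofTopology ⁻¹' C x)
    (fun x => WithConstructibleTopology.isOpen_iff.mpr (isClopen_constructibleTopology_of_isConstructible (hC x)).1)
    (fun z _ => Set.mem_iUnion.mpr ⟨WithTopology.ofTopology z, hyC _⟩)
  have e : {y | F y = m} = ⋃ x : {x // x ∈ S ∧ F x = m}, C x.1 := by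
    ext z
    simp only [Set.mem_iUnion, Set.mem_setOf_eq]
    refine ⟨fun hz => ?_, fun ⟨⟨x, _, hx⟩, hzx⟩ => (hFC x z hzx).trans hx⟩
    obtain ⟨x, hx, hzx⟩ := Set.mem_iUnion₂.mp (hS (Set.mem_univ (WithTopology.toTopology _ z)))
    exact ⟨⟨x, hx, (hFC x z hzx).symm.trans hz⟩, hzx⟩
  rw [e]
  have : Finite {x // x ∈ S ∧ F x = m} :=
    Finite.of_injective (fun x => (⟨x.1, x.2.1⟩ : S)) fun a b h => Subtype.ext (congrArg Subtype.val h :)
  exact IsConstructible.iUnion fun x => hC x.1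

/-- Integrals of a function with constructible levels have constructible levels. -/
theorem isConstructible_ifun_level (f : X ⟶ Y) [IsAffine X] [IsAffine Y] [LocallyQuasiFinite f]
    [LocallyOfFinitePresentation f] (w : X → ℤ) (hw : ∀ m : ℤ, IsConstructible {x | w x = m})
    (b : W ⟶ Y) [IsAffine W] (V : (pullback f b).Opens) [IsFinite (V.ι ≫ pullback.snd f b)] (m : ℤ) :
    IsConstructible {z | ifun f w b V z = m} := by
  have : IsAffine V.toScheme := isAffine_of_isAffineHom (V.ι ≫ pullback.snd f b)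
  have : LocallyOfFinitePresentation (V.ι ≫ pullback.snd f b) := inferInstance
  refine isConstructible_level_of_local _ (fun z => ?_) m
  refine exists_constructible_fibreIntegral_const (V.ι ≫ pullback.snd f b) _ (fun k => ?_) z
  exact (V.ι ≫ pullback.fst f b).isConstructible_preimage (hw k)

/-- Integrals are locally constant near a point over an adapted point, if those of the pieces are. -/
theorem exists_nhd_ifun_const (f : X ⟶ Y) [LocallyQuasiFinite f] [LocallyOfFiniteType f] (w : X → ℤ)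
    {T W' : Scheme.{u}} (a : T ⟶ Y) (d : W' ⟶ T) [Etale d] (b : W ⟶ Y) (e : W' ⟶ W) (h : e ≫ b = d ≫ a)
    {ι : Type u} [Finite ι] (V : ι → (pullback f b).Opens) [∀ q, IsFinite ((V q).ι ≫ pullback.snd f b)]
    (n : ι → ℤ) (t' : W') (hv : IsAdapted f w b V n (e t'))
    (hn : ∀ q, ∃ M : Set W', IsOpen M ∧ t' ∈ M ∧ ∀ z ∈ M, ifun f w b (V q) (e z) = n q)
    (U : (pullback f a).Opens) [IsFinite (U.ι ≫ pullback.snd f a)] :
    ∃ N : Set T, IsOpen N ∧ d t' ∈ N ∧ ∀ z ∈ N, ifun f w a U z = ifun f w a U (d t') := by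
  classical
  let a' := d ≫ a
  let U' := pm f d (a := a) (a' := a') rfl ⁻¹ᵁ U
  let V' : ι → (pullback f a').Opens := fun q => pm f e (a := b) (a' := a') h ⁻¹ᵁ V q
  have : IsFinite (U'.ι ≫ pullback.snd f a') := isFinite_pm f _ _ U
  have hV' : ∀ q, IsFinite ((V' q).ι ≫ pullback.snd f a') := fun q => isFinite_pm f _ _ _
  have hsnd : ∀ z, pullback.snd f a' z = t' → pullback.snd f b (pm f e (a := b) (a' := a') h z) = e t' :=
    fun z hz => by rw [← Scheme.Hom.comp_apply, pm_snd, Scheme.Hom.comp_apply, hz]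
  obtain ⟨K, _, _, p, hp⟩ := exists_gpt t'
  have huniq : ∀ q, ∀ z ∈ V' q, ∀ z' ∈ V' q, pullback.snd f a' z = t' → pullback.snd f a' z' = t' → z = z' := by
    intro q z hz z' hz' hzt hzt'
    obtain ⟨⟨l, hl⟩, rfl⟩ := exists_lift (pullback.snd f a') p z (hzt.trans hp.symm)
    obtain ⟨⟨l', hl'⟩, rfl⟩ := exists_lift (pullback.snd f a') p z' (hzt'.trans hp.symm)
    have h1 := hv.unique q K (l ≫ pm f e (a := b) (a' := a') h) (l' ≫ pm f e (a := b) (a' := a') h)
      (by rw [Category.assoc, Category.assoc, pm_snd, reassoc_of% hl, reassoc_of% hl'])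
      (by rw [gpt_comp]; exact hsnd _ hzt) (by rw [gpt_comp]; exact hz) (by rw [gpt_comp]; exact hz')
    refine congrArg gpt (pullback.hom_ext ?_ (hl.trans hl'.symm))
    simpa only [Category.assoc, pm_fst] using congrArg (· ≫ pullback.fst f b) h1
  let S : Set ι := {q | ∃ z ∈ V' q, pullback.snd f a' z = t' ∧ z ∈ U'}
  have := Fintype.ofFinite S
  obtain ⟨N, htN, hN⟩ := exists_decomposition f a' U' (fun q : S => V' q.1) (fun q => hV' q.1) t'
    (by
      rintro ⟨q, z₀, hz₀, hz₀t, hz₀U⟩ z hz hzt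
      rw [huniq q z hz z₀ hz₀ hzt hz₀t]; exact hz₀U)
    (by
      intro z hz hzt
      obtain ⟨q, hq⟩ := hv.cover _ (hsnd z hzt)
      exact ⟨⟨q, z, hq, hzt, hz⟩, hq⟩)
    (by
      intro j k hjk z hj hk hzt
      exact hjk (Subtype.ext (hv.disj _ (hsnd z hzt) _ _ hj hk)))
  choose M hM htM hMn using hn
  have hval : ∀ z ∈ (N : Set W') ∩ ⋂ q, M q, ifun f w a U (d z) = ∑ q : S, n q.1 := by
    rintro z ⟨hzN, hzM⟩
    rw [← ifun_pm f w d (rfl : d ≫ a = a') U z]
    obtain ⟨K', _, _, p', rfl⟩ := exists_gpt z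
    rw [ifun_eq_pSum f w _ _ p' (finite_fibre_of_isFinite _ _),
      pSum_decomp f w a' _ (fun q : S => V' q.1) p' (fun q => finite_Pts f _ _ p') (fun x hx => hN x (hx ▸ hzN))]
    refine Finset.sum_congr rfl fun q _ => ?_
    rw [← ifun_eq_pSum f w a' _ p' (finite_fibre_of_isFinite _ _)]
    show ifun f w a' (pm f e h ⁻¹ᵁ V q.1) (gpt p') = _
    rw [ifun_pm f w e h]
    exact hMn q.1 _ (Set.mem_iInter.mp hzM q.1)
  refine ⟨d '' ((N : Set W') ∩ ⋂ q, M q), d.isOpenMap _ (N.2.inter (isOpen_iInter_of_finite hM)),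
    ⟨t', ⟨htN, Set.mem_iInter.mpr htM⟩, rfl⟩, ?_⟩
  rintro _ ⟨z, hz, rfl⟩
  rw [hval z hz, hval t' ⟨htN, Set.mem_iInter.mpr htM⟩]

/-- Transport of integrals to a base change. -/
theorem ifun_transport {X' Y' T : Scheme.{u}} (f : X ⟶ Y) [LocallyQuasiFinite f] (w : X → ℤ) (f' : X' ⟶ Y')
    (h : X' ⟶ X) (g : Y' ⟶ Y) (hc : IsPullback h f' f g) (v : T ⟶ Y') (a : T ⟶ Y) (ha : v ≫ g = a)
    (m : pullback f' v ⟶ pullback f a) (hm1 : m ≫ pullback.fst f a = pullback.fst f' v ≫ h)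
    (hm2 : m ≫ pullback.snd f a = pullback.snd f' v) (U₂ : (pullback f a).Opens)
    [IsFinite (U₂.ι ≫ pullback.snd f a)] [IsFinite ((m ⁻¹ᵁ U₂).ι ≫ pullback.snd f' v)] :
    ifun f' (w ∘ ⇑h) v (m ⁻¹ᵁ U₂) = ifun f w a U₂ := by
  have : LocallyQuasiFinite f' := MorphismProperty.of_isPullback hc ‹_›
  funext t
  obtain ⟨K', _, _, p, rfl⟩ := exists_gpt t
  rw [ifun_eq_pSum f' _ _ _ p (finite_fibre_of_isFinite _ _), ifun_eq_pSum f w _ _ p (finite_fibre_of_isFinite _ _)]
  have key : ∀ (q' : Spec (CommRingCat.of K') ⟶ X') (h' : q' ≫ f' = p ≫ v) (h'' : (q' ≫ h) ≫ f = p ≫ a),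
      pullback.lift q' p h' ≫ m = pullback.lift (q' ≫ h) p h'' := fun q' h' h'' => by
    apply pullback.hom_ext
    · rw [Category.assoc, hm1, pullback.lift_fst_assoc, pullback.lift_fst]
    · rw [Category.assoc, hm2, pullback.lift_snd, pullback.lift_snd]
  let j : Pts f' v (m ⁻¹ᵁ U₂) p → Pts f a U₂ p := fun q =>
    ⟨q.1 ≫ h, by rw [Category.assoc, hc.w, reassoc_of% q.2.1, ha], by
      rw [← key q.1 q.2.1, gpt_comp]
      exact q.2.2⟩
  refine finsum_eq_of_bijective j ⟨fun q q' hqq => Subtype.ext (hc.hom_ext (congrArg Subtype.val hqq) (q.2.1.trans q'.2.1.symm)), fun q => ?_⟩ fun q => rfl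
  have hq : q.1 ≫ f = (p ≫ v) ≫ g := by rw [Category.assoc, ha]; exact q.2.1
  refine ⟨⟨hc.lift q.1 (p ≫ v) hq, hc.lift_snd .., ?_⟩, Subtype.ext (hc.lift_fst ..)⟩
  show m (gpt (pullback.lift _ p _)) ∈ U₂
  rw [← gpt_comp, key _ _ (by rw [hc.lift_fst]; exact q.2.1)]
  simp only [hc.lift_fst]
  exact q.2.2

end Groth.Agent.FlatMor67
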