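import Groth.Agent.FlatMor67.WeightChart
import Groth.Agent.LimTop61.ConsDescent
import Groth.Agent.LimTop61.Constructible
import Groth.Agent.LimTop61.BaseChange
import Groth.Agent.LimDesc62.Basic

/-! Weightings descend along limits of affine schemes (milestone S7192). -/

set_option autoImplicit false
set_option backward.isDefEq.respectTransparency.types false
set_option linter.style.haveILetI false
universe u

open AlgebraicGeometry CategoryTheory Limits IsLocalRing Topology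

namespace Groth.Agent.FlatMor67

open Groth.Agent.FlatMor66

variable {X Y : Scheme.{u}}

/-- Integrals of `w` over base changes through `φ` are locally constant over the point `y`. -/
def GoodAt (f : X ⟶ Y) (w : X → ℤ) {Y' : Scheme.{u}} (φ : Y' ⟶ Y) (y : Y') : Prop :=
  ∀ (T : Scheme.{u}) (a : T ⟶ Y') (a' : T ⟶ Y) (_ : a ≫ φ = a') (U : (pullback f a').Opens)
    [IsFinite (U.ι ≫ pullback.snd f a')] (t : T), a t = y →
      ∃ N : Set T, IsOpen N ∧ t ∈ N ∧ ∀ z ∈ N, ifun f w a' U z = ifun f w a' U t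

theorem GoodAt.comp {f : X ⟶ Y} {w : X → ℤ} {Y' Y'' : Scheme.{u}} {φ : Y' ⟶ Y} (g : Y'' ⟶ Y') (y : Y'')
    (φ' : Y'' ⟶ Y) (hφ : g ≫ φ = φ') (h : GoodAt f w φ (g y)) : GoodAt f w φ' y := by
  intro T a a' ha U _ t ht
  exact h T (a ≫ g) a' (by rw [Category.assoc, hφ, ha]) U t (by rw [Scheme.Hom.comp_apply, ht])

theorem isWeighting_of_goodAt (f : X ⟶ Y) [LocallyQuasiFinite f] (w : X → ℤ) {X' Y' : Scheme.{u}}
    (f' : X' ⟶ Y') (h : X' ⟶ X) (φ : Y' ⟶ Y) (hc : IsPullback h f' f φ) (hg : ∀ y, GoodAt f w φ y) :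
    MoreMor.IsWeighting f' (w ∘ ⇑h) := by
  intro V v _ U hfin
  let sq := (IsPullback.of_hasPullback f' v).paste_horiz hc
  let e := sq.isoPullback
  have h2 : e.inv ≫ pullback.snd f' v = pullback.snd f (v ≫ φ) := sq.isoPullback_inv_snd
  let U₂ : (pullback f (v ≫ φ)).Opens := e.inv ⁻¹ᵁ U
  have : IsFinite (U₂.ι ≫ pullback.snd f (v ≫ φ)) := by
    rw [← h2, ← Category.assoc, ← morphismRestrict_ι, Category.assoc]; infer_instance
  have hU : e.hom ⁻¹ᵁ U₂ = U := by
    show e.hom ⁻¹ᵁ e.inv ⁻¹ᵁ U = U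
    rw [← Scheme.Hom.comp_preimage, Iso.hom_inv_id]; rfl
  have hfin' : IsFinite ((e.hom ⁻¹ᵁ U₂).ι ≫ pullback.snd f' v) := by rw [hU]; exact hfin
  have key := ifun_transport f w f' h φ hc v (v ≫ φ) rfl e.hom sq.isoPullback_hom_fst sq.isoPullback_hom_snd U₂
  rw [hU] at key
  show IsLocallyConstant (ifun f' (w ∘ ⇑h) v U)
  rw [key, IsLocallyConstant.iff_exists_open]
  intro t
  exact hg (v t) V v (v ≫ φ) rfl U₂ t rfl

theorem goodAt_of_adapted (f : X ⟶ Y) [LocallyQuasiFinite f] [LocallyOfFiniteType f] (w : X → ℤ)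
    {W W' Y' : Scheme.{u}} (φ : Y' ⟶ Y) (b : W ⟶ Y) (d : W' ⟶ Y') [Etale d] (e : W' ⟶ W) (sq : e ≫ b = d ≫ φ)
    {ι : Type u} [Finite ι] (V : ι → (pullback f b).Opens) [∀ q, IsFinite ((V q).ι ≫ pullback.snd f b)]
    (n : ι → ℤ) (z : W') (hv : IsAdapted f w b V n (e z)) (G : Set W') (hG : IsOpen G) (hzG : z ∈ G)
    (hn : ∀ z' ∈ G, ∀ q, ifun f w b (V q) (e z') = n q) : GoodAt f w φ (d z) := by
  intro T a a' ha U _ t ht
  obtain ⟨t', ht1, ht2⟩ := Scheme.Pullback.exists_preimage_pullback (f := a) (g := d) t z ht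
  have hv' : IsAdapted f w b V n ((pullback.snd a d ≫ e) t') := by rw [Scheme.Hom.comp_apply, ht2]; exact hv
  have := exists_nhd_ifun_const f w a' (pullback.fst a d) b (pullback.snd a d ≫ e)
    (by rw [Category.assoc, sq, ← pullback.condition_assoc, ha]) V n t' hv'
    (fun q => ⟨pullback.snd a d ⁻¹' G, hG.preimage (pullback.snd a d).continuous,
      show pullback.snd a d t' ∈ G by rw [ht2]; exact hzG,
      fun z' hz' => (congrArg (ifun f w b (V q)) (Scheme.Hom.comp_apply _ _ _)).trans (hn _ hz' q)⟩) U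
  rwa [ht1] at this

theorem isOpen_level_of_isWeighting (f : X ⟶ Y) [LocallyQuasiFinite f] [LocallyOfFiniteType f] (w : X → ℤ)
    {X' Y' W' W : Scheme.{u}} (f' : X' ⟶ Y') (h : X' ⟶ X) (π : Y' ⟶ Y) (hc : IsPullback h f' f π)
    (hw : MoreMor.IsWeighting f' (w ∘ ⇑h)) (b : W ⟶ Y) (V : (pullback f b).Opens)
    [IsFinite (V.ι ≫ pullback.snd f b)] (p : W' ⟶ W) (s : W' ⟶ Y') (hps : p ≫ b = s ≫ π) (m : ℤ) :
    IsOpen {z : W' | ifun f w b V (p z) = m} := by
  have : LocallyQuasiFinite f' := MorphismProperty.of_isPullback hc ‹_›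
  have : LocallyOfFiniteType f' := MorphismProperty.of_isPullback hc ‹_›
  let sq := (IsPullback.of_hasPullback f' s).paste_horiz hc
  let U₂ := pm f p (a := b) (a' := s ≫ π) hps ⁻¹ᵁ V
  have hU₂ : IsFinite (U₂.ι ≫ pullback.snd f (s ≫ π)) := isFinite_pm f _ _ V
  let mm := sq.isoPullback.hom
  have hsq : IsPullback mm (pullback.snd f' s) (pullback.snd f (s ≫ π)) (𝟙 W') :=
    IsPullback.of_horiz_isIso ⟨by rw [Category.comp_id]; exact sq.isoPullback_hom_snd⟩
  have hfin : IsFinite ((mm ⁻¹ᵁ U₂).ι ≫ pullback.snd f' s) :=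
    MorphismProperty.of_isPullback (P := @IsFinite) ((isPullback_morphismRestrict mm U₂).paste_vert hsq) hU₂
  have key := ifun_transport f w f' h π hc s (s ≫ π) rfl mm sq.isoPullback_hom_fst sq.isoPullback_hom_snd U₂
  have hlc := isLocallyConstant_ifun f' (w ∘ ⇑h) hw s (mm ⁻¹ᵁ U₂)
  rw [key] at hlc
  have e : {z : W' | ifun f w b V (p z) = m} = {z | ifun f w (s ≫ π) U₂ z = m} := by
    ext z
    show ifun f w b V (p z) = m ↔ ifun f w (s ≫ π) U₂ z = m
    rw [ifun_pm f w p hps V z]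
  rw [e]
  exact hlc.isOpen_fiber m

/-- Functions with finitely many values and constructible levels descend. -/
theorem exists_descend_fun {I : Type u} [SmallCategory I] [IsCofiltered I] (D : I ⥤ Scheme.{u}) (c : Cone D)
    (hc : IsLimit c) [∀ (i j : I) (f : i ⟶ j), IsAffineHom (D.map f)] (i₀ : I) [CompactSpace (D.obj i₀)]
    [QuasiSeparatedSpace (D.obj i₀)] (w : c.pt → ℤ) (hfin : (Set.range w).Finite)
    (hw : ∀ m : ℤ, IsConstructible {x | w x = m}) :
    ∃ (i : I) (_ : i ⟶ i₀) (wi : D.obj i → ℤ),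
      (∀ m : ℤ, IsConstructible {x | wi x = m}) ∧ ∀ x, wi (c.π.app i x) = w x := by
  classical
  suffices ∀ R : Finset ℤ, ∃ (i : I) (_ : i ⟶ i₀) (wi : D.obj i → ℤ),
      (∀ m : ℤ, IsConstructible {x | wi x = m}) ∧ ∀ x, w x ∈ R → wi (c.π.app i x) = w x by
    obtain ⟨i, φ, wi, h1, h2⟩ := this hfin.toFinset
    exact ⟨i, φ, wi, h1, fun x => h2 x (hfin.mem_toFinset.mpr ⟨x, rfl⟩)⟩
  intro R
  induction R using Finset.induction with
  | empty =>
    refine ⟨i₀, 𝟙 i₀, fun _ => 0, fun m => ?_, fun x hx => (Finset.notMem_empty _ hx).elim⟩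
    by_cases h : (0 : ℤ) = m
    · simp only [h]; exact IsConstructible.univ
    · simp only [h]; exact IsConstructible.empty
  | insert a R _ ih =>
    obtain ⟨i, φ, wi, h1, h2⟩ := ih
    obtain ⟨j, ψ, Z, hZ, hZw⟩ := LimTop61.exists_isConstructible_preimage_eq D c hc i₀ {x | w x = a} (hw a)
    obtain ⟨m, α, β, -⟩ := IsCofilteredOrEmpty.cone_objs i j
    let Z' : Set (D.obj m) := ⇑(D.map β) ⁻¹' Z
    have hZ' : IsConstructible Z' := LimTop61.isConstructible_preimage_map D ψ β hZ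
    refine ⟨m, α ≫ φ, fun x => if x ∈ Z' then a else wi (D.map α x), fun k => ?_, fun x hx => ?_⟩
    · have hk : IsConstructible (⇑(D.map α) ⁻¹' {x | wi x = k}) := LimTop61.isConstructible_preimage_map D φ α (h1 k)
      by_cases hak : a = k
      · rw [show {x | (if x ∈ Z' then a else wi (D.map α x)) = k} = Z' ∪ ⇑(D.map α) ⁻¹' {x | wi x = k} by
          ext x; by_cases hx : x ∈ Z' <;> simp [hx, hak]]
        exact hZ'.union hk
      · rw [show {x | (if x ∈ Z' then a else wi (D.map α x)) = k} = Z'ᶜ ∩ ⇑(D.map α) ⁻¹' {x | wi x = k} by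
          ext x; by_cases hx : x ∈ Z' <;> simp [hx, hak]]
        exact hZ'.compl.inter hk
    · have hiff : c.π.app m x ∈ Z' ↔ w x = a := by
        show D.map β (c.π.app m x) ∈ Z ↔ _
        rw [LimTop61.π_apply D c β x]
        exact Set.ext_iff.mp hZw x
      show (if _ then _ else _) = w x
      by_cases hxa : w x = a
      · rw [if_pos (hiff.mpr hxa), hxa]
      · refine (if_neg (fun h => hxa (hiff.mp h))).trans ?_
        rw [LimTop61.π_apply D c α x]
        exact h2 x ((Finset.mem_insert.mp hx).resolve_left hxa)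

theorem exists_good_stage_near {I : Type u} [SmallCategory I] [IsCofiltered I] (D : I ⥤ Scheme.{u}) (c : Cone D)
    (hc : IsLimit c) [∀ i, IsAffine (D.obj i)] {i : I} {Xi X' : Scheme.{u}} [IsAffine Xi] (fi : Xi ⟶ D.obj i)
    [LocallyQuasiFinite fi] [LocallyOfFinitePresentation fi] (wi : Xi → ℤ)
    (hwi : ∀ m : ℤ, IsConstructible {x | wi x = m}) (f' : X' ⟶ c.pt) (g : X' ⟶ Xi)
    (hX : IsPullback g f' fi (c.π.app i)) (hw : MoreMor.IsWeighting f' (wi ∘ ⇑g)) (y : c.pt) :
    ∃ (j : I) (φ : j ⟶ i) (S : Set (D.obj j)), IsConstructible S ∧ c.π.app j y ∈ S ∧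
      ∀ z ∈ S, GoodAt fi wi (D.map φ) z := by
  haveI : ∀ (i j : I) (a : i ⟶ j), IsAffineHom (D.map a) := fun i j a => isAffineHom_of_isAffine _
  obtain ⟨W, _, b, _, ι, _, V, hV, n, v, hbv, hv⟩ := exists_adapted fi wi (c.π.app i y)
  obtain ⟨C, hC, hvC, hCv⟩ := exists_constructible_adapted fi wi hwi b V n v hv
  let G : Set W := ⋂ q, {z | ifun fi wi b (V q) z = n q}
  have hG : IsConstructible G := IsConstructible.iInter fun q => isConstructible_ifun_level fi wi hwi b (V q) (n q)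
  let D₂ := LimTop61.bcDiagram D b
  let c₂ := LimTop61.bcCone D c b (pullback.fst b (c.π.app i)) (pullback.snd b (c.π.app i)) pullback.condition
  let r : Over i := Over.mk (𝟙 i)
  have : CompactSpace (D₂.obj r) := LimTop61.bcDiagram_compactSpace D b r
  have hZ : IsConstructible (⇑(pullback.fst b (D.map r.hom)) ⁻¹' G) :=
    (pullback.fst b (D.map r.hom)).isConstructible_preimage hG
  have hopen : IsOpen (⇑(c₂.π.app r) ⁻¹' (⇑(pullback.fst b (D.map r.hom)) ⁻¹' G)) := by
    have e : c₂.π.app r ≫ pullback.fst b (D.map r.hom) = pullback.fst b (c.π.app i) := pullback.lift_fst ..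
    have e' : ⇑(c₂.π.app r) ⁻¹' (⇑(pullback.fst b (D.map r.hom)) ⁻¹' G) =
        ⋂ q, {z | ifun fi wi b (V q) (pullback.fst b (c.π.app i) z) = n q} := by
      ext z
      show pullback.fst b (D.map r.hom) (c₂.π.app r z) ∈ G ↔ _
      rw [show pullback.fst b (D.map r.hom) (c₂.π.app r z) = pullback.fst b (c.π.app i) z from
        (Scheme.Hom.comp_apply _ _ _).symm.trans (congrArg (fun k : _ ⟶ W => k z) e)]
      simp only [G, Set.mem_iInter]
      refine ⟨fun hh => Set.mem_iInter.mpr hh, fun hh q => ?_⟩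
      have h2 := Set.mem_iInter.mp hh q
      exact h2
    rw [e']
    exact isOpen_iInter_of_finite fun q => isOpen_level_of_isWeighting fi wi f' g (c.π.app i) hX hw b (V q) _
      (pullback.snd b (c.π.app i)) pullback.condition (n q)
  obtain ⟨j, φ, hjo⟩ := LimTop61.exists_isOpen_preimage D₂ c₂
    (LimTop61.isLimitBcCone D c hc b _ _ (IsPullback.of_hasPullback b (c.π.app i))) (i := r)
    (⇑(pullback.fst b (D.map r.hom)) ⁻¹' G) (LimTop61.isConsClosed_of_isConstructible hZ)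
    (LimTop61.isConsClosed_of_isConstructible hZ.compl) hopen
  have e : D₂.map φ ≫ pullback.fst b (D.map r.hom) = pullback.fst b (D.map j.hom) := pullback.lift_fst ..
  have e' : ⇑(D₂.map φ) ⁻¹' (⇑(pullback.fst b (D.map r.hom)) ⁻¹' G) = ⇑(pullback.fst b (D.map j.hom)) ⁻¹' G := by
    ext z
    simp only [Set.mem_preimage]
    rw [← e]
    rfl
  rw [e'] at hjo
  let π₂ := pullback.snd b (D.map j.hom)
  refine ⟨j.left, j.hom, ⇑π₂ '' (⇑(pullback.fst b (D.map j.hom)) ⁻¹' (C ∩ G)),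
    π₂.isConstructible_image ((pullback.fst b (D.map j.hom)).isConstructible_preimage (hC.inter hG)), ?_, ?_⟩
  · obtain ⟨z₀, hz1, hz2⟩ := Scheme.Pullback.exists_preimage_pullback (f := b) (g := c.π.app i) v y hbv
    refine ⟨c₂.π.app j z₀, ?_, ?_⟩
    · have e₁ : c₂.π.app j ≫ pullback.fst b (D.map j.hom) = pullback.fst b (c.π.app i) := pullback.lift_fst ..
      show pullback.fst b (D.map j.hom) (c₂.π.app j z₀) ∈ C ∩ G
      rw [show pullback.fst b (D.map j.hom) (c₂.π.app j z₀) = v from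
        ((Scheme.Hom.comp_apply _ _ _).symm.trans (congrArg (fun k : _ ⟶ W => k z₀) e₁)).trans hz1]
      exact ⟨hvC, Set.mem_iInter.mpr fun q => hv.ifun_eq q⟩
    · have e₂ : c₂.π.app j ≫ π₂ = pullback.snd b (c.π.app i) ≫ c.π.app j.left := pullback.lift_snd ..
      rw [← hz2]
      exact ((Scheme.Hom.comp_apply _ _ _).symm.trans (congrArg (fun k : _ ⟶ D.obj j.left => k z₀) e₂)).trans
        (Scheme.Hom.comp_apply _ _ _)
  · rintro _ ⟨z, ⟨hzC, hzG⟩, rfl⟩
    exact goodAt_of_adapted fi wi (D.map j.hom) b π₂ (pullback.fst b (D.map j.hom)) pullback.condition V n z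
      (hCv _ hzC) _ hjo hzG fun z' hz' q => Set.mem_iInter.mp hz' q

theorem exists_weighting_descend {I : Type u} [SmallCategory I] [IsCofiltered I]
    (D : I ⥤ Scheme.{u}) (c : Limits.Cone D) (hc : Limits.IsLimit c) [∀ i, IsAffine (D.obj i)]
    (i0 : I) {X0 X : Scheme.{u}} [IsAffine X0] (f0 : X0 ⟶ D.obj i0) [LocallyQuasiFinite f0]
    [LocallyOfFinitePresentation f0] (f : X ⟶ c.pt) (pX : X ⟶ X0) (hX : IsPullback pX f f0 (c.π.app i0))
    (w : X → ℤ) (hw : MoreMor.IsWeighting f w) :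
    ∃ (i : I) (a : i ⟶ i0) (Xi : Scheme.{u}) (fi : Xi ⟶ D.obj i) (pXi : Xi ⟶ X0) (g : X ⟶ Xi) (wi : Xi → ℤ),
      IsPullback pXi fi f0 (D.map a) ∧ g ≫ fi = f ≫ c.π.app i ∧ g ≫ pXi = pX ∧
      MoreMor.IsWeighting fi wi ∧ ∀ x : X, wi (g x) = w x := by
  classical
  haveI : ∀ (i j : I) (a : i ⟶ j), IsAffineHom (D.map a) := fun i j a => isAffineHom_of_isAffine _
  haveI : IsAffineHom (c.π.app i0) := isAffineHom_π_app D c hc i0
  haveI : IsAffine c.pt := isAffine_of_isAffineHom (c.π.app i0)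
  haveI : IsAffineHom f := MorphismProperty.of_isPullback hX (isAffineHom_of_isAffine f0)
  haveI : IsAffine X := isAffine_of_isAffineHom f
  haveI : LocallyQuasiFinite f := MorphismProperty.of_isPullback hX inferInstance
  haveI : LocallyOfFiniteType f := MorphismProperty.of_isPullback hX inferInstance
  obtain ⟨hR, hlev⟩ := level_affine f w hw
  haveI : CompactSpace ((LimTop61.bcDiagram D f0).obj (Over.mk (𝟙 i0))) := LimTop61.bcDiagram_compactSpace D f0 _
  haveI : QuasiSeparatedSpace ((LimTop61.bcDiagram D f0).obj (Over.mk (𝟙 i0))) :=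
    LimTop61.bcDiagram_quasiSeparatedSpace D f0 _
  obtain ⟨i, -, (wi : (pullback f0 (D.map i.hom) : Scheme.{u}) → ℤ), hwi, (hwiw : ∀ x : X, _ = w x)⟩ :=
    exists_descend_fun (LimTop61.bcDiagram D f0) (LimTop61.bcCone D c f0 pX f hX.w)
      (LimTop61.isLimitBcCone D c hc f0 pX f hX) (Over.mk (𝟙 i0)) w hR hlev
  let Xi : Scheme.{u} := pullback f0 (D.map i.hom)
  let fi : Xi ⟶ D.obj i.left := pullback.snd f0 (D.map i.hom)
  let g : X ⟶ Xi := pullback.lift pX (f ≫ c.π.app i.left) (by rw [hX.w, Category.assoc, c.w i.hom])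
  haveI : LocallyQuasiFinite fi := inferInstanceAs (LocallyQuasiFinite (pullback.snd f0 (D.map i.hom)))
  haveI : LocallyOfFinitePresentation fi :=
    inferInstanceAs (LocallyOfFinitePresentation (pullback.snd f0 (D.map i.hom)))
  haveI : IsAffine Xi := inferInstanceAs (IsAffine (pullback f0 (D.map i.hom)))
  have hg : IsPullback g f fi (c.π.app i.left) := by
    refine IsPullback.of_right ?_ (pullback.lift_snd _ _ _) (IsPullback.of_hasPullback f0 (D.map i.hom))
    rw [pullback.lift_fst, c.w i.hom]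
    exact hX
  have hwg : wi ∘ ⇑g = w := funext hwiw
  choose jy φy S hS hyS hgood using fun y => exists_good_stage_near D c hc fi wi hwi f g hg (hwg ▸ hw) y
  obtain ⟨F, hF⟩ := (isCompact_univ (X := WithConstructibleTopology c.pt)).elim_finite_subcover
    (fun y : c.pt => WithTopology.ofTopology ⁻¹' (⇑(c.π.app (jy y)) ⁻¹' S y))
    (fun y => WithConstructibleTopology.isOpen_iff.mpr (isClopen_constructibleTopology_of_isConstructible
      (by
        haveI : IsAffineHom (c.π.app (jy y)) := isAffineHom_π_app D c hc _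
        exact (c.π.app (jy y)).isConstructible_preimage (hS y))).1)
    (fun z _ => Set.mem_iUnion.mpr ⟨WithTopology.ofTopology z, hyS _⟩)
  obtain ⟨m, ψ, χ, hχ⟩ := LimDesc62.DescProp.exists_common (fun y : F => φy y.1)
  let E : Set (D.obj m) := (⋃ y : F, ⇑(D.map (χ y)) ⁻¹' S y.1)ᶜ
  have hE : IsConstructible E := by
    haveI : Finite F := inferInstance
    exact (IsConstructible.iUnion fun y => (D.map (χ y)).isConstructible_preimage (hS y.1)).compl
  obtain ⟨k, θ, hk⟩ := LimTop61.exists_preimage_subset D c hc (i := m) E ∅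
    (LimTop61.isConsClosed_of_isConstructible hE)
    (LimTop61.isConsClosed_of_isConstructible IsConstructible.empty.compl) (by
      intro x hx
      obtain ⟨y, hy, hxy⟩ := Set.mem_iUnion₂.mp (hF (Set.mem_univ (WithTopology.toTopology _ x)))
      refine (hx (Set.mem_iUnion.mpr ⟨⟨y, hy⟩, ?_⟩)).elim
      show D.map (χ ⟨y, hy⟩) (c.π.app m x) ∈ S y
      rw [LimTop61.π_apply D c (χ ⟨y, hy⟩) x]
      exact hxy)
  have hall : ∀ z : D.obj k, GoodAt fi wi (D.map (θ ≫ ψ)) z := by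
    intro z
    by_cases hz : D.map θ z ∈ E
    · exact (hk hz).elim
    · obtain ⟨y, hy⟩ := Set.mem_iUnion.mp (not_not.mp hz)
      refine (hgood y.1 (D.map (θ ≫ χ y) z) ?_).comp (D.map (θ ≫ χ y)) z _ ?_
      · rw [D.map_comp, Scheme.Hom.comp_apply]; exact hy
      · rw [← D.map_comp, Category.assoc, hχ]
  have hkk : g ≫ fi = (f ≫ c.π.app k) ≫ D.map (θ ≫ ψ) := by rw [Category.assoc, c.w]; exact hg.w
  refine ⟨k, (θ ≫ ψ) ≫ i.hom, pullback fi (D.map (θ ≫ ψ)), pullback.snd _ _,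
    pullback.fst fi (D.map (θ ≫ ψ)) ≫ pullback.fst f0 (D.map i.hom),
    pullback.lift g (f ≫ c.π.app k) hkk, wi ∘ ⇑(pullback.fst fi (D.map (θ ≫ ψ))), ?_, pullback.lift_snd _ _ _, ?_,
    isWeighting_of_goodAt fi wi _ _ _ (IsPullback.of_hasPullback fi (D.map (θ ≫ ψ))) hall, fun x => ?_⟩
  · have := D.map_comp (θ ≫ ψ) i.hom
    rw [this]
    exact (IsPullback.of_hasPullback fi (D.map (θ ≫ ψ))).paste_horiz (IsPullback.of_hasPullback f0 (D.map i.hom))
  · rw [pullback.lift_fst_assoc]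
    exact pullback.lift_fst _ _ _
  · show wi (pullback.fst fi (D.map (θ ≫ ψ)) _) = w x
    rw [← Scheme.Hom.comp_apply, pullback.lift_fst]
    exact congrFun hwg x

end Groth.Agent.FlatMor67
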